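import Mathlib

set_option autoImplicit false

namespace Cfsg.Agent.Helper17

open Subgroup

/-- cardinality of `H.subgroupOf K` is the cardinality of `H ⊓ K`. -/
theorem card_subgroupOf {G : Type*} [Group G] (H K : Subgroup G) :
    Nat.card (H.subgroupOf K) = Nat.card (H ⊓ K : Subgroup G) := by
  rw [← Subgroup.inf_subgroupOf_right]
  exact Nat.card_congr (Subgroup.subgroupOfEquivOfLe (inf_le_right : H ⊓ K ≤ K)).toEquiv

theorem card_subgroupOf_of_le {G : Type*} [Group G] {H K : Subgroup G} (h : H ≤ K) :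
    Nat.card (H.subgroupOf K) = Nat.card H :=
  Nat.card_congr (Subgroup.subgroupOfEquivOfLe h).toEquiv

/-- `relIndex H K * |H ⊓ K| = |K|`. -/
theorem relIndex_mul_card_inf {G : Type*} [Group G] (H K : Subgroup G) :
    H.relIndex K * Nat.card (H ⊓ K : Subgroup G) = Nat.card K := by
  rw [← card_subgroupOf, Subgroup.relIndex]
  exact Subgroup.index_mul_card _

/-- product formula when `N` is normal. -/
theorem card_sup_mul_card_inf_of_normal {G : Type*} [Group G] [Finite G] (N B : Subgroup G)
    [N.Normal] :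
    Nat.card (N ⊔ B : Subgroup G) * Nat.card (N ⊓ B : Subgroup G) = Nat.card N * Nat.card B := by
  have h1 := relIndex_mul_card_inf N (B ⊔ N)
  have h2 := relIndex_mul_card_inf N B
  rw [Subgroup.relIndex_sup_right] at h1
  have h3 : N ⊓ (B ⊔ N) = N := inf_eq_left.mpr le_sup_right
  rw [h3] at h1
  rw [sup_comm, ← h1, ← h2]
  ring

/-- product formula when `B` normalizes `A`. -/
theorem card_sup_mul_card_inf {G : Type*} [Group G] [Finite G] (A B : Subgroup G)
    (hB : B ≤ Subgroup.normalizer (A : Set G)) :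
    Nat.card (A ⊔ B : Subgroup G) * Nat.card (A ⊓ B : Subgroup G) = Nat.card A * Nat.card B := by
  have hA : A ≤ Subgroup.normalizer (A : Set G) := Subgroup.le_normalizer
  set M := Subgroup.normalizer (A : Set G) with hM
  have hnorm : (A.subgroupOf M).Normal := Subgroup.normal_in_normalizer
  have key := card_sup_mul_card_inf_of_normal (A.subgroupOf M) (B.subgroupOf M)
  have hinf : A.subgroupOf M ⊓ B.subgroupOf M = (A ⊓ B).subgroupOf M := by
    simp only [Subgroup.subgroupOf, Subgroup.comap_inf]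
  rw [← Subgroup.subgroupOf_sup hA hB, hinf,
    card_subgroupOf_of_le (sup_le hA hB), card_subgroupOf_of_le (inf_le_left.trans hA),
    card_subgroupOf_of_le hA, card_subgroupOf_of_le hB] at key
  exact key

/-- The orbit of `v` under a subgroup `S`, written as a set-builder. -/
theorem setOf_exists_mem_smul_eq {G X : Type*} [Group G] [MulAction G X] (S : Subgroup G) (v : X) :
    {u : X | ∃ s ∈ S, s • v = u} = MulAction.orbit S v := by
  ext u
  constructor
  · rintro ⟨s, hs, rfl⟩
    exact ⟨⟨s, hs⟩, rfl⟩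
  · rintro ⟨⟨s, hs⟩, rfl⟩
    exact ⟨s, hs, rfl⟩

/-- orbit-stabilizer for a subgroup acting through the ambient group. -/
theorem card_orbitSet_mul_card_inf_stabilizer {G X : Type*} [Group G] [MulAction G X]
    (S : Subgroup G) (v : X) :
    Nat.card {u : X | ∃ s ∈ S, s • v = u} * Nat.card (S ⊓ MulAction.stabilizer G v : Subgroup G)
      = Nat.card S := by
  rw [setOf_exists_mem_smul_eq]
  have h := Subgroup.index_mul_card (MulAction.stabilizer S v)
  rw [MulAction.index_stabilizer, ← Nat.card_coe_set_eq] at h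
  have h2 : MulAction.stabilizer S v = (MulAction.stabilizer G v).subgroupOf S := by
    ext x
    rw [MulAction.mem_stabilizer_iff, Subgroup.mem_subgroupOf, MulAction.mem_stabilizer_iff]
    rfl
  rw [h2, card_subgroupOf, inf_comm] at h
  exact h

/-- orbits of a normal subgroup have size dividing the orbit sizes of the big group. -/
theorem card_orbitSet_dvd_of_normal {G X : Type*} [Group G] [Finite G] [MulAction G X]
    (K H : Subgroup G) (hKH : K ≤ H) (hn : H ≤ Subgroup.normalizer (K : Set G)) (v : X) :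
    Nat.card {u : X | ∃ k ∈ K, k • v = u} ∣ Nat.card {u : X | ∃ h ∈ H, h • v = u} := by
  set St := MulAction.stabilizer G v with hSt
  have hK := card_orbitSet_mul_card_inf_stabilizer K v
  have hH := card_orbitSet_mul_card_inf_stabilizer H v
  set oK := Nat.card {u : X | ∃ k ∈ K, k • v = u}
  set oH := Nat.card {u : X | ∃ h ∈ H, h • v = u}
  have hprod := card_sup_mul_card_inf K (H ⊓ St) (inf_le_left.trans hn)
  have hinf : K ⊓ (H ⊓ St) = K ⊓ St := by
    rw [← inf_assoc, inf_eq_left.mpr hKH]
  rw [hinf] at hprod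
  have hle : K ⊔ (H ⊓ St) ≤ H := sup_le hKH inf_le_left
  have hdvd : Nat.card (K ⊔ (H ⊓ St) : Subgroup G) ∣ Nat.card H := Subgroup.card_dvd_of_le hle
  have he : 0 < Nat.card (K ⊓ St : Subgroup G) := Nat.card_pos
  have hb : 0 < Nat.card (H ⊓ St : Subgroup G) := Nat.card_pos
  -- m * e = oK * e * b
  rw [← hK] at hprod
  have hm : Nat.card (K ⊔ (H ⊓ St) : Subgroup G) = oK * Nat.card (H ⊓ St : Subgroup G) := by
    apply Nat.eq_of_mul_eq_mul_right he
    rw [hprod]; ring
  rw [hm, ← hH] at hdvd
  exact Nat.dvd_of_mul_dvd_mul_right hb hdvd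

/-- adjoining a normalized `p'`-subgroup keeps orbit sizes prime to `p`. -/
theorem not_dvd_card_orbitSet_sup {G X : Type*} [Group G] [Finite G] [MulAction G X]
    (p : ℕ) (hp : p.Prime) (N H : Subgroup G) (hN : ¬ p ∣ Nat.card N)
    (hn : H ≤ Subgroup.normalizer (N : Set G)) (v : X)
    (hH : ¬ p ∣ Nat.card {u : X | ∃ h ∈ H, h • v = u}) :
    ¬ p ∣ Nat.card {u : X | ∃ x ∈ N ⊔ H, x • v = u} := by
  set St := MulAction.stabilizer G v with hSt
  have hL := card_orbitSet_mul_card_inf_stabilizer (N ⊔ H) v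
  have hH' := card_orbitSet_mul_card_inf_stabilizer H v
  set oL := Nat.card {u : X | ∃ x ∈ N ⊔ H, x • v = u}
  set oH := Nat.card {u : X | ∃ h ∈ H, h • v = u}
  have hprod := card_sup_mul_card_inf N H hn
  have hle : H ⊓ St ≤ (N ⊔ H) ⊓ St := inf_le_inf_right _ le_sup_right
  obtain ⟨t, ht⟩ := Subgroup.card_dvd_of_le hle
  have hb : 0 < Nat.card (H ⊓ St : Subgroup G) := Nat.card_pos
  -- oL * t * b * card(N ⊓ H) = card N * oH * b
  have h1 : oL * t * Nat.card (N ⊓ H : Subgroup G) * Nat.card (H ⊓ St : Subgroup G)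
      = Nat.card N * oH * Nat.card (H ⊓ St : Subgroup G) := by
    calc oL * t * Nat.card (N ⊓ H : Subgroup G) * Nat.card (H ⊓ St : Subgroup G)
        = (oL * (Nat.card (H ⊓ St : Subgroup G) * t)) * Nat.card (N ⊓ H : Subgroup G) := by ring
      _ = Nat.card (N ⊔ H : Subgroup G) * Nat.card (N ⊓ H : Subgroup G) := by rw [← ht, hL]
      _ = Nat.card N * Nat.card H := hprod
      _ = Nat.card N * oH * Nat.card (H ⊓ St : Subgroup G) := by rw [← hH']; ring
  have h2 := Nat.eq_of_mul_eq_mul_right hb h1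
  intro hdvd
  have : p ∣ Nat.card N * oH := by
    rw [← h2]
    exact Dvd.dvd.mul_right (Dvd.dvd.mul_right hdvd _) _
  rcases (Nat.Prime.dvd_mul hp).mp this with h | h
  · exact hN h
  · exact hH h

end Cfsg.Agent.Helper17
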