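import Mathlib

set_option autoImplicit false

namespace Cfsg.Agent.Helper17

open SemidirectProduct

/-- The multiplication map `V ⋊ G → G`, `(v, g) ↦ v * g`. -/
noncomputable def semiMul {G : Type*} [Group G] (V : Subgroup G) [V.Normal] :
    V ⋊[MulAut.conjNormal] G →* G :=
  SemidirectProduct.lift V.subtype (MonoidHom.id G) (by
    intro g
    ext v
    simp [MulAut.conjNormal_apply])

theorem semiMul_inl {G : Type*} [Group G] (V : Subgroup G) [V.Normal] (v : V) :
    semiMul V (inl v) = (v : G) := by
  simp [semiMul]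

theorem semiMul_inr {G : Type*} [Group G] (V : Subgroup G) [V.Normal] (g : G) :
    semiMul V (inr g) = g := by
  simp [semiMul]

/-- elements of the kernel of `rightHom` are in the image of `inl`. -/
theorem exists_inl_of_right_eq_one {G : Type*} [Group G] (V : Subgroup G) [V.Normal]
    (z : V ⋊[MulAut.conjNormal] G) (hz : z.right = 1) : ∃ w : V, inl w = z := by
  have : z ∈ (rightHom : V ⋊[MulAut.conjNormal] G →* G).ker := by
    rw [MonoidHom.mem_ker]; exact hz
  rw [← range_inl_eq_ker_rightHom] at this
  exact this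

theorem pow_right {G : Type*} [Group G] (V : Subgroup G) [V.Normal]
    (z : V ⋊[MulAut.conjNormal] G) (k : ℕ) : (z ^ k).right = z.right ^ k := by
  have := map_pow (rightHom : V ⋊[MulAut.conjNormal] G →* G) z k
  simpa [rightHom_eq_right] using this

/-- `V ⋊ G` and `G` have the same element orders when `V` is normal of prime exponent. -/
theorem spectrum_semidirect {G : Type*} [Group G] [Finite G] (V : Subgroup G) [V.Normal] (p : ℕ)
    (hp : p.Prime) (hexp : ∀ x : V, x ^ p = 1) :
    Set.range (orderOf : V ⋊[MulAut.conjNormal] G → ℕ) = Set.range (orderOf : G → ℕ) := by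
  apply Set.Subset.antisymm
  · rintro _ ⟨x, rfl⟩
    set g := x.right with hg
    set n := orderOf g with hn
    set m := orderOf x with hm
    by_cases hmn : m = n
    · exact ⟨g, hmn.symm⟩
    refine ⟨semiMul V x, ?_⟩
    have hfin : Finite (V ⋊[MulAut.conjNormal] G) :=
      Finite.of_equiv _ (SemidirectProduct.equivProd (φ := (MulAut.conjNormal : G →* MulAut V))).symm
    have hn0 : 0 < n := orderOf_pos g
    have hm0 : 0 < m := orderOf_pos x
    -- n ∣ m
    have hnm : n ∣ m := by
      have := orderOf_map_dvd (rightHom : V ⋊[MulAut.conjNormal] G →* G) x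
      simpa [rightHom_eq_right] using this
    -- x ^ n = inl w
    obtain ⟨w, hw⟩ := exists_inl_of_right_eq_one V (x ^ n)
      (by rw [pow_right, ← hg, hn, pow_orderOf_eq_one])
    -- x ^ (n * p) = 1
    have hxnp : x ^ (n * p) = 1 := by
      rw [pow_mul, ← hw, ← map_pow, hexp, map_one]
    have hmnp : m ∣ n * p := orderOf_dvd_of_pow_eq_one hxnp
    -- m = n * p
    have hmeq : m = n * p := by
      obtain ⟨t, ht⟩ := hnm
      rw [ht] at hmnp
      have htp : t ∣ p := Nat.dvd_of_mul_dvd_mul_left hn0 hmnp
      rcases (Nat.dvd_prime hp).mp htp with h1 | h1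
      · exfalso; apply hmn; rw [ht, h1, mul_one]
      · rw [ht, h1]
    -- w ≠ 1
    have hw1 : w ≠ 1 := by
      intro h
      rw [h, map_one] at hw
      have : m ∣ n := orderOf_dvd_of_pow_eq_one hw.symm
      exact hmn (Nat.dvd_antisymm this hnm)
    have hwG : (w : G) ≠ 1 := fun h => hw1 (Subtype.ext h)
    have hwp : (w : G) ^ p = 1 := by
      have := congrArg Subtype.val (hexp w)
      simpa using this
    have hword : orderOf (w : G) = p := by
      have hfact : Fact p.Prime := ⟨hp⟩
      exact orderOf_eq_prime hwp hwG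
    -- kernel of semiMul has exponent p
    have hker : ∀ z : V ⋊[MulAut.conjNormal] G, semiMul V z = 1 → z ^ p = 1 := by
      intro z hz
      have hz' : (z.left : G) * z.right = 1 := by
        have := hz
        rw [← inl_left_mul_inr_right z, map_mul, semiMul_inl, semiMul_inr] at this
        exact this
      have hr : z.right = ((z.left)⁻¹ : V) := by
        rw [Subgroup.coe_inv]
        exact (eq_inv_of_mul_eq_one_right hz')
      obtain ⟨c, hc⟩ := exists_inl_of_right_eq_one V (z ^ p) (by
        rw [pow_right, hr, ← Subgroup.coe_pow, hexp, Subgroup.coe_one])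
      have : semiMul V (z ^ p) = 1 := by rw [map_pow, hz, one_pow]
      rw [← hc, semiMul_inl] at this
      have hc1 : c = 1 := Subtype.ext this
      rw [← hc, hc1, map_one]
    -- now orderOf (semiMul V x) = m
    apply Nat.dvd_antisymm (orderOf_map_dvd _ x)
    set y := semiMul V x with hy
    set k := orderOf y with hk
    have hyk : y ^ k = 1 := pow_orderOf_eq_one y
    have h1 : x ^ (k * p) = 1 := by
      rw [pow_mul]
      apply hker
      rw [map_pow, ← hy, hyk]
    have h2 : n * p ∣ k * p := by
      rw [← hmeq]; exact orderOf_dvd_of_pow_eq_one h1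
    have h3 : n ∣ k := Nat.dvd_of_mul_dvd_mul_right hp.pos h2
    obtain ⟨j, hj⟩ := h3
    have h4 : y ^ n = (w : G) := by
      rw [hy, ← map_pow, ← hw, semiMul_inl]
    have h5 : (w : G) ^ j = 1 := by
      rw [← h4, ← pow_mul, ← hj, hyk]
    have h6 : p ∣ j := by
      rw [← hword]; exact orderOf_dvd_of_pow_eq_one h5
    rw [← hm, hmeq, hj]
    exact Nat.mul_dvd_mul_left n h6
  · rintro _ ⟨g, rfl⟩
    exact ⟨inr g, orderOf_injective _ inr_injective g⟩

end Cfsg.Agent.Helper17
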