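import Mathlib
import Cfsg.Agent.Helper17.SemiSpec

set_option autoImplicit false

namespace Cfsg.Agent.Helper17

open SemidirectProduct
open scoped commutatorElement

universe u

/-- a nontrivial solvable normal subgroup contains a nontrivial abelian normal subgroup -/
theorem exists_normal_abelian {G : Type*} [Group G] [Finite G] :
    ∀ (n : ℕ) (K : Subgroup G), K.Normal → K ≠ ⊥ → Group.IsSolvable K → Nat.card K = n →
      ∃ M : Subgroup G, M.Normal ∧ M ≠ ⊥ ∧ ∀ a ∈ M, ∀ b ∈ M, a * b = b * a := by
  intro n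
  induction n using Nat.strong_induction_on with
  | _ n ih =>
    intro K hKn hK hs hcard
    by_cases hc : ⁅K, K⁆ = ⊥
    · refine ⟨K, hKn, hK, ?_⟩
      intro a ha b hb
      have : ⁅a, b⁆ ∈ ⁅K, K⁆ := Subgroup.commutator_mem_commutator ha hb
      rw [hc, Subgroup.mem_bot] at this
      exact commutatorElement_eq_one_iff_mul_comm.mp this
    · have hnt : Nontrivial K := (Subgroup.nontrivial_iff_ne_bot K).mpr hK
      have hlt : ⁅K, K⁆ < K := by
        have h1 := Group.IsSolvable.commutator_lt_top_of_nontrivial K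
        have h2 := (Subgroup.map_subtype_lt_map_subtype (G' := K)).mpr h1
        rw [K.map_subtype_commutator, ← MonoidHom.range_eq_map, K.range_subtype] at h2
        exact h2
      have hn' : (⁅K, K⁆ : Subgroup G).Normal := Subgroup.commutator_normal K K
      have hs' : Group.IsSolvable (⁅K, K⁆ : Subgroup G) :=
        Group.isSolvable_of_isSolvable_injective (Subgroup.inclusion_injective hlt.le)
      have hcard' : Nat.card (⁅K, K⁆ : Subgroup G) < n := by
        rw [← hcard]
        refine lt_of_le_of_ne (Subgroup.card_le_of_le hlt.le) ?_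
        intro h
        exact hlt.ne (Subgroup.eq_of_le_of_card_ge hlt.le h.ge)
      exact ih _ hcard' _ hn' hc hs' rfl

/-- a nontrivial abelian normal subgroup contains a nontrivial normal subgroup of prime exponent -/
theorem exists_normal_elementary {G : Type*} [Group G] [Finite G] (M : Subgroup G) (hMn : M.Normal)
    (hM : M ≠ ⊥) (hcomm : ∀ a ∈ M, ∀ b ∈ M, a * b = b * a) :
    ∃ (V : Subgroup G) (p : ℕ), V.Normal ∧ V ≠ ⊥ ∧ p.Prime ∧ ∀ x : V, x ^ p = 1 := by
  have hcard : Nat.card M ≠ 1 := by
    intro h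
    exact hM (Subgroup.card_eq_one.mp h)
  obtain ⟨p, hp, hpd⟩ := Nat.exists_prime_and_dvd hcard
  have hfact : Fact p.Prime := ⟨hp⟩
  obtain ⟨x, hx⟩ := exists_prime_orderOf_dvd_card' p hpd
  let V : Subgroup G :=
    { carrier := {a | a ∈ M ∧ a ^ p = 1}
      mul_mem' := by
        rintro a b ⟨ha, hap⟩ ⟨hb, hbp⟩
        refine ⟨M.mul_mem ha hb, ?_⟩
        rw [(show Commute a b from hcomm a ha b hb).mul_pow, hap, hbp, one_mul]
      one_mem' := ⟨M.one_mem, one_pow p⟩
      inv_mem' := by
        rintro a ⟨ha, hap⟩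
        exact ⟨M.inv_mem ha, by rw [inv_pow, hap, inv_one]⟩ }
  refine ⟨V, p, ?_, ?_, hp, ?_⟩
  · constructor
    rintro a ⟨ha, hap⟩ g
    refine ⟨hMn.conj_mem a ha g, ?_⟩
    rw [conj_pow, hap, mul_one, mul_inv_cancel]
  · intro h
    have hxV : (x : G) ∈ V := by
      refine ⟨x.2, ?_⟩
      have := pow_orderOf_eq_one x
      rw [hx] at this
      have := congrArg Subtype.val this
      simpa using this
    rw [h, Subgroup.mem_bot] at hxV
    have : x = 1 := Subtype.ext hxV
    rw [this, orderOf_one] at hx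
    exact hp.one_lt.ne hx
  · rintro ⟨a, ha, hap⟩
    apply Subtype.ext
    simpa using hap

/-- iterated semidirect products: arbitrarily large groups with the same spectrum -/
theorem exists_large_isospectral :
    ∀ (n : ℕ) (G : Type u) [Group G] [Finite G] (V : Subgroup G), V.Normal → V ≠ ⊥ →
      ∀ p : ℕ, p.Prime → (∀ x : V, x ^ p = 1) →
      ∃ (G' : Type u) (_ : Group G') (_ : Finite G'), 2 ^ n * Nat.card G ≤ Nat.card G' ∧
        Set.range (orderOf : G' → ℕ) = Set.range (orderOf : G → ℕ) := by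
  intro n
  induction n with
  | zero =>
    intro G _ _ V _ _ p _ _
    exact ⟨G, inferInstance, inferInstance, by simp, rfl⟩
  | succ n ih =>
    intro G _ _ V hVn hV p hp hexp
    have hspec := spectrum_semidirect V p hp hexp
    have hfin : Finite (V ⋊[MulAut.conjNormal] G) :=
      Finite.of_equiv _ (SemidirectProduct.equivProd (φ := (MulAut.conjNormal : G →* MulAut V))).symm
    set V₁ : Subgroup (V ⋊[MulAut.conjNormal] G) := (inl : V →* V ⋊[MulAut.conjNormal] G).range with hV₁
    have hV₁n : V₁.Normal := by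
      rw [hV₁, range_inl_eq_ker_rightHom]
      exact MonoidHom.normal_ker _
    have hV₁ne : V₁ ≠ ⊥ := by
      intro h
      apply hV
      rw [eq_bot_iff]
      intro v hv
      have : inl (⟨v, hv⟩ : V) ∈ V₁ := ⟨_, rfl⟩
      rw [h, Subgroup.mem_bot] at this
      have h2 : (⟨v, hv⟩ : V) = 1 := inl_injective (by rw [this, map_one])
      rw [Subgroup.mem_bot]
      exact congrArg Subtype.val h2
    have hexp₁ : ∀ x : V₁, x ^ p = 1 := by
      rintro ⟨_, ⟨v, rfl⟩⟩
      apply Subtype.ext
      show (inl v) ^ p = 1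
      rw [← map_pow, hexp, map_one]
    obtain ⟨G', hG', hF', hcard, hsp⟩ := ih (V ⋊[MulAut.conjNormal] G) V₁ hV₁n hV₁ne p hp hexp₁
    refine ⟨G', hG', hF', ?_, hsp.trans hspec⟩
    have h2 : 2 ≤ Nat.card V := by
      have : Nontrivial V := (Subgroup.nontrivial_iff_ne_bot V).mpr hV
      exact Finite.one_lt_card
    calc 2 ^ (n + 1) * Nat.card G = 2 ^ n * (2 * Nat.card G) := by ring
      _ ≤ 2 ^ n * (Nat.card V * Nat.card G) := by gcongr
      _ = 2 ^ n * Nat.card (V ⋊[MulAut.conjNormal] G) := by rw [SemidirectProduct.card]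
      _ ≤ Nat.card G' := hcard

/-- a finite group has a model in `Type` with the same order and the same spectrum -/
theorem exists_small_model (G' : Type u) [Group G'] [Finite G'] :
    ∃ (H : Type) (_ : Group H) (_ : Fintype H), Fintype.card H = Nat.card G' ∧
      Set.range (orderOf : H → ℕ) = Set.range (orderOf : G' → ℕ) := by
  let e : {k : ℕ // k < Nat.card G'} ≃ G' := (Fin.equivSubtype.symm).trans (Finite.equivFin G').symm
  let grp : Group {k : ℕ // k < Nat.card G'} := e.group
  let me : {k : ℕ // k < Nat.card G'} ≃* G' := e.mulEquiv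
  let ft : Fintype {k : ℕ // k < Nat.card G'} := Fintype.ofEquiv (Fin (Nat.card G')) Fin.equivSubtype
  refine ⟨{k : ℕ // k < Nat.card G'}, grp, ft, ?_, ?_⟩
  · rw [← Nat.card_eq_fintype_card, Nat.card_congr e]
  · ext k
    constructor
    · rintro ⟨x, rfl⟩
      exact ⟨me x, me.orderOf_eq x⟩
    · rintro ⟨x, rfl⟩
      refine ⟨me.symm x, ?_⟩
      rw [← me.orderOf_eq, me.apply_symm_apply]

end Cfsg.Agent.Helper17
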