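import Mathlib
import Cfsg.Agent.Helper4.Basic

/-!
# Faithful primitive actions: abelian and nilpotent normal subgroups
-/

set_option autoImplicit false

open MulAction

namespace Cfsg.Agent.Helper17

section PrimAb

variable {H : Type*} [Group H] {Δ : Type*} [MulAction H Δ] [FaithfulSMul H Δ]
  [IsPreprimitive H Δ]

/-- A non-trivial normal subgroup of a faithful primitive group is transitive. -/
theorem normal_pretransitive (N : Subgroup H) [N.Normal] (hN : N ≠ ⊥) : IsPretransitive N Δ := by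
  apply IsQuasiPreprimitive.isPretransitive_of_normal
  intro hall
  apply hN
  rw [eq_bot_iff]
  intro n hn
  rw [Subgroup.mem_bot]
  apply FaithfulSMul.eq_of_smul_eq_smul (α := Δ)
  intro x
  have hx : x ∈ fixedPoints N Δ := by rw [hall]; exact Set.mem_univ _
  rw [one_smul]
  exact hx ⟨n, hn⟩

theorem normal_exists_smul_eq (N : Subgroup H) [N.Normal] (hN : N ≠ ⊥) (x y : Δ) :
    ∃ n ∈ N, n • x = y := by
  obtain ⟨⟨n, hn⟩, h⟩ := (normal_pretransitive (Δ := Δ) N hN).exists_smul_eq x y
  exact ⟨n, hn, h⟩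

/-- An abelian normal subgroup of a faithful primitive group is semiregular. -/
theorem abelian_normal_semiregular (N : Subgroup H) [N.Normal]
    (hab : ∀ a ∈ N, ∀ b ∈ N, a * b = b * a) (hN : N ≠ ⊥) {n : H} (hn : n ∈ N) {δ : Δ}
    (h : n • δ = δ) : n = 1 := by
  apply FaithfulSMul.eq_of_smul_eq_smul (α := Δ)
  intro x
  obtain ⟨m, hm, rfl⟩ := normal_exists_smul_eq N hN δ x
  rw [one_smul, ← mul_smul, hab n hn m hm, mul_smul, h]

/-- The centralizer of an abelian normal subgroup of a faithful primitive group is itself. -/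
theorem centralizer_abelian_normal_le (N : Subgroup H) [N.Normal]
    (hab : ∀ a ∈ N, ∀ b ∈ N, a * b = b * a) (hN : N ≠ ⊥) [Nonempty Δ] {c : H}
    (hc : ∀ n ∈ N, c * n = n * c) : c ∈ N := by
  obtain ⟨δ⟩ := ‹Nonempty Δ›
  obtain ⟨n, hn, hnδ⟩ := normal_exists_smul_eq N hN δ (c • δ)
  have : n⁻¹ * c = 1 := by
    apply FaithfulSMul.eq_of_smul_eq_smul (α := Δ)
    intro x
    obtain ⟨m, hm, rfl⟩ := normal_exists_smul_eq N hN δ x
    rw [one_smul, ← mul_smul, mul_assoc, hc m hm, ← mul_assoc,
      hab n⁻¹ (N.inv_mem hn) m hm, mul_assoc, mul_smul, mul_smul, ← hnδ, inv_smul_smul]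
  rw [inv_mul_eq_one] at this
  rw [← this]; exact hn

/-- A faithful primitive group with non-trivial centre has prime order. -/
theorem prime_card_of_center_ne_bot [Finite H] [Nontrivial Δ]
    (hZ : Subgroup.center H ≠ ⊥) : (Nat.card H).Prime := by
  have hZab : ∀ a ∈ Subgroup.center H, ∀ b ∈ Subgroup.center H, a * b = b * a :=
    fun a ha b _ => (Subgroup.mem_center_iff.mp ha b).symm
  have hall : ∀ c : H, c ∈ Subgroup.center H := by
    intro c
    apply centralizer_abelian_normal_le (Δ := Δ) _ hZab hZ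
    intro n hn
    exact (Subgroup.mem_center_iff.mp hn c)
  have hcomm : ∀ a ∈ (⊤ : Subgroup H), ∀ b ∈ (⊤ : Subgroup H), a * b = b * a :=
    fun a _ b _ => (Subgroup.mem_center_iff.mp (hall a) b).symm
  have htop : (⊤ : Subgroup H) ≠ ⊥ := by
    intro h
    apply hZ
    rw [eq_bot_iff, ← h]
    exact le_top
  obtain ⟨δ⟩ := (inferInstance : Nonempty Δ)
  have hstab : stabilizer H δ = ⊥ := by
    rw [eq_bot_iff]
    intro n hn
    rw [Subgroup.mem_bot]
    exact abelian_normal_semiregular (⊤ : Subgroup H) hcomm htop (Subgroup.mem_top n)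
      (mem_stabilizer_iff.mp hn)
  have hco := IsPreprimitive.isCoatom_stabilizer_of_isPreprimitive H δ
  rw [hstab] at hco
  exact Cfsg.Agent.Helper4.prime_card_of_isCoatom_bot hco

/-- A non-trivial nilpotent normal subgroup of a faithful primitive group is abelian. -/
theorem nilpotent_normal_abelian [Nonempty Δ] (A : Subgroup H) [A.Normal] [Group.IsNilpotent A]
    (hA : A ≠ ⊥) : ∀ a ∈ A, ∀ b ∈ A, a * b = b * a := by
  have hnt : Nontrivial A := (Subgroup.nontrivial_iff_ne_bot A).mpr hA
  have hZ : Subgroup.center A ≠ ⊥ := Group.IsNilpotent.center_ne_bot A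
  obtain ⟨N, hNdef⟩ : ∃ N : Subgroup H, N = (Subgroup.center A).map A.subtype := ⟨_, rfl⟩
  have hNnorm : N.Normal := by
    rw [hNdef]; exact ConjAct.normal_of_characteristic_of_normal
  have hNle : N ≤ A := by
    rw [hNdef]; exact Subgroup.map_subtype_le _
  have hNab : ∀ a ∈ N, ∀ b ∈ N, a * b = b * a := by
    intro a ha b hb
    rw [hNdef] at ha hb
    obtain ⟨a', ha', rfl⟩ := ha
    obtain ⟨b', hb', rfl⟩ := hb
    have := Subgroup.mem_center_iff.mp ha' b'
    have h2 := congrArg Subtype.val this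
    exact h2.symm
  have hNbot : N ≠ ⊥ := by
    rw [hNdef]
    intro h
    apply hZ
    rw [eq_bot_iff]
    intro x hx
    have : (A.subtype x) ∈ (Subgroup.center A).map A.subtype := ⟨x, hx, rfl⟩
    rw [h, Subgroup.mem_bot] at this
    rw [Subgroup.mem_bot]
    exact Subtype.ext this
  have hAN : A ≤ N := by
    intro a ha
    apply centralizer_abelian_normal_le (Δ := Δ) N hNab hNbot
    intro n hn
    rw [hNdef] at hn
    obtain ⟨n', hn', rfl⟩ := hn
    have := Subgroup.mem_center_iff.mp hn' ⟨a, ha⟩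
    have h2 := congrArg Subtype.val this
    exact h2
  intro a ha b hb
  exact hNab a (hAN ha) b (hAN hb)

/-- An abelian normal subgroup of a faithful primitive finite group has prime exponent. -/
theorem abelian_normal_elementary [Finite H] [Nonempty Δ] (A : Subgroup H) [A.Normal]
    (hab : ∀ a ∈ A, ∀ b ∈ A, a * b = b * a) (hA : A ≠ ⊥) :
    ∃ p : ℕ, p.Prime ∧ ∀ a ∈ A, a ^ p = 1 := by
  have hnt : Nontrivial A := (Subgroup.nontrivial_iff_ne_bot A).mpr hA
  have hcard : 1 < Nat.card A := Finite.one_lt_card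
  obtain ⟨p, hp, hpdvd⟩ := Nat.exists_prime_and_dvd (Nat.ne_of_gt hcard)
  have : Fact p.Prime := ⟨hp⟩
  obtain ⟨x, hx⟩ := exists_prime_orderOf_dvd_card' p hpdvd
  refine ⟨p, hp, ?_⟩
  -- the subgroup of elements of order dividing p
  let B : Subgroup H :=
    { carrier := {a | a ∈ A ∧ a ^ p = 1}
      one_mem' := ⟨A.one_mem, one_pow _⟩
      mul_mem' := by
        rintro a b ⟨ha, ha'⟩ ⟨hb, hb'⟩
        refine ⟨A.mul_mem ha hb, ?_⟩
        have hc : Commute a b := hab a ha b hb
        rw [hc.mul_pow, ha', hb', one_mul]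
      inv_mem' := by
        rintro a ⟨ha, ha'⟩
        exact ⟨A.inv_mem ha, by rw [inv_pow, ha', inv_one]⟩ }
  have hBnorm : B.Normal := by
    refine ⟨fun a ha g => ?_⟩
    refine ⟨‹A.Normal›.conj_mem a ha.1 g, ?_⟩
    rw [conj_pow, ha.2, mul_one, mul_inv_cancel]
  have hBbot : B ≠ ⊥ := by
    intro h
    have hxB : (x : H) ∈ B := by
      refine ⟨x.2, ?_⟩
      have := pow_orderOf_eq_one x
      rw [hx] at this
      have h2 := congrArg Subtype.val this
      simpa using h2
    rw [h, Subgroup.mem_bot] at hxB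
    have : x = 1 := Subtype.ext hxB
    rw [this, orderOf_one] at hx
    exact hp.one_lt.ne hx
  intro a ha
  obtain ⟨δ⟩ := ‹Nonempty Δ›
  obtain ⟨b, hb, hbδ⟩ := normal_exists_smul_eq B hBbot δ (a • δ)
  have h1 : b⁻¹ * a = 1 := by
    apply abelian_normal_semiregular A hab hA (A.mul_mem (A.inv_mem hb.1) ha) (δ := δ)
    rw [mul_smul, ← hbδ, inv_smul_smul]
  rw [inv_mul_eq_one] at h1
  rw [← h1]; exact hb.2

/-- An abelian normal subgroup of a faithful primitive finite group is regular. -/
theorem abelian_normal_card [Finite H] [Nonempty Δ] (A : Subgroup H) [A.Normal]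
    (hab : ∀ a ∈ A, ∀ b ∈ A, a * b = b * a) (hA : A ≠ ⊥) : Nat.card Δ = Nat.card A := by
  obtain ⟨δ⟩ := ‹Nonempty Δ›
  have := normal_pretransitive (Δ := Δ) A hA
  apply Cfsg.Agent.Helper4.card_eq_of_regular (G := A) δ
  rw [eq_bot_iff]
  intro n hn
  rw [Subgroup.mem_bot]
  apply Subtype.ext
  exact abelian_normal_semiregular A hab hA n.2 (mem_stabilizer_iff.mp hn)

end PrimAb

section GLHom

theorem exists_GL_equiv (p e : ℕ) [Fact p.Prime] {V : Type*} [AddCommGroup V] [Module (ZMod p) V]
    [Finite V] (hcard : Nat.card V = p ^ e) :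
    Nonempty (GL (Fin e) (ZMod p) ≃* (V ≃ₗ[ZMod p] V)) := by
  have hfin : Module.finrank (ZMod p) V = e := by
    have h1 := Module.natCard_eq_pow_finrank (K := ZMod p) (V := V)
    rw [Nat.card_zmod, hcard] at h1
    exact (Nat.pow_right_injective (Fact.out : p.Prime).two_le h1).symm
  let b : Module.Basis (Fin e) (ZMod p) V := Module.finBasisOfFinrankEq (ZMod p) V hfin
  exact ⟨(Matrix.GeneralLinearGroup.toLin' b).trans
    (LinearMap.GeneralLinearGroup.generalLinearEquiv (ZMod p) V)⟩

/-- Multiplicative automorphisms as linear automorphisms of the additive version. -/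
def mulAutToLin (p : ℕ) (A : Type*) [CommGroup A] [Module (ZMod p) (Additive A)] :
    MulAut A →* (Additive A ≃ₗ[ZMod p] Additive A) where
  toFun σ := AddEquiv.toLinearEquiv (MulEquiv.toAdditive σ)
    (fun c x => ZMod.map_smul (MulEquiv.toAdditive σ) c x)
  map_one' := by ext x; rfl
  map_mul' σ τ := by ext x; rfl

theorem mulAutToLin_injective (p : ℕ) (A : Type*) [CommGroup A] [Module (ZMod p) (Additive A)] :
    Function.Injective (mulAutToLin p A) := by
  intro σ τ h
  ext x
  have := congrArg (fun f : Additive A ≃ₗ[ZMod p] Additive A =>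
    Additive.toMul (f (Additive.ofMul x))) h
  exact this

theorem exists_hom_GL_of_module {H : Type*} [Group H] {A : Type*} [CommGroup A] [Finite A]
    (p e : ℕ) [Fact p.Prime] [Module (ZMod p) (Additive A)] (hcard : Nat.card A = p ^ e)
    (ψ : H →* MulAut A) : ∃ φ : H →* GL (Fin e) (ZMod p), φ.ker = ψ.ker := by
  have hfinA : Finite (Additive A) := inferInstanceAs (Finite A)
  obtain ⟨E⟩ := exists_GL_equiv p e (V := Additive A) hcard
  refine ⟨E.symm.toMonoidHom.comp ((mulAutToLin p A).comp ψ), ?_⟩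
  ext h
  rw [MonoidHom.mem_ker, MonoidHom.mem_ker, MonoidHom.comp_apply, MonoidHom.comp_apply]
  have h1 : E.symm.toMonoidHom ((mulAutToLin p A) (ψ h)) = 1 ↔ (mulAutToLin p A) (ψ h) = 1 :=
    map_eq_one_iff E.symm E.symm.injective
  rw [h1, map_eq_one_iff _ (mulAutToLin_injective p A)]


/-- The conjugation action on an elementary abelian normal subgroup of order `p ^ e`, as a
homomorphism into `GL_e(p)` with kernel the centralizer. -/
theorem exists_hom_GL_of_elementary {H : Type*} [Group H] [Finite H] (A : Subgroup H) [A.Normal]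
    (hab : ∀ a ∈ A, ∀ b ∈ A, a * b = b * a) (p e : ℕ) [Fact p.Prime]
    (hexp : ∀ a ∈ A, a ^ p = 1) (hcard : Nat.card A = p ^ e) :
    ∃ φ : H →* GL (Fin e) (ZMod p), φ.ker = Subgroup.centralizer (A : Set H) := by
  letI : CommGroup A :=
    { (inferInstance : Group A) with mul_comm := fun a b => Subtype.ext (hab a a.2 b b.2) }
  letI : Module (ZMod p) (Additive A) := AddCommGroup.zmodModule (fun x => by
    have : x = Additive.ofMul (Additive.toMul x) := rfl
    rw [this, ← ofMul_pow]
    have h1 : (Additive.toMul x) ^ p = 1 := Subtype.ext (by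
      rw [Subgroup.coe_pow]; exact hexp _ (Additive.toMul x).2)
    rw [h1]; rfl)
  obtain ⟨φ, hφ⟩ := exists_hom_GL_of_module (A := A) p e hcard (MulAut.conjNormal (H := A))
  refine ⟨φ, ?_⟩
  rw [hφ]
  ext h
  rw [MonoidHom.mem_ker, Subgroup.mem_centralizer_iff]
  constructor
  · intro hh a ha
    have h3 : ((MulAut.conjNormal h : MulAut A) ⟨a, ha⟩ : A) = ⟨a, ha⟩ := by rw [hh]; rfl
    have h4 := congrArg Subtype.val h3
    rw [MulAut.conjNormal_apply] at h4
    simp only at h4
    calc a * h = (h * a * h⁻¹) * h := by rw [h4]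
      _ = h * a := by group
  · intro hh
    ext x
    rw [MulAut.conjNormal_apply]
    have := hh _ x.2
    show h * x * h⁻¹ = x
    calc h * (x : H) * h⁻¹ = ((x : H) * h) * h⁻¹ := by rw [this]
      _ = x := by group

end GLHom

end Cfsg.Agent.Helper17
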