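import Mathlib
import Cfsg.Prelude.Def_LieRecognition

set_option autoImplicit false

namespace Cfsg.Agent.Helper17

open Pointwise

section Inverted

variable {M : Type*} [Group M] {t : M}

theorem mem_invertedBy {X : Subgroup M} {x : M} :
    x ∈ Cfsg.invertedBy X t ↔ x ∈ X ∧ t * x * t⁻¹ = x⁻¹ := Iff.rfl

theorem inverted_pow {u : M} (hu : t * u * t⁻¹ = u⁻¹) (m : ℕ) :
    t * u ^ m * t⁻¹ = (u ^ m)⁻¹ := by
  rw [← conj_pow, hu, inv_pow]

/-- in an odd order subgroup, `z ^ (card + 1) = z`. -/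
theorem pow_card_succ {X : Subgroup M} {z : M} (hz : z ∈ X) :
    z ^ (Nat.card X + 1) = z := by
  have h1 : (⟨z, hz⟩ : X) ^ Nat.card X = 1 := pow_card_eq_one'
  have h2 : z ^ Nat.card X = 1 := by
    have := congrArg Subtype.val h1
    rwa [Subgroup.coe_pow] at this
  rw [pow_succ, h2, one_mul]

/-- the `Z`-part of `x`. -/
theorem inverted_part_eq (_ht2 : t * t = 1) (X : Subgroup M) {k : ℕ}
    (hk : Nat.card X = 2 * k + 1) {x y z : M}
    (hy : y ∈ X ⊓ Subgroup.centralizer {t}) (hz : z ∈ Cfsg.invertedBy X t) (hxyz : x = y * z) :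
    z = ((t * x * t⁻¹)⁻¹ * x) ^ (k + 1) := by
  have hty : t * y = y * t := (Subgroup.mem_centralizer_iff.mp hy.2) t rfl
  have htz : t * z * t⁻¹ = z⁻¹ := hz.2
  have h1 : t * x * t⁻¹ = y * z⁻¹ := by
    rw [hxyz]
    have : t * (y * z) * t⁻¹ = (t * y) * t⁻¹ * (t * z * t⁻¹) := by group
    rw [this, htz, hty]; group
  have h2 : (t * x * t⁻¹)⁻¹ * x = z ^ 2 := by
    rw [h1, hxyz, pow_two]; group
  rw [h2, ← pow_mul, show 2 * (k + 1) = (2 * k + 1) + 1 by ring, ← hk, pow_card_succ hz.1]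

theorem inverted_decomp_exists (ht2 : t * t = 1) (X : Subgroup M) (hodd : Odd (Nat.card X))
    (hnorm : ∀ x ∈ X, t * x * t⁻¹ ∈ X) {x : M} (hx : x ∈ X) :
    ∃ y ∈ X ⊓ Subgroup.centralizer {t}, ∃ z ∈ Cfsg.invertedBy X t, x = y * z := by
  obtain ⟨k, hk⟩ := hodd
  have htinv : t⁻¹ = t := inv_eq_of_mul_eq_one_right ht2
  obtain ⟨u, hu⟩ : ∃ u, u = (t * x * t⁻¹)⁻¹ * x := ⟨_, rfl⟩
  have huX : u ∈ X := by rw [hu]; exact X.mul_mem (X.inv_mem (hnorm x hx)) hx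
  have hu_inv : t * u * t⁻¹ = u⁻¹ := by
    have h1 : t * u * t⁻¹ = (t * (t * x * t⁻¹) * t⁻¹)⁻¹ * (t * x * t⁻¹) := by
      rw [hu]; simp only [mul_assoc, mul_inv_rev, inv_inv, inv_mul_cancel_left]
    have h2 : t * (t * x * t⁻¹) * t⁻¹ = x := by
      have : t * (t * x * t⁻¹) * t⁻¹ = (t * t) * x * (t * t)⁻¹ := by group
      rw [this, ht2]; group
    rw [h1, h2, hu]; group
  obtain ⟨z, hz⟩ : ∃ z, z = u ^ (k + 1) := ⟨_, rfl⟩
  have hzX : z ∈ X := by rw [hz]; exact X.pow_mem huX _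
  have hz_inv : t * z * t⁻¹ = z⁻¹ := by rw [hz]; exact inverted_pow hu_inv _
  have hzz : z * z = u := by
    rw [hz, ← pow_add, show k + 1 + (k + 1) = (2 * k + 1) + 1 by ring, ← hk, pow_card_succ huX]
  refine ⟨x * z⁻¹, Subgroup.mem_inf.mpr ⟨X.mul_mem hx (X.inv_mem hzX), ?_⟩, z, ⟨hzX, hz_inv⟩,
    by group⟩
  rw [Subgroup.mem_centralizer_iff]
  intro h hh
  rw [Set.mem_singleton_iff] at hh
  subst hh
  have h1 : h * (x * z⁻¹) * h⁻¹ = x * z⁻¹ := by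
    have h2 : h * (x * z⁻¹) * h⁻¹ = (h * x * h⁻¹) * (h * z * h⁻¹)⁻¹ := by group
    rw [h2, hz_inv, inv_inv]
    have h3 : h * x * h⁻¹ = x * u⁻¹ := by rw [hu]; group
    rw [h3, ← hzz]; group
  calc h * (x * z⁻¹) = h * (x * z⁻¹) * h⁻¹ * h := by group
    _ = x * z⁻¹ * h := by rw [h1]

theorem inverted_decomp_unique (ht2 : t * t = 1) (X : Subgroup M) (hodd : Odd (Nat.card X))
    (hnorm : ∀ x ∈ X, t * x * t⁻¹ ∈ X) {x : M} (hx : x ∈ X) :
    ∃! p : M × M, p.1 ∈ X ⊓ Subgroup.centralizer {t} ∧ p.2 ∈ Cfsg.invertedBy X t ∧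
      x = p.1 * p.2 := by
  obtain ⟨y, hy, z, hz, hxyz⟩ := inverted_decomp_exists ht2 X hodd hnorm hx
  obtain ⟨k, hk⟩ := hodd
  refine ⟨(y, z), ⟨hy, hz, hxyz⟩, ?_⟩
  rintro ⟨y', z'⟩ ⟨hy', hz', hxyz'⟩
  have h1 := inverted_part_eq ht2 X hk hy hz hxyz
  have h2 := inverted_part_eq ht2 X hk hy' hz' hxyz'
  have h3 : z' = z := by
    show z' = z
    rw [h1]; exact h2
  have h4 : y' = y := by
    have h5 : y' * z' = y * z := by rw [← hxyz]; exact hxyz'.symm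
    rw [h3] at h5
    exact mul_right_cancel h5
  rw [h3, h4]

theorem inverted_card (ht2 : t * t = 1) (X : Subgroup M) (hodd : Odd (Nat.card X))
    (hnorm : ∀ x ∈ X, t * x * t⁻¹ ∈ X) :
    Nat.card X = Nat.card ↥(X ⊓ Subgroup.centralizer {t}) * Nat.card (Cfsg.invertedBy X t) := by
  rw [← Nat.card_prod]
  symm
  let f : ↥(X ⊓ Subgroup.centralizer {t}) × (Cfsg.invertedBy X t) → X :=
    fun p => ⟨(p.1 : M) * (p.2 : M), X.mul_mem p.1.2.1 p.2.2.1⟩
  refine Nat.card_congr (Equiv.ofBijective f ⟨?_, ?_⟩)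
  · rintro ⟨⟨y, hy⟩, ⟨z, hz⟩⟩ ⟨⟨y', hy'⟩, ⟨z', hz'⟩⟩ h
    have h1 : y * z = y' * z' := congrArg Subtype.val h
    have hx : y * z ∈ X := X.mul_mem hy.1 hz.1
    obtain ⟨p, -, hp⟩ := inverted_decomp_unique ht2 X hodd hnorm hx
    have e1 := hp (y, z) ⟨hy, hz, rfl⟩
    have e2 := hp (y', z') ⟨hy', hz', h1⟩
    have e3 : (y, z) = (y', z') := e1.trans e2.symm
    simp only [Prod.mk.injEq] at e3
    obtain ⟨rfl, rfl⟩ := e3
    rfl
  · rintro ⟨x, hx⟩
    obtain ⟨y, hy, z, hz, hxyz⟩ := inverted_decomp_exists ht2 X hodd hnorm hx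
    exact ⟨(⟨y, hy⟩, ⟨z, hz⟩), Subtype.ext hxyz.symm⟩

theorem inverted_closure_conj_mem (ht2 : t * t = 1) (X : Subgroup M) (hodd : Odd (Nat.card X))
    (hnorm : ∀ x ∈ X, t * x * t⁻¹ ∈ X) {x : M} (hx : x ∈ X) {c : M}
    (hc : c ∈ Subgroup.closure (Cfsg.invertedBy X t)) :
    x * c * x⁻¹ ∈ Subgroup.closure (Cfsg.invertedBy X t) := by
  obtain ⟨y, hy, z, hz, rfl⟩ := inverted_decomp_exists ht2 X hodd hnorm hx
  have hty : t * y = y * t := (Subgroup.mem_centralizer_iff.mp hy.2) t rfl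
  have hzc : z ∈ Subgroup.closure (Cfsg.invertedBy X t) := Subgroup.subset_closure hz
  have h1 : z * c * z⁻¹ ∈ Subgroup.closure (Cfsg.invertedBy X t) :=
    mul_mem (mul_mem hzc hc) (inv_mem hzc)
  have h2 : ∀ c ∈ Subgroup.closure (Cfsg.invertedBy X t),
      y * c * y⁻¹ ∈ Subgroup.closure (Cfsg.invertedBy X t) := by
    intro c hc
    induction hc using Subgroup.closure_induction with
    | mem w hw =>
      apply Subgroup.subset_closure
      refine ⟨X.mul_mem (X.mul_mem hy.1 hw.1) (X.inv_mem hy.1), ?_⟩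
      have h3 : t * (y * w * y⁻¹) * t⁻¹ = (t * y) * t⁻¹ * (t * w * t⁻¹) * (t * y * t⁻¹)⁻¹ := by
        group
      rw [h3, hw.2, hty]; group
    | one => simp [one_mem]
    | mul c d _ _ hc hd =>
      have : y * (c * d) * y⁻¹ = (y * c * y⁻¹) * (y * d * y⁻¹) := by group
      rw [this]; exact mul_mem hc hd
    | inv c _ hc =>
      have : y * c⁻¹ * y⁻¹ = (y * c * y⁻¹)⁻¹ := by group
      rw [this]; exact inv_mem hc
  have : y * z * c * (y * z)⁻¹ = y * (z * c * z⁻¹) * y⁻¹ := by group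
  rw [this]
  exact h2 _ h1

theorem inverted_closure_normal (ht2 : t * t = 1) (X : Subgroup M) (hodd : Odd (Nat.card X))
    (hnorm : ∀ x ∈ X, t * x * t⁻¹ ∈ X) {x : M} (hx : x ∈ X) :
    MulAut.conj x • Subgroup.closure (Cfsg.invertedBy X t) =
      Subgroup.closure (Cfsg.invertedBy X t) := by
  ext c
  rw [Subgroup.mem_pointwise_smul_iff_inv_smul_mem]
  have e : (MulAut.conj x)⁻¹ • c = x⁻¹ * c * x := by
    simp [MulAut.smul_def]
  rw [e]
  constructor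
  · intro h
    have := inverted_closure_conj_mem ht2 X hodd hnorm hx h
    have e2 : x * (x⁻¹ * c * x) * x⁻¹ = c := by group
    rwa [e2] at this
  · intro h
    have := inverted_closure_conj_mem ht2 X hodd hnorm (X.inv_mem hx) h
    rwa [inv_inv] at this

end Inverted

end Cfsg.Agent.Helper17
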