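import Mathlib
import Cfsg.Prelude.Def_LieRecognition
import Cfsg.Agent.Helper17.Inverted

set_option autoImplicit false

namespace Cfsg.Agent.Helper17

section KleinFour

variable {G : Type*} [Group G]

theorem sq_mul_self {X : Subgroup G} {k : ℕ} (hk : Nat.card X = 2 * k + 1) {z : G} (hz : z ∈ X) :
    z ^ (k + 1) * z ^ (k + 1) = z := by
  rw [← pow_add, show k + 1 + (k + 1) = (2 * k + 1) + 1 by ring, ← hk, pow_card_succ hz]

theorem sq_unique {X : Subgroup G} {k : ℕ} (hk : Nat.card X = 2 * k + 1) {a z : G} (ha : a ∈ X)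
    (h : a * a = z) : a = z ^ (k + 1) := by
  rw [← h, ← pow_two, ← pow_mul, show 2 * (k + 1) = (2 * k + 1) + 1 by ring, ← hk,
    pow_card_succ ha]

theorem mid_unique {X : Subgroup G} {k : ℕ} (hk : Nat.card X = 2 * k + 1) {z a b : G}
    (hz : z ∈ X) (ha : a ∈ X) (h : z * a⁻¹ * z = b) : z = (b * a⁻¹) ^ (k + 1) * a := by
  have h1 : (z * a⁻¹) * (z * a⁻¹) = b * a⁻¹ := by rw [← h]; group
  have h2 := sq_unique hk (X.mul_mem hz (X.inv_mem ha)) h1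
  rw [← h2]; group

/-- Klein four-group acting on an odd order group: elements inverted by `x` lie in
`C(y) C(xy) C(y)`. -/
theorem klein_inverted_decomp {X : Subgroup G} (hodd : Odd (Nat.card X)) {x y : G}
    (hx2 : x * x = 1) (hy2 : y * y = 1) (hxy : x * y = y * x)
    (hynorm : ∀ m ∈ X, y * m * y⁻¹ ∈ X)
    {g : G} (hg : g ∈ X) (hgx : x * g * x⁻¹ = g⁻¹) :
    ∃ u ∈ X, ∃ g' ∈ X, y * u = u * y ∧ (x * y) * g' = g' * (x * y) ∧ g = u * g' * u := by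
  obtain ⟨k, hk⟩ := hodd
  have hxinv : x⁻¹ = x := inv_eq_of_mul_eq_one_right hx2
  have hyinv : y⁻¹ = y := inv_eq_of_mul_eq_one_right hy2
  -- the midpoint
  obtain ⟨b, hb⟩ : ∃ b, b = y * g * y⁻¹ := ⟨_, rfl⟩
  have hbX : b ∈ X := by rw [hb]; exact hynorm g hg
  have hyb : y * b * y⁻¹ = g := by
    rw [hb]
    have : y * (y * g * y⁻¹) * y⁻¹ = (y * y) * g * (y * y)⁻¹ := by group
    rw [this, hy2]; group
  have hxb : x * b * x⁻¹ = b⁻¹ := by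
    rw [hb]
    have e1 : x * (y * g * y⁻¹) * x⁻¹ = (x * y) * g * (x * y)⁻¹ := by group
    have e2 : (y * g * y⁻¹)⁻¹ = y * g⁻¹ * y⁻¹ := by group
    rw [e1, e2, hxy, ← hgx]; group
  obtain ⟨m, hm⟩ : ∃ m, m = (b * g⁻¹) ^ (k + 1) * g := ⟨_, rfl⟩
  have hpX : (b * g⁻¹) ^ (k + 1) ∈ X := X.pow_mem (X.mul_mem hbX (X.inv_mem hg)) _
  have hmX : m ∈ X := by rw [hm]; exact X.mul_mem hpX hg
  have hmid : m * g⁻¹ * m = b := by
    have e1 : m * g⁻¹ * m = (b * g⁻¹) ^ (k + 1) * (b * g⁻¹) ^ (k + 1) * g := by rw [hm]; group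
    rw [e1, sq_mul_self hk (X.mul_mem hbX (X.inv_mem hg))]; group
  have hmid' : m * b⁻¹ * m = g := by
    have e1 : m * b⁻¹ * m = m * (m * g⁻¹ * m)⁻¹ * m := by rw [hmid]
    rw [e1]; group
  -- `y` centralizes `m`
  have hym : y * m * y⁻¹ = m := by
    have e1 : (y * m * y⁻¹) * b⁻¹ * (y * m * y⁻¹) = g := by
      have e2 : (y * m * y⁻¹) * b⁻¹ * (y * m * y⁻¹) = y * (m * (y⁻¹ * b⁻¹ * y) * m) * y⁻¹ := by
        group
      have e3 : y⁻¹ * b⁻¹ * y = g⁻¹ := by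
        rw [hb]; group
      rw [e2, e3, hmid, hyb]
    have u1 := mid_unique hk (hynorm m hmX) hbX e1
    have u2 := mid_unique hk hmX hbX hmid'
    rw [u1, ← u2]
  -- `x` inverts `m`
  have hxnorm_m : x * m * x⁻¹ = m⁻¹ := by
    have e0 : x * (b * g⁻¹) * x⁻¹ = b⁻¹ * g := by
      have : x * (b * g⁻¹) * x⁻¹ = (x * b * x⁻¹) * (x * g * x⁻¹)⁻¹ := by group
      rw [this, hxb, hgx, inv_inv]
    -- direct computation: x m x⁻¹ = (b⁻¹ g)^(k+1) g⁻¹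
    have e1 : x * m * x⁻¹ = (b⁻¹ * g) ^ (k + 1) * g⁻¹ := by
      rw [hm]
      have : x * ((b * g⁻¹) ^ (k + 1) * g) * x⁻¹ =
          (x * (b * g⁻¹) * x⁻¹) ^ (k + 1) * (x * g * x⁻¹) := by
        rw [conj_pow]; group
      rw [this, e0, hgx]
    -- m⁻¹ satisfies the same midpoint equation as x m x⁻¹ inverse
    have hq : (b⁻¹ * g) ^ (k + 1) * g⁻¹ ∈ X :=
      X.mul_mem (X.pow_mem (X.mul_mem (X.inv_mem hbX) hg) _) (X.inv_mem hg)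
    have e2 : ((b⁻¹ * g) ^ (k + 1) * g⁻¹)⁻¹ * g⁻¹ * ((b⁻¹ * g) ^ (k + 1) * g⁻¹)⁻¹ = b := by
      have e3 : ((b⁻¹ * g) ^ (k + 1) * g⁻¹)⁻¹ * g⁻¹ * ((b⁻¹ * g) ^ (k + 1) * g⁻¹)⁻¹ =
          (((b⁻¹ * g) ^ (k + 1) * (b⁻¹ * g) ^ (k + 1)) * g⁻¹)⁻¹ := by group
      rw [e3, sq_mul_self hk (X.mul_mem (X.inv_mem hbX) hg)]; group
    have u1 := mid_unique hk (X.inv_mem hq) hg e2
    have u2 := mid_unique hk hmX hg hmid
    rw [e1, ← inv_inj, inv_inv, u1, ← u2]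
  obtain ⟨u, hu⟩ : ∃ u, u = m ^ (k + 1) := ⟨_, rfl⟩
  have huX : u ∈ X := by rw [hu]; exact X.pow_mem hmX _
  have huu : u * u = m := by rw [hu]; exact sq_mul_self hk hmX
  have hyu : y * u * y⁻¹ = u := by rw [hu, ← conj_pow, hym]
  have hxu : x * u * x⁻¹ = u⁻¹ := by rw [hu]; exact inverted_pow hxnorm_m _
  refine ⟨u, huX, u⁻¹ * g * u⁻¹, X.mul_mem (X.mul_mem (X.inv_mem huX) hg) (X.inv_mem huX), ?_, ?_,
    by group⟩
  · calc y * u = y * u * y⁻¹ * y := by group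
      _ = u * y := by rw [hyu]
  · have e1 : (x * y) * (u⁻¹ * g * u⁻¹) * (x * y)⁻¹ = u⁻¹ * g * u⁻¹ := by
      have e2 : (x * y) * (u⁻¹ * g * u⁻¹) * (x * y)⁻¹ =
          (x * (y * u * y⁻¹) * x⁻¹)⁻¹ * (x * (y * g * y⁻¹) * x⁻¹) * (x * (y * u * y⁻¹) * x⁻¹)⁻¹ := by
        group
      rw [e2, hyu, hxu, inv_inv, ← hb, hxb]
      -- u b⁻¹ u = u⁻¹ g u⁻¹  from  m b⁻¹ m = g
      have e3 : u * b⁻¹ * u = u⁻¹ * (m * b⁻¹ * m) * u⁻¹ := by rw [← huu]; group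
      rw [e3, hmid']
    calc (x * y) * (u⁻¹ * g * u⁻¹) = (x * y) * (u⁻¹ * g * u⁻¹) * (x * y)⁻¹ * (x * y) := by group
      _ = u⁻¹ * g * u⁻¹ * (x * y) := by rw [e1]

end KleinFour

end Cfsg.Agent.Helper17
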