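import Mathlib
import Cfsg.Prelude.Def_LieRecognition
import Cfsg.Agent.Helper17.Basic

set_option autoImplicit false

namespace Cfsg.Agent.Helper17

open MulAction

section Dihedral

variable {G : Type*} [Group G]

theorem invol_inv {s : G} (hs : s * s = 1) : s⁻¹ = s := inv_eq_of_mul_eq_one_right hs

theorem invol_mul_inv {s u : G} (hs : s * s = 1) (hu : u * u = 1) : (s * u)⁻¹ = u * s := by
  rw [mul_inv_rev, invol_inv hs, invol_inv hu]

theorem invol_pow_mul {s u : G} (m : ℕ) : (s * u) ^ m * s = s * (u * s) ^ m := by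
  induction m with
  | zero => simp
  | succ m ih => rw [pow_succ', mul_assoc, ih, pow_succ']; simp only [mul_assoc]

/-- two involutions with product of odd order are conjugate (by a power of the product). -/
theorem invol_conj_of_odd {s u : G} (hs : s * s = 1) (hu : u * u = 1)
    (hodd : Odd (orderOf (s * u))) : ∃ g : G, g * s * g⁻¹ = u := by
  obtain ⟨m, hm⟩ := hodd
  refine ⟨(s * u) ^ m, ?_⟩
  have h1 : (s * u) ^ (m + 1) * (s * u) ^ m = 1 := by
    rw [← pow_add, show m + 1 + m = 2 * m + 1 by ring, ← hm, pow_orderOf_eq_one]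
  have h2 : (s * u) ^ (m + 1) = (u * s) ^ m := by
    rw [← invol_mul_inv hs hu, inv_pow]
    exact eq_inv_of_mul_eq_one_left h1
  rw [mul_inv_eq_iff_eq_mul, invol_pow_mul, ← h2, pow_succ', ← mul_assoc, ← mul_assoc, hs, one_mul]

/-- the central involution of a dihedral group of order divisible by 4. -/
theorem invol_central_pow {s u : G} (hs : s * s = 1) (hu : u * u = 1) {m : ℕ} (hm : 0 < m)
    (hord : orderOf (s * u) = m + m) :
    (s * u) ^ m ≠ 1 ∧ (s * u) ^ m * (s * u) ^ m = 1 ∧ s * (s * u) ^ m = (s * u) ^ m * s ∧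
      u * (s * u) ^ m = (s * u) ^ m * u := by
  have hz2 : (s * u) ^ m * (s * u) ^ m = 1 := by
    rw [← pow_add, ← hord, pow_orderOf_eq_one]
  have hzinv : ((s * u) ^ m)⁻¹ = (s * u) ^ m := invol_inv hz2
  have hus : (u * s) ^ m = (s * u) ^ m := by
    rw [← invol_mul_inv hs hu, inv_pow, hzinv]
  refine ⟨?_, hz2, ?_, ?_⟩
  · intro h
    have := orderOf_dvd_of_pow_eq_one h
    rw [hord] at this
    have := Nat.le_of_dvd hm this
    omega
  · rw [invol_pow_mul, hus]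
  · have h1 : (u * s) ^ m * u = u * (s * u) ^ m := invol_pow_mul m
    rw [← h1, hus]

end Dihedral

section RankOne

variable {G Ω : Type*} [Group G] [MulAction G Ω] {a : Ω} {t : G} {Q : Subgroup G}

theorem ro_two_trans (hS : Cfsg.IsRankOneSetup G Ω a t Q) {b c d e : Ω} (h1 : b ≠ c)
    (h2 : d ≠ e) : ∃ g : G, g • b = d ∧ g • c = e :=
  (MulAction.is_two_pretransitive_iff.mp hS.two_transitive) h1 h2

theorem ro_ta_ne (hS : Cfsg.IsRankOneSetup G Ω a t Q) : t • a ≠ a := fun h =>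
  hS.not_mem (mem_stabilizer_iff.mpr h)

theorem ro_t_inv (hS : Cfsg.IsRankOneSetup G Ω a t Q) : t⁻¹ = t :=
  inv_eq_of_mul_eq_one_right hS.mul_self

theorem ro_tt_smul (hS : Cfsg.IsRankOneSetup G Ω a t Q) (c : Ω) : t • t • c = c := by
  rw [smul_smul, hS.mul_self, one_smul]

/-- `Q` is semiregular off `a`. -/
theorem ro_semireg (hS : Cfsg.IsRankOneSetup G Ω a t Q) {x : G} (hx : x ∈ Q) {c : Ω}
    (hc : c ≠ a) (hxc : x • c = c) : x = 1 := by
  obtain ⟨g, hga, hgc⟩ := ro_two_trans hS (ro_ta_ne hS).symm hc.symm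
  have hg : g⁻¹ ∈ stabilizer G a := by
    rw [mem_stabilizer_iff, inv_smul_eq_iff, hga]
  have hy : g⁻¹ * x * g⁻¹⁻¹ ∈ Q := hS.conj_mem _ hg x hx
  have hy2 : g⁻¹ * x * g⁻¹⁻¹ ∈ stabilizer G (t • a) := by
    rw [mem_stabilizer_iff, inv_inv, mul_smul, mul_smul, hgc, hxc, inv_smul_eq_iff, hgc]
  have h1 : g⁻¹ * x * g⁻¹⁻¹ ∈ Q ⊓ stabilizer G (t • a) := ⟨hy, hy2⟩
  rw [hS.inf_eq_bot, Subgroup.mem_bot] at h1
  have : x = g * (g⁻¹ * x * g⁻¹⁻¹) * g⁻¹ := by group
  rw [this, h1]; group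

theorem ro_fix_eq (hS : Cfsg.IsRankOneSetup G Ω a t Q) {x : G} (hx : x ∈ Q) (hx1 : x ≠ 1)
    {c : Ω} (hxc : x • c = c) : c = a := by
  by_contra hc
  exact hx1 (ro_semireg hS hx hc hxc)

theorem ro_Q_fix (hS : Cfsg.IsRankOneSetup G Ω a t Q) {x : G} (hx : x ∈ Q) : x • a = a :=
  mem_stabilizer_iff.mp (hS.le hx)

theorem ro_D_le_normalizer (hS : Cfsg.IsRankOneSetup G Ω a t Q) :
    stabilizer G a ≤ Subgroup.normalizer (Q : Set G) := by
  intro g hg
  rw [Subgroup.mem_normalizer_iff]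
  intro x
  constructor
  · intro hx; exact hS.conj_mem g hg x hx
  · intro hx
    have := hS.conj_mem g⁻¹ (inv_mem hg) _ hx
    simpa [mul_assoc] using this

/-- decomposition `G_a = Q D`. -/
theorem ro_decomp (hS : Cfsg.IsRankOneSetup G Ω a t Q) {g : G} (hg : g ∈ stabilizer G a) :
    ∃ q ∈ Q, ∃ d ∈ stabilizer G a ⊓ stabilizer G (t • a), g = q * d := by
  have h1 : g ∈ Q ⊔ (stabilizer G a ⊓ stabilizer G (t • a)) := by rw [hS.sup_eq]; exact hg
  have h2 := Subgroup.coe_mul_of_right_le_normalizer_left Q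
    (stabilizer G a ⊓ stabilizer G (t • a)) (inf_le_left.trans (ro_D_le_normalizer hS))
  have h3 : g ∈ ((Q ⊔ (stabilizer G a ⊓ stabilizer G (t • a)) : Subgroup G) : Set G) := h1
  rw [h2] at h3
  obtain ⟨q, hq, d, hd, rfl⟩ := h3
  exact ⟨q, hq, d, hd, rfl⟩

/-- `Q` is transitive off `a`. -/
theorem ro_Q_trans_ta (hS : Cfsg.IsRankOneSetup G Ω a t Q) {c : Ω} (hc : c ≠ a) :
    ∃ x ∈ Q, x • (t • a) = c := by
  obtain ⟨g, hga, hgc⟩ := ro_two_trans hS (ro_ta_ne hS).symm hc.symm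
  obtain ⟨q, hq, d, hd, rfl⟩ := ro_decomp hS (mem_stabilizer_iff.mpr hga)
  refine ⟨q, hq, ?_⟩
  rw [mul_smul, mem_stabilizer_iff.mp hd.2] at hgc
  exact hgc

theorem ro_Q_trans (hS : Cfsg.IsRankOneSetup G Ω a t Q) {b c : Ω} (hb : b ≠ a) (hc : c ≠ a) :
    ∃ x ∈ Q, x • b = c := by
  obtain ⟨x, hx, rfl⟩ := ro_Q_trans_ta hS hb
  obtain ⟨y, hy, rfl⟩ := ro_Q_trans_ta hS hc
  refine ⟨y * x⁻¹, Q.mul_mem hy (Q.inv_mem hx), ?_⟩
  rw [mul_smul, inv_smul_smul]

theorem ro_Q_regular (hS : Cfsg.IsRankOneSetup G Ω a t Q) {b c : Ω} (hb : b ≠ a) (hc : c ≠ a) :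
    ∃! x : Q, (x : G) • b = c := by
  obtain ⟨x, hx, hxb⟩ := ro_Q_trans hS hb hc
  refine ⟨⟨x, hx⟩, hxb, ?_⟩
  rintro ⟨y, hy⟩ hyb
  have h1 : (x⁻¹ * y) • b = b := by
    rw [mul_smul, show y • b = c from hyb, inv_smul_eq_iff, hxb]
  have h2 := ro_semireg hS (Q.mul_mem (Q.inv_mem hx) hy) hb h1
  apply Subtype.ext
  show y = x
  exact (inv_mul_eq_one.mp h2).symm

theorem ro_conj_mem' (hS : Cfsg.IsRankOneSetup G Ω a t Q) {d x : G} (hd : d ∈ stabilizer G a)
    (hx : x ∈ Q) : d⁻¹ * x * d ∈ Q := by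
  have := hS.conj_mem d⁻¹ (inv_mem hd) x hx
  rwa [inv_inv] at this

theorem ro_tt_mul (hS : Cfsg.IsRankOneSetup G Ω a t Q) (z : G) : t * (t * z) = z := by
  rw [← mul_assoc, hS.mul_self, one_mul]

theorem ro_QD_bot (hS : Cfsg.IsRankOneSetup G Ω a t Q) :
    Q ⊓ (stabilizer G a ⊓ stabilizer G (t • a)) = ⊥ := by
  rw [eq_bot_iff, ← hS.inf_eq_bot]
  exact inf_le_inf_left Q inf_le_right

theorem ro_t_conj_D (hS : Cfsg.IsRankOneSetup G Ω a t Q) {d : G}
    (hd : d ∈ stabilizer G a ⊓ stabilizer G (t • a)) :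
    t * d * t ∈ stabilizer G a ⊓ stabilizer G (t • a) := by
  have h1 : d • a = a := mem_stabilizer_iff.mp hd.1
  have h2 : d • t • a = t • a := mem_stabilizer_iff.mp hd.2
  refine Subgroup.mem_inf.mpr ⟨?_, ?_⟩
  · rw [mem_stabilizer_iff, mul_smul, mul_smul, h2, ro_tt_smul hS]
  · rw [mem_stabilizer_iff, mul_smul, mul_smul, ro_tt_smul hS, h1]

/-- uniqueness in the form `q d t f`. -/
theorem ro_canon_unique (hS : Cfsg.IsRankOneSetup G Ω a t Q) {q₁ d₁ f₁ q₂ d₂ f₂ : G}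
    (hq₁ : q₁ ∈ Q) (hd₁ : d₁ ∈ stabilizer G a ⊓ stabilizer G (t • a)) (hf₁ : f₁ ∈ Q)
    (hq₂ : q₂ ∈ Q) (hd₂ : d₂ ∈ stabilizer G a ⊓ stabilizer G (t • a)) (hf₂ : f₂ ∈ Q)
    (h : q₁ * d₁ * t * f₁ = q₂ * d₂ * t * f₂) : q₁ = q₂ ∧ d₁ = d₂ ∧ f₁ = f₂ := by
  have hfix : ∀ {q d : G}, q ∈ Q → d ∈ stabilizer G a ⊓ stabilizer G (t • a) →
      (q * d)⁻¹ • a = a := by
    intro q d hq hd
    rw [inv_smul_eq_iff, mul_smul, mem_stabilizer_iff.mp hd.1, ro_Q_fix hS hq]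
  -- apply inverse of both sides to `a`
  have h1 : (q₁ * d₁ * t * f₁)⁻¹ • a = f₁⁻¹ • t • a := by
    have : (q₁ * d₁ * t * f₁)⁻¹ = f₁⁻¹ * t⁻¹ * (q₁ * d₁)⁻¹ := by group
    rw [this, mul_smul, mul_smul, hfix hq₁ hd₁, ro_t_inv hS]
  have h2 : (q₂ * d₂ * t * f₂)⁻¹ • a = f₂⁻¹ • t • a := by
    have : (q₂ * d₂ * t * f₂)⁻¹ = f₂⁻¹ * t⁻¹ * (q₂ * d₂)⁻¹ := by group
    rw [this, mul_smul, mul_smul, hfix hq₂ hd₂, ro_t_inv hS]
  rw [h, h2] at h1
  have h3 : (f₁ * f₂⁻¹) • t • a = t • a := by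
    rw [mul_smul, h1, smul_inv_smul]
  have h4 := ro_semireg hS (Q.mul_mem hf₁ (Q.inv_mem hf₂)) (ro_ta_ne hS) h3
  have hf : f₁ = f₂ := mul_inv_eq_one.mp h4
  subst hf
  have h5 : q₁ * d₁ = q₂ * d₂ := by
    have := congrArg (fun z => z * f₁⁻¹ * t⁻¹) h
    simpa [mul_assoc] using this
  have h6 : q₂⁻¹ * q₁ = d₂ * d₁⁻¹ := by
    have : q₂⁻¹ * q₁ = q₂⁻¹ * (q₁ * d₁) * d₁⁻¹ := by group
    rw [this, h5]; group
  have h7 : q₂⁻¹ * q₁ ∈ Q ⊓ (stabilizer G a ⊓ stabilizer G (t • a)) := by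
    refine ⟨Q.mul_mem (Q.inv_mem hq₂) hq₁, ?_⟩
    rw [h6]
    exact Subgroup.mul_mem _ hd₂ (Subgroup.inv_mem _ hd₁)
  rw [ro_QD_bot hS, Subgroup.mem_bot] at h7
  have hq : q₁ = q₂ := (inv_mul_eq_one.mp h7).symm
  subst hq
  exact ⟨rfl, mul_left_cancel h5, rfl⟩

/-- existence of the canonical form for elements outside `G_a`. -/
theorem ro_canon_exists (hS : Cfsg.IsRankOneSetup G Ω a t Q) {g : G}
    (hg : g ∉ stabilizer G a) :
    ∃ q ∈ Q, ∃ d ∈ stabilizer G a ⊓ stabilizer G (t • a), ∃ f ∈ Q, g = q * d * t * f := by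
  have h1 : g⁻¹ • a ≠ a := by
    intro h
    apply hg
    rw [mem_stabilizer_iff]
    rw [inv_smul_eq_iff] at h
    exact h.symm
  obtain ⟨z, hz, hza⟩ := ro_Q_trans_ta hS h1
  have h2 : g * z * t ∈ stabilizer G a := by
    rw [mem_stabilizer_iff, mul_smul, mul_smul, hza, smul_inv_smul]
  obtain ⟨q, hq, d, hd, hqd⟩ := ro_decomp hS h2
  refine ⟨q, hq, d, hd, z⁻¹, Q.inv_mem hz, ?_⟩
  rw [← hqd]
  have : g * z * t * t * z⁻¹ = g * z * (t * t) * z⁻¹ := by group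
  rw [this, hS.mul_self]; group

end RankOne

section RankOneFinite

variable {G Ω : Type*} [Group G] [Finite G] [MulAction G Ω] {a : Ω} {t : G} {Q : Subgroup G}

theorem ro_card_Omega (hS : Cfsg.IsRankOneSetup G Ω a t Q) : Nat.card Ω = Nat.card Q + 1 := by
  let f : Option Q → Ω := fun o => o.elim a (fun x => (x : G) • t • a)
  have hf : Function.Bijective f := by
    constructor
    · intro o₁ o₂ h
      rcases o₁ with _ | ⟨x, hx⟩ <;> rcases o₂ with _ | ⟨y, hy⟩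
      · rfl
      · exfalso
        have h' : a = y • t • a := h
        have : y⁻¹ • a = t • a := by rw [inv_smul_eq_iff]; exact h'
        rw [ro_Q_fix hS (Q.inv_mem hy)] at this
        exact ro_ta_ne hS this.symm
      · exfalso
        have h' : x • t • a = a := h
        have : t • a = x⁻¹ • a := by rw [eq_inv_smul_iff]; exact h'
        rw [ro_Q_fix hS (Q.inv_mem hx)] at this
        exact ro_ta_ne hS this
      · have h' : x • t • a = y • t • a := h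
        have h3 : (y⁻¹ * x) • t • a = t • a := by
          rw [mul_smul, h', inv_smul_smul]
        have h4 := ro_semireg hS (Q.mul_mem (Q.inv_mem hy) hx) (ro_ta_ne hS) h3
        have : x = y := (inv_mul_eq_one.mp h4).symm
        subst this
        rfl
    · intro c
      by_cases hc : c = a
      · exact ⟨none, hc.symm⟩
      · obtain ⟨x, hx, hxc⟩ := ro_Q_trans_ta hS hc
        exact ⟨some ⟨x, hx⟩, hxc⟩
  rw [← Nat.card_congr (Equiv.ofBijective f hf), Finite.card_option]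

theorem ro_finite_Omega (hS : Cfsg.IsRankOneSetup G Ω a t Q) : Finite Ω := by
  have h := ro_card_Omega hS
  exact Nat.finite_of_card_ne_zero (by omega)

theorem ro_card_stab (hS : Cfsg.IsRankOneSetup G Ω a t Q) :
    Nat.card (stabilizer G a) =
      Nat.card Q * Nat.card ↥(stabilizer G a ⊓ stabilizer G (t • a)) := by
  have h := card_sup_mul_card_inf Q (stabilizer G a ⊓ stabilizer G (t • a))
    (inf_le_left.trans (ro_D_le_normalizer hS))
  rw [ro_QD_bot hS, Subgroup.card_bot, mul_one, hS.sup_eq] at h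
  exact h

omit [Finite G] in
theorem ro_pretrans (hS : Cfsg.IsRankOneSetup G Ω a t Q) : IsPretransitive G Ω :=
  @MulAction.isPretransitive_of_is_two_pretransitive _ _ _ _ hS.two_transitive

theorem ro_card_G (hS : Cfsg.IsRankOneSetup G Ω a t Q) :
    Nat.card G = Nat.card Q * Nat.card ↥(stabilizer G a ⊓ stabilizer G (t • a)) *
      (Nat.card Q + 1) := by
  have := ro_pretrans hS
  have h := Subgroup.index_mul_card (stabilizer G a)
  rw [MulAction.index_stabilizer, MulAction.orbit_eq_univ, Set.ncard_univ, ro_card_Omega hS,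
    ro_card_stab hS] at h
  rw [← h]; ring

theorem ro_sylow (hS : Cfsg.IsRankOneSetup G Ω a t Q) :
    ∃ P : Sylow 2 G, (P : Subgroup G) ≤ Q := by
  have hfact : Fact (Nat.Prime 2) := ⟨Nat.prime_two⟩
  let P₀ : Sylow 2 Q := default
  let P₁ : Subgroup G := (P₀ : Subgroup Q).map Q.subtype
  have hle : P₁ ≤ Q := Subgroup.map_subtype_le _
  have hcard₁ : Nat.card P₁ = 2 ^ (Nat.card Q).factorization 2 := by
    rw [Subgroup.card_map_of_injective Q.subtype_injective]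
    exact Sylow.card_eq_multiplicity P₀
  have hQpos : Nat.card Q ≠ 0 := Nat.card_pos.ne'
  have hDpos : Nat.card ↥(stabilizer G a ⊓ stabilizer G (t • a)) ≠ 0 := Nat.card_pos.ne'
  have hfac : (Nat.card G).factorization 2 = (Nat.card Q).factorization 2 := by
    rw [ro_card_G hS, Nat.factorization_mul (Nat.mul_ne_zero hQpos hDpos) (by omega),
      Nat.factorization_mul hQpos hDpos]
    have h1 : (Nat.card ↥(stabilizer G a ⊓ stabilizer G (t • a))).factorization 2 = 0 := by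
      apply Nat.factorization_eq_zero_of_not_dvd
      exact hS.odd_card.not_two_dvd_nat
    have h2 : (Nat.card Q + 1).factorization 2 = 0 := by
      apply Nat.factorization_eq_zero_of_not_dvd
      exact (hS.even_card.add_one).not_two_dvd_nat
    rw [Finsupp.add_apply, Finsupp.add_apply, h1, h2, add_zero, add_zero]
  refine ⟨Sylow.ofCard P₁ (by rw [hcard₁, hfac]), ?_⟩
  exact hle

/-- every involution is conjugate into `Q`. -/
theorem ro_invol_conj_Q (hS : Cfsg.IsRankOneSetup G Ω a t Q) {u : G} (hu1 : u ≠ 1)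
    (hu2 : u * u = 1) : ∃ g : G, g * u * g⁻¹ ∈ Q := by
  have hfact : Fact (Nat.Prime 2) := ⟨Nat.prime_two⟩
  obtain ⟨P, hP⟩ := ro_sylow hS
  have hord : orderOf u = 2 := by
    apply orderOf_eq_prime
    · rw [pow_two]; exact hu2
    · exact hu1
  have hpg : IsPGroup 2 (Subgroup.zpowers u) := by
    apply IsPGroup.of_card (n := 1)
    rw [Nat.card_zpowers, hord, pow_one]
  obtain ⟨P', hP'⟩ := hpg.exists_le_sylow
  obtain ⟨g, hg⟩ := MulAction.exists_smul_eq G P' P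
  refine ⟨g, hP ?_⟩
  rw [← hg, Sylow.coe_subgroup_smul]
  have : g * u * g⁻¹ = MulAut.conj g • u := by simp [MulAut.smul_def]
  rw [this]
  exact Subgroup.smul_mem_pointwise_smul _ _ _ (hP' (Subgroup.mem_zpowers u))

/-- an involution fixes exactly one point -/
theorem ro_invol_fix (hS : Cfsg.IsRankOneSetup G Ω a t Q) {u : G} (hu1 : u ≠ 1)
    (hu2 : u * u = 1) : ∃! c : Ω, u • c = c := by
  obtain ⟨g, hg⟩ := ro_invol_conj_Q hS hu1 hu2
  have hne : g * u * g⁻¹ ≠ 1 := by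
    intro h
    apply hu1
    have : u = g⁻¹ * (g * u * g⁻¹) * g := by group
    rw [this, h]; group
  refine ⟨g⁻¹ • a, ?_, ?_⟩
  · have h1 := ro_Q_fix hS hg
    rw [mul_smul, mul_smul] at h1
    show u • g⁻¹ • a = g⁻¹ • a
    rw [eq_inv_smul_iff]
    exact h1
  · intro c hc
    have h1 : (g * u * g⁻¹) • g • c = g • c := by
      rw [mul_smul, mul_smul, inv_smul_smul, hc]
    have := ro_fix_eq hS hg hne h1
    rw [eq_inv_smul_iff]
    exact this

theorem ro_invol_fix_eq (hS : Cfsg.IsRankOneSetup G Ω a t Q) {u : G} (hu1 : u ≠ 1)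
    (hu2 : u * u = 1) {c d : Ω} (hc : u • c = c) (hd : u • d = d) : c = d :=
  (ro_invol_fix hS hu1 hu2).unique hc hd

theorem ro_invol_fix_a (hS : Cfsg.IsRankOneSetup G Ω a t Q) {u : G} (hu1 : u ≠ 1)
    (hu2 : u * u = 1) (hua : u ∈ stabilizer G a) {c : Ω} (hc : u • c = c) : c = a :=
  ro_invol_fix_eq hS hu1 hu2 hc (mem_stabilizer_iff.mp hua)

/-- commuting with an involution preserves its fixed point. -/
theorem ro_comm_fix (hS : Cfsg.IsRankOneSetup G Ω a t Q) {u z : G} (hu1 : u ≠ 1)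
    (hu2 : u * u = 1) (hcomm : u * z = z * u) {c : Ω} (hc : u • c = c) : z • c = c := by
  apply ro_invol_fix_eq hS hu1 hu2 _ hc
  rw [← mul_smul, hcomm, mul_smul, hc]

theorem ro_odd_mul (hS : Cfsg.IsRankOneSetup G Ω a t Q) {s u : G}
    (hsa : s ∈ stabilizer G a) (hs1 : s ≠ 1) (hs2 : s * s = 1)
    (hua : u ∉ stabilizer G a) (hu1 : u ≠ 1) (hu2 : u * u = 1) : Odd (orderOf (s * u)) := by
  by_contra hne
  rw [Nat.not_odd_iff_even] at hne
  obtain ⟨m, hm⟩ := hne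
  have hpos : 0 < orderOf (s * u) := orderOf_pos _
  have hm0 : 0 < m := by omega
  obtain ⟨hz1, hz2, hzs, hzu⟩ := invol_central_pow hs2 hu2 hm0 hm
  obtain ⟨b, hb, -⟩ := ro_invol_fix hS hu1 hu2
  have h1 := ro_comm_fix hS hs1 hs2 hzs (mem_stabilizer_iff.mp hsa)
  have h2 := ro_comm_fix hS hu1 hu2 hzu hb
  have h3 := ro_invol_fix_eq hS hz1 hz2 h1 h2
  apply hua
  rw [mem_stabilizer_iff, h3]
  exact hb

theorem ro_invol_conj_aux (hS : Cfsg.IsRankOneSetup G Ω a t Q) {u v : G} (hu1 : u ≠ 1)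
    (hu2 : u * u = 1) (hv1 : v ≠ 1) (hv2 : v * v = 1) {b c : Ω} (hb : u • b = b)
    (hc : v • c = c) (hbc : b ≠ c) : ∃ g : G, g * u * g⁻¹ = v := by
  have := ro_pretrans hS
  obtain ⟨h, hh⟩ := MulAction.exists_smul_eq G b a
  have hu' : h * u * h⁻¹ ∈ stabilizer G a := by
    rw [mem_stabilizer_iff, mul_smul, mul_smul, ← hh, inv_smul_smul, hb]
  have hv' : h * v * h⁻¹ ∉ stabilizer G a := by
    rw [mem_stabilizer_iff, mul_smul, mul_smul]
    intro h1
    have h2 : v • h⁻¹ • a = h⁻¹ • a := by rw [eq_inv_smul_iff]; exact h1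
    have h3 := ro_invol_fix_eq hS hv1 hv2 h2 hc
    apply hbc
    rw [← h3, ← hh, inv_smul_smul]
  have hu1' : h * u * h⁻¹ ≠ 1 := by
    intro h1
    apply hu1
    have : u = h⁻¹ * (h * u * h⁻¹) * h := by group
    rw [this, h1]; group
  have hv1' : h * v * h⁻¹ ≠ 1 := by
    intro h1
    apply hv1
    have : v = h⁻¹ * (h * v * h⁻¹) * h := by group
    rw [this, h1]; group
  have hu2' : h * u * h⁻¹ * (h * u * h⁻¹) = 1 := by
    have : h * u * h⁻¹ * (h * u * h⁻¹) = h * (u * u) * h⁻¹ := by group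
    rw [this, hu2]; group
  have hv2' : h * v * h⁻¹ * (h * v * h⁻¹) = 1 := by
    have : h * v * h⁻¹ * (h * v * h⁻¹) = h * (v * v) * h⁻¹ := by group
    rw [this, hv2]; group
  obtain ⟨g, hg⟩ := invol_conj_of_odd hu2' hv2' (ro_odd_mul hS hu' hu1' hu2' hv' hv1' hv2')
  refine ⟨h⁻¹ * g * h, ?_⟩
  have : h⁻¹ * g * h * u * (h⁻¹ * g * h)⁻¹ = h⁻¹ * (g * (h * u * h⁻¹) * g⁻¹) * h := by group
  rw [this, hg]; group

/-- all involutions are conjugate. -/
theorem ro_invol_conj (hS : Cfsg.IsRankOneSetup G Ω a t Q) {u v : G} (hu1 : u ≠ 1)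
    (hu2 : u * u = 1) (hv1 : v ≠ 1) (hv2 : v * v = 1) : ∃ g : G, g * u * g⁻¹ = v := by
  obtain ⟨b, hb, -⟩ := ro_invol_fix hS hu1 hu2
  obtain ⟨c, hc, -⟩ := ro_invol_fix hS hv1 hv2
  by_cases hbc : b = c
  · subst hbc
    have := ro_pretrans hS
    obtain ⟨d, hd⟩ : ∃ d : Ω, d ≠ b := by
      by_cases h : b = a
      · exact ⟨t • a, by rw [h]; exact ro_ta_ne hS⟩
      · exact ⟨a, Ne.symm h⟩
    obtain ⟨h, hh⟩ := MulAction.exists_smul_eq G b d
    have hw1 : h * u * h⁻¹ ≠ 1 := by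
      intro h1
      apply hu1
      have : u = h⁻¹ * (h * u * h⁻¹) * h := by group
      rw [this, h1]; group
    have hw2 : h * u * h⁻¹ * (h * u * h⁻¹) = 1 := by
      have : h * u * h⁻¹ * (h * u * h⁻¹) = h * (u * u) * h⁻¹ := by group
      rw [this, hu2]; group
    have hwd : (h * u * h⁻¹) • d = d := by
      rw [mul_smul, mul_smul, ← hh, inv_smul_smul, hb]
    obtain ⟨g, hg⟩ := ro_invol_conj_aux hS hw1 hw2 hv1 hv2 hwd hc hd
    refine ⟨g * h, ?_⟩
    rw [← hg]; group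
  · exact ro_invol_conj_aux hS hu1 hu2 hv1 hv2 hb hc hbc

end RankOneFinite

end Cfsg.Agent.Helper17
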