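import Mathlib
import Cfsg.Prelude.Def_LieRecognition
import Cfsg.Agent.Helper17.RankOne

set_option autoImplicit false
set_option linter.unusedSimpArgs false

namespace Cfsg.Agent.Helper17

open MulAction

section Dihedral2

variable {G : Type*} [Group G]

theorem invol_conj_ne_one {u : G} (hu1 : u ≠ 1) (g : G) : g * u * g⁻¹ ≠ 1 := by
  intro h
  apply hu1
  have : u = g⁻¹ * (g * u * g⁻¹) * g := by group
  rw [this, h]; group

theorem invol_conj_sq {u : G} (hu2 : u * u = 1) (g : G) : g * u * g⁻¹ * (g * u * g⁻¹) = 1 := by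
  have : g * u * g⁻¹ * (g * u * g⁻¹) = g * (u * u) * g⁻¹ := by group
  rw [this, hu2]; group

/-- two involutions with product of odd order are conjugate by an involution. -/
theorem invol_conj_invol_of_odd {s u : G} (hs : s * s = 1) (hu : u * u = 1)
    (hodd : Odd (orderOf (s * u))) : ∃ w : G, w * w = 1 ∧ w * s * w⁻¹ = u := by
  obtain ⟨m, hm⟩ := hodd
  have h1 : (s * u) ^ (m + 1) * (s * u) ^ m = 1 := by
    rw [← pow_add, show m + 1 + m = 2 * m + 1 by ring, ← hm, pow_orderOf_eq_one]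
  have h2 : (s * u) ^ (m + 1) = (u * s) ^ m := by
    rw [← invol_mul_inv hs hu, inv_pow]
    exact eq_inv_of_mul_eq_one_left h1
  have h3 : (s * u) ^ m * s * ((s * u) ^ m)⁻¹ = u := by
    rw [mul_inv_eq_iff_eq_mul, invol_pow_mul, ← h2, pow_succ', ← mul_assoc, ← mul_assoc, hs,
      one_mul]
  have h4 : (s * u) ^ m * s * ((s * u) ^ m * s) = 1 := by
    have e1 : (s * u) ^ m * s * ((s * u) ^ m * s) = (s * u) ^ m * (s * (s * u) ^ m * s) := by
      group
    have e2 : s * (s * u) ^ m * s = ((s * u) ^ m)⁻¹ := by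
      have e3 : s * (s * u) ^ m * s = s * ((s * u) ^ m * s) := by group
      rw [e3, invol_pow_mul, ← mul_assoc, hs, one_mul, ← invol_mul_inv hs hu, inv_pow]
    rw [e1, e2, mul_inv_cancel]
  refine ⟨(s * u) ^ m * s, h4, ?_⟩
  have e4 : (s * u) ^ m * s * s * ((s * u) ^ m * s)⁻¹ = (s * u) ^ m * s * ((s * u) ^ m)⁻¹ := by
    group
  rw [e4, h3]

end Dihedral2

section RankOne2

variable {G Ω : Type*} [Group G] [Finite G] [MulAction G Ω] {a : Ω} {t : G} {Q : Subgroup G}

omit [Finite G] in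
/-- an involution swapping `a` and `t • a` lies in `t K`. -/
theorem ro_swap_inverted (hS : Cfsg.IsRankOneSetup G Ω a t Q) {w : G} (hw2 : w * w = 1)
    (hwa : w • a = t • a) :
    t * w ∈ Cfsg.invertedBy (stabilizer G a ⊓ stabilizer G (t • a)) t := by
  have hwta : w • t • a = a := by rw [← hwa, ← mul_smul, hw2, one_smul]
  refine ⟨Subgroup.mem_inf.mpr ⟨?_, ?_⟩, ?_⟩
  · rw [mem_stabilizer_iff, mul_smul, hwa, ro_tt_smul hS]
  · rw [mem_stabilizer_iff, mul_smul, hwta]
  · rw [ro_t_inv hS, mul_inv_rev, ro_t_inv hS, invol_inv hw2, ← mul_assoc, hS.mul_self, one_mul]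

omit [Finite G] in
theorem ro_inverted_inv {D : Subgroup G} {k : G} (hk : k ∈ Cfsg.invertedBy D t) :
    k⁻¹ ∈ Cfsg.invertedBy D t := by
  refine ⟨D.inv_mem hk.1, ?_⟩
  have : t * k⁻¹ * t⁻¹ = (t * k * t⁻¹)⁻¹ := by group
  rw [this, hk.2]

omit [Finite G] in
/-- `t k` is an involution for `k ∈ K`. -/
theorem ro_inverted_sq (hS : Cfsg.IsRankOneSetup G Ω a t Q) {D : Subgroup G} {k : G}
    (hk : k ∈ Cfsg.invertedBy D t) : t * k * (t * k) = 1 := by
  have h := hk.2
  rw [ro_t_inv hS] at h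
  have : t * k * (t * k) = (t * k * t) * k := by group
  rw [this, h, inv_mul_cancel]

theorem ro_inverted_trans (hS : Cfsg.IsRankOneSetup G Ω a t Q) {s s' : G}
    (hs : s ∈ Cfsg.involutionsIn (stabilizer G a : Set G))
    (hs' : s' ∈ Cfsg.involutionsIn (stabilizer G a : Set G)) :
    ∃ k ∈ Cfsg.invertedBy (stabilizer G a ⊓ stabilizer G (t • a)) t, k⁻¹ * s * k = s' := by
  have ht : t⁻¹ = t := ro_t_inv hS
  have htt : ∀ z : G, t * (t * z) = z := ro_tt_mul hS
  have htt1 : t * t = 1 := hS.mul_self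
  have hs'a : s' • a = a := mem_stabilizer_iff.mp hs'.1
  have hsa : s • a = a := mem_stabilizer_iff.mp hs.1
  have hy1 : t * s' * t ≠ 1 := by
    have := invol_conj_ne_one hs'.2.1 t
    rwa [ht] at this
  have hy2 : t * s' * t * (t * s' * t) = 1 := by
    have := invol_conj_sq hs'.2.2 t
    rwa [ht] at this
  have hyta : (t * s' * t) • t • a = t • a := by
    simp only [mul_smul]
    rw [ro_tt_smul hS, hs'a]
  have hy : t * s' * t ∉ stabilizer G a := by
    intro h
    exact ro_ta_ne hS (ro_invol_fix_eq hS hy1 hy2 hyta (mem_stabilizer_iff.mp h))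
  have hodd := ro_odd_mul hS hs.1 hs.2.1 hs.2.2 hy hy1 hy2
  obtain ⟨w, hw2, hw⟩ := invol_conj_invol_of_odd hs.2.2 hy2 hodd
  have hwa : w • a = t • a := by
    apply ro_invol_fix_eq hS hy1 hy2 _ hyta
    rw [← hw]
    simp only [mul_smul]
    rw [inv_smul_smul, hsa]
  have hk' := ro_swap_inverted hS hw2 hwa
  refine ⟨(t * w)⁻¹, ro_inverted_inv hk', ?_⟩
  rw [inv_inv]
  have e1 : t * w * s * (t * w)⁻¹ = t * (w * s * w⁻¹) * t⁻¹ := by group
  rw [e1, hw, ht]
  simp only [mul_assoc, htt, htt1, mul_one]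

theorem ro_card_inverted (hS : Cfsg.IsRankOneSetup G Ω a t Q) :
    Nat.card (Cfsg.invertedBy (stabilizer G a ⊓ stabilizer G (t • a)) t) =
      Nat.card (Cfsg.involutionsIn (stabilizer G a : Set G)) := by
  classical
  have ht : t⁻¹ = t := ro_t_inv hS
  have htt : ∀ z : G, t * (t * z) = z := ro_tt_mul hS
  have htt1 : t * t = 1 := hS.mul_self
  have hta := ro_ta_ne hS
  let J' : Set G := {u | u ≠ 1 ∧ u * u = 1 ∧ u ∉ stabilizer G a}
  have hh : ∀ c : {c : Ω // c ≠ a}, ∃ h : G, h • a = a ∧ h • t • a = c.1 :=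
    fun c => ro_two_trans hS hta.symm c.2.symm
  choose h hha hhc using hh
  -- first map
  have m₁ : ∀ (c : {c : Ω // c ≠ a}) (s : Cfsg.involutionsIn (stabilizer G a : Set G)),
      (h c * t) * s.1 * (h c * t)⁻¹ ∈ J' := by
    intro c s
    refine ⟨invol_conj_ne_one s.2.2.1 _, invol_conj_sq s.2.2.2 _, ?_⟩
    intro hmem
    have h1 : ((h c * t) * s.1 * (h c * t)⁻¹) • c.1 = c.1 := by
      have h2 : (h c * t)⁻¹ • c.1 = a := by
        rw [inv_smul_eq_iff, mul_smul, hhc]
      simp only [mul_smul] at h2 ⊢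
      rw [h2, mem_stabilizer_iff.mp s.2.1, hhc]
    exact c.2 (ro_invol_fix_eq hS (invol_conj_ne_one s.2.2.1 _) (invol_conj_sq s.2.2.2 _) h1
      (mem_stabilizer_iff.mp hmem))
  have m₂ : ∀ (c : {c : Ω // c ≠ a})
      (k : Cfsg.invertedBy (stabilizer G a ⊓ stabilizer G (t • a)) t),
      h c * (t * k.1) * (h c)⁻¹ ∈ J' := by
    intro c k
    have hk2 := ro_inverted_sq hS k.2
    have hmove : (h c * (t * k.1) * (h c)⁻¹) • a = c.1 := by
      have h2 : (h c)⁻¹ • a = a := by rw [inv_smul_eq_iff, hha]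
      simp only [mul_smul]
      rw [h2, mem_stabilizer_iff.mp k.2.1.1, hhc]
    have hnot : h c * (t * k.1) * (h c)⁻¹ ∉ stabilizer G a := by
      intro hmem
      rw [mem_stabilizer_iff, hmove] at hmem
      exact c.2 hmem
    refine ⟨?_, invol_conj_sq hk2 _, hnot⟩
    intro h1
    apply hnot
    rw [h1]; exact one_mem _
  let f₁ : {c : Ω // c ≠ a} × (Cfsg.involutionsIn (stabilizer G a : Set G)) → J' :=
    fun p => ⟨(h p.1 * t) * p.2.1 * (h p.1 * t)⁻¹, m₁ p.1 p.2⟩
  let f₂ : {c : Ω // c ≠ a} × (Cfsg.invertedBy (stabilizer G a ⊓ stabilizer G (t • a)) t) → J' :=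
    fun p => ⟨h p.1 * (t * p.2.1) * (h p.1)⁻¹, m₂ p.1 p.2⟩
  have b₁ : Function.Bijective f₁ := by
    constructor
    · rintro ⟨c, s⟩ ⟨c', s'⟩ hff
      have e : (h c * t) * s.1 * (h c * t)⁻¹ = (h c' * t) * s'.1 * (h c' * t)⁻¹ :=
        congrArg Subtype.val hff
      have fix : ∀ (c : {c : Ω // c ≠ a}) (s : Cfsg.involutionsIn (stabilizer G a : Set G)),
          ((h c * t) * s.1 * (h c * t)⁻¹) • c.1 = c.1 := by
        intro c s
        have h2 : (h c * t)⁻¹ • c.1 = a := by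
          rw [inv_smul_eq_iff, mul_smul, hhc]
        simp only [mul_smul] at h2 ⊢
        rw [h2, mem_stabilizer_iff.mp s.2.1, hhc]
      have hc : c = c' := by
        apply Subtype.ext
        have h1 := fix c s
        have h2 := fix c' s'
        rw [e] at h1
        exact ro_invol_fix_eq hS (invol_conj_ne_one s'.2.2.1 _) (invol_conj_sq s'.2.2.2 _) h1 h2
      subst hc
      have hs : s = s' := by
        apply Subtype.ext
        have := congrArg (fun z => (h c * t)⁻¹ * z * (h c * t)) e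
        simpa [mul_assoc] using this
      rw [hs]
    · rintro ⟨u, hu1, hu2, hua⟩
      obtain ⟨c, hc, -⟩ := ro_invol_fix hS hu1 hu2
      have hca : c ≠ a := by
        intro h1
        apply hua
        rw [mem_stabilizer_iff, ← h1]; exact hc
      have hmem : (h ⟨c, hca⟩ * t)⁻¹ * u * (h ⟨c, hca⟩ * t) ∈
          Cfsg.involutionsIn (stabilizer G a : Set G) := by
        have e0 : (h ⟨c, hca⟩ * t)⁻¹ * u * (h ⟨c, hca⟩ * t) =
            (h ⟨c, hca⟩ * t)⁻¹ * u * ((h ⟨c, hca⟩ * t)⁻¹)⁻¹ := by rw [inv_inv]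
        refine ⟨?_, ?_, ?_⟩
        · show (h ⟨c, hca⟩ * t)⁻¹ * u * (h ⟨c, hca⟩ * t) ∈ stabilizer G a
          rw [mem_stabilizer_iff]
          have h3 : (h ⟨c, hca⟩ * t) • a = c := by rw [mul_smul, hhc]
          rw [mul_smul, mul_smul, h3, hc, inv_smul_eq_iff, h3]
        · rw [e0]; exact invol_conj_ne_one hu1 _
        · rw [e0]; exact invol_conj_sq hu2 _
      refine ⟨(⟨c, hca⟩, ⟨_, hmem⟩), ?_⟩
      apply Subtype.ext
      show (h ⟨c, hca⟩ * t) * ((h ⟨c, hca⟩ * t)⁻¹ * u * (h ⟨c, hca⟩ * t)) * (h ⟨c, hca⟩ * t)⁻¹ = u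
      group
  have b₂ : Function.Bijective f₂ := by
    constructor
    · rintro ⟨c, k⟩ ⟨c', k'⟩ hff
      have e : h c * (t * k.1) * (h c)⁻¹ = h c' * (t * k'.1) * (h c')⁻¹ :=
        congrArg Subtype.val hff
      have mv : ∀ (c : {c : Ω // c ≠ a})
          (k : Cfsg.invertedBy (stabilizer G a ⊓ stabilizer G (t • a)) t),
          (h c * (t * k.1) * (h c)⁻¹) • a = c.1 := by
        intro c k
        have h2 : (h c)⁻¹ • a = a := by rw [inv_smul_eq_iff, hha]
        simp only [mul_smul]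
        rw [h2, mem_stabilizer_iff.mp k.2.1.1, hhc]
      have hc : c = c' := by
        apply Subtype.ext
        rw [← mv c k, ← mv c' k', e]
      subst hc
      have hk : k = k' := by
        apply Subtype.ext
        have := congrArg (fun z => t⁻¹ * ((h c)⁻¹ * z * (h c))) e
        simpa [mul_assoc] using this
      rw [hk]
    · rintro ⟨u, hu1, hu2, hua⟩
      have hca : u • a ≠ a := fun h1 => hua (mem_stabilizer_iff.mpr h1)
      set c : {c : Ω // c ≠ a} := ⟨u • a, hca⟩ with hcdef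
      have hw2 : (h c)⁻¹ * u * (h c) * ((h c)⁻¹ * u * (h c)) = 1 := by
        have := invol_conj_sq hu2 (h c)⁻¹
        rwa [inv_inv] at this
      have hwa : ((h c)⁻¹ * u * (h c)) • a = t • a := by
        rw [mul_smul, mul_smul, hha, inv_smul_eq_iff, hhc]
      have hk := ro_swap_inverted hS hw2 hwa
      refine ⟨(c, ⟨_, hk⟩), ?_⟩
      apply Subtype.ext
      show h c * (t * (t * ((h c)⁻¹ * u * (h c)))) * (h c)⁻¹ = u
      rw [htt]; group
  have e := (Nat.card_congr (Equiv.ofBijective f₁ b₁)).trans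
    (Nat.card_congr (Equiv.ofBijective f₂ b₂)).symm
  rw [Nat.card_prod, Nat.card_prod] at e
  have hfin := ro_finite_Omega hS
  have hpos : 0 < Nat.card {c : Ω // c ≠ a} := by
    have : Nonempty {c : Ω // c ≠ a} := ⟨⟨t • a, hta⟩⟩
    exact Nat.card_pos
  exact (Nat.eq_of_mul_eq_mul_left hpos e).symm

end RankOne2

end Cfsg.Agent.Helper17
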