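import Mathlib
import Cfsg.Prelude.Def_LieRecognition
import Cfsg.Agent.Helper17.RankOne2
import Cfsg.Agent.Helper17.KleinFour

set_option autoImplicit false
set_option linter.unusedSimpArgs false

namespace Cfsg.Agent.Helper17

open MulAction

section RankOne3

variable {G Ω : Type*} [Group G] [MulAction G Ω] {a : Ω} {t : G} {Q : Subgroup G}

/-- the set-up seen from the point `t • a`. -/
theorem ro_swap_setup (hS : Cfsg.IsRankOneSetup G Ω a t Q) :
    Cfsg.IsRankOneSetup G Ω (t • a) t (Q.map (MulAut.conj t).toMonoidHom) := by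
  have ht : t⁻¹ = t := ro_t_inv hS
  have htt : ∀ z : G, t * (t * z) = z := ro_tt_mul hS
  have htt1 : t * t = 1 := hS.mul_self
  have htta : t • t • a = a := ro_tt_smul hS a
  have hmem : ∀ y : G, y ∈ Q.map (MulAut.conj t).toMonoidHom ↔ ∃ x ∈ Q, t * x * t = y := by
    intro y
    rw [Subgroup.mem_map]
    constructor
    · rintro ⟨x, hx, rfl⟩
      refine ⟨x, hx, ?_⟩
      simp [ht]
    · rintro ⟨x, hx, rfl⟩
      refine ⟨x, hx, ?_⟩
      simp [ht]
  have hconj : ∀ h : G, h ∈ stabilizer G (t • a) → t * h * t ∈ stabilizer G a := by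
    intro h hh
    rw [mem_stabilizer_iff] at hh ⊢
    simp only [mul_smul]
    rw [hh, htta]
  refine ⟨hS.two_transitive, hS.mul_self, hS.ne_one, ?_, ?_, ?_, ?_, ?_, ?_, ?_⟩
  · rw [mem_stabilizer_iff, htta]
    exact (ro_ta_ne hS).symm
  · intro y hy
    obtain ⟨x, hx, rfl⟩ := (hmem y).mp hy
    rw [mem_stabilizer_iff]
    simp only [mul_smul]
    rw [htta, ro_Q_fix hS hx]
  · intro h hh y hy
    obtain ⟨x, hx, rfl⟩ := (hmem y).mp hy
    rw [hmem]
    refine ⟨(t * h * t) * x * (t * h * t)⁻¹, hS.conj_mem _ (hconj h hh) x hx, ?_⟩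
    simp only [mul_assoc, mul_inv_rev, ht, htt, htt1, mul_one]
  · rw [eq_bot_iff]
    rintro y ⟨hy, hy2⟩
    obtain ⟨x, hx, rfl⟩ := (hmem y).mp hy
    have h1 : (t * x * t) • a = a := by
      have := mem_stabilizer_iff.mp hy2
      rwa [htta] at this
    have h2 : x • t • a = t • a := by
      simp only [mul_smul] at h1
      have h3 : t • t • x • t • a = t • a := congrArg (fun z => t • z) h1
      rwa [ro_tt_smul hS] at h3
    have h4 : x ∈ Q ⊓ stabilizer G (t • a) := ⟨hx, mem_stabilizer_iff.mpr h2⟩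
    rw [hS.inf_eq_bot, Subgroup.mem_bot] at h4
    rw [Subgroup.mem_bot, h4]
    simp only [mul_one, htt1]
  · apply le_antisymm
    · apply sup_le
      · intro y hy
        obtain ⟨x, hx, rfl⟩ := (hmem y).mp hy
        rw [mem_stabilizer_iff]
        simp only [mul_smul]
        rw [htta, ro_Q_fix hS hx]
      · exact inf_le_left
    · intro h hh
      obtain ⟨q, hq, d, hd, hqd⟩ := ro_decomp hS (hconj h hh)
      have e : h = (t * q * t) * (t * d * t) := by
        have : (t * q * t) * (t * d * t) = t * (q * d) * t := by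
          simp only [mul_assoc, htt]
        rw [this, ← hqd]
        simp only [mul_assoc, htt, htt1, mul_one]
      rw [e]
      apply Subgroup.mul_mem_sup
      · rw [hmem]; exact ⟨q, hq, rfl⟩
      · have := ro_t_conj_D hS hd
        rw [htta]
        exact Subgroup.mem_inf.mpr ⟨this.2, this.1⟩
  · rw [Subgroup.card_map_of_injective (MulAut.conj t).injective]
    exact hS.even_card
  · rw [htta, inf_comm]
    exact hS.odd_card

/-- elements of `Q` moving `t • a` to a fixed point of `X ⊆ D` centralize `X`. -/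
theorem ro_cent_Q_trans (hS : Cfsg.IsRankOneSetup G Ω a t Q) {X : Set G}
    (hX : X ⊆ ((stabilizer G a ⊓ stabilizer G (t • a) : Subgroup G) : Set G)) {b : Ω} (hb : b ≠ a)
    (hXb : ∀ x ∈ X, x • b = b) :
    ∃ q ∈ Q, q ∈ Subgroup.centralizer X ∧ q • t • a = b := by
  obtain ⟨q, hq, hqb⟩ := ro_Q_trans_ta hS hb
  refine ⟨q, hq, ?_, hqb⟩
  rw [Subgroup.mem_centralizer_iff]
  intro x hx
  have hxD := hX hx
  have h1 : x * q * x⁻¹ ∈ Q := hS.conj_mem x hxD.1 q hq
  have h2 : (q⁻¹ * (x * q * x⁻¹)) • t • a = t • a := by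
    have h3 : x⁻¹ • t • a = t • a := by
      rw [inv_smul_eq_iff]; exact (mem_stabilizer_iff.mp hxD.2).symm
    simp only [mul_smul]
    rw [h3, hqb, hXb x hx, inv_smul_eq_iff, hqb]
  have h4 := ro_semireg hS (Q.mul_mem (Q.inv_mem hq) h1) (ro_ta_ne hS) h2
  have h5 : x * q * x⁻¹ = q := by
    have := inv_mul_eq_one.mp h4
    exact this.symm
  calc x * q = x * q * x⁻¹ * x := by group
    _ = q * x := by rw [h5]

/-- the centralizer of `X ⊆ D` preserves the fixed points of `X`. -/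
theorem cent_smul_fixed {X : Set G} {g : G} (hg : g ∈ Subgroup.centralizer X) {b : Ω}
    (hXb : ∀ x ∈ X, x • b = b) : ∀ x ∈ X, x • g • b = g • b := by
  intro x hx
  have := (Subgroup.mem_centralizer_iff.mp hg) x hx
  rw [← mul_smul, this, mul_smul, hXb x hx]

/-- `C(X)` can move any fixed point of `X` to `a`, when `X ⊆ D` fixes a third point. -/
theorem ro_cent_move_to_a (hS : Cfsg.IsRankOneSetup G Ω a t Q) {X : Set G}
    (hX : X ⊆ ((stabilizer G a ⊓ stabilizer G (t • a) : Subgroup G) : Set G))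
    {e : Ω} (hea : e ≠ a) (heta : e ≠ t • a) (hXe : ∀ x ∈ X, x • e = e)
    {b : Ω} (hXb : ∀ x ∈ X, x • b = b) :
    ∃ g ∈ Subgroup.centralizer X, g • b = a := by
  have hS' := ro_swap_setup hS
  have htta : t • t • a = a := ro_tt_smul hS a
  have hX' : X ⊆ ((stabilizer G (t • a) ⊓ stabilizer G (t • t • a) : Subgroup G) : Set G) := by
    intro x hx
    have := hX hx
    rw [htta]
    exact Subgroup.mem_inf.mpr ⟨this.2, this.1⟩
  -- points other than `t • a` can be moved to `a` by `C_{Q'}(X)`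
  have key : ∀ c : Ω, c ≠ t • a → (∀ x ∈ X, x • c = c) →
      ∃ g ∈ Subgroup.centralizer X, g • c = a := by
    intro c hc hXc
    obtain ⟨q', -, hq'c, hq'⟩ := ro_cent_Q_trans hS' hX' hc hXc
    rw [htta] at hq'
    refine ⟨q'⁻¹, inv_mem hq'c, ?_⟩
    rw [inv_smul_eq_iff, hq']
  by_cases hb : b = t • a
  · obtain ⟨q, -, hqc, hq⟩ := ro_cent_Q_trans hS hX hea hXe
    obtain ⟨g, hgc, hg⟩ := key e heta hXe
    refine ⟨g * q, mul_mem hgc hqc, ?_⟩
    rw [hb, mul_smul, hq, hg]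
  · exact key b hb hXb

/-- `C(X)` is doubly transitive on the fixed points of `X`. -/
theorem ro_cent_two_trans (hS : Cfsg.IsRankOneSetup G Ω a t Q) {X : Set G}
    (hX : X ⊆ ((stabilizer G a ⊓ stabilizer G (t • a) : Subgroup G) : Set G))
    {e : Ω} (hea : e ≠ a) (heta : e ≠ t • a) (hXe : ∀ x ∈ X, x • e = e)
    {b₁ b₂ c₁ c₂ : Ω} (hb₁ : ∀ x ∈ X, x • b₁ = b₁) (hb₂ : ∀ x ∈ X, x • b₂ = b₂)
    (hc₁ : ∀ x ∈ X, x • c₁ = c₁) (hc₂ : ∀ x ∈ X, x • c₂ = c₂) (hb : b₁ ≠ b₂) (hc : c₁ ≠ c₂) :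
    ∃ g ∈ Subgroup.centralizer X, g • b₁ = c₁ ∧ g • b₂ = c₂ := by
  have key : ∀ {b₁ b₂ : Ω}, (∀ x ∈ X, x • b₁ = b₁) → (∀ x ∈ X, x • b₂ = b₂) → b₁ ≠ b₂ →
      ∃ g ∈ Subgroup.centralizer X, g • b₁ = a ∧ g • b₂ = t • a := by
    intro b₁ b₂ hb₁ hb₂ hb
    obtain ⟨g₁, hg₁c, hg₁⟩ := ro_cent_move_to_a hS hX hea heta hXe hb₁
    have h2 : g₁ • b₂ ≠ a := by
      intro h
      apply hb
      rw [← hg₁] at h
      exact (smul_left_cancel g₁ h).symm
    obtain ⟨q, hq, hqc, hqb⟩ := ro_cent_Q_trans hS hX h2 (cent_smul_fixed hg₁c hb₂)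
    refine ⟨q⁻¹ * g₁, mul_mem (inv_mem hqc) hg₁c, ?_, ?_⟩
    · rw [mul_smul, hg₁, inv_smul_eq_iff, ro_Q_fix hS hq]
    · rw [mul_smul, inv_smul_eq_iff, hqb]
  obtain ⟨g, hgc, hg1, hg2⟩ := key hb₁ hb₂ hb
  obtain ⟨g', hgc', hg1', hg2'⟩ := key hc₁ hc₂ hc
  refine ⟨g'⁻¹ * g, mul_mem (inv_mem hgc') hgc, ?_, ?_⟩
  · rw [mul_smul, hg1, inv_smul_eq_iff, hg1']
  · rw [mul_smul, hg2, inv_smul_eq_iff, hg2']

/-- `C_{G_a}(X) = C_Q(X) C_D(X)` for `X ⊆ D`. -/
theorem ro_cent_decomp (hS : Cfsg.IsRankOneSetup G Ω a t Q) {X : Set G}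
    (hX : X ⊆ ((stabilizer G a ⊓ stabilizer G (t • a) : Subgroup G) : Set G)) :
    (Subgroup.centralizer X ⊓ Q) ⊔
      (Subgroup.centralizer X ⊓ (stabilizer G a ⊓ stabilizer G (t • a))) =
      Subgroup.centralizer X ⊓ stabilizer G a := by
  apply le_antisymm
  · apply sup_le
    · exact inf_le_inf_left _ hS.le
    · exact inf_le_inf_left _ inf_le_left
  · rintro g ⟨hgc, hga⟩
    obtain ⟨q, hq, d, hd, rfl⟩ := ro_decomp hS hga
    have hcomm : ∀ x ∈ X, x * q = q * x ∧ x * d = d * x := by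
      intro x hx
      have hxD := hX hx
      have h1 : x * (q * d) = q * d * x := (Subgroup.mem_centralizer_iff.mp hgc) x hx
      have h2 : (x * q * x⁻¹) * (x * d * x⁻¹) * t * 1 = q * d * t * 1 := by
        have : (x * q * x⁻¹) * (x * d * x⁻¹) = x * (q * d) * x⁻¹ := by group
        rw [this, h1]; group
      obtain ⟨e1, e2, -⟩ := ro_canon_unique hS (hS.conj_mem x hxD.1 q hq)
        (mul_mem (mul_mem hxD hd) (inv_mem hxD)) Q.one_mem hq hd Q.one_mem h2
      constructor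
      · calc x * q = x * q * x⁻¹ * x := by group
          _ = q * x := by rw [e1]
      · calc x * d = x * d * x⁻¹ * x := by group
          _ = d * x := by rw [e2]
    apply Subgroup.mul_mem_sup
    · exact Subgroup.mem_inf.mpr ⟨Subgroup.mem_centralizer_iff.mpr fun x hx => (hcomm x hx).1, hq⟩
    · exact Subgroup.mem_inf.mpr ⟨Subgroup.mem_centralizer_iff.mpr fun x hx => (hcomm x hx).2, hd⟩

end RankOne3

section RankOne3Finite

variable {G Ω : Type*} [Group G] [Finite G] [MulAction G Ω] {a : Ω} {t : G} {Q : Subgroup G}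

omit [Finite G] in
/-- elements of `G_a` of order dividing two lie in `Q`. -/
theorem ro_invol_mem_Q (hS : Cfsg.IsRankOneSetup G Ω a t Q) {s : G} (hsa : s ∈ stabilizer G a)
    (hs2 : s * s = 1) : s ∈ Q := by
  obtain ⟨q, hq, d, hd, rfl⟩ := ro_decomp hS hsa
  have h1 : d * d = (q * (d * q * d⁻¹))⁻¹ := by
    have : q * d * (q * d) = (q * (d * q * d⁻¹)) * (d * d) := by group
    rw [this] at hs2
    exact eq_inv_of_mul_eq_one_right hs2
  have h2 : d * d ∈ Q ⊓ (stabilizer G a ⊓ stabilizer G (t • a)) := by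
    refine ⟨?_, mul_mem hd hd⟩
    rw [h1]
    exact Q.inv_mem (Q.mul_mem hq (hS.conj_mem d hd.1 q hq))
  rw [ro_QD_bot hS, Subgroup.mem_bot] at h2
  -- `d` has odd order and `d ^ 2 = 1`
  have h3 : orderOf d ∣ 2 := orderOf_dvd_of_pow_eq_one (by rw [pow_two]; exact h2)
  have h4 : orderOf d ∣ Nat.card ↥(stabilizer G a ⊓ stabilizer G (t • a)) := by
    have := orderOf_dvd_natCard (⟨d, hd⟩ : ↥(stabilizer G a ⊓ stabilizer G (t • a)))
    rwa [Subgroup.orderOf_mk] at this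
  have h5 : Odd (orderOf d) := hS.odd_card.of_dvd_nat h4
  have h6 : orderOf d = 1 := by
    rcases (Nat.dvd_prime Nat.prime_two).mp h3 with h | h
    · exact h
    · rw [h] at h5; exact absurd h5 (by decide)
  rw [orderOf_eq_one_iff] at h6
  rw [h6, mul_one]
  exact hq

omit [Finite G] in
/-- for `X ⊆ D` fixing a third point, `C(X)` contains an involution swapping `a`, `t • a`. -/
theorem ro_cent_swap_invol (hS : Cfsg.IsRankOneSetup G Ω a t Q) {X : Set G}
    (hX : X ⊆ ((stabilizer G a ⊓ stabilizer G (t • a) : Subgroup G) : Set G))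
    {e : Ω} (hea : e ≠ a) (heta : e ≠ t • a) (hXe : ∀ x ∈ X, x • e = e) :
    ∃ z ∈ Subgroup.centralizer X, z * z = 1 ∧ z • a = t • a := by
  have hta := ro_ta_ne hS
  have hXa : ∀ x ∈ X, x • a = a := fun x hx => mem_stabilizer_iff.mp (hX hx).1
  have hXta : ∀ x ∈ X, x • t • a = t • a := fun x hx => mem_stabilizer_iff.mp (hX hx).2
  obtain ⟨g, hgc, hg1, hg2⟩ := ro_cent_two_trans hS hX hea heta hXe hXa hXta hXta hXa hta.symm hta
  have hodd := hS.odd_card
  obtain ⟨δ, hδ⟩ : ∃ δ, δ = Nat.card ↥(stabilizer G a ⊓ stabilizer G (t • a)) := ⟨_, rfl⟩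
  rw [← hδ] at hodd
  have hg2D : g * g ∈ stabilizer G a ⊓ stabilizer G (t • a) := by
    refine Subgroup.mem_inf.mpr ⟨?_, ?_⟩
    · rw [mem_stabilizer_iff, mul_smul, hg1, hg2]
    · rw [mem_stabilizer_iff, mul_smul, hg2, hg1]
  have hpow : (g * g) ^ δ = 1 := by
    have h1 : (⟨g * g, hg2D⟩ : ↥(stabilizer G a ⊓ stabilizer G (t • a))) ^ δ = 1 := by
      rw [hδ]; exact pow_card_eq_one'
    have := congrArg Subtype.val h1
    rwa [Subgroup.coe_pow] at this
  have hz2 : g ^ δ * g ^ δ = 1 := by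
    rw [← pow_add, ← two_mul, pow_mul, pow_two]; exact hpow
  have hswap : ∀ n : ℕ, g ^ (2 * n + 1) • a = t • a := by
    intro n
    induction n with
    | zero => simpa using hg1
    | succ n ih =>
      rw [show 2 * (n + 1) + 1 = 2 + (2 * n + 1) by ring, pow_add, mul_smul, ih, pow_two,
        mul_smul, hg2, hg1]
  obtain ⟨m, hm⟩ := hodd
  have hza : g ^ δ • a = t • a := by rw [hm]; exact hswap m
  exact ⟨g ^ δ, pow_mem hgc _, hz2, hza⟩

/-- for `X ⊆ D` fixing a third point, `C_Q(X)` has even order. -/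
theorem ro_cent_Q_even (hS : Cfsg.IsRankOneSetup G Ω a t Q) {X : Set G}
    (hX : X ⊆ ((stabilizer G a ⊓ stabilizer G (t • a) : Subgroup G) : Set G))
    {e : Ω} (hea : e ≠ a) (heta : e ≠ t • a) (hXe : ∀ x ∈ X, x • e = e) :
    ∃ z ∈ Subgroup.centralizer X ⊓ Q, z ≠ 1 ∧ z * z = 1 := by
  have hta := ro_ta_ne hS
  obtain ⟨z, hzc, hz2, hza⟩ := ro_cent_swap_invol hS hX hea heta hXe
  have hz1 : z ≠ 1 := by
    intro h
    rw [h, one_smul] at hza
    exact hta hza.symm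
  obtain ⟨c, hc, -⟩ := ro_invol_fix hS hz1 hz2
  have hXc : ∀ x ∈ X, x • c = c := by
    intro x hx
    have hcomm : z * x = x * z := ((Subgroup.mem_centralizer_iff.mp hzc) x hx).symm
    exact ro_comm_fix hS hz1 hz2 hcomm hc
  obtain ⟨n, hnc, hn⟩ := ro_cent_move_to_a hS hX hea heta hXe hXc
  refine ⟨n * z * n⁻¹, Subgroup.mem_inf.mpr ⟨mul_mem (mul_mem hnc hzc) (inv_mem hnc), ?_⟩,
    invol_conj_ne_one hz1 n, invol_conj_sq hz2 n⟩
  apply ro_invol_mem_Q hS _ (invol_conj_sq hz2 n)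
  rw [mem_stabilizer_iff, mul_smul, mul_smul, ← hn, inv_smul_smul, hc]

omit [Finite G] in
/-- among three distinct points one is neither `a` nor `t • a`. -/
theorem ro_third_point {X : Set G}
    (h3 : ∃ b c d : Ω, b ≠ c ∧ b ≠ d ∧ c ≠ d ∧ ∀ x ∈ X, x • b = b ∧ x • c = c ∧ x • d = d) :
    ∃ e : Ω, e ≠ a ∧ e ≠ t • a ∧ ∀ x ∈ X, x • e = e := by
  obtain ⟨b, c, d, hbc, hbd, hcd, hfix⟩ := h3
  by_cases hb : b ≠ a ∧ b ≠ t • a
  · exact ⟨b, hb.1, hb.2, fun x hx => (hfix x hx).1⟩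
  by_cases hc : c ≠ a ∧ c ≠ t • a
  · exact ⟨c, hc.1, hc.2, fun x hx => (hfix x hx).2.1⟩
  refine ⟨d, ?_, ?_, fun x hx => (hfix x hx).2.2⟩
  · intro hd
    have hb' : b = t • a := by
      by_contra h
      exact hb ⟨fun h' => hbd (h'.trans hd.symm), h⟩
    have hc' : c = t • a := by
      by_contra h
      exact hc ⟨fun h' => hcd (h'.trans hd.symm), h⟩
    exact hbc (hb'.trans hc'.symm)
  · intro hd
    have hb' : b = a := by
      by_contra h
      exact hb ⟨h, fun h' => hbd (h'.trans hd.symm)⟩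
    have hc' : c = a := by
      by_contra h
      exact hc ⟨h, fun h' => hcd (h'.trans hd.symm)⟩
    exact hbc (hb'.trans hc'.symm)

omit [Finite G] in
/-- `X ⊆ D` fixing a third point is conjugate under `D` into `C_D(t)`. -/
theorem ro_conj_into_cent_t (hS : Cfsg.IsRankOneSetup G Ω a t Q) {X : Set G}
    (hX : X ⊆ ((stabilizer G a ⊓ stabilizer G (t • a) : Subgroup G) : Set G))
    {e : Ω} (hea : e ≠ a) (heta : e ≠ t • a) (hXe : ∀ x ∈ X, x • e = e) :
    ∃ k ∈ stabilizer G a ⊓ stabilizer G (t • a), ∀ x ∈ X,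
      (k * x * k⁻¹) * t = t * (k * x * k⁻¹) := by
  have ht : t⁻¹ = t := ro_t_inv hS
  have htt : ∀ z : G, t * (t * z) = z := ro_tt_mul hS
  obtain ⟨z, hzc, hz2, hza⟩ := ro_cent_swap_invol hS hX hea heta hXe
  have hk' := ro_swap_inverted hS hz2 hza
  obtain ⟨m, hm⟩ := hS.odd_card
  obtain ⟨d, hd⟩ : ∃ d, d = (t * z) ^ (m + 1) := ⟨_, rfl⟩
  have hdD : d ∈ stabilizer G a ⊓ stabilizer G (t • a) := by rw [hd]; exact pow_mem hk'.1 _
  have hdd : d * d = t * z := by rw [hd]; exact sq_mul_self hm hk'.1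
  have hdinv : t * d * t⁻¹ = d⁻¹ := by rw [hd]; exact inverted_pow hk'.2 _
  have hz : z = d⁻¹ * t * d := by
    have e1 : d⁻¹ * t * d = t * (t * d⁻¹ * t) * d := by simp only [mul_assoc, htt]
    have e2 : t * d⁻¹ * t = d := by
      have : t * d⁻¹ * t = (t * d * t⁻¹)⁻¹ := by rw [ht]; simp only [mul_inv_rev, ht, mul_assoc]
      rw [this, hdinv, inv_inv]
    rw [e1, e2, mul_assoc, hdd, htt]
  refine ⟨d, hdD, fun x hx => ?_⟩
  have hcomm : x * z = z * x := (Subgroup.mem_centralizer_iff.mp hzc) x hx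
  have e3 : d * x * d⁻¹ * t = d * (x * (d⁻¹ * t * d)) * d⁻¹ := by group
  have e4 : t * (d * x * d⁻¹) = d * ((d⁻¹ * t * d) * x) * d⁻¹ := by group
  rw [e3, e4, ← hz, hcomm]

end RankOne3Finite

end Cfsg.Agent.Helper17
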