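import Mathlib
import Cfsg.Prelude.Def_LieRecognition
import Cfsg.Agent.Helper17.RankOne3

set_option autoImplicit false
set_option linter.unusedSimpArgs false

namespace Cfsg.Agent.Helper17

open MulAction

section Dihedral3

variable {G : Type*} [Group G]

/-- an element of odd order inverting `k` forces `k = k⁻¹`. -/
theorem inverting_odd {r k : G} (h : r * k * r⁻¹ = k⁻¹) (hodd : Odd (orderOf r)) : k = k⁻¹ := by
  have key : ∀ j : ℕ, r ^ (2 * j + 1) * k * (r ^ (2 * j + 1))⁻¹ = k⁻¹ := by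
    intro j
    induction j with
    | zero => simpa using h
    | succ j ih =>
      have e : r ^ (2 * (j + 1) + 1) * k * (r ^ (2 * (j + 1) + 1))⁻¹ =
          r * (r * (r ^ (2 * j + 1) * k * (r ^ (2 * j + 1))⁻¹) * r⁻¹) * r⁻¹ := by
        rw [show 2 * (j + 1) + 1 = 1 + (1 + (2 * j + 1)) by ring, pow_add, pow_add, pow_one]
        group
      rw [e, ih]
      have e2 : r * k⁻¹ * r⁻¹ = (r * k * r⁻¹)⁻¹ := by group
      rw [e2, h, inv_inv, h]
  obtain ⟨j, hj⟩ := hodd
  have := key j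
  rw [← hj, pow_orderOf_eq_one] at this
  simpa using this

end Dihedral3

section RankOne4

variable {G Ω : Type*} [Group G] [Finite G] [MulAction G Ω] {a : Ω} {t : G} {Q : Subgroup G}

omit [Finite G] in
/-- `D` has no involutions. -/
theorem ro_D_sq_eq_one (hS : Cfsg.IsRankOneSetup G Ω a t Q) {d : G}
    (hd : d ∈ stabilizer G a ⊓ stabilizer G (t • a)) (h2 : d * d = 1) : d = 1 := by
  have h3 : orderOf d ∣ 2 := orderOf_dvd_of_pow_eq_one (by rw [pow_two]; exact h2)
  have h4 : orderOf d ∣ Nat.card ↥(stabilizer G a ⊓ stabilizer G (t • a)) := by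
    have := orderOf_dvd_natCard (⟨d, hd⟩ : ↥(stabilizer G a ⊓ stabilizer G (t • a)))
    rwa [Subgroup.orderOf_mk] at this
  have h5 : Odd (orderOf d) := hS.odd_card.of_dvd_nat h4
  have h6 : orderOf d = 1 := by
    rcases (Nat.dvd_prime Nat.prime_two).mp h3 with h | h
    · exact h
    · rw [h] at h5; exact absurd h5 (by decide)
  exact orderOf_eq_one_iff.mp h6

/-- non-identity elements of `K` act fixed-point-freely on `Q`. -/
theorem ro_inverted_fpf (hS : Cfsg.IsRankOneSetup G Ω a t Q) {k : G}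
    (hk : k ∈ Cfsg.invertedBy (stabilizer G a ⊓ stabilizer G (t • a)) t) (hk1 : k ≠ 1) :
    Q ⊓ Subgroup.centralizer {k} = ⊥ := by
  rw [eq_bot_iff]
  rintro q ⟨hq, hqc⟩
  rw [Subgroup.mem_bot]
  by_contra hq1
  have hcomm : k * q = q * k := (Subgroup.mem_centralizer_iff.mp hqc) k rfl
  have hta := ro_ta_ne hS
  have hX : ({k} : Set G) ⊆ ((stabilizer G a ⊓ stabilizer G (t • a) : Subgroup G) : Set G) := by
    intro x hx
    rw [Set.mem_singleton_iff] at hx
    rw [hx]; exact hk.1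
  have hea : q • t • a ≠ a := by
    intro h
    have : t • a = q⁻¹ • a := by rw [eq_inv_smul_iff]; exact h
    rw [ro_Q_fix hS (Q.inv_mem hq)] at this
    exact hta this
  have heta : q • t • a ≠ t • a := fun h => hq1 (ro_semireg hS hq hta h)
  have hXe : ∀ x ∈ ({k} : Set G), x • q • t • a = q • t • a := by
    intro x hx
    rw [Set.mem_singleton_iff] at hx
    rw [hx, ← mul_smul, hcomm, mul_smul, mem_stabilizer_iff.mp hk.1.2]
  obtain ⟨z, hz, hz1, hz2⟩ := ro_cent_Q_even hS hX hea heta hXe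
  have hzk : k * z = z * k := (Subgroup.mem_centralizer_iff.mp hz.1) k rfl
  have hodd := ro_odd_mul hS (hS.le hz.2) hz1 hz2 hS.not_mem hS.ne_one hS.mul_self
  have hinv : (z * t) * k * (z * t)⁻¹ = k⁻¹ := by
    have e : (z * t) * k * (z * t)⁻¹ = z * (t * k * t⁻¹) * z⁻¹ := by group
    rw [e, hk.2]
    have e2 : z * k⁻¹ * z⁻¹ = (z * k * z⁻¹)⁻¹ := by group
    rw [e2, ← hzk]; group
  have h1 := inverting_odd hinv hodd
  have h2 : k * k = 1 := by
    nth_rewrite 1 [h1]
    exact inv_mul_cancel k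
  exact hk1 (ro_D_sq_eq_one hS hk.1 h2)

end RankOne4

end Cfsg.Agent.Helper17
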