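import Mathlib
import Cfsg.Prelude.Def_LieRecognition
import Cfsg.Agent.Helper17.RankOne4
import Cfsg.Agent.S1123

set_option autoImplicit false
set_option linter.unusedSimpArgs false

namespace Cfsg.Agent.Helper17

open MulAction

/-- orbit-stabilizer for a subgroup acting by conjugation. -/
theorem card_conj_orbit {G : Type*} [Group G] (D : Subgroup G) (s : G) :
    Nat.card {u : G | ∃ d ∈ D, d * s * d⁻¹ = u} * Nat.card ↥(D ⊓ Subgroup.centralizer {s}) =
      Nat.card D := by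
  let act : MulAction G G := MulAction.compHom G (MulAut.conj : G →* MulAut G)
  have h := @card_orbitSet_mul_card_inf_stabilizer G G _ act D s
  have e2 : @MulAction.stabilizer G G _ act s = Subgroup.centralizer {s} := by
    ext g
    rw [@MulAction.mem_stabilizer_iff G G _ act, Subgroup.mem_centralizer_iff]
    show g * s * g⁻¹ = s ↔ _
    constructor
    · intro h1 x hx
      rw [Set.mem_singleton_iff] at hx
      rw [hx]
      calc s * g = (g * s * g⁻¹) * g := by rw [h1]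
        _ = g * s := by group
    · intro h1
      have := h1 s rfl
      rw [mul_inv_eq_iff_eq_mul, this]
  rw [e2] at h
  exact h

section RankOne5

variable {G Ω : Type*} [Group G] [Finite G] [MulAction G Ω] {a : Ω} {t : G} {Q : Subgroup G}

omit [Finite G] in
theorem ro_invol_conj_mem (_hS : Cfsg.IsRankOneSetup G Ω a t Q) {s d : G}
    (hs : s ∈ Cfsg.involutionsIn (stabilizer G a : Set G)) (hd : d ∈ stabilizer G a) :
    d * s * d⁻¹ ∈ Cfsg.involutionsIn (stabilizer G a : Set G) :=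
  ⟨mul_mem (mul_mem hd hs.1) (inv_mem hd), invol_conj_ne_one hs.2.1 d, invol_conj_sq hs.2.2 d⟩

/-- `k ↦ k⁻¹ s k` is injective on `K`. -/
theorem ro_inverted_inj (hS : Cfsg.IsRankOneSetup G Ω a t Q) {s : G}
    (hs : s ∈ Cfsg.involutionsIn (stabilizer G a : Set G)) {k₁ k₂ : G}
    (hk₁ : k₁ ∈ Cfsg.invertedBy (stabilizer G a ⊓ stabilizer G (t • a)) t)
    (hk₂ : k₂ ∈ Cfsg.invertedBy (stabilizer G a ⊓ stabilizer G (t • a)) t)
    (h : k₁⁻¹ * s * k₁ = k₂⁻¹ * s * k₂) : k₁ = k₂ := by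
  let f : Cfsg.invertedBy (stabilizer G a ⊓ stabilizer G (t • a)) t →
      Cfsg.involutionsIn (stabilizer G a : Set G) := fun k =>
    ⟨k.1⁻¹ * s * k.1, by
      have := ro_invol_conj_mem hS hs (inv_mem k.2.1.1)
      rwa [inv_inv] at this⟩
  have hsurj : Function.Surjective f := by
    rintro ⟨s', hs'⟩
    obtain ⟨k, hk, hks⟩ := ro_inverted_trans hS hs hs'
    exact ⟨⟨k, hk⟩, Subtype.ext hks⟩
  have hbij := (Nat.bijective_iff_surjective_and_card f).mpr ⟨hsurj, ro_card_inverted hS⟩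
  have := hbij.injective (a₁ := ⟨k₁, hk₁⟩) (a₂ := ⟨k₂, hk₂⟩) (Subtype.ext h)
  exact congrArg Subtype.val this

/-- all involutions of `G_a` have centralizers in `D` of the same order as `C_D(t)`. -/
theorem ro_card_cent_invol (hS : Cfsg.IsRankOneSetup G Ω a t Q) {s : G}
    (hs : s ∈ Cfsg.involutionsIn (stabilizer G a : Set G)) :
    Nat.card ↥((stabilizer G a ⊓ stabilizer G (t • a)) ⊓ Subgroup.centralizer {s}) =
      Nat.card ↥((stabilizer G a ⊓ stabilizer G (t • a)) ⊓ Subgroup.centralizer {t}) := by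
  have ht : t⁻¹ = t := ro_t_inv hS
  have h1 := card_conj_orbit (stabilizer G a ⊓ stabilizer G (t • a)) s
  have horb : {u : G | ∃ d ∈ stabilizer G a ⊓ stabilizer G (t • a), d * s * d⁻¹ = u} =
      Cfsg.involutionsIn (stabilizer G a : Set G) := by
    ext u
    constructor
    · rintro ⟨d, hd, rfl⟩
      exact ro_invol_conj_mem hS hs hd.1
    · intro hu
      obtain ⟨k, hk, hks⟩ := ro_inverted_trans hS hs hu
      refine ⟨k⁻¹, inv_mem hk.1, ?_⟩
      rw [inv_inv]; exact hks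
  rw [horb] at h1
  have hord : orderOf t = 2 := by
    apply orderOf_eq_prime
    · rw [pow_two]; exact hS.mul_self
    · exact hS.ne_one
  have h2 := inverted_card hS.mul_self (stabilizer G a ⊓ stabilizer G (t • a)) hS.odd_card
    (fun x hx => by rw [ht]; exact ro_t_conj_D hS hx)
  rw [ro_card_inverted hS] at h2
  have hpos : 0 < Nat.card (Cfsg.involutionsIn (stabilizer G a : Set G)) := by
    have : Nonempty (Cfsg.involutionsIn (stabilizer G a : Set G)) := ⟨⟨s, hs⟩⟩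
    exact Nat.card_pos
  rw [h2, mul_comm] at h1
  exact Nat.eq_of_mul_eq_mul_right hpos h1

/-- `C_D(t) = C_D(s)` for the distinguished involution `s`. -/
theorem ro_cent_t_eq_cent_s (hS : Cfsg.IsRankOneSetup G Ω a t Q) {s r : G}
    (hs : s ∈ Cfsg.involutionsIn (stabilizer G a : Set G)) (hr : r ∈ Q)
    (he : t * s * t = r⁻¹ * t * r) :
    (stabilizer G a ⊓ stabilizer G (t • a)) ⊓ Subgroup.centralizer {t} =
      (stabilizer G a ⊓ stabilizer G (t • a)) ⊓ Subgroup.centralizer {s} := by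
  have hle : (stabilizer G a ⊓ stabilizer G (t • a)) ⊓ Subgroup.centralizer {t} ≤
      (stabilizer G a ⊓ stabilizer G (t • a)) ⊓ Subgroup.centralizer {s} := by
    rintro d ⟨hdD, hdt⟩
    refine Subgroup.mem_inf.mpr ⟨hdD, ?_⟩
    have hdt' : t * d = d * t := (Subgroup.mem_centralizer_iff.mp hdt) t rfl
    have hdt'' : t * d⁻¹ = d⁻¹ * t := by
      calc t * d⁻¹ = d⁻¹ * (d * t) * d⁻¹ := by group
        _ = d⁻¹ * t := by rw [← hdt']; group
    have h1 : t * (d * s * d⁻¹) * t = (d * r * d⁻¹)⁻¹ * t * (d * r * d⁻¹) := by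
      have e1 : t * (d * s * d⁻¹) * t = (t * d) * s * (d⁻¹ * t) := by group
      rw [e1, hdt', ← hdt'']
      have e2 : d * t * s * (t * d⁻¹) = d * (t * s * t) * d⁻¹ := by group
      rw [e2, he]
      have e3 : (d * r * d⁻¹)⁻¹ * t * (d * r * d⁻¹) = d * r⁻¹ * (d⁻¹ * t) * d * r * d⁻¹ := by group
      rw [e3, ← hdt'']; group
    have huniq := (Cfsg.Agent.S1123.result hS).unique
      (y₁ := (d * s * d⁻¹, d * r * d⁻¹)) (y₂ := (s, r))
      ⟨ro_invol_conj_mem hS hs hdD.1, hS.conj_mem d hdD.1 r hr, h1⟩ ⟨hs, hr, he⟩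
    have h2 : d * s * d⁻¹ = s := congrArg Prod.fst huniq
    rw [Subgroup.mem_centralizer_iff]
    intro x hx
    rw [Set.mem_singleton_iff] at hx
    rw [hx]
    calc s * d = (d * s * d⁻¹) * d := by rw [h2]
      _ = d * s := by group
  exact Subgroup.eq_of_le_of_card_ge hle (ro_card_cent_invol hS hs).le

/-- `C_D(t) ⊓ C_D(K) = C_D(I)`. -/
theorem ro_cent_t_K_eq_cent_I (hS : Cfsg.IsRankOneSetup G Ω a t Q) :
    (stabilizer G a ⊓ stabilizer G (t • a)) ⊓ Subgroup.centralizer {t} ⊓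
      Subgroup.centralizer (Cfsg.invertedBy (stabilizer G a ⊓ stabilizer G (t • a)) t) =
    (stabilizer G a ⊓ stabilizer G (t • a)) ⊓
      Subgroup.centralizer (Cfsg.involutionsIn (stabilizer G a : Set G)) := by
  obtain ⟨⟨s₀, r₀⟩, ⟨hs₀, hr₀, he₀⟩, -⟩ := Cfsg.Agent.S1123.result hS
  have hts := ro_cent_t_eq_cent_s hS hs₀ hr₀ he₀
  ext d
  constructor
  · rintro ⟨hdt, hdK⟩
    have hdD : d ∈ stabilizer G a ⊓ stabilizer G (t • a) := hdt.1
    refine Subgroup.mem_inf.mpr ⟨hdD, ?_⟩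
    have hds : d ∈ (stabilizer G a ⊓ stabilizer G (t • a)) ⊓ Subgroup.centralizer {s₀} := by
      rw [← hts]; exact hdt
    have hds' : s₀ * d = d * s₀ := (Subgroup.mem_centralizer_iff.mp hds.2) s₀ rfl
    rw [Subgroup.mem_centralizer_iff]
    intro s' hs'
    obtain ⟨k, hk, rfl⟩ := ro_inverted_trans hS hs₀ hs'
    have hdk : k * d = d * k := (Subgroup.mem_centralizer_iff.mp hdK) k hk
    have hdk' : k⁻¹ * d = d * k⁻¹ := by
      calc k⁻¹ * d = k⁻¹ * (d * k) * k⁻¹ := by group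
        _ = d * k⁻¹ := by rw [← hdk]; group
    calc k⁻¹ * s₀ * k * d = k⁻¹ * s₀ * (k * d) := by group
      _ = k⁻¹ * (s₀ * d) * k := by rw [hdk]; group
      _ = (k⁻¹ * d) * s₀ * k := by rw [hds']; group
      _ = d * (k⁻¹ * s₀ * k) := by rw [hdk']; group
  · rintro ⟨hdD, hdI⟩
    have hds' : s₀ * d = d * s₀ := (Subgroup.mem_centralizer_iff.mp hdI) s₀ hs₀
    have hdt : d ∈ (stabilizer G a ⊓ stabilizer G (t • a)) ⊓ Subgroup.centralizer {t} := by
      rw [hts]
      refine Subgroup.mem_inf.mpr ⟨hdD, ?_⟩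
      rw [Subgroup.mem_centralizer_iff]
      intro x hx
      rw [Set.mem_singleton_iff] at hx
      rw [hx]; exact hds'
    refine Subgroup.mem_inf.mpr ⟨hdt, ?_⟩
    have hdt' : t * d = d * t := (Subgroup.mem_centralizer_iff.mp hdt.2) t rfl
    rw [Subgroup.mem_centralizer_iff]
    intro k hk
    -- `d k d⁻¹ ∈ K`
    have hk' : d * k * d⁻¹ ∈ Cfsg.invertedBy (stabilizer G a ⊓ stabilizer G (t • a)) t := by
      refine ⟨mul_mem (mul_mem hdD hk.1) (inv_mem hdD), ?_⟩
      have e1 : t * (d * k * d⁻¹) * t⁻¹ = (t * d) * k * (t * d)⁻¹ := by group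
      have e2 : (d * k * d⁻¹)⁻¹ = d * k⁻¹ * d⁻¹ := by group
      rw [e1, e2, hdt', ← hk.2]; group
    have hsk : k⁻¹ * s₀ * k ∈ Cfsg.involutionsIn (stabilizer G a : Set G) := by
      have := ro_invol_conj_mem hS hs₀ (inv_mem hk.1.1)
      rwa [inv_inv] at this
    have hdsk : (k⁻¹ * s₀ * k) * d = d * (k⁻¹ * s₀ * k) :=
      (Subgroup.mem_centralizer_iff.mp hdI) _ hsk
    have e : (d * k * d⁻¹)⁻¹ * s₀ * (d * k * d⁻¹) = k⁻¹ * s₀ * k := by
      have e1 : (d * k * d⁻¹)⁻¹ * s₀ * (d * k * d⁻¹) = d * k⁻¹ * d⁻¹ * (s₀ * d) * k * d⁻¹ := by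
        group
      rw [e1, hds']
      have e2 : d * k⁻¹ * d⁻¹ * (d * s₀) * k * d⁻¹ = d * (k⁻¹ * s₀ * k) * d⁻¹ := by group
      rw [e2, ← hdsk]; group
    have := ro_inverted_inj hS hs₀ hk' hk e
    calc k * d = (d * k * d⁻¹) * d := by rw [this]
      _ = d * k := by group

end RankOne5

end Cfsg.Agent.Helper17
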