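import Mathlib
import Cfsg.Prelude.Def_GeometricClasses

/-! S5683 piece MAXMAP (driver helper12): maximality is transported by automorphisms. -/

set_option autoImplicit false
set_option linter.unusedSectionVars false
set_option linter.unusedVariables false

namespace Cfsg.Agent.S5683P

/-- MAXMAP: maximality is transported by automorphisms. -/
theorem MAXMAP.isMaximalIn_map {G : Type*} [Group G] (φ : G ≃* G) (K H : Subgroup G)
    (h : Cfsg.Geo.IsMaximalIn K H) :
    Cfsg.Geo.IsMaximalIn (K.map φ.toMonoidHom) (H.map φ.toMonoidHom) := by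
  have hinj : Function.Injective φ.toMonoidHom := φ.injective
  have hsurj : Function.Surjective φ.toMonoidHom := φ.surjective
  obtain ⟨hlt, hmax⟩ := h
  refine ⟨lt_of_le_of_ne (Subgroup.map_mono hlt.le) ?_, ?_⟩
  · intro heq
    have h1 := congrArg (Subgroup.comap φ.toMonoidHom) heq
    rw [Subgroup.comap_map_eq_self_of_injective hinj, Subgroup.comap_map_eq_self_of_injective hinj] at h1
    exact hlt.ne h1
  · intro M hHM hMK
    have h1 : H ≤ M.comap φ.toMonoidHom := Subgroup.map_le_iff_le_comap.1 hHM
    have h2 : M.comap φ.toMonoidHom ≤ K := by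
      intro x hx
      obtain ⟨k, hk, hkx⟩ := hMK (Subgroup.mem_comap.1 hx)
      rw [← hinj hkx]
      exact hk
    have h3 : M = (M.comap φ.toMonoidHom).map φ.toMonoidHom :=
      (Subgroup.map_comap_eq_self_of_surjective hsurj M).symm
    rcases hmax _ h1 h2 with h4 | h4
    · left; rw [h3, h4]
    · right; rw [h3, h4]

end Cfsg.Agent.S5683P
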