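import Cfsg.Agent.Helper12.S5683Lib

/-! S5683 piece MEMSUBF (driver helper12): membership in the standard subfield group `subfieldSubgroup F₀ 1`
(generic index type; copy of helper26's `Cfsg.Agent.S5650P.MEMSUBF`). -/

set_option autoImplicit false
set_option linter.unusedSectionVars false
set_option linter.unusedVariables false

namespace Cfsg.Agent.S5683P

open Matrix

variable {F : Type*} [Field F] {m : ℕ}

namespace MEMSUBF

open Cfsg.Geo

theorem mem_subf_of {ι : Type} [Fintype ι] [DecidableEq ι] (F₀ : Subfield F)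
    (g : Matrix.GeneralLinearGroup ι F)
    (A₀ : Matrix ι ι F₀) (μ : F) (hμ : μ ≠ 0)
    (hg : (g : Matrix ι ι F) = μ • A₀.map F₀.subtype) :
    g ∈ subfieldSubgroup F₀ (1 : Matrix.GeneralLinearGroup ι F) := by
  have hdet := congrArg Matrix.det hg
  rw [Matrix.det_smul, ← RingHom.mapMatrix_apply, ← RingHom.map_det] at hdet
  have hgd : (g : Matrix ι ι F).det ≠ 0 := by
    have := g.isUnit.map (Matrix.detMonoidHom (n := ι) (R := F))
    exact this.ne_zero
  have hd0 : A₀.det ≠ 0 := by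
    intro h0
    rw [h0, map_zero, mul_zero] at hdet
    exact hgd hdet
  set g₀ : GL ι F₀ := Matrix.GeneralLinearGroup.mkOfDetNeZero A₀ hd0 with hg₀
  set x : Matrix.GeneralLinearGroup ι F := Matrix.GeneralLinearGroup.map F₀.subtype g₀ *
    Units.map (Matrix.scalar ι : F →+* Matrix ι ι F).toMonoidHom (Units.mk0 μ hμ)
    with hx
  have hxm : x ∈ (Matrix.GeneralLinearGroup.map (F₀.subtype : F₀ →+* F)).range ⊔
      scalars ι F :=
    Subgroup.mul_mem_sup ⟨g₀, rfl⟩ ⟨Units.mk0 μ hμ, rfl⟩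
  refine ⟨x, hxm, ?_⟩
  show (1 : Matrix.GeneralLinearGroup ι F) * x * (1 : Matrix.GeneralLinearGroup ι F)⁻¹ = g
  rw [one_mul, inv_one, mul_one]
  apply Units.ext
  rw [hg, hx, Units.val_mul]
  show (A₀.map F₀.subtype * Matrix.scalar ι μ) = _
  rw [Matrix.scalar_apply, ← Matrix.smul_one_eq_diagonal, Matrix.mul_smul, Matrix.mul_one]

theorem exists_of_mem_subf {ι : Type} [Fintype ι] [DecidableEq ι] (F₀ : Subfield F)
    (g : Matrix.GeneralLinearGroup ι F)
    (hg : g ∈ subfieldSubgroup F₀ (1 : Matrix.GeneralLinearGroup ι F)) :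
    ∃ (A₀ : Matrix ι ι F₀) (μ : F), μ ≠ 0 ∧
      (g : Matrix ι ι F) = μ • A₀.map F₀.subtype := by
  obtain ⟨x, hx, rfl⟩ := hg
  rw [Subgroup.mul_normal, Set.mem_mul] at hx
  obtain ⟨a, ⟨g₀, rfl⟩, b, hb, rfl⟩ := hx
  obtain ⟨μ, hμ⟩ := (mem_scalars_iff b).1 hb
  refine ⟨(g₀ : Matrix ι ι F₀), (μ : F), μ.ne_zero, ?_⟩
  show (((1 : Matrix.GeneralLinearGroup ι F) * (Matrix.GeneralLinearGroup.map F₀.subtype g₀ * b) *
    (1 : Matrix.GeneralLinearGroup ι F)⁻¹ : Matrix.GeneralLinearGroup ι F) : Matrix ι ι F) = _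
  rw [one_mul, inv_one, mul_one, Units.val_mul, hμ, Matrix.mul_smul, Matrix.mul_one]
  rfl

end MEMSUBF

/-- MEMSUBF: membership in the subfield group in standard position. -/
theorem MEMSUBF.mem_subf_one_iff {ι : Type} [Fintype ι] [DecidableEq ι] (F₀ : Subfield F)
    (g : Matrix.GeneralLinearGroup ι F) :
    g ∈ Cfsg.Geo.subfieldSubgroup F₀ (1 : Matrix.GeneralLinearGroup ι F) ↔
      InN F₀ (g : Matrix ι ι F) := by
  constructor
  · intro hg
    obtain ⟨A₀, μ, hμ, h⟩ := MEMSUBF.exists_of_mem_subf F₀ g hg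
    refine ⟨μ⁻¹, inv_ne_zero hμ, ?_⟩
    rw [h, smul_smul, inv_mul_cancel₀ hμ, one_smul]
    intro i j
    exact (A₀ i j).2
  · rintro ⟨z, hz, hrat⟩
    set A₀ : Matrix ι ι F₀ := fun i j => ⟨_, hrat i j⟩ with hA₀
    have hA : A₀.map F₀.subtype = z • (g : Matrix ι ι F) := by
      ext i j
      rfl
    refine MEMSUBF.mem_subf_of F₀ g A₀ z⁻¹ (inv_ne_zero hz) ?_
    rw [hA, smul_smul, inv_mul_cancel₀ hz, one_smul]

end Cfsg.Agent.S5683P
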