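import Cfsg.Agent.Helper12.S5683Lib

/-! S5683 piece SIMNORM (driver helper12): a similarity normalises `Ω`. -/

set_option autoImplicit false
set_option linter.unusedSectionVars false
set_option linter.unusedVariables false

namespace Cfsg.Agent.S5683P

open Matrix

variable {F : Type*} [Field F] {m : ℕ}

namespace SIMNORM

theorem omegaGL_eq {ι : Type} [Fintype ι] [DecidableEq ι] (Qf : (ι → F) → F) :
    Cfsg.Geo.omegaGL Qf = ⁅Cfsg.isometryGroup F Qf, Cfsg.isometryGroup F Qf⁆ := by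
  unfold Cfsg.Geo.omegaGL
  exact Subgroup.map_subtype_commutator _

theorem mem_isom_iff {ι : Type} [Fintype ι] [DecidableEq ι] (Qf : (ι → F) → F)
    (h : Matrix.GeneralLinearGroup ι F) :
    h ∈ Cfsg.isometryGroup F Qf ↔ ∀ u : ι → F, Qf ((h : Matrix ι ι F) *ᵥ u) = Qf u := by
  constructor
  · intro hh u
    exact hh u u
  · intro hh u _
    exact hh u

/-- a similarity maps the isometry group into itself under conjugation -/
theorem conj_mem_isom {ι : Type} [Fintype ι] [DecidableEq ι] (Qf : (ι → F) → F)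
    (g : Matrix.GeneralLinearGroup ι F) (δ : F) (hδ : δ ≠ 0)
    (hg : ∀ x : ι → F, Qf ((g : Matrix ι ι F) *ᵥ x) = δ * Qf x)
    {h : Matrix.GeneralLinearGroup ι F} (hh : h ∈ Cfsg.isometryGroup F Qf) :
    g * h * g⁻¹ ∈ Cfsg.isometryGroup F Qf := by
  rw [mem_isom_iff] at hh ⊢
  intro u
  have hginv : ∀ x : ι → F, Qf (((g⁻¹ : Matrix.GeneralLinearGroup ι F) : Matrix ι ι F) *ᵥ x) =
      δ⁻¹ * Qf x := by
    intro x
    have h1 := hg (((g⁻¹ : Matrix.GeneralLinearGroup ι F) : Matrix ι ι F) *ᵥ x)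
    rw [Matrix.mulVec_mulVec, ← Units.val_mul, mul_inv_cancel, Units.val_one, Matrix.one_mulVec] at h1
    rw [h1, ← mul_assoc, inv_mul_cancel₀ hδ, one_mul]
  rw [Units.val_mul, Units.val_mul, ← Matrix.mulVec_mulVec, ← Matrix.mulVec_mulVec, hg, hh, hginv,
    ← mul_assoc, mul_inv_cancel₀ hδ, one_mul]

theorem map_conj_isom {ι : Type} [Fintype ι] [DecidableEq ι] (Qf : (ι → F) → F)
    (g : Matrix.GeneralLinearGroup ι F) (δ : F) (hδ : δ ≠ 0)
    (hg : ∀ x : ι → F, Qf ((g : Matrix ι ι F) *ᵥ x) = δ * Qf x) :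
    (Cfsg.isometryGroup F Qf).map (MulAut.conj g).toMonoidHom = Cfsg.isometryGroup F Qf := by
  have hginv : ∀ x : ι → F, Qf (((g⁻¹ : Matrix.GeneralLinearGroup ι F) : Matrix ι ι F) *ᵥ x) =
      δ⁻¹ * Qf x := by
    intro x
    have h1 := hg (((g⁻¹ : Matrix.GeneralLinearGroup ι F) : Matrix ι ι F) *ᵥ x)
    rw [Matrix.mulVec_mulVec, ← Units.val_mul, mul_inv_cancel, Units.val_one, Matrix.one_mulVec] at h1
    rw [h1, ← mul_assoc, inv_mul_cancel₀ hδ, one_mul]
  ext x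
  constructor
  · rintro ⟨y, hy, rfl⟩
    exact conj_mem_isom Qf g δ hδ hg hy
  · intro hx
    refine ⟨g⁻¹ * x * g, ?_, ?_⟩
    · have := conj_mem_isom Qf g⁻¹ δ⁻¹ (inv_ne_zero hδ) hginv hx
      rwa [inv_inv] at this
    · show g * (g⁻¹ * x * g) * g⁻¹ = x
      group

end SIMNORM

/-- SIMNORM: a similarity normalises `Ω`. -/
theorem SIMNORM.map_conj_omegaGL {ι : Type} [Fintype ι] [DecidableEq ι] (Qf : (ι → F) → F)
    (g : Matrix.GeneralLinearGroup ι F) (δ : F) (hδ : δ ≠ 0)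
    (hg : ∀ x : ι → F, Qf ((g : Matrix ι ι F) *ᵥ x) = δ * Qf x) :
    (Cfsg.Geo.omegaGL Qf).map (MulAut.conj g).toMonoidHom = Cfsg.Geo.omegaGL Qf := by
  rw [SIMNORM.omegaGL_eq, Subgroup.map_commutator, SIMNORM.map_conj_isom Qf g δ hδ hg]

end Cfsg.Agent.S5683P
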