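import Cfsg.Agent.Helper12.S5683Lib
import Cfsg.Agent.Helper17.S5683MEMSUBF

/-! S5683 piece SUBFT (driver helper12): the subfield group only depends on `P` up to rational changes of basis. -/

set_option autoImplicit false
set_option linter.unusedSectionVars false
set_option linter.unusedVariables false

namespace Cfsg.Agent.S5683P

open Matrix

variable {F : Type*} [Field F] {m : ℕ}

namespace SUBFT

/-- conjugation by an element of a subgroup fixes the subgroup -/
theorem map_conj_of_mem {G : Type*} [Group G] (N : Subgroup G) {t : G} (ht : t ∈ N) :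
    N.map (MulAut.conj t).toMonoidHom = N := by
  ext x
  constructor
  · rintro ⟨y, hy, rfl⟩
    show t * y * t⁻¹ ∈ N
    exact N.mul_mem (N.mul_mem ht hy) (N.inv_mem ht)
  · intro hx
    refine ⟨t⁻¹ * x * t, N.mul_mem (N.mul_mem (N.inv_mem ht) hx) ht, ?_⟩
    show t * (t⁻¹ * x * t) * t⁻¹ = x
    group

theorem subf_one_eq {ι : Type} [Fintype ι] [DecidableEq ι] (F₀ : Subfield F) :
    Cfsg.Geo.subfieldSubgroup F₀ (1 : Matrix.GeneralLinearGroup ι F) =
      (Matrix.GeneralLinearGroup.map (F₀.subtype : F₀ →+* F)).range ⊔ Cfsg.Geo.scalars ι F := by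
  unfold Cfsg.Geo.subfieldSubgroup
  ext x
  constructor
  · rintro ⟨y, hy, rfl⟩
    show (1 : Matrix.GeneralLinearGroup ι F) * y * (1 : Matrix.GeneralLinearGroup ι F)⁻¹ ∈ _
    rw [one_mul, inv_one, mul_one]
    exact hy
  · intro hx
    refine ⟨x, hx, ?_⟩
    show (1 : Matrix.GeneralLinearGroup ι F) * x * (1 : Matrix.GeneralLinearGroup ι F)⁻¹ = x
    rw [one_mul, inv_one, mul_one]

end SUBFT

/-- SUBFT: the subfield group only depends on `P` up to rational changes of basis. -/
theorem SUBFT.subf_mul {ι : Type} [Fintype ι] [DecidableEq ι] (F₀ : Subfield F)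
    (P T : Matrix.GeneralLinearGroup ι F) (hT : RatM F₀ (T : Matrix ι ι F))
    (hT' : RatM F₀ ((T⁻¹ : Matrix.GeneralLinearGroup ι F) : Matrix ι ι F)) :
    Cfsg.Geo.subfieldSubgroup F₀ (P * T) = Cfsg.Geo.subfieldSubgroup F₀ P := by
  have hTN : T ∈ (Matrix.GeneralLinearGroup.map (F₀.subtype : F₀ →+* F)).range ⊔
      Cfsg.Geo.scalars ι F := by
    rw [← SUBFT.subf_one_eq, MEMSUBF.mem_subf_one_iff]
    exact ⟨1, one_ne_zero, by rw [one_smul]; exact hT⟩
  unfold Cfsg.Geo.subfieldSubgroup
  have hcomp : (MulAut.conj (P * T)).toMonoidHom =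
      (MulAut.conj P).toMonoidHom.comp (MulAut.conj T).toMonoidHom := by
    rw [map_mul]
    rfl
  rw [hcomp, ← Subgroup.map_map, SUBFT.map_conj_of_mem _ hTN]

end Cfsg.Agent.S5683P
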