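import Mathlib
import Cfsg.Prelude.Def_GeometricClasses
import Cfsg.Agent.Helper3.OC2.Defs

/-! # S5692 / S5694, chapter TRANSPORT (designer helper3), piece BLKND: the block sum of a nondegenerate quadratic
form is nondegenerate. -/

set_option autoImplicit false
set_option linter.unusedSectionVars false
set_option linter.unusedVariables false

namespace Cfsg.Agent.OC2P

open Matrix Cfsg.Geo

variable {F : Type*} [Field F] {t k n : ℕ}

theorem BLKND.bproj_add (i : Fin t) (x y : Fin t × Fin k → F) :
    bproj i (x + y) = bproj i x + bproj i y := rfl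

theorem BLKND.bproj_smul (i : Fin t) (c : F) (x : Fin t × Fin k → F) :
    bproj i (c • x) = c • bproj i x := rfl

theorem BLKND.q_zero {q : (Fin k → F) → F} (hq : IsNondegenerateQuadraticForm q) : q 0 = 0 := by
  have h := hq.smul 0 0
  rw [zero_smul] at h
  rw [h]; ring

theorem BLKND.polar_zero_left {q : (Fin k → F) → F} (hq : IsNondegenerateQuadraticForm q)
    (z : Fin k → F) : QuadraticMap.polar q 0 z = 0 := by
  unfold QuadraticMap.polar
  rw [zero_add, BLKND.q_zero hq]; ring

theorem BLKND.polar_zero_right {q : (Fin k → F) → F} (hq : IsNondegenerateQuadraticForm q)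
    (z : Fin k → F) : QuadraticMap.polar q z 0 = 0 := by
  unfold QuadraticMap.polar
  rw [add_zero, BLKND.q_zero hq]; ring

/-- the polar form of the block sum is the sum of the polar forms of the blocks -/
theorem BLKND.polar_Qblk (q : (Fin k → F) → F) (x y : Fin t × Fin k → F) :
    QuadraticMap.polar (Qblk t q) x y = ∑ i : Fin t, QuadraticMap.polar q (bproj i x) (bproj i y) := by
  unfold QuadraticMap.polar
  rw [Qblk_eq, Qblk_eq, Qblk_eq, ← Finset.sum_sub_distrib, ← Finset.sum_sub_distrib]
  rfl

/-- the polar form against a vector placed in block `i` (left) -/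
theorem BLKND.polar_binj_left {q : (Fin k → F) → F} (hq : IsNondegenerateQuadraticForm q)
    (i : Fin t) (y : Fin k → F) (v : Fin t × Fin k → F) :
    QuadraticMap.polar (Qblk t q) (binj i y) v = QuadraticMap.polar q y (bproj i v) := by
  rw [BLKND.polar_Qblk, Finset.sum_eq_single i]
  · rw [bproj_binj]
  · intro i' _ hi'
    rw [bproj_binj_ne hi', BLKND.polar_zero_left hq]
  · intro h; exact absurd (Finset.mem_univ i) h

/-- the polar form against a vector placed in block `i` (right) -/
theorem BLKND.polar_binj_right {q : (Fin k → F) → F} (hq : IsNondegenerateQuadraticForm q)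
    (i : Fin t) (y : Fin k → F) (v : Fin t × Fin k → F) :
    QuadraticMap.polar (Qblk t q) v (binj i y) = QuadraticMap.polar q (bproj i v) y := by
  rw [BLKND.polar_Qblk, Finset.sum_eq_single i]
  · rw [bproj_binj]
  · intro i' _ hi'
    rw [bproj_binj_ne hi', BLKND.polar_zero_right hq]
  · intro h; exact absurd (Finset.mem_univ i) h

/-- a non-zero vector has a non-zero component -/
theorem BLKND.exists_bproj_ne {v : Fin t × Fin k → F} (hv : v ≠ 0) : ∃ i, bproj i v ≠ 0 := by
  by_contra h
  push Not at h
  apply hv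
  funext p
  have := congrFun (h p.1) p.2
  simpa [bproj] using this

/-! ## BLKND (M): the block sum of a nondegenerate quadratic form is one -/

theorem BLKND.main (q : (Fin k → F) → F) (hq : IsNondegenerateQuadraticForm q) :
    IsNondegenerateQuadraticForm (Qblk t q) := by
  refine ⟨?_, ⟨?_, ?_, ?_, ?_⟩, ?_⟩
  · intro c v
    rw [Qblk_eq, Qblk_eq, Finset.mul_sum]
    refine Finset.sum_congr rfl fun i _ => ?_
    rw [BLKND.bproj_smul, hq.smul]
  · intro x y v
    rw [BLKND.polar_Qblk, BLKND.polar_Qblk, BLKND.polar_Qblk, ← Finset.sum_add_distrib]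
    refine Finset.sum_congr rfl fun i _ => ?_
    rw [BLKND.bproj_add, hq.polar_bilinear.add_left]
  · intro c x v
    rw [BLKND.polar_Qblk, BLKND.polar_Qblk, Finset.mul_sum]
    refine Finset.sum_congr rfl fun i _ => ?_
    rw [BLKND.bproj_smul, hq.polar_bilinear.smul_left]
  · intro v x y
    rw [BLKND.polar_Qblk, BLKND.polar_Qblk, BLKND.polar_Qblk, ← Finset.sum_add_distrib]
    refine Finset.sum_congr rfl fun i _ => ?_
    rw [BLKND.bproj_add, hq.polar_bilinear.add_right]
  · intro c v x
    rw [BLKND.polar_Qblk, BLKND.polar_Qblk, Finset.mul_sum]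
    refine Finset.sum_congr rfl fun i _ => ?_
    rw [BLKND.bproj_smul, hq.polar_bilinear.smul_right]
  · intro v hv
    obtain ⟨i, hi⟩ := BLKND.exists_bproj_ne hv
    obtain ⟨⟨x, hx⟩, ⟨x', hx'⟩⟩ := hq.nondegenerate (bproj i v) hi
    refine ⟨⟨binj i x, ?_⟩, ⟨binj i x', ?_⟩⟩
    · rw [BLKND.polar_binj_left hq]; exact hx
    · rw [BLKND.polar_binj_right hq]; exact hx'

end Cfsg.Agent.OC2P
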