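import Mathlib
import Cfsg.Prelude.Def_GeometricClasses
import Cfsg.Agent.Helper3.OC2.Defs
import Cfsg.Agent.Helper17.OC2TBLKND

/-! # S5692 / S5694, chapter TRANSPORT (designer helper3), piece BLKDEC: the block model is an orthogonal
decomposition. -/

set_option autoImplicit false
set_option linter.unusedSectionVars false
set_option linter.unusedVariables false

namespace Cfsg.Agent.OC2P

open Matrix Cfsg.Geo

variable {F : Type*} [Field F] {t k n : ℕ}

theorem BLKDEC.binj_add (i : Fin t) (y z : Fin k → F) : binj i (y + z) = binj i y + binj i z := by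
  funext p
  by_cases h : p.1 = i <;> simp [binj, h]

theorem BLKDEC.binj_smul (i : Fin t) (c : F) (y : Fin k → F) : binj i (c • y) = c • binj i y := by
  funext p
  by_cases h : p.1 = i <;> simp [binj, h]

/-- a vector of block `i` is its `i`-th component placed in block `i` -/
theorem BLKDEC.binj_bproj {i : Fin t} {x : Fin t × Fin k → F} (hx : x ∈ Dblk F t k i) :
    binj i (bproj i x) = x := by
  funext p
  obtain ⟨i', j⟩ := p
  by_cases h : i' = i
  · subst h; simp [binj, bproj]
  · simp only [binj, h, if_false]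
    exact (hx i' j h).symm

/-- the block `i` as a copy of `F^k` -/
noncomputable def BLKDEC.blockEquiv (i : Fin t) : (Fin k → F) ≃ₗ[F] Dblk F t k i where
  toFun y := ⟨binj i y, binj_mem i y⟩
  map_add' y z := Subtype.ext (BLKDEC.binj_add i y z)
  map_smul' c y := Subtype.ext (BLKDEC.binj_smul i c y)
  invFun w := bproj i (w : Fin t × Fin k → F)
  left_inv y := bproj_binj i y
  right_inv w := Subtype.ext (BLKDEC.binj_bproj w.2)

theorem BLKDEC.finrank_Dblk (i : Fin t) : Module.finrank F (Dblk F t k i) = k := by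
  rw [← (BLKDEC.blockEquiv (F := F) (k := k) i).finrank_eq, Module.finrank_fin_fun]

/-- every vector is the sum of its components -/
theorem BLKDEC.eq_sum (x : Fin t × Fin k → F) : x = ∑ i : Fin t, binj i (bproj i x) := by
  funext p
  obtain ⟨i', j⟩ := p
  rw [Finset.sum_apply, Finset.sum_eq_single i']
  · simp [binj, bproj]
  · intro i _ hi
    simp [binj, Ne.symm hi]
  · intro h; exact absurd (Finset.mem_univ i') h

theorem BLKDEC.iSup_eq_top : iSup (Dblk F t k) = ⊤ := by
  rw [eq_top_iff]
  intro x _
  rw [BLKDEC.eq_sum x]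
  exact Submodule.sum_mem _ fun i _ => Submodule.mem_iSup_of_mem i (binj_mem i _)

/-- the vectors with vanishing `i`-th component -/
def BLKDEC.kerProj (F : Type*) [Field F] (t k : ℕ) (i : Fin t) : Submodule F (Fin t × Fin k → F) where
  carrier := {x | ∀ j : Fin k, x (i, j) = 0}
  zero_mem' := fun _ => rfl
  add_mem' := by
    intro x y hx hy j
    rw [Pi.add_apply, hx j, hy j, add_zero]
  smul_mem' := by
    intro c x hx j
    rw [Pi.smul_apply, hx j, smul_zero]

theorem BLKDEC.indep : iSupIndep (Dblk F t k) := by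
  intro i
  have hle : (⨆ (j : Fin t) (_ : j ≠ i), Dblk F t k j) ≤ BLKDEC.kerProj F t k i := by
    refine iSup₂_le fun j hj => ?_
    intro x hx l
    exact hx i l (Ne.symm hj)
  rw [Submodule.disjoint_def]
  intro x hx hx'
  have hx'' := hle hx'
  funext p
  obtain ⟨i', j⟩ := p
  by_cases h : i' = i
  · subst h; exact hx'' j
  · exact hx i' j h

theorem BLKDEC.Qblk_binj {q : (Fin k → F) → F} (hq : IsNondegenerateQuadraticForm q) (i : Fin t)
    (y : Fin k → F) : Qblk t q (binj i y) = q y := by
  rw [Qblk_eq, Finset.sum_eq_single i]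
  · rw [bproj_binj]
  · intro i' _ hi'
    rw [bproj_binj_ne hi', BLKND.q_zero hq]
  · intro h; exact absurd (Finset.mem_univ i) h

/-! ## BLKDEC (M): the block model is an orthogonal decomposition -/

theorem BLKDEC.main (q : (Fin k → F) → F) (hq : IsNondegenerateQuadraticForm q) (ht : 2 ≤ t)
    (hk : 0 < k) : IsOrthogonalMDecomposition (Qblk t q) k (Dblk F t k) := by
  refine ⟨⟨⟨ht, hk, BLKDEC.finrank_Dblk, BLKDEC.indep, BLKDEC.iSup_eq_top⟩, ?_, ?_⟩, ?_⟩
  · -- nondegenerate on each block
    intro i w hw hw0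
    have hne : bproj i w ≠ 0 := by
      intro h0
      apply hw0
      rw [← BLKDEC.binj_bproj hw, h0]
      funext p
      simp [binj]
    obtain ⟨⟨x, hx⟩, ⟨x', hx'⟩⟩ := hq.nondegenerate (bproj i w) hne
    refine ⟨⟨binj i x, binj_mem i x, ?_⟩, ⟨binj i x', binj_mem i x', ?_⟩⟩
    · rw [BLKND.polar_binj_left hq]; exact hx
    · rw [BLKND.polar_binj_right hq]; exact hx'
  · -- pairwise orthogonal
    intro i j hij u hu v hv
    rw [← BLKDEC.binj_bproj hu, BLKND.polar_binj_left hq]
    have : bproj i v = 0 := by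
      funext l
      exact hv i l hij
    rw [this, BLKND.polar_zero_right hq]
  · -- pairwise isometric
    intro i j
    refine ⟨(BLKDEC.blockEquiv (F := F) (k := k) i).symm.trans (BLKDEC.blockEquiv j), ?_⟩
    intro w
    show Qblk t q (binj j (bproj i (w : Fin t × Fin k → F))) = Qblk t q (w : Fin t × Fin k → F)
    rw [BLKDEC.Qblk_binj hq]
    conv_rhs => rw [← BLKDEC.binj_bproj w.2]
    rw [BLKDEC.Qblk_binj hq]

end Cfsg.Agent.OC2P
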