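import Mathlib
import Cfsg.Agent.Helper1.QP63Defs
import Cfsg.Agent.Helper25.QPAlpha
import Cfsg.Agent.Helper23.QP2IF
import Cfsg.Agent.Helper23.QPTRANS
import Cfsg.Agent.Helper29.QP63RESINJ
import Cfsg.Agent.Helper29.QP63RESQ2

set_option autoImplicit false

/-! Piece PULLGEN of the board `s5063pieces` (helper17): the pulled back factors are generated by
their quadratic elements. -/

noncomputable section

namespace Cfsg.Agent.QP63

open Cfsg Cfsg.Agent.Helper25.QP Cfsg.Agent.Helper25.QuadPair Cfsg.Agent.QPP

variable {k : Type*} [Field k] {M : Type*} [AddCommGroup M] [Module k M]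

local notation "GLkM" => LinearMap.GeneralLinearGroup k M

section pull
variable {G : Subgroup (LinearMap.GeneralLinearGroup k M)} {U : Submodule k M} (hU : Inv (C1 G) U)

theorem PULLGEN (hsum : Spans (G0 G) U) {X : Subgroup (LinearMap.GeneralLinearGroup k ↥U)}
    (hX : X ≤ (resHom (C1 G) U hU).range)
    (h : Subgroup.closure (quadraticElements (resHom (C1 G) U hU).range ∩
      (X : Set (LinearMap.GeneralLinearGroup k ↥U))) = X) :
    Subgroup.closure (quadraticElements G ∩ (pull (C1 G) U hU X : Set GLkM))
      = pull (C1 G) U hU X := by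
  have hinj := RESINJ hU hsum
  apply le_antisymm
  · rw [Subgroup.closure_le]
    exact Set.inter_subset_right
  · intro p hp
    obtain ⟨hp', hpX⟩ := mem_pull.mp hp
    -- induction on the image
    have key : ∀ y ∈ Subgroup.closure (quadraticElements (resHom (C1 G) U hU).range ∩
        (X : Set (LinearMap.GeneralLinearGroup k ↥U))),
        ∀ c : ↥(C1 G), resHom (C1 G) U hU c = y →
          (c : GLkM) ∈ Subgroup.closure (quadraticElements G ∩ (pull (C1 G) U hU X : Set GLkM)) := by
      intro y hy
      induction hy using Subgroup.closure_induction with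
      | mem y hy =>
        intro c hc
        apply Subgroup.subset_closure
        refine ⟨?_, ?_⟩
        · have : (c : GLkM) ∈ QC G := RESQ2 hU hsum c (by rw [hc]; exact hy.1)
          exact this.1
        · exact mem_pull.mpr ⟨c.2, by
            have : (⟨(c : GLkM), c.2⟩ : ↥(C1 G)) = c := rfl
            rw [this, hc]; exact hy.2⟩
      | one =>
        intro c hc
        have : c = 1 := hinj (by rw [hc, map_one])
        rw [this]
        exact Subgroup.one_mem _
      | mul y₁ y₂ hy₁ hy₂ ih₁ ih₂ =>
        intro c hc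
        rw [h] at hy₁ hy₂
        obtain ⟨c₁, hc₁⟩ := hX hy₁
        obtain ⟨c₂, hc₂⟩ := hX hy₂
        have : c = c₁ * c₂ := hinj (by rw [hc, map_mul, hc₁, hc₂])
        rw [this, Subgroup.coe_mul]
        exact Subgroup.mul_mem _ (ih₁ c₁ hc₁) (ih₂ c₂ hc₂)
      | inv y₁ hy₁ ih₁ =>
        intro c hc
        rw [h] at hy₁
        obtain ⟨c₁, hc₁⟩ := hX hy₁
        have : c = c₁⁻¹ := hinj (by rw [hc, map_inv, hc₁])
        rw [this, Subgroup.coe_inv]
        exact Subgroup.inv_mem _ (ih₁ c₁ hc₁)
    have hpX' : resHom (C1 G) U hU ⟨p, hp'⟩ ∈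
        Subgroup.closure (quadraticElements (resHom (C1 G) U hU).range ∩
          (X : Set (LinearMap.GeneralLinearGroup k ↥U))) := by
      rw [h]; exact hpX
    exact key _ hpX' ⟨p, hp'⟩ rfl

end pull

end Cfsg.Agent.QP63

end
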