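import Mathlib
import Cfsg.Agent.Helper1.QP63Defs
import Cfsg.Agent.Helper25.QPAlpha
import Cfsg.Agent.Helper23.QP2IF
import Cfsg.Agent.Helper23.QPTRANS
import Cfsg.Agent.Helper1.QP63Easy

set_option autoImplicit false

/-! Piece PULLNRM of the board `s5063pieces` (helper17): the pulled back factors are normal in `G`. -/

noncomputable section

namespace Cfsg.Agent.QP63

open Cfsg Cfsg.Agent.Helper25.QP Cfsg.Agent.Helper25.QuadPair Cfsg.Agent.QPP

variable {k : Type*} [Field k] {M : Type*} [AddCommGroup M] [Module k M]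

local notation "GLkM" => LinearMap.GeneralLinearGroup k M

section pull
variable {G : Subgroup (LinearMap.GeneralLinearGroup k M)} {U : Submodule k M} (hU : Inv (C1 G) U)

theorem PULLNRM_aux_le (X : Subgroup (LinearMap.GeneralLinearGroup k ↥U)) :
    pull (C1 G) U hU X ≤ C1 G := by
  intro g hg
  obtain ⟨hg', -⟩ := mem_pull.mp hg
  exact hg'

/-- conjugation by an element of `C₁` preserves the pull back -/
theorem PULLNRM_aux_conj {X : Subgroup (LinearMap.GeneralLinearGroup k ↥U)}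
    (hn : ∀ g ∈ (resHom (C1 G) U hU).range, conjBy X g = X) {c h : GLkM} (hc : c ∈ C1 G)
    (hh : h ∈ pull (C1 G) U hU X) : c * h * c⁻¹ ∈ pull (C1 G) U hU X := by
  obtain ⟨hh', hX⟩ := mem_pull.mp hh
  have hmem : c * h * c⁻¹ ∈ C1 G := (C1 G).mul_mem ((C1 G).mul_mem hc hh') ((C1 G).inv_mem hc)
  refine mem_pull.mpr ⟨hmem, ?_⟩
  have e : (⟨c * h * c⁻¹, hmem⟩ : ↥(C1 G)) = ⟨c, hc⟩ * ⟨h, hh'⟩ * (⟨c, hc⟩ : ↥(C1 G))⁻¹ := by
    apply Subtype.ext; simp
  rw [e, map_mul, map_mul, map_inv]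
  have hr : resHom (C1 G) U hU ⟨c, hc⟩ ∈ (resHom (C1 G) U hU).range := ⟨_, rfl⟩
  have := hn _ hr
  rw [← this]
  exact ⟨_, hX, rfl⟩

theorem PULLNRM (hgen : G0 G ⊔ C1 G = G) {X : Subgroup (LinearMap.GeneralLinearGroup k ↥U)}
    (hn : ∀ g ∈ (resHom (C1 G) U hU).range, conjBy X g = X) :
    ∀ g ∈ G, conjBy (pull (C1 G) U hU X) g = pull (C1 G) U hU X := by
  intro g hg
  set P := pull (C1 G) U hU X with hP
  have hnorm : G ≤ Subgroup.normalizer ((P : Subgroup GLkM) : Set GLkM) := by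
    rw [← hgen]
    apply sup_le
    · -- `G₀` centralizes `P`
      have h1 : P ≤ Subgroup.centralizer (G0 G : Set GLkM) :=
        (PULLNRM_aux_le hU X).trans (C1LE G).2
      have h2 : G0 G ≤ Subgroup.centralizer ((P : Subgroup GLkM) : Set GLkM) :=
        Subgroup.le_centralizer_iff.mp h1
      exact h2.trans (Subgroup.centralizer_le_normalizer _)
    · intro c hc
      rw [Subgroup.mem_normalizer_iff]
      intro h
      constructor
      · exact fun hh => PULLNRM_aux_conj hU hn hc hh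
      · intro hh
        have := PULLNRM_aux_conj hU hn ((C1 G).inv_mem hc) hh
        have e : c⁻¹ * (c * h * c⁻¹) * c⁻¹⁻¹ = h := by group
        rwa [e] at this
  exact Subgroup.mem_normalizer_iff_map_conj_eq.mp (hnorm hg)

end pull

end Cfsg.Agent.QP63

end
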