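import Mathlib
import Cfsg.Agent.Helper25.QPDefs2

set_option autoImplicit false
set_option linter.unusedVariables false

/-! Board `qppieces`, piece NONU2 (helper17). -/

noncomputable section

universe u v

namespace Cfsg.Agent.QPP

open Cfsg Cfsg.Agent.Helper25.QP Cfsg.Agent.Helper25.QuadPair Polynomial

variable {k : Type u} [Field k] {M : Type v} [AddCommGroup M] [Module k M]

local notation "GLkM" => LinearMap.GeneralLinearGroup k M

/-- pure linear algebra: opposite pairs are not unipotent -/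
theorem NONU2 [FiniteDimensional k M] {a b : Module.End k M} (h : OppPair a b) (ha : a * a = 0)
    (hb : b * b = 0) (h0 : a ≠ 0) : ¬ UnipPair a b := by
  intro hu
  obtain ⟨n, hn⟩ := hu
  have hinj : ∀ v ∈ LinearMap.range a, (a * b) v = 0 → v = 0 := by
    intro v hv h0'
    have h1 : b v ∈ LinearMap.ker a ⊓ LinearMap.range b :=
      ⟨LinearMap.mem_ker.2 h0', ⟨v, rfl⟩⟩
    rw [h.1.inf_eq_bot, Submodule.mem_bot] at h1
    have h2 : v ∈ LinearMap.ker b ⊓ LinearMap.range a := ⟨LinearMap.mem_ker.2 h1, hv⟩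
    rw [h.2.inf_eq_bot, Submodule.mem_bot] at h2
    exact h2
  have hmap : ∀ v ∈ LinearMap.range a, (a * b) v ∈ LinearMap.range a := fun v _ => ⟨b v, rfl⟩
  have hpow : ∀ m : ℕ, ∀ v ∈ LinearMap.range a, ((a * b) ^ m) v = 0 → v = 0 := by
    intro m
    induction m with
    | zero =>
      intro v _ hv0
      simpa using hv0
    | succ m ih =>
      intro v hv hv0
      rw [pow_succ, Module.End.mul_apply] at hv0
      exact hinj v hv (ih _ (hmap v hv) hv0)
  apply h0
  ext v
  have h3 := hpow n (a v) ⟨v, rfl⟩ (by rw [hn]; rfl)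
  rw [h3]
  rfl

end Cfsg.Agent.QPP

end
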