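import Mathlib
import Cfsg.Agent.Helper25.QPSwap
import Cfsg.Agent.Helper19.QPFIT
import Cfsg.Agent.Helper14.QPVANU
import Cfsg.Agent.Helper27.QPACT1

set_option autoImplicit false

/-! Board `qppieces`, piece KER (helper17). -/

noncomputable section

namespace Cfsg.Agent.QPP

open Cfsg Cfsg.Agent.Helper25.QP Cfsg.Agent.Helper25.QuadPair Polynomial

variable {k : Type*} [Field k] {M : Type*} [AddCommGroup M] [Module k M]

local notation "GLkM" => LinearMap.GeneralLinearGroup k M

/-- `opn P` vanishes on `M₀` when `a` and `b` do -/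
theorem KER_aux_M0 (a b : Module.End k M)
    (hv : VanM0 a b) (P : Co k) : ∀ m ∈ M0 a b, opn a b P m = 0 := by
  intro m hm
  obtain ⟨h1, h2⟩ := hv m hm
  simp only [opn, LinearMap.add_apply, Module.End.mul_apply, h1, h2, map_zero, add_zero]

/-- `X` is a unit modulo `Van1`: `X * f ∈ Van1 ↔ f ∈ Van1` -/
theorem KER_aux_X [FiniteDimensional k M] (a b : Module.End k M) (f : k[X]) :
    X * f ∈ Van1 a b ↔ f ∈ Van1 a b := by
  constructor
  · intro h
    obtain ⟨u, hu⟩ := FIT_invpoly (zz a b)
    have h1 : u * (X * f) ∈ Van1 a b := (Van1 a b).mul_mem_left u h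
    have h2 : (X * u - 1) * f ∈ Van1 a b := (Van1 a b).mul_mem_right f hu
    have h3 : f = u * (X * f) - (X * u - 1) * f := by ring
    rw [h3]
    exact (Van1 a b).sub_mem h1 h2
  · intro h
    exact (Van1 a b).mul_mem_left X h

theorem KER [FiniteDimensional k M] (a b : Module.End k M) (ha : a * a = 0) (hb : b * b = 0)
    (hv : VanM0 a b) (x : GLkM × Matrix.SpecialLinearGroup (Fin 2) k[X]) (hx : x ∈ Hpair a b ha hb) :
    x.1 = 1 ↔ Matrix.SpecialLinearGroup.map (Ideal.Quotient.mk (Van1 a b)) x.2 = 1 := by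
  obtain ⟨P, hP2, hP1⟩ := COORD ha hb x hx
  -- left side
  have hL : x.1 = 1 ↔ opn a b P = 0 := by
    rw [← Units.val_inj, hP1, Units.val_one]
    exact add_eq_left
  have hL2 : opn a b P = 0 ↔ ∀ m ∈ M1 a b, opn a b P m = 0 := by
    constructor
    · intro h m _
      rw [h]; rfl
    · intro h
      ext m
      have hc := FIT_compl (zz a b)
      have hm : m ∈ F0 (zz a b) ⊔ F1 (zz a b) := by rw [hc.sup_eq_top]; trivial
      obtain ⟨m0, hm0, m1, hm1, rfl⟩ := Submodule.mem_sup.1 hm
      rw [map_add, KER_aux_M0 a b hv P m0 hm0, h m1 hm1, zero_add]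
      rfl
  -- right side
  have hR : Matrix.SpecialLinearGroup.map (Ideal.Quotient.mk (Van1 a b)) x.2 = 1 ↔
      (X * P.p ∈ Van1 a b ∧ P.q ∈ Van1 a b ∧ X * P.s ∈ Van1 a b ∧ X * P.t ∈ Van1 a b) := by
    constructor
    · intro h
      have h' := congrArg (fun y : Matrix.SpecialLinearGroup (Fin 2) (k[X] ⧸ Van1 a b) =>
        (y : Matrix (Fin 2) (Fin 2) (k[X] ⧸ Van1 a b))) h
      simp only [Matrix.SpecialLinearGroup.coe_one] at h'
      have h00 := congrFun (congrFun h' 0) 0
      have h01 := congrFun (congrFun h' 0) 1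
      have h10 := congrFun (congrFun h' 1) 0
      have h11 := congrFun (congrFun h' 1) 1
      simp only [Matrix.SpecialLinearGroup.map_apply_coe, RingHom.mapMatrix_apply,
        Matrix.map_apply, hP2, Matrix.add_apply, Matrix.one_apply_eq, Matrix.one_apply_ne,
        ne_eq, zero_ne_one, one_ne_zero, not_false_eq_true, Fin.isValue] at h00 h01 h10 h11
      simp only [Co.matn, Matrix.of_apply, Matrix.cons_val', Matrix.cons_val_zero,
        Matrix.cons_val_one, Matrix.empty_val', Matrix.cons_val_fin_one, map_add, map_one,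
        zero_add, Fin.isValue] at h00 h01 h10 h11
      refine ⟨?_, ?_, ?_, ?_⟩
      · rw [← Ideal.Quotient.eq_zero_iff_mem]; exact add_eq_left.mp h00
      · rw [← Ideal.Quotient.eq_zero_iff_mem]; exact h01
      · rw [← Ideal.Quotient.eq_zero_iff_mem]; exact h10
      · rw [← Ideal.Quotient.eq_zero_iff_mem]; exact add_eq_left.mp h11
    · rintro ⟨h00, h01, h10, h11⟩
      rw [← Ideal.Quotient.eq_zero_iff_mem] at h00 h01 h10 h11
      apply Subtype.ext
      refine Matrix.ext fun i j => ?_
      fin_cases i <;> fin_cases j <;>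
        simp [Matrix.SpecialLinearGroup.map_apply_coe, hP2, Co.matn, h00, h01, h10, h11]
  rw [hL, hL2, ACT1 a b ha hb P, hR, KER_aux_X, KER_aux_X, KER_aux_X]

end Cfsg.Agent.QPP

end
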