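import Mathlib

/-!
# Zsigmondy's theorem for `a ^ n - 1` (Bang's theorem)

`zsigmondy`: for `a, n > 1` there is a prime `r ∣ a^n - 1` with `r ∤ a^k - 1` for `0 < k < n`,
unless `(a, n) = (2, 6)` or `n = 2` and `a + 1` is a power of `2`.
-/

set_option autoImplicit false

namespace Cfsg.Agent.Helper17.Zsig

open Polynomial

/-- the value `Φ_n(a)` -/
noncomputable def Phi (n a : ℕ) : ℤ := (cyclotomic n ℤ).eval (a : ℤ)

theorem Phi_pos (n : ℕ) {a : ℕ} (ha : 1 < a) : 0 < Phi n a :=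
  cyclotomic_pos' n (by exact_mod_cast ha)

theorem Phi_dvd (n a : ℕ) : Phi n a ∣ (a : ℤ) ^ n - 1 := by
  have h := eval_dvd (x := (a : ℤ)) (cyclotomic.dvd_X_pow_sub_one n ℤ)
  simpa [Phi] using h

theorem pow_sub_one_ne_zero {a d : ℕ} (ha : 1 < a) (hd : 0 < d) : (a : ℤ) ^ d - 1 ≠ 0 := by
  have h1 : (1 : ℤ) < (a : ℤ) := by exact_mod_cast ha
  have h2 : (1 : ℤ) < (a : ℤ) ^ d := one_lt_pow₀ h1 hd.ne'
  omega

/-- `Φ_n(a)` divides `(a^n - 1)/(a^d - 1)` for a proper divisor `d` of `n`. -/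
theorem Phi_dvd_geom {n d a : ℕ} (ha : 1 < a) (hd : d ∣ n) (hdn : d < n) (hd0 : 0 < d) :
    Phi n a ∣ ∑ i ∈ Finset.range (n / d), ((a : ℤ) ^ d) ^ i := by
  have h := X_pow_sub_one_mul_cyclotomic_dvd_X_pow_sub_one_of_dvd ℤ
    (Nat.mem_properDivisors.2 ⟨hd, hdn⟩)
  have h2 := eval_dvd (x := (a : ℤ)) h
  simp only [eval_mul, eval_sub, eval_pow, eval_X, eval_one] at h2
  have h3 : ((a : ℤ) ^ n - 1) = ((a : ℤ) ^ d - 1) * ∑ i ∈ Finset.range (n / d), ((a : ℤ) ^ d) ^ i := by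
    rw [mul_comm, geom_sum_mul, ← pow_mul, Nat.mul_div_cancel' hd]
  rw [h3] at h2
  exact (mul_dvd_mul_iff_left (pow_sub_one_ne_zero ha hd0)).1 h2

/-- if `r ∣ Φ_n(a)` and `r ∣ a^d - 1` for a proper divisor `d`, then `r ∣ n / d`. -/
theorem dvd_div_of_dvd_Phi {n d a r : ℕ} (ha : 1 < a) (hd : d ∣ n) (hdn : d < n)
    (hd0 : 0 < d) (hr : (r : ℤ) ∣ Phi n a) (hrd : ((a : ZMod r)) ^ d = 1) : r ∣ n / d := by
  have h1 := hr.trans (Phi_dvd_geom ha hd hdn hd0)
  have h2 := (ZMod.intCast_zmod_eq_zero_iff_dvd _ r).2 h1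
  push_cast at h2
  rw [hrd] at h2
  simp only [one_pow, Finset.sum_const, Finset.card_range, nsmul_eq_mul, mul_one] at h2
  exact (ZMod.natCast_eq_zero_iff _ _).1 h2

/-- "no primitive prime divisor" hypothesis, in `ZMod` form -/
def NoPrim (a n : ℕ) : Prop :=
  ∀ r : ℕ, r.Prime → ((a : ZMod r)) ^ n = 1 → ∃ k, 0 < k ∧ k < n ∧ ((a : ZMod r)) ^ k = 1

theorem pow_eq_one_of_dvd_Phi {n a r : ℕ} (hr : (r : ℤ) ∣ Phi n a) : ((a : ZMod r)) ^ n = 1 := by
  have h1 := hr.trans (Phi_dvd n a)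
  have h2 := (ZMod.intCast_zmod_eq_zero_iff_dvd _ r).2 h1
  push_cast at h2
  exact sub_eq_zero.1 h2

/-- structure of a prime divisor `r` of `Φ_n(a)` when there is no primitive prime divisor:
`n = m * r^j` with `m = ord_r(a)` dividing `r - 1`, `j ≥ 1`. -/
theorem struct_of_dvd_Phi {n a r : ℕ} (ha : 1 < a) (hn : 1 < n) (hno : NoPrim a n)
    [hrp : Fact r.Prime] (hr : (r : ℤ) ∣ Phi n a) :
    ∃ m j : ℕ, 0 < m ∧ m ∣ r - 1 ∧ 0 < j ∧ n = m * r ^ j ∧
      ∀ d, m ∣ d → ((a : ZMod r)) ^ d = 1 := by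
  have han := pow_eq_one_of_dvd_Phi hr
  set m := orderOf ((a : ZMod r)) with hm
  have hmn : m ∣ n := orderOf_dvd_of_pow_eq_one han
  have hfin : IsOfFinOrder ((a : ZMod r)) :=
    isOfFinOrder_iff_pow_eq_one.2 ⟨n, by omega, han⟩
  have hm0 : 0 < m := hfin.orderOf_pos
  obtain ⟨k, hk0, hkn, hk⟩ := hno r hrp.out han
  have hmk : m ∣ k := orderOf_dvd_of_pow_eq_one hk
  have hmlt : m < n := lt_of_le_of_lt (Nat.le_of_dvd hk0 hmk) hkn
  have ha0 : ((a : ZMod r)) ≠ 0 := by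
    intro h0
    rw [h0, zero_pow (by omega)] at han
    exact zero_ne_one han
  have hmr : m ∣ r - 1 := orderOf_dvd_of_pow_eq_one (ZMod.pow_card_sub_one_eq_one ha0)
  have hpow : ∀ d, m ∣ d → ((a : ZMod r)) ^ d = 1 := fun d hd =>
    orderOf_dvd_iff_pow_eq_one.1 hd
  obtain ⟨q, hq⟩ := hmn
  have hq1 : 1 < q := by
    by_contra h
    have : q = 0 ∨ q = 1 := by omega
    rcases this with rfl | rfl
    · omega
    · omega
  have hnq : n / m = q := by rw [hq]; exact Nat.mul_div_cancel_left q hm0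
  have hrq : r ∣ q := by
    have := dvd_div_of_dvd_Phi ha ⟨q, hq⟩ hmlt hm0 hr (hpow m dvd_rfl)
    rwa [hnq] at this
  have huniq : ∀ {p : ℕ}, p.Prime → p ∣ q → p = r := by
    intro p hp hpq
    obtain ⟨t, ht⟩ := hpq
    have hpn : p ∣ n := ⟨m * t, by rw [hq, ht]; ring⟩
    have hd : n / p ∣ n := Nat.div_dvd_of_dvd hpn
    have hdlt : n / p < n := Nat.div_lt_self (by omega) hp.one_lt
    have hd0 : 0 < n / p := Nat.div_pos (Nat.le_of_dvd (by omega) hpn) hp.pos
    have hnp : n / p = m * t := by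
      rw [hq, ht]
      rw [show m * (p * t) = p * (m * t) by ring]
      exact Nat.mul_div_cancel_left _ hp.pos
    have hmd : m ∣ n / p := ⟨t, hnp⟩
    have h1 := dvd_div_of_dvd_Phi ha hd hdlt hd0 hr (hpow _ hmd)
    rw [Nat.div_div_self hpn (by omega)] at h1
    exact ((Nat.prime_dvd_prime_iff_eq hrp.out hp).1 h1).symm
  have hqpow := Nat.eq_prime_pow_of_unique_prime_dvd (by omega : q ≠ 0) huniq
  refine ⟨m, q.primeFactorsList.length, hm0, hmr, ?_, ?_, hpow⟩
  · rcases Nat.eq_zero_or_pos q.primeFactorsList.length with h0 | h0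
    · rw [h0, pow_zero] at hqpow
      omega
    · exact h0
  · rw [hq]
    congr 1

theorem prime_unique_aux {n a r r' : ℕ} (ha : 1 < a) (hn : 1 < n) (hno : NoPrim a n)
    [hrp : Fact r.Prime] [hrp' : Fact r'.Prime] (hr : (r : ℤ) ∣ Phi n a)
    (hr' : (r' : ℤ) ∣ Phi n a) (hlt : r < r') : False := by
  obtain ⟨m, j, hm0, hmr, hj, hnm, -⟩ := struct_of_dvd_Phi ha hn hno hr
  obtain ⟨m', j', hm0', hmr', hj', hnm', -⟩ := struct_of_dvd_Phi ha hn hno hr'
  have h1 : r' ∣ m * r ^ j := by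
    rw [← hnm, hnm']
    exact Dvd.dvd.mul_left (dvd_pow_self r' hj'.ne') m'
  rcases (Nat.Prime.dvd_mul hrp'.out).1 h1 with h2 | h2
  · have h3 := Nat.le_of_dvd hm0 h2
    have h4 := Nat.le_of_dvd (by have := hrp.out.two_le; omega) hmr
    omega
  · have h3 := hrp'.out.dvd_of_dvd_pow h2
    have h4 := (Nat.prime_dvd_prime_iff_eq hrp'.out hrp.out).1 h3
    omega

theorem prime_unique {n a r r' : ℕ} (ha : 1 < a) (hn : 1 < n) (hno : NoPrim a n)
    (hrp : r.Prime) (hrp' : r'.Prime) (hr : (r : ℤ) ∣ Phi n a)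
    (hr' : (r' : ℤ) ∣ Phi n a) : r = r' := by
  have := Fact.mk hrp
  have := Fact.mk hrp'
  rcases lt_trichotomy r r' with h | h | h
  · exact (prime_unique_aux ha hn hno hr hr' h).elim
  · exact h
  · exact (prime_unique_aux ha hn hno hr' hr h).elim

theorem one_lt_natAbs_Phi {n a : ℕ} (ha : 1 < a) (hn : 1 < n) : 1 < (Phi n a).natAbs := by
  have h := sub_one_pow_totient_lt_natAbs_cyclotomic_eval hn (by omega : a ≠ 1)
  have h1 : 1 ≤ (a - 1) ^ Nat.totient n := Nat.one_le_pow _ _ (by omega)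
  exact lt_of_le_of_lt h1 h

/-- without primitive prime divisors, `Φ_n(a)` is a prime power -/
theorem Phi_eq_prime_pow {n a : ℕ} (ha : 1 < a) (hn : 1 < n) (hno : NoPrim a n) :
    ∃ r e : ℕ, r.Prime ∧ 0 < e ∧ Phi n a = (r : ℤ) ^ e := by
  have h1 := one_lt_natAbs_Phi ha hn
  obtain ⟨r, hrp, hr⟩ := Nat.exists_prime_and_dvd (by omega : (Phi n a).natAbs ≠ 1)
  have hr' : (r : ℤ) ∣ Phi n a := Int.natCast_dvd.2 hr
  have huniq : ∀ {p : ℕ}, p.Prime → p ∣ (Phi n a).natAbs → p = r := by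
    intro p hp hpd
    exact prime_unique ha hn hno hp hrp (Int.natCast_dvd.2 hpd) hr'
  have h2 := Nat.eq_prime_pow_of_unique_prime_dvd (by omega : (Phi n a).natAbs ≠ 0) huniq
  refine ⟨r, (Phi n a).natAbs.primeFactorsList.length, hrp, ?_, ?_⟩
  · rcases Nat.eq_zero_or_pos (Phi n a).natAbs.primeFactorsList.length with h0 | h0
    · rw [h0, pow_zero] at h2
      omega
    · exact h0
  · have h3 : Phi n a = ((Phi n a).natAbs : ℤ) := (Int.natAbs_of_nonneg (Phi_pos n ha).le).symm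
    rw [h3]
    exact_mod_cast h2

/-- for an odd prime `r`, `r^2 ∤ Φ_n(a)` (when there is no primitive prime divisor) -/
theorem not_sq_dvd_of_odd {n a r : ℕ} (ha : 1 < a) (hn : 1 < n) (hno : NoPrim a n)
    [hrp : Fact r.Prime] (hodd : Odd r) (hr : (r : ℤ) ∣ Phi n a) :
    ¬ ((r : ℤ) ^ 2 ∣ Phi n a) := by
  obtain ⟨m, j, hm0, hmr, hj, hnm, hpow⟩ := struct_of_dvd_Phi ha hn hno hr
  obtain ⟨j', rfl⟩ : ∃ j', j = j' + 1 := ⟨j - 1, by omega⟩
  set d := m * r ^ j' with hd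
  have hr2 := hrp.out.two_le
  have hd0 : 0 < d := Nat.mul_pos hm0 (pow_pos (by omega) _)
  have hnd : n = d * r := by rw [hnm, hd, pow_succ]; ring
  have hdn : d ∣ n := ⟨r, hnd⟩
  have hdlt : d < n := by rw [hnd]; nlinarith
  have hndr : n / d = r := by rw [hnd]; exact Nat.mul_div_cancel_left r hd0
  have hG := Phi_dvd_geom ha hdn hdlt hd0
  rw [hndr] at hG
  have had : ((a : ZMod r)) ^ d = 1 := hpow d ⟨r ^ j', rfl⟩
  have hxy : (r : ℤ) ∣ (a : ℤ) ^ d - 1 := by
    rw [← ZMod.intCast_zmod_eq_zero_iff_dvd]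
    push_cast
    rw [had, sub_self]
  have hx : ¬ (r : ℤ) ∣ (a : ℤ) ^ d := by
    intro h
    have h1 : (r : ℤ) ∣ 1 := by
      have := dvd_sub h hxy
      simpa using this
    have h2 := Int.natCast_dvd_natCast.1 (by simpa using h1 : ((r : ℕ) : ℤ) ∣ ((1 : ℕ) : ℤ))
    have := Nat.le_of_dvd one_pos h2
    omega
  have hprime : Prime (r : ℤ) := Nat.prime_iff_prime_int.1 hrp.out
  have hmul := emultiplicity_geom_sum₂_eq_one (R := ℤ) (p := r) (x := (a : ℤ) ^ d) (y := 1)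
    hprime hodd hxy hx
  simp only [one_pow, mul_one] at hmul
  have h3 := (emultiplicity_eq_coe.1 (by exact_mod_cast hmul :
    emultiplicity (r : ℤ) (∑ i ∈ Finset.range r, ((a : ℤ) ^ d) ^ i) = ((1 : ℕ) : ℕ∞))).2
  intro h4
  exact h3 (h4.trans hG)

/-- the case `r = 2`: either `n = 2` or `4 ∤ Φ_n(a)` -/
theorem two_case {n a : ℕ} (ha : 1 < a) (hn : 1 < n) (hno : NoPrim a n)
    (hr : ((2 : ℕ) : ℤ) ∣ Phi n a) : n = 2 ∨ ¬ (((2 : ℕ) : ℤ) ^ 2 ∣ Phi n a) := by
  have : Fact (Nat.Prime 2) := ⟨Nat.prime_two⟩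
  obtain ⟨m, j, hm0, hmr, hj, hnm, hpow⟩ := struct_of_dvd_Phi ha hn hno hr
  have hm1 : m = 1 := by
    have := Nat.le_of_dvd (by norm_num) hmr
    omega
  subst hm1
  rw [one_mul] at hnm
  rcases Nat.lt_or_ge j 2 with hj2 | hj2
  · left
    have : j = 1 := by omega
    rw [hnm, this, pow_one]
  · right
    obtain ⟨j', rfl⟩ : ∃ j', j = j' + 2 := ⟨j - 2, by omega⟩
    set d := 2 ^ (j' + 1) with hd
    have hd0 : 0 < d := pow_pos (by norm_num) _
    have hnd : n = d * 2 := by rw [hnm, hd, pow_succ]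
    have hdn : d ∣ n := ⟨2, hnd⟩
    have hdlt : d < n := by omega
    have hndr : n / d = 2 := by rw [hnd]; exact Nat.mul_div_cancel_left 2 hd0
    have hG := Phi_dvd_geom ha hdn hdlt hd0
    rw [hndr] at hG
    rw [Finset.sum_range_succ, Finset.sum_range_one, pow_zero, pow_one] at hG
    -- `a` is odd
    have hodd : Odd (a : ℤ) := by
      have h1 := pow_eq_one_of_dvd_Phi hr
      rcases Nat.even_or_odd a with he | ho
      · exfalso
        have h0 : ((a : ZMod 2)) = 0 := by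
          rw [ZMod.natCast_eq_zero_iff]
          exact even_iff_two_dvd.1 he
        rw [h0, zero_pow (by omega)] at h1
        exact zero_ne_one h1
      · exact_mod_cast ho
    have hsq : ((a : ℤ) ^ d) = (((a : ℤ) ^ (2 ^ j')) ^ 2) := by
      rw [← pow_mul, hd, pow_succ]
    have hodd2 : Odd ((a : ℤ) ^ (2 ^ j')) := hodd.pow
    have h4 := Int.sq_mod_four_eq_one_of_odd hodd2
    intro h5
    have h6 : (4 : ℤ) ∣ 1 + (a : ℤ) ^ d := by
      have := h5.trans hG
      norm_num at this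
      exact this
    rw [hsq] at h6
    omega

theorem Phi_two_le (m : ℕ) : Phi m 2 ≤ 3 ^ Nat.totient m := by
  have h := cyclotomic_eval_le_add_one_pow_totient (q := (2 : ℝ)) (by norm_num) m
  have h2 : (cyclotomic m ℝ).eval 2 = ((Phi m 2 : ℤ) : ℝ) := by
    have := cyclotomic.eval_apply (2 : ℤ) m (Int.castRingHom ℝ)
    simpa [Phi] using this
  rw [h2] at h
  have h3 : ((Phi m 2 : ℤ) : ℝ) ≤ (((3 : ℤ) ^ Nat.totient m : ℤ) : ℝ) := by
    push_cast
    have h5 : ((2 : ℝ) + 1) = 3 := by norm_num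
    rw [h5] at h
    exact h
  exact_mod_cast h3

theorem Phi_two_eq (a : ℕ) : Phi 2 a = (a : ℤ) + 1 := by
  simp [Phi, cyclotomic_two]

theorem Phi_one_eq (a : ℕ) : Phi 1 a = (a : ℤ) - 1 := by
  simp [Phi, cyclotomic_one]

/-- without primitive prime divisors (and outside the `n = 2` exception), `Φ_n(a)` is a prime -/
theorem Phi_eq_prime {n a : ℕ} (ha : 1 < a) (hn : 1 < n) (hno : NoPrim a n)
    (h2 : ¬ (n = 2 ∧ ∃ m : ℕ, a + 1 = 2 ^ m)) : ∃ r : ℕ, r.Prime ∧ Phi n a = (r : ℤ) := by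
  obtain ⟨r, e, hrp, he, hPhi⟩ := Phi_eq_prime_pow ha hn hno
  have hr : (r : ℤ) ∣ Phi n a := by rw [hPhi]; exact dvd_pow_self _ he.ne'
  refine ⟨r, hrp, ?_⟩
  rcases Nat.lt_or_ge e 2 with he2 | he2
  · have : e = 1 := by omega
    rw [hPhi, this, pow_one]
  · exfalso
    have hsq : (r : ℤ) ^ 2 ∣ Phi n a := by rw [hPhi]; exact pow_dvd_pow _ he2
    rcases hrp.eq_two_or_odd' with h | h
    · subst h
      rcases two_case ha hn hno hr with h3 | h3
      · apply h2
        refine ⟨h3, e, ?_⟩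
        subst h3
        rw [Phi_two_eq] at hPhi
        exact_mod_cast hPhi
      · exact h3 hsq
    · have := Fact.mk hrp
      exact not_sq_dvd_of_odd ha hn hno h hr hsq

theorem three_mul_add_one_le_two_pow {r : ℕ} (hr : 4 ≤ r) : 3 * r + 1 ≤ 2 ^ r := by
  induction r, hr using Nat.le_induction with
  | base => norm_num
  | succ k hk ih => rw [pow_succ]; omega

/-- **Zsigmondy's theorem** (Bang's case `b = 1`), contrapositive form. -/
theorem not_noPrim {a n : ℕ} (ha : 1 < a) (hn : 1 < n) (h6 : ¬ (a = 2 ∧ n = 6))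
    (h2 : ¬ (n = 2 ∧ ∃ m : ℕ, a + 1 = 2 ^ m)) : ¬ NoPrim a n := by
  intro hno
  obtain ⟨r, hrp, hPhi⟩ := Phi_eq_prime ha hn hno h2
  have := Fact.mk hrp
  have hr : (r : ℤ) ∣ Phi n a := by rw [hPhi]
  obtain ⟨m, j, hm0, hmr, hj, hnm, hpow⟩ := struct_of_dvd_Phi ha hn hno hr
  have hr2 := hrp.two_le
  have hrn : r ∣ n := by rw [hnm]; exact Dvd.dvd.mul_left (dvd_pow_self r hj.ne') m
  have hnat : (Phi n a).natAbs = r := by rw [hPhi]; exact Int.natAbs_natCast r
  have hsize := sub_one_pow_totient_lt_natAbs_cyclotomic_eval hn (by omega : a ≠ 1)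
  change (a - 1) ^ Nat.totient n < (Phi n a).natAbs at hsize
  rw [hnat] at hsize
  have htot : r - 1 ≤ Nat.totient n := by
    have h1 := Nat.totient_dvd_of_dvd hrn
    rw [Nat.totient_prime hrp] at h1
    exact Nat.le_of_dvd (Nat.totient_pos.2 (by omega)) h1
  rcases Nat.lt_or_ge a 3 with ha3 | ha3
  · -- `a = 2`
    have ha2 : a = 2 := by omega
    subst ha2
    have hr3 : 3 ≤ r := by
      by_contra hlt
      have hre : r = 2 := by omega
      subst hre
      have h1 := pow_eq_one_of_dvd_Phi hr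
      have h0 : (((2 : ℕ) : ZMod 2)) = 0 := by
        rw [ZMod.natCast_eq_zero_iff]
      rw [h0, zero_pow (by omega)] at h1
      exact zero_ne_one h1
    have h2r : r < 2 ^ r := Nat.lt_two_pow_self
    rcases Nat.lt_or_ge j 2 with hj2 | hj2
    · -- `j = 1`
      have hj1 : j = 1 := by omega
      subst hj1
      rw [pow_one] at hnm
      have hrm : ¬ r ∣ m := by
        intro h
        have h1 := Nat.le_of_dvd hm0 h
        have h3 := Nat.le_of_dvd (by omega) hmr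
        omega
      have hexp := cyclotomic_expand_eq_cyclotomic_mul hrp hrm ℤ
      have hev := congrArg (eval (2 : ℤ)) hexp
      rw [expand_eval, eval_mul] at hev
      have hev' : Phi m (2 ^ r) = Phi n 2 * Phi m 2 := by
        rw [hnm]
        simpa [Phi] using hev
      rw [hPhi] at hev'
      rcases Nat.lt_or_ge m 2 with hm2 | hm2
      · have hm1 : m = 1 := by omega
        subst hm1
        rw [Phi_one_eq, Phi_one_eq] at hev'
        push_cast at hev'
        have h5 : (2 : ℤ) ^ r = (r : ℤ) + 1 := by linarith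
        have h6' : 2 ^ r = r + 1 := by exact_mod_cast h5
        have h7 := three_mul_add_one_le_two_pow (r := r + 1) (by omega)
        rw [pow_succ] at h7
        omega
      · have hlow := sub_one_pow_totient_lt_natAbs_cyclotomic_eval (n := m) (q := 2 ^ r)
          (by omega) (by omega)
        change (2 ^ r - 1) ^ Nat.totient m < (Phi m (2 ^ r)).natAbs at hlow
        have hup := Phi_two_le m
        have hpos2 := Phi_pos m (a := 2) (by norm_num)
        have hk : 0 < Nat.totient m := Nat.totient_pos.2 (by omega)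
        have hnat2 : (Phi m (2 ^ r)).natAbs ≤ r * 3 ^ Nat.totient m := by
          rw [hev']
          have h8 : ((r : ℤ) * Phi m 2) ≤ ((r * 3 ^ Nat.totient m : ℕ) : ℤ) := by
            push_cast
            exact mul_le_mul_of_nonneg_left hup (by positivity)
          have h9 : 0 ≤ (r : ℤ) * Phi m 2 := by positivity
          omega
        rcases Nat.lt_or_ge r 4 with hr4 | hr4
        · have hre : r = 3 := by omega
          subst hre
          have hm2' : m = 2 := by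
            have := Nat.le_of_dvd (by norm_num) hmr
            omega
          apply h6
          refine ⟨rfl, ?_⟩
          rw [hnm, hm2']
        · have h10 := three_mul_add_one_le_two_pow hr4
          have h11 : (3 * r) ^ Nat.totient m ≤ (2 ^ r - 1) ^ Nat.totient m :=
            Nat.pow_le_pow_left (by omega) _
          have h12 : r * 3 ^ Nat.totient m ≤ (3 * r) ^ Nat.totient m := by
            rw [mul_pow, mul_comm]
            exact Nat.mul_le_mul_left _ (Nat.le_self_pow hk.ne' r)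
          omega
    · -- `j ≥ 2`
      obtain ⟨j', rfl⟩ : ∃ j', j = j' + 2 := ⟨j - 2, by omega⟩
      set n' := m * r ^ (j' + 1) with hn'
      have hnn' : n = n' * r := by rw [hnm, hn', pow_succ r (j' + 1)]; ring
      have hdiv : r ∣ n' := by rw [hn']; exact Dvd.dvd.mul_left (dvd_pow_self r (by omega)) m
      have hexp := cyclotomic_expand_eq_cyclotomic hrp hdiv ℤ
      have hev := congrArg (eval (2 : ℤ)) hexp
      rw [expand_eval] at hev
      have hev' : Phi n' (2 ^ r) = Phi n 2 := by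
        rw [hnn']
        simpa [Phi] using hev
      have hn'1 : 1 < n' := by
        have := Nat.le_of_dvd (by rw [hn']; exact Nat.mul_pos hm0 (pow_pos (by omega) _)) hdiv
        omega
      have hlow := sub_one_pow_totient_lt_natAbs_cyclotomic_eval (n := n') (q := 2 ^ r)
        hn'1 (by omega)
      change (2 ^ r - 1) ^ Nat.totient n' < (Phi n' (2 ^ r)).natAbs at hlow
      rw [hev', hnat] at hlow
      have hk : 0 < Nat.totient n' := Nat.totient_pos.2 (by omega)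
      have h11 : 2 ^ r - 1 ≤ (2 ^ r - 1) ^ Nat.totient n' := Nat.le_self_pow hk.ne' _
      omega
  · -- `a ≥ 3`
    have h1 : 2 ^ (r - 1) ≤ (a - 1) ^ (r - 1) := Nat.pow_le_pow_left (by omega) _
    have h3 : (a - 1) ^ (r - 1) ≤ (a - 1) ^ Nat.totient n :=
      Nat.pow_le_pow_right (by omega) htot
    have h4 : r - 1 < 2 ^ (r - 1) := Nat.lt_two_pow_self
    omega

theorem cast_pow_eq_one_iff {a : ℕ} (ha : 0 < a) (k r : ℕ) :
    ((a : ZMod r)) ^ k = 1 ↔ r ∣ a ^ k - 1 := by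
  have h1 : 1 ≤ a ^ k := Nat.one_le_pow _ _ ha
  rw [← Nat.modEq_iff_dvd' h1, ← ZMod.natCast_eq_natCast_iff]
  push_cast
  exact eq_comm

/-- **Zsigmondy's theorem** for `a ^ n - 1`. -/
theorem zsigmondy {a n : ℕ} (ha : 1 < a) (hn : 1 < n) (h6 : ¬ (a = 2 ∧ n = 6))
    (h2 : ¬ (n = 2 ∧ ∃ m : ℕ, a + 1 = 2 ^ m)) :
    ∃ r : ℕ, r.Prime ∧ r ∣ a ^ n - 1 ∧ ∀ k : ℕ, 0 < k → k < n → ¬ r ∣ a ^ k - 1 := by
  have h := not_noPrim ha hn h6 h2
  unfold NoPrim at h
  push Not at h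
  obtain ⟨r, hrp, hrn, hk⟩ := h
  refine ⟨r, hrp, (cast_pow_eq_one_iff (by omega) n r).1 hrn, ?_⟩
  intro k hk0 hkn hdvd
  exact hk k hk0 hkn ((cast_pow_eq_one_iff (by omega) k r).2 hdvd)

end Cfsg.Agent.Helper17.Zsig
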