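import Mathlib
import Cfsg.Prelude.Def_Classical
import Cfsg.Agent.Helper8.MatBNDefs
import Cfsg.Agent.Helper8.S2546Defs

set_option autoImplicit false
open scoped Matrix

/-! # S2546 piece PRES: the entrywise membership criterion for `SUJ σ n`. -/

namespace Cfsg.Agent.S2546P

open Cfsg.Agent.MatBN

variable {K : Type*} [Field K]

namespace PRES

theorem rho_apply (σ : K →+* K) (n : ℕ) (g : SUJ σ n) :
    rho σ n g = ((g : Matrix.SpecialLinearGroup (Fin n) K) : Matrix (Fin n) (Fin n) K) := rfl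

/-- the form on the images of the basis vectors -/
theorem hJ_mulVec_single (σ : K →+* K) (n : ℕ) (M : Matrix (Fin n) (Fin n) K) (a c : Fin n) :
    hJ σ n (M *ᵥ Pi.single a 1) (M *ᵥ Pi.single c 1) = ∑ i, M i a * σ (M i.rev c) := by
  unfold hJ
  simp

theorem hJ_single (σ : K →+* K) (n : ℕ) (a c : Fin n) :
    hJ σ n (Pi.single a 1) (Pi.single c 1) = if c = a.rev then 1 else 0 := by
  unfold hJ
  rw [Finset.sum_eq_single a]
  · rw [Pi.single_eq_same, one_mul]
    by_cases h : c = a.rev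
    · rw [if_pos h, h, Pi.single_eq_same, map_one]
    · rw [if_neg h, Pi.single_eq_of_ne (Ne.symm h), map_zero]
  · intro b _ hb
    rw [Pi.single_eq_of_ne hb, zero_mul]
  · intro h
    exact absurd (Finset.mem_univ a) h

/-- sesquilinear expansion -/
theorem hJ_mulVec_expand (σ : K →+* K) (n : ℕ) (M : Matrix (Fin n) (Fin n) K) (u v : Fin n → K) :
    hJ σ n (M *ᵥ u) (M *ᵥ v) = ∑ a, ∑ c, u a * σ (v c) * ∑ i, M i a * σ (M i.rev c) := by
  unfold hJ
  simp only [Matrix.mulVec, dotProduct, map_sum, map_mul, Finset.sum_mul, Finset.mul_sum]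
  rw [Finset.sum_comm]
  conv_lhs =>
    arg 2
    ext c
    rw [Finset.sum_comm]
  rw [Finset.sum_comm]
  apply Finset.sum_congr rfl
  intro a _
  apply Finset.sum_congr rfl
  intro c _
  apply Finset.sum_congr rfl
  intro i _
  ring

theorem hJ_mulVec_of_presJ (σ : K →+* K) (n : ℕ) (M : Matrix (Fin n) (Fin n) K) (hP : PresJ σ n M)
    (u v : Fin n → K) : hJ σ n (M *ᵥ u) (M *ᵥ v) = hJ σ n u v := by
  rw [hJ_mulVec_expand]
  unfold hJ
  apply Finset.sum_congr rfl
  intro a _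
  rw [Finset.sum_eq_single a.rev]
  · rw [hP a a.rev, if_pos rfl, mul_one]
  · intro c _ hc
    rw [hP a c, if_neg hc, mul_zero]
  · intro h
    exact absurd (Finset.mem_univ _) h

end PRES

open PRES

theorem hJ_mulVec (σ : K →+* K) (n : ℕ) (g : SUJ σ n) (u v : Fin n → K) :
    hJ σ n (rho σ n g *ᵥ u) (rho σ n g *ᵥ v) = hJ σ n u v :=
  g.2 u v

theorem presJ_of_mem (σ : K →+* K) (n : ℕ) (g : SUJ σ n) : PresJ σ n (rho σ n g) := by
  intro a c
  rw [← hJ_mulVec_single, hJ_mulVec, hJ_single]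

theorem det_of_mem (σ : K →+* K) (n : ℕ) (g : SUJ σ n) : (rho σ n g).det = 1 :=
  (g : Matrix.SpecialLinearGroup (Fin n) K).2

theorem exists_of_presJ (σ : K →+* K) (n : ℕ) (M : Matrix (Fin n) (Fin n) K) (hdet : M.det = 1)
    (hP : PresJ σ n M) : ∃ g : SUJ σ n, rho σ n g = M := by
  refine ⟨⟨⟨M, hdet⟩, ?_⟩, rfl⟩
  intro u v
  exact hJ_mulVec_of_presJ σ n M hP u v

theorem rho_injective (σ : K →+* K) (n : ℕ) : Function.Injective (rho σ n) := by
  intro g g' h
  apply Subtype.ext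
  apply Subtype.ext
  exact h

end Cfsg.Agent.S2546P
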