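import Mathlib
import Cfsg.Prelude.Def_Classical
import Cfsg.Agent.Helper8.MatBNDefs
import Cfsg.Agent.Helper8.S2546Defs

set_option autoImplicit false
open scoped Matrix

/-! # S2546: values of the permutations `tau n j` (helper17; auxiliary, used by SMEML/SMEME/SMEMO). -/

namespace Cfsg.Agent.S2546P

open Cfsg.Agent.MatBN

namespace TAU17

/-- the action of `tau n j` on values -/
def tv (n j x : ℕ) : ℕ :=
  if j + 1 < n / 2 then
    (if x = j then j + 1 else if x = j + 1 then j else if x = n - 2 - j then n - 1 - j
      else if x = n - 1 - j then n - 2 - j else x)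
  else if j + 1 = n / 2 then (if x = j then n - 1 - j else if x = n - 1 - j then j else x)
  else x

theorem swap_val {n : ℕ} (a b i : Fin n) :
    (Equiv.swap a b i).val =
      if i.val = a.val then b.val else if i.val = b.val then a.val else i.val := by
  rw [Equiv.swap_apply_def]
  by_cases h1 : i = a
  · rw [if_pos h1, if_pos (congrArg Fin.val h1)]
  · rw [if_neg h1, if_neg (fun h => h1 (Fin.ext h))]
    by_cases h2 : i = b
    · rw [if_pos h2, if_pos (congrArg Fin.val h2)]
    · rw [if_neg h2, if_neg (fun h => h2 (Fin.ext h))]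

theorem tau_val (n j : ℕ) (i : Fin n) : (tau n j i).val = tv n j i.val := by
  unfold tau tv
  have hi := i.2
  by_cases h : j + 1 < n / 2
  · rw [dif_pos h, if_pos h, Equiv.Perm.mul_apply, swap_val, swap_val]
    simp only []
    split_ifs <;> omega
  · rw [dif_neg h, if_neg h]
    by_cases h' : j + 1 = n / 2
    · rw [dif_pos h', if_pos h', swap_val]
    · rw [dif_neg h', if_neg h']
      rfl

theorem tau_rev' (n j : ℕ) (i : Fin n) : tau n j i.rev = (tau n j i).rev := by
  apply Fin.ext
  rw [tau_val, Fin.val_rev, Fin.val_rev, tau_val]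
  have hi := i.2
  unfold tv
  split_ifs <;> omega

end TAU17

end Cfsg.Agent.S2546P
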