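import Mathlib
import Cfsg.Prelude.Def_Classical
import Cfsg.Agent.Helper8.MatBNDefs
import Cfsg.Agent.Helper8.S2546Defs
import Cfsg.Agent.Helper17.S2546PRES
import Cfsg.Agent.Helper17.S2546TauVal

set_option autoImplicit false
set_option linter.unusedSimpArgs false
open scoped Matrix

/-! # S2546 pieces SMEML, SMEME, SMEMO, SMEM: the lifts of the simple reflections are special isometries,
monomial with the permutations `tau n j`. -/

namespace Cfsg.Agent.S2546P

open Cfsg.Agent.MatBN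

namespace SMEM17

variable {K : Type*} [Field K] {n : ℕ}

/-- `PresJ` for a monomial matrix whose permutation commutes with `rev` -/
theorem presJ_of_mon (σ : K →+* K) (M : Matrix (Fin n) (Fin n) K) (π : Equiv.Perm (Fin n))
    (hπ : ∀ i, π i.rev = (π i).rev) (hM : ∀ a c, a ≠ π c → M a c = 0)
    (hμ : ∀ c, M (π c) c * σ (M (π c.rev) c.rev) = 1) : PresJ σ n M := by
  intro a c
  rw [Finset.sum_eq_single (π a)]
  · rw [← hπ]
    by_cases h : c = a.rev
    · rw [if_pos h, h]; exact hμ a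
    · rw [if_neg h, hM _ _ (fun e => h (π.injective e).symm), map_zero, mul_zero]
  · intro b _ hb
    rw [hM b a hb, zero_mul]
  · intro h
    exact absurd (Finset.mem_univ _) h

/-- determinant of a monomial matrix -/
theorem det_of_mon (M : Matrix (Fin n) (Fin n) K) (π : Equiv.Perm (Fin n))
    (hM : ∀ a c, a ≠ π c → M a c = 0) :
    M.det = ((Equiv.Perm.sign π : ℤˣ) : ℤ) * ∏ c, M (π c) c := by
  rw [Matrix.det_apply']
  rw [Finset.sum_eq_single π]
  · intro τ _ hτ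
    have : ∃ i, τ i ≠ π i := by
      by_contra hcon
      push Not at hcon
      exact hτ (Equiv.ext hcon)
    obtain ⟨i, hi⟩ := this
    have h0 : ∏ k, M (τ k) k = 0 := Finset.prod_eq_zero (Finset.mem_univ i) (hM _ _ hi)
    rw [h0, mul_zero]
  · intro h
    exact absurd (Finset.mem_univ _) h

theorem mon_of (M : Matrix (Fin n) (Fin n) K) (π : Equiv.Perm (Fin n))
    (hM : ∀ a c, a ≠ π c → M a c = 0) (hμ : ∀ c, M (π c) c ≠ 0) : Mon M π := by
  intro a c
  constructor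
  · intro h
    by_contra hne
    exact h (hM a c hne)
  · intro h
    rw [h]
    exact hμ c

end SMEM17

open SMEM17 TAU17

variable {K : Type*} [Field K]

/-- SMEML -/
theorem presJ_pMat_tau (σ : K →+* K) (n j : ℕ) (hj : j + 1 < n / 2) :
    PresJ σ n (pMat n (tau n j) : Matrix (Fin n) (Fin n) K) ∧
      (pMat n (tau n j) : Matrix (Fin n) (Fin n) K).det = 1 ∧
      Mon (pMat n (tau n j) : Matrix (Fin n) (Fin n) K) (tau n j) := by
  have hM : ∀ a c : Fin n, a ≠ tau n j c → (pMat n (tau n j) : Matrix (Fin n) (Fin n) K) a c = 0 := by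
    intro a c h
    unfold pMat
    rw [Matrix.of_apply, if_neg h]
  have hμ : ∀ c : Fin n, (pMat n (tau n j) : Matrix (Fin n) (Fin n) K) (tau n j c) c = 1 := by
    intro c
    unfold pMat
    rw [Matrix.of_apply, if_pos rfl]
  refine ⟨presJ_of_mon σ _ _ (tau_rev' n j) hM ?_, ?_, mon_of _ _ hM ?_⟩
  · intro c
    rw [hμ, hμ, map_one, mul_one]
  · rw [det_of_mon _ _ hM]
    have hsign : Equiv.Perm.sign (tau n j) = 1 := by
      unfold tau
      rw [dif_pos hj, Equiv.Perm.sign_mul, Equiv.Perm.sign_swap, Equiv.Perm.sign_swap]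
      · rfl
      · intro h
        have := congrArg Fin.val h
        simp only at this
        omega
      · intro h
        have := congrArg Fin.val h
        simp only at this
        omega
    rw [hsign, Finset.prod_eq_one (fun c _ => hμ c)]
    simp
  · intro c
    rw [hμ]
    exact one_ne_zero

namespace SMEM17

theorem sE_apply (n : ℕ) (hn : n % 2 = 0) (hn2 : 2 ≤ n) (ζ : K) (a c : Fin n) :
    sE n ζ a c = if c.val = n / 2 - 1 then (if a.val = n / 2 then -ζ⁻¹ else 0)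
      else if c.val = n / 2 then (if a.val = n / 2 - 1 then ζ else 0)
      else (if a = c then 1 else 0) := by
  simp only [sE, E, Matrix.sub_apply, Matrix.add_apply, Matrix.smul_apply, Matrix.one_apply,
    Matrix.of_apply, smul_eq_mul, Fin.ext_iff]
  have hm : n / 2 - 1 ≠ n / 2 := by omega
  have hm' : n / 2 ≠ n / 2 - 1 := by omega
  obtain hx | hx | ⟨hx1, hx2⟩ : a.val = n / 2 - 1 ∨ a.val = n / 2 ∨
      (a.val ≠ n / 2 - 1 ∧ a.val ≠ n / 2) := by omega
  · obtain hy | hy | ⟨hy1, hy2⟩ : c.val = n / 2 - 1 ∨ c.val = n / 2 ∨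
        (c.val ≠ n / 2 - 1 ∧ c.val ≠ n / 2) := by omega
    · simp [hx, hy, hm, hm']
    · simp [hx, hy, hm, hm']
    · simp [hx, hy1, hy2, hm, hm', Ne.symm hy1]
  · obtain hy | hy | ⟨hy1, hy2⟩ : c.val = n / 2 - 1 ∨ c.val = n / 2 ∨
        (c.val ≠ n / 2 - 1 ∧ c.val ≠ n / 2) := by omega
    · simp [hx, hy, hm, hm']
    · simp [hx, hy, hm, hm']
    · simp [hx, hy1, hy2, hm, hm', Ne.symm hy2]
  · obtain hy | hy | ⟨hy1, hy2⟩ : c.val = n / 2 - 1 ∨ c.val = n / 2 ∨
        (c.val ≠ n / 2 - 1 ∧ c.val ≠ n / 2) := by omega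
    · simp [hx1, hx2, hy, hm, hm']
    · simp [hx1, hx2, hy, hm, hm']
    · simp [hx1, hx2, hy1, hy2, hm, hm']

theorem sO_apply (n : ℕ) (hn : n % 2 = 1) (hn3 : 3 ≤ n) (a c : Fin n) :
    (sO n : Matrix (Fin n) (Fin n) K) a c =
      if c.val = n / 2 - 1 then (if a.val = n / 2 + 1 then 1 else 0)
      else if c.val = n / 2 + 1 then (if a.val = n / 2 - 1 then 1 else 0)
      else if c.val = n / 2 then (if a.val = n / 2 then -1 else 0)
      else (if a = c then 1 else 0) := by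
  simp only [sO, E, Matrix.sub_apply, Matrix.add_apply, Matrix.smul_apply, Matrix.one_apply,
    Matrix.of_apply, smul_eq_mul, Fin.ext_iff]
  have hm1 : n / 2 - 1 ≠ n / 2 := by omega
  have hm2 : n / 2 ≠ n / 2 - 1 := by omega
  have hm3 : n / 2 - 1 ≠ n / 2 + 1 := by omega
  have hm4 : n / 2 + 1 ≠ n / 2 - 1 := by omega
  have hm5 : n / 2 ≠ n / 2 + 1 := by omega
  have hm6 : n / 2 + 1 ≠ n / 2 := by omega
  have h12 : (1 : K) - 2 = -1 := by norm_num
  obtain hx | hx | hx | ⟨hx1, hx2, hx3⟩ : a.val = n / 2 - 1 ∨ a.val = n / 2 ∨ a.val = n / 2 + 1 ∨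
      (a.val ≠ n / 2 - 1 ∧ a.val ≠ n / 2 ∧ a.val ≠ n / 2 + 1) := by omega
  · obtain hy | hy | hy | ⟨hy1, hy2, hy3⟩ : c.val = n / 2 - 1 ∨ c.val = n / 2 ∨ c.val = n / 2 + 1 ∨
        (c.val ≠ n / 2 - 1 ∧ c.val ≠ n / 2 ∧ c.val ≠ n / 2 + 1) := by omega
    · simp [hx, hy, hm1, hm2, hm3, hm4, hm5, hm6]
    · simp [hx, hy, hm1, hm2, hm3, hm4, hm5, hm6]
    · simp [hx, hy, hm1, hm2, hm3, hm4, hm5, hm6]
    · simp [hx, hy1, hy2, hy3, hm1, hm2, hm3, hm4, hm5, hm6, Ne.symm hy1]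
  · obtain hy | hy | hy | ⟨hy1, hy2, hy3⟩ : c.val = n / 2 - 1 ∨ c.val = n / 2 ∨ c.val = n / 2 + 1 ∨
        (c.val ≠ n / 2 - 1 ∧ c.val ≠ n / 2 ∧ c.val ≠ n / 2 + 1) := by omega
    · simp [hx, hy, hm1, hm2, hm3, hm4, hm5, hm6]
    · simp [hx, hy, hm1, hm2, hm3, hm4, hm5, hm6, h12]
    · simp [hx, hy, hm1, hm2, hm3, hm4, hm5, hm6]
    · simp [hx, hy1, hy2, hy3, hm1, hm2, hm3, hm4, hm5, hm6, Ne.symm hy2]
  · obtain hy | hy | hy | ⟨hy1, hy2, hy3⟩ : c.val = n / 2 - 1 ∨ c.val = n / 2 ∨ c.val = n / 2 + 1 ∨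
        (c.val ≠ n / 2 - 1 ∧ c.val ≠ n / 2 ∧ c.val ≠ n / 2 + 1) := by omega
    · simp [hx, hy, hm1, hm2, hm3, hm4, hm5, hm6]
    · simp [hx, hy, hm1, hm2, hm3, hm4, hm5, hm6]
    · simp [hx, hy, hm1, hm2, hm3, hm4, hm5, hm6]
    · simp [hx, hy1, hy2, hy3, hm1, hm2, hm3, hm4, hm5, hm6, Ne.symm hy3]
  · obtain hy | hy | hy | ⟨hy1, hy2, hy3⟩ : c.val = n / 2 - 1 ∨ c.val = n / 2 ∨ c.val = n / 2 + 1 ∨
        (c.val ≠ n / 2 - 1 ∧ c.val ≠ n / 2 ∧ c.val ≠ n / 2 + 1) := by omega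
    · simp [hx1, hx2, hx3, hy, hm1, hm2, hm3, hm4, hm5, hm6]
    · simp [hx1, hx2, hx3, hy, hm1, hm2, hm3, hm4, hm5, hm6]
    · simp [hx1, hx2, hx3, hy, hm1, hm2, hm3, hm4, hm5, hm6]
    · simp [hx1, hx2, hx3, hy1, hy2, hy3, hm1, hm2, hm3, hm4, hm5, hm6]

/-- values of the last reflection permutation -/
theorem tau_last_val (n : ℕ) (hn2 : 2 ≤ n) (c : Fin n) :
    (tau n (n / 2 - 1) c).val =
      if c.val = n / 2 - 1 then n - 1 - (n / 2 - 1)
      else if c.val = n - 1 - (n / 2 - 1) then n / 2 - 1 else c.val := by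
  rw [tau_val]
  unfold tv
  have h1 : ¬ (n / 2 - 1 + 1 < n / 2) := by omega
  have h2 : n / 2 - 1 + 1 = n / 2 := by omega
  rw [if_neg h1, if_pos h2]

theorem sign_tau_last (n : ℕ) (hn2 : 2 ≤ n) : Equiv.Perm.sign (tau n (n / 2 - 1)) = -1 := by
  unfold tau
  have h1 : ¬ (n / 2 - 1 + 1 < n / 2) := by omega
  have h2 : n / 2 - 1 + 1 = n / 2 := by omega
  rw [dif_neg h1, dif_pos h2, Equiv.Perm.sign_swap]
  intro h
  have := congrArg Fin.val h
  simp only at this
  omega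

end SMEM17

/-- SMEME -/
theorem presJ_sE (σ : K →+* K) (n : ℕ) (hn : n % 2 = 0) (hn2 : 2 ≤ n) (ζ : K) (hζ : ζ ≠ 0)
    (hζσ : σ ζ = -ζ) :
    PresJ σ n (sE n ζ) ∧ (sE n ζ).det = 1 ∧ Mon (sE n ζ) (tau n (n / 2 - 1)) := by
  have hrev : n - 1 - (n / 2 - 1) = n / 2 := by omega
  have hm : n / 2 - 1 ≠ n / 2 := by omega
  have hm' : n / 2 ≠ n / 2 - 1 := by omega
  have hζinv : σ ζ⁻¹ = -ζ⁻¹ := by rw [map_inv₀, hζσ, inv_neg]
  have hM : ∀ a c : Fin n, a ≠ tau n (n / 2 - 1) c → sE n ζ a c = 0 := by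
    intro a c h
    have h' : a.val ≠ (tau n (n / 2 - 1) c).val := fun e => h (Fin.ext e)
    rw [tau_last_val n hn2, hrev] at h'
    rw [sE_apply n hn hn2]
    by_cases hc1 : c.val = n / 2 - 1
    · rw [if_pos hc1] at h'
      rw [if_pos hc1, if_neg h']
    · rw [if_neg hc1] at h'
      rw [if_neg hc1]
      by_cases hc2 : c.val = n / 2
      · rw [if_pos hc2] at h'
        rw [if_pos hc2, if_neg h']
      · rw [if_neg hc2] at h'
        rw [if_neg hc2, if_neg (fun e => h' (congrArg Fin.val e))]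
  have hμ : ∀ c : Fin n, sE n ζ (tau n (n / 2 - 1) c) c =
      if c.val = n / 2 - 1 then -ζ⁻¹ else if c.val = n / 2 then ζ else 1 := by
    intro c
    rw [sE_apply n hn hn2, tau_last_val n hn2, hrev]
    by_cases hc1 : c.val = n / 2 - 1
    · simp [hc1]
    · by_cases hc2 : c.val = n / 2
      · simp [hc2, hm']
      · simp [hc1, hc2, Fin.ext_iff, tau_last_val n hn2, hrev]
  have hrv : ∀ c : Fin n, c.rev.val = n - 1 - c.val := by
    intro c
    rw [Fin.val_rev]
    omega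
  refine ⟨presJ_of_mon σ _ _ (tau_rev' n _) hM ?_, ?_, mon_of _ _ hM ?_⟩
  · intro c
    rw [hμ, hμ, hrv]
    have hc := c.2
    by_cases hc1 : c.val = n / 2 - 1
    · have e1 : ¬ (n - 1 - c.val = n / 2 - 1) := by omega
      have e2 : n - 1 - c.val = n / 2 := by omega
      rw [if_pos hc1, if_neg e1, if_pos e2, hζσ]
      field_simp
    · by_cases hc2 : c.val = n / 2
      · have e1 : n - 1 - c.val = n / 2 - 1 := by omega
        rw [if_neg hc1, if_pos hc2, if_pos e1, map_neg, hζinv]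
        field_simp
      · have e1 : ¬ (n - 1 - c.val = n / 2 - 1) := by omega
        have e2 : ¬ (n - 1 - c.val = n / 2) := by omega
        rw [if_neg hc1, if_neg hc2, if_neg e1, if_neg e2, map_one, mul_one]
  · rw [det_of_mon _ _ hM, sign_tau_last n hn2]
    have hprod : ∏ c : Fin n, sE n ζ (tau n (n / 2 - 1) c) c = -1 := by
      have e : ∀ c : Fin n, sE n ζ (tau n (n / 2 - 1) c) c =
          (if c = (⟨n / 2 - 1, by omega⟩ : Fin n) then -ζ⁻¹ else 1) *
            (if c = (⟨n / 2, by omega⟩ : Fin n) then ζ else 1) := by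
        intro c
        rw [hμ]
        simp only [Fin.ext_iff]
        by_cases hc1 : c.val = n / 2 - 1
        · have : ¬ (c.val = n / 2) := by omega
          rw [if_pos hc1, if_pos hc1, if_neg this, mul_one]
        · rw [if_neg hc1, if_neg hc1, one_mul]
      rw [Finset.prod_congr rfl (fun c _ => e c), Finset.prod_mul_distrib, Finset.prod_ite_eq',
        Finset.prod_ite_eq', if_pos (Finset.mem_univ _), if_pos (Finset.mem_univ _)]
      field_simp
    rw [hprod]
    simp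
  · intro c
    rw [hμ]
    split_ifs
    · exact neg_ne_zero.mpr (inv_ne_zero hζ)
    · exact hζ
    · exact one_ne_zero

/-- SMEMO -/
theorem presJ_sO (σ : K →+* K) (n : ℕ) (hn : n % 2 = 1) (hn3 : 3 ≤ n) :
    PresJ σ n (sO n : Matrix (Fin n) (Fin n) K) ∧ (sO n : Matrix (Fin n) (Fin n) K).det = 1 ∧
      Mon (sO n : Matrix (Fin n) (Fin n) K) (tau n (n / 2 - 1)) := by
  have hn2 : 2 ≤ n := by omega
  have hrev : n - 1 - (n / 2 - 1) = n / 2 + 1 := by omega
  have hm1 : n / 2 - 1 ≠ n / 2 := by omega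
  have hm2 : n / 2 ≠ n / 2 - 1 := by omega
  have hm3 : n / 2 - 1 ≠ n / 2 + 1 := by omega
  have hm4 : n / 2 + 1 ≠ n / 2 - 1 := by omega
  have hm5 : n / 2 ≠ n / 2 + 1 := by omega
  have hm6 : n / 2 + 1 ≠ n / 2 := by omega
  have hM : ∀ a c : Fin n, a ≠ tau n (n / 2 - 1) c → (sO n : Matrix (Fin n) (Fin n) K) a c = 0 := by
    intro a c h
    have h' : a.val ≠ (tau n (n / 2 - 1) c).val := fun e => h (Fin.ext e)
    rw [tau_last_val n hn2, hrev] at h'
    rw [sO_apply n hn hn3]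
    by_cases hc1 : c.val = n / 2 - 1
    · rw [if_pos hc1] at h'
      rw [if_pos hc1, if_neg h']
    · rw [if_neg hc1] at h'
      rw [if_neg hc1]
      by_cases hc2 : c.val = n / 2 + 1
      · rw [if_pos hc2] at h'
        rw [if_pos hc2, if_neg h']
      · rw [if_neg hc2] at h'
        rw [if_neg hc2]
        by_cases hc3 : c.val = n / 2
        · rw [if_pos hc3, if_neg (fun e => h' (e.trans hc3.symm))]
        · rw [if_neg hc3, if_neg (fun e => h' (congrArg Fin.val e))]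
  have hμ : ∀ c : Fin n, (sO n : Matrix (Fin n) (Fin n) K) (tau n (n / 2 - 1) c) c =
      if c.val = n / 2 then -1 else 1 := by
    intro c
    rw [sO_apply n hn hn3, tau_last_val n hn2, hrev]
    by_cases hc1 : c.val = n / 2 - 1
    · simp [hc1, hm1]
    · by_cases hc2 : c.val = n / 2 + 1
      · simp [hc2, hm4, hm6]
      · by_cases hc3 : c.val = n / 2
        · simp [hc3, hm2, hm5]
        · simp [hc1, hc2, hc3, Fin.ext_iff, tau_last_val n hn2, hrev]
  have hrv : ∀ c : Fin n, c.rev.val = n - 1 - c.val := by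
    intro c
    rw [Fin.val_rev]
    omega
  refine ⟨presJ_of_mon σ _ _ (tau_rev' n _) hM ?_, ?_, mon_of _ _ hM ?_⟩
  · intro c
    rw [hμ, hμ, hrv]
    have hc := c.2
    by_cases hc3 : c.val = n / 2
    · have e1 : n - 1 - c.val = n / 2 := by omega
      rw [if_pos hc3, if_pos e1, map_neg, map_one]
      norm_num
    · have e1 : ¬ (n - 1 - c.val = n / 2) := by omega
      rw [if_neg hc3, if_neg e1, map_one, mul_one]
  · rw [det_of_mon _ _ hM, sign_tau_last n hn2]
    have hprod : ∏ c : Fin n, (sO n : Matrix (Fin n) (Fin n) K) (tau n (n / 2 - 1) c) c = -1 := by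
      have e : ∀ c : Fin n, (sO n : Matrix (Fin n) (Fin n) K) (tau n (n / 2 - 1) c) c =
          (if c = (⟨n / 2, by omega⟩ : Fin n) then (-1 : K) else 1) := by
        intro c
        rw [hμ]
        simp only [Fin.ext_iff]
      rw [Finset.prod_congr rfl (fun c _ => e c), Finset.prod_ite_eq', if_pos (Finset.mem_univ _)]
    rw [hprod]
    simp
  · intro c
    rw [hμ]
    split_ifs
    · exact neg_ne_zero.mpr one_ne_zero
    · exact one_ne_zero

/-- SMEM (assembly of SMEML/E/O + PRES): the lifts exist in the group -/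
theorem exists_s (σ : K →+* K) (n : ℕ) (ζ : K) (hζ : ζ ≠ 0) (hζσ : σ ζ = -ζ) (j : ℕ)
    (hj : j < n / 2) : ∃ s : SUJ σ n, rho σ n s = sMat n ζ j ∧ Mon (rho σ n s) (tau n j) := by
  have key : ∀ M : Matrix (Fin n) (Fin n) K, PresJ σ n M ∧ M.det = 1 ∧ Mon M (tau n j) →
      sMat n ζ j = M → ∃ s : SUJ σ n, rho σ n s = sMat n ζ j ∧ Mon (rho σ n s) (tau n j) := by
    rintro M ⟨hP, hdet, hMon⟩ hM
    obtain ⟨s, hs⟩ := exists_of_presJ σ n M hdet hP
    exact ⟨s, by rw [hs, hM], by rw [hs]; exact hMon⟩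
  by_cases h1 : j + 1 < n / 2
  · apply key _ (presJ_pMat_tau σ n j h1)
    unfold sMat
    rw [if_pos h1]
  · have hj' : j = n / 2 - 1 := by omega
    by_cases h2 : n % 2 = 0
    · have hn2 : 2 ≤ n := by omega
      have := presJ_sE σ n h2 hn2 ζ hζ hζσ
      rw [← hj'] at this
      apply key _ this
      unfold sMat
      rw [if_neg h1, if_pos h2]
    · have hn : n % 2 = 1 := by omega
      have hn3 : 3 ≤ n := by omega
      have := presJ_sO (K := K) σ n hn hn3
      rw [← hj'] at this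
      apply key _ this
      unfold sMat
      rw [if_neg h1, if_neg h2]

end Cfsg.Agent.S2546P
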