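import Mathlib
import Cfsg.Prelude.Def_Classical
import Cfsg.Agent.Helper8.MatBNDefs
import Cfsg.Agent.Helper8.S2546Defs

set_option autoImplicit false
open scoped Matrix

/-! # S2546: calculus of matrix units with the antidiagonal Gram matrix `J` (helper17).

`PresJ σ n M ↔ Mᵀ * (J * M^σ) = J`; `single i j x * J = single i (rev j) x`, `J * single i j x = single (rev i) j x`;
`E n i j = single ⟨i,_⟩ ⟨j,_⟩ 1` in range. -/

namespace Cfsg.Agent.S2546P

open Cfsg.Agent.MatBN

namespace JC

/-- the antidiagonal Gram matrix -/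
def J (K : Type*) [Field K] (n : ℕ) : Matrix (Fin n) (Fin n) K :=
  Matrix.of fun i k => if k = i.rev then 1 else 0

variable {K : Type*} [Field K] {n : ℕ}

theorem J_apply (i k : Fin n) : J K n i k = if k = i.rev then 1 else 0 := rfl

theorem J_mul_apply (A : Matrix (Fin n) (Fin n) K) (i c : Fin n) : (J K n * A) i c = A i.rev c := by
  rw [Matrix.mul_apply]
  simp [J_apply]

theorem mul_J_apply (A : Matrix (Fin n) (Fin n) K) (a k : Fin n) : (A * J K n) a k = A a k.rev := by
  rw [Matrix.mul_apply]
  rw [Finset.sum_eq_single k.rev]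
  · rw [J_apply, Fin.rev_rev, if_pos rfl, mul_one]
  · intro b _ hb
    rw [J_apply, if_neg, mul_zero]
    intro h
    apply hb
    rw [h, Fin.rev_rev]
  · intro h
    exact absurd (Finset.mem_univ _) h

theorem presJ_iff (σ : K →+* K) (M : Matrix (Fin n) (Fin n) K) :
    PresJ σ n M ↔ Mᵀ * (J K n * M.map σ) = J K n := by
  constructor
  · intro h
    ext a c
    rw [Matrix.mul_apply, J_apply, ← h a c]
    apply Finset.sum_congr rfl
    intro i _
    rw [J_mul_apply, Matrix.transpose_apply, Matrix.map_apply]
  · intro h a c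
    have := congrFun (congrFun h a) c
    rw [Matrix.mul_apply, J_apply] at this
    rw [← this]
    apply Finset.sum_congr rfl
    intro i _
    rw [J_mul_apply, Matrix.transpose_apply, Matrix.map_apply]

theorem J_mul_single (i j : Fin n) (x : K) : J K n * Matrix.single i j x = Matrix.single i.rev j x := by
  ext a c
  rw [J_mul_apply, Matrix.single_apply, Matrix.single_apply]
  by_cases h : i = a.rev
  · have h' : i.rev = a := by rw [h, Fin.rev_rev]
    simp [h, h']
  · have h' : i.rev ≠ a := by
      intro e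
      apply h
      rw [← e, Fin.rev_rev]
    simp [h, h']

theorem single_mul_J (i j : Fin n) (x : K) : Matrix.single i j x * J K n = Matrix.single i j.rev x := by
  ext a c
  rw [mul_J_apply, Matrix.single_apply, Matrix.single_apply]
  by_cases h : j = c.rev
  · have h' : j.rev = c := by rw [h, Fin.rev_rev]
    simp [h, h']
  · have h' : j.rev ≠ c := by
      intro e
      apply h
      rw [← e, Fin.rev_rev]
    simp [h, h']

theorem E_eq_single (i j : ℕ) (hi : i < n) (hj : j < n) :
    (E n i j : Matrix (Fin n) (Fin n) K) = Matrix.single ⟨i, hi⟩ ⟨j, hj⟩ 1 := by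
  ext a c
  rw [Matrix.single_apply]
  unfold E
  rw [Matrix.of_apply]
  by_cases h : a.val = i ∧ c.val = j
  · rw [if_pos h, if_pos]
    exact ⟨Fin.ext h.1.symm, Fin.ext h.2.symm⟩
  · rw [if_neg h, if_neg]
    rintro ⟨h1, h2⟩
    apply h
    exact ⟨by rw [← h1], by rw [← h2]⟩

/-- upper unitriangular matrices have determinant one -/
theorem det_of_isUni {M : Matrix (Fin n) (Fin n) K} (h : IsUni M) : M.det = 1 := by
  rw [Matrix.det_of_upperTriangular ((isTri_iff_blockTriangular M).mp h.1)]
  exact Finset.prod_eq_one (fun i _ => h.2 i)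

theorem rev_mk (i : ℕ) (hi : i < n) : (⟨i, hi⟩ : Fin n).rev = ⟨n - 1 - i, by omega⟩ := by
  apply Fin.ext
  rw [Fin.val_rev]
  show n - (i + 1) = n - 1 - i
  omega

end JC

end Cfsg.Agent.S2546P
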