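import Mathlib
import Cfsg.Prelude.Def_Classical
import Cfsg.Agent.Helper8.MatBNDefs
import Cfsg.Agent.Helper8.S2546Defs
import Cfsg.Agent.Helper17.S2546JCalc

set_option autoImplicit false
open scoped Matrix

/-! # S2546 pieces XLMEM, XEMEM, XOMEM: the root elements are special isometries of `hJ`. -/

namespace Cfsg.Agent.S2546P

open Cfsg.Agent.MatBN

namespace JC

variable {K : Type*} [Field K] {n : ℕ}

/-- criterion for `1 + N` -/
theorem presJ_one_add (σ : K →+* K) (N : Matrix (Fin n) (Fin n) K)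
    (h : Nᵀ * J K n + J K n * N.map σ + Nᵀ * (J K n * N.map σ) = 0) : PresJ σ n (1 + N) := by
  rw [presJ_iff]
  have e1 : (1 + N).map σ = 1 + N.map σ := by
    rw [← RingHom.mapMatrix_apply, map_add, map_one, RingHom.mapMatrix_apply]
  rw [e1, Matrix.transpose_add, Matrix.transpose_one]
  calc (1 + Nᵀ) * (J K n * (1 + N.map σ))
      = J K n + (Nᵀ * J K n + J K n * N.map σ + Nᵀ * (J K n * N.map σ)) := by
        simp only [mul_add, add_mul, one_mul, mul_one]
        abel
    _ = J K n := by rw [h, add_zero]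

theorem map_sub' (σ : K →+* K) (A B : Matrix (Fin n) (Fin n) K) :
    (A - B).map σ = A.map σ - B.map σ := by
  rw [← RingHom.mapMatrix_apply, map_sub, RingHom.mapMatrix_apply, RingHom.mapMatrix_apply]

theorem map_add' (σ : K →+* K) (A B : Matrix (Fin n) (Fin n) K) :
    (A + B).map σ = A.map σ + B.map σ := by
  rw [← RingHom.mapMatrix_apply, map_add, RingHom.mapMatrix_apply, RingHom.mapMatrix_apply]

/-- linear type -/
theorem presJ_typeL (σ : K →+* K) (hσ : ∀ x, σ (σ x) = x) (a b : Fin n) (hab : a ≠ b)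
    (ha : a ≠ a.rev) (hb : b ≠ b.rev) (t : K) :
    PresJ σ n (1 + (Matrix.single a b t - Matrix.single b.rev a.rev (σ t))) := by
  apply presJ_one_add
  have hab' : b.rev ≠ a.rev := fun h => hab (Fin.rev_injective h).symm
  rw [Matrix.transpose_sub, Matrix.transpose_single, Matrix.transpose_single, map_sub',
    Matrix.map_single, Matrix.map_single, hσ]
  simp only [Matrix.sub_mul, Matrix.mul_sub, single_mul_J, J_mul_single, Fin.rev_rev,
    Matrix.single_mul_single_of_ne _ _ _ _ ha, Matrix.single_mul_single_of_ne _ _ _ _ hab,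
    Matrix.single_mul_single_of_ne _ _ _ _ hab', Matrix.single_mul_single_of_ne _ _ _ _ hb.symm]
  abel

/-- `SU_2` type -/
theorem presJ_typeE (σ : K →+* K) (a : Fin n) (ha : a ≠ a.rev) (t : K) (ht : t + σ t = 0) :
    PresJ σ n (1 + Matrix.single a a.rev t) := by
  apply presJ_one_add
  rw [Matrix.transpose_single, Matrix.map_single, single_mul_J, J_mul_single,
    Matrix.single_mul_single_of_ne _ _ _ _ ha, ← Matrix.single_add, ht, Matrix.single_zero, add_zero]

/-- `SU_3` type -/
theorem presJ_typeO (σ : K →+* K) (hσ : ∀ x, σ (σ x) = x) (a m : Fin n) (ha : a ≠ a.rev)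
    (hm : m.rev = m) (ham : a ≠ m) (x y : K) (hxy : y + σ y + x * σ x = 0) :
    PresJ σ n (1 + (Matrix.single a m x + Matrix.single a a.rev y - Matrix.single m a.rev (σ x))) := by
  apply presJ_one_add
  have ham' : a.rev ≠ m := by
    intro h
    apply ham
    rw [← Fin.rev_rev a, h, hm]
  rw [Matrix.transpose_sub, Matrix.transpose_add, Matrix.transpose_single, Matrix.transpose_single,
    Matrix.transpose_single, map_sub', map_add', Matrix.map_single, Matrix.map_single,
    Matrix.map_single, hσ]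
  simp only [Matrix.sub_mul, Matrix.add_mul, Matrix.mul_sub, Matrix.mul_add, single_mul_J,
    J_mul_single, hm, Matrix.single_mul_single_of_ne _ _ _ _ ham'.symm,
    Matrix.single_mul_single_of_ne _ _ _ _ ha, Matrix.single_mul_single_of_ne _ _ _ _ ham,
    Matrix.single_mul_single_same]
  have e : Matrix.single a.rev a.rev (σ x * x) =
      -(Matrix.single a.rev a.rev y + Matrix.single a.rev a.rev (σ y)) := by
    rw [← Matrix.single_add, Matrix.single_neg]
    congr 1
    linear_combination hxy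
  rw [e]
  abel

/-- `1 + N` is upper unitriangular when `N` is strictly upper triangular -/
theorem isUni_one_add (N : Matrix (Fin n) (Fin n) K) (hN : ∀ a c : Fin n, c ≤ a → N a c = 0) :
    IsUni (1 + N) := by
  refine ⟨fun a c hca => ?_, fun a => ?_⟩
  · rw [Matrix.add_apply, Matrix.one_apply_ne hca.ne', hN a c hca.le, add_zero]
  · rw [Matrix.add_apply, Matrix.one_apply_eq, hN a a le_rfl, add_zero]

theorem E_apply_of_le (i k : ℕ) (hik : i < k) (a c : Fin n) (hca : c ≤ a) :
    (E n i k : Matrix (Fin n) (Fin n) K) a c = 0 := by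
  unfold E
  rw [Matrix.of_apply, if_neg]
  rintro ⟨h1, h2⟩
  have := Fin.le_def.mp hca
  omega

end JC

open JC

variable {K : Type*} [Field K]

/-- XLMEM -/
theorem presJ_xL (σ : K →+* K) (hσ : ∀ x, σ (σ x) = x) (n j : ℕ) (hj : j + 1 < n / 2) (t : K) :
    PresJ σ n (xL σ n j t) ∧ (xL σ n j t).det = 1 := by
  have h1 : j < n := by omega
  have h2 : j + 1 < n := by omega
  have h3 : n - 2 - j < n := by omega
  have h4 : n - 1 - j < n := by omega
  constructor
  · have hx : xL σ n j t = 1 + (Matrix.single (⟨j, h1⟩ : Fin n) ⟨j + 1, h2⟩ t -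
        Matrix.single (⟨j + 1, h2⟩ : Fin n).rev (⟨j, h1⟩ : Fin n).rev (σ t)) := by
      unfold xL
      have e1 : (⟨j + 1, h2⟩ : Fin n).rev = ⟨n - 2 - j, h3⟩ := by
        rw [rev_mk]; apply Fin.ext; show n - 1 - (j + 1) = n - 2 - j; omega
      have e2 : (⟨j, h1⟩ : Fin n).rev = ⟨n - 1 - j, h4⟩ := rev_mk _ _
      rw [E_eq_single _ _ h1 h2, E_eq_single _ _ h3 h4, Matrix.smul_single, Matrix.smul_single,
        smul_eq_mul, mul_one, smul_eq_mul, mul_one, e1, e2, add_sub_assoc]
    rw [hx]
    apply presJ_typeL σ hσ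
    · intro h
      have := congrArg Fin.val h
      simp at this
    · intro h
      have := congrArg Fin.val h
      rw [Fin.val_rev] at this
      simp at this
      omega
    · intro h
      have := congrArg Fin.val h
      rw [Fin.val_rev] at this
      simp at this
      omega
  · apply det_of_isUni
    have : xL σ n j t = 1 + (t • E n j (j + 1) - σ t • E n (n - 2 - j) (n - 1 - j)) := by
      unfold xL; rw [add_sub_assoc]
    rw [this]
    apply isUni_one_add
    intro a c hca
    rw [Matrix.sub_apply, Matrix.smul_apply, Matrix.smul_apply, E_apply_of_le _ _ (by omega) _ _ hca,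
      E_apply_of_le _ _ (by omega) _ _ hca, smul_zero, smul_zero, sub_zero]

/-- XEMEM -/
theorem presJ_xE (σ : K →+* K) (hσ : ∀ x, σ (σ x) = x) (n : ℕ) (hn : n % 2 = 0) (hn2 : 2 ≤ n)
    (t : K) (ht : t + σ t = 0) : PresJ σ n (xE n t) ∧ (xE n t).det = 1 := by
  have h1 : n / 2 - 1 < n := by omega
  have h2 : n / 2 < n := by omega
  constructor
  · have hx : xE n t = 1 + Matrix.single (⟨n / 2 - 1, h1⟩ : Fin n) (⟨n / 2 - 1, h1⟩ : Fin n).rev t := by
      unfold xE
      have e1 : (⟨n / 2 - 1, h1⟩ : Fin n).rev = ⟨n / 2, h2⟩ := by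
        rw [rev_mk]; apply Fin.ext; show n - 1 - (n / 2 - 1) = n / 2; omega
      rw [E_eq_single _ _ h1 h2, Matrix.smul_single, smul_eq_mul, mul_one, e1]
    rw [hx]
    apply presJ_typeE σ _ _ t ht
    intro h
    have := congrArg Fin.val h
    rw [Fin.val_rev] at this
    simp at this
    omega
  · apply det_of_isUni
    unfold xE
    apply isUni_one_add
    intro a c hca
    rw [Matrix.smul_apply, E_apply_of_le _ _ (by omega) _ _ hca, smul_zero]

/-- XOMEM -/
theorem presJ_xO (σ : K →+* K) (hσ : ∀ x, σ (σ x) = x) (n : ℕ) (hn : n % 2 = 1) (hn3 : 3 ≤ n)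
    (a b : K) (hab : b + σ b + a * σ a = 0) : PresJ σ n (xO σ n a b) ∧ (xO σ n a b).det = 1 := by
  have h1 : n / 2 - 1 < n := by omega
  have h2 : n / 2 < n := by omega
  have h3 : n / 2 + 1 < n := by omega
  constructor
  · have e1 : (⟨n / 2 - 1, h1⟩ : Fin n).rev = ⟨n / 2 + 1, h3⟩ := by
      rw [rev_mk]; apply Fin.ext; show n - 1 - (n / 2 - 1) = n / 2 + 1; omega
    have e2 : (⟨n / 2, h2⟩ : Fin n).rev = ⟨n / 2, h2⟩ := by
      rw [rev_mk]; apply Fin.ext; show n - 1 - n / 2 = n / 2; omega
    have hx : xO σ n a b = 1 + (Matrix.single (⟨n / 2 - 1, h1⟩ : Fin n) ⟨n / 2, h2⟩ a +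
        Matrix.single (⟨n / 2 - 1, h1⟩ : Fin n) (⟨n / 2 - 1, h1⟩ : Fin n).rev b -
        Matrix.single (⟨n / 2, h2⟩ : Fin n) (⟨n / 2 - 1, h1⟩ : Fin n).rev (σ a)) := by
      unfold xO
      rw [E_eq_single _ _ h1 h2, E_eq_single _ _ h1 h3, E_eq_single _ _ h2 h3, Matrix.smul_single,
        Matrix.smul_single, Matrix.smul_single, smul_eq_mul, mul_one, smul_eq_mul, mul_one,
        smul_eq_mul, mul_one, e1]
      abel
    rw [hx]
    apply presJ_typeO σ hσ _ _ _ e2 _ a b hab
    · intro h
      have := congrArg Fin.val h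
      rw [Fin.val_rev] at this
      simp at this
      omega
    · intro h
      have := congrArg Fin.val h
      simp at this
      omega
  · apply det_of_isUni
    have : xO σ n a b = 1 + (a • E n (n / 2 - 1) (n / 2) + b • E n (n / 2 - 1) (n / 2 + 1) -
        σ a • E n (n / 2) (n / 2 + 1)) := by
      unfold xO; abel
    rw [this]
    apply isUni_one_add
    intro x c hca
    rw [Matrix.sub_apply, Matrix.add_apply, Matrix.smul_apply, Matrix.smul_apply, Matrix.smul_apply,
      E_apply_of_le _ _ (by omega) _ _ hca, E_apply_of_le _ _ (by omega) _ _ hca,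
      E_apply_of_le _ _ (by omega) _ _ hca, smul_zero, smul_zero, smul_zero, add_zero, sub_zero]

end Cfsg.Agent.S2546P
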