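import Cfsg.Prelude.Def_LocalStructure
import Cfsg.Agent.Helper14.Amalgam6
import Cfsg.Agent.Helper14.Irreducible2

/-!
S2856 piece VMONO: `V_μ^{(k)} ≤ V_λ^{(k+1)}` for adjacent `λ`, `μ`.
-/

set_option autoImplicit false

namespace Cfsg.Agent.S2856P

open Cfsg Cfsg.Agent.Helper14

variable {X : Type*} [Group X] {p : ℕ} [Fact p.Prime] (M₁ M₂ : Subgroup X)

/-- piece VMONO: `V_μ^{(k)} ≤ V_λ^{(k+1)}` for adjacent `λ`, `μ`. -/
theorem vertexVIter_le_succ (hgen : M₁ ⊔ M₂ = ⊤) (k : ℕ) (lam μ : CosetVertex M₁ M₂)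
    (hadj : (cosetGraph M₁ M₂).Adj lam μ) :
    vertexVIter p M₁ M₂ k μ ≤ vertexVIter p M₁ M₂ (k + 1) lam := by
  unfold vertexVIter
  refine iSup_le ?_
  rintro ⟨ν, hν⟩
  have hconn := Helper14.cosetGraph_connected M₁ M₂ hgen
  have h1 : (cosetGraph M₁ M₂).dist lam μ = 1 := SimpleGraph.dist_eq_one_iff_adj.mpr hadj
  have htri : (cosetGraph M₁ M₂).dist lam ν ≤
      (cosetGraph M₁ M₂).dist lam μ + (cosetGraph M₁ M₂).dist μ ν := hconn.dist_triangle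
  have hle : (cosetGraph M₁ M₂).dist lam ν ≤ k + 1 := by omega
  exact le_iSup (fun μ' : {μ' : CosetVertex M₁ M₂ // (cosetGraph M₁ M₂).dist lam μ' ≤ k + 1} =>
    vertexZ p (μ' : CosetVertex M₁ M₂)) ⟨ν, hle⟩

end Cfsg.Agent.S2856P
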