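import Mathlib
import Cfsg.Agent.Helper28.S3000Defs

/-! S3000, piece Z1A (board `s3000pieces`): for `D ∈ 𝒜` commuting with the Sylow `A` of the package `(A,E)`, `D ≠ A`, the torus
`H` normalises `A ⊔ D`. -/

set_option autoImplicit false

namespace Cfsg.Agent.S3000P

open Cfsg.Agent.S2789P Cfsg.Agent.S2999P
open scoped commutatorElement

variable {G : Type*} [Group G]

/-- the product set of two elementwise commuting subgroups, as a subgroup -/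
def Z1A_aux_prod (X Y : Subgroup G) (hXY : ∀ x ∈ X, ∀ y ∈ Y, x * y = y * x) : Subgroup G where
  carrier := {u | ∃ x ∈ X, ∃ y ∈ Y, u = x * y}
  one_mem' := ⟨1, X.one_mem, 1, Y.one_mem, by simp⟩
  mul_mem' := by
    rintro _ _ ⟨x, hx, y, hy, rfl⟩ ⟨x', hx', y', hy', rfl⟩
    refine ⟨x * x', X.mul_mem hx hx', y * y', Y.mul_mem hy hy', ?_⟩
    have := hXY x' hx' y hy
    calc x * y * (x' * y') = x * (y * x') * y' := by group
      _ = x * (x' * y) * y' := by rw [this]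
      _ = x * x' * (y * y') := by group
  inv_mem' := by
    rintro _ ⟨x, hx, y, hy, rfl⟩
    refine ⟨x⁻¹, X.inv_mem hx, y⁻¹, Y.inv_mem hy, ?_⟩
    have := hXY x hx y hy
    rw [this]; group

/-- elements of the join of two elementwise commuting subgroups are products -/
theorem Z1A_aux_mem_sup {X Y : Subgroup G} (hXY : ∀ x ∈ X, ∀ y ∈ Y, x * y = y * x)
    {u : G} (hu : u ∈ X ⊔ Y) : ∃ x ∈ X, ∃ y ∈ Y, u = x * y := by
  have hle : X ⊔ Y ≤ Z1A_aux_prod X Y hXY := by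
    apply sup_le
    · intro x hx; exact ⟨x, hx, 1, Y.one_mem, by simp⟩
    · intro y hy; exact ⟨1, X.one_mem, y, hy, by simp⟩
  exact hle hu

variable [Finite G] {p : ℕ} [Fact p.Prime] {V P : Subgroup G} {T : Sylow p ↥P} {M : Subgroup ↥P} {q : ℕ}

/-- Z1A (M) -/
theorem Z1A {A E H : Subgroup G} {w : G} (Hy : Hyp p V P T M) (K : Tool p V P q A E H w) {D : Subgroup G}
    (hD : InA p V P q D) (hDA : D ≠ A)
    (hc : ∀ a ∈ A, ∀ d ∈ D, a * d = d * a) : ∀ h ∈ H, cjs h D ≤ A ⊔ D := by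
  intro h hh
  have hhE : h ∈ E := K.hHE hh
  have hhP : h ∈ P := K.hEP hhE
  have hhN : h ∈ Subgroup.normalizer (V : Set G) := Hy.hPV hhP
  have hVc : ∀ x ∈ V, ∀ y ∈ V, x * y = y * x := by
    intro x hx y hy
    have := Hy.hV.1.is_comm.comm ⟨x, hx⟩ ⟨y, hy⟩
    exact congrArg Subtype.val this
  by_cases hDD : cjs h D = D
  · rw [hDD]; exact le_sup_right
  -- `D' = cjs h D` is a member of `𝒜`
  have hD'P : cjs h D ≤ P := cj_le_of_mem hhP hD.le
  have hD'S : StrictOff p V (cjs h D) := hD.so.conj hhN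
  have hcard' : Nat.card ↥(cjs h D) = Nat.card ↥D := cj_card h D
  have hAD : A ≠ D := fun e => hDA e.symm
  obtain ⟨hsup, hRA, hRD⟩ := F6_cor Hy K.hA.le K.hA.so hD.le hD.so hAD hc
  have hquadD : ⁅V, D⁆ ≤ fixV V D := F3_quad Hy hD.le hD.so
  have hquadA : ⁅V, A⁆ ≤ fixV V A := F3_quad Hy K.hA.le K.hA.so
  -- `h` and `h⁻¹` normalise `A`, hence `R_A`
  have hhA : cjs h A = A := K.hHA h hh
  have hhA' : cjs h⁻¹ A = A := by
    conv_lhs => rw [← hhA]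
    exact cj_inv_cj h A
  have hhV : cjs h V = V := cj_norm hhN
  have hhV' : cjs h⁻¹ V = V := by
    conv_lhs => rw [← hhV]
    exact cj_inv_cj h V
  have hhR : cjs h ⁅V, A⁆ = ⁅V, A⁆ := by rw [cj_comm, hhV, hhA]
  have hhR' : cjs h⁻¹ ⁅V, A⁆ = ⁅V, A⁆ := by rw [cj_comm, hhV', hhA']
  -- key: for `u ∈ U_A ∩ U_D` and `g ∈ E` normalising `R_A`: `g u g⁻¹ ∈ U_D`
  have key : ∀ g : G, g ∈ E → cjs g ⁅V, A⁆ = ⁅V, A⁆ → ∀ u ∈ fixV V A, u ∈ fixV V D → g * u * g⁻¹ ∈ fixV V D := by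
    intro g hg hgR u huA huD
    rw [K.hUA] at huA
    obtain ⟨r₁, hr₁, c, hc', rfl⟩ := Z1A_aux_mem_sup
      (fun x hx y hy => hVc x ((hquadA.trans (fix_le V A)) hx) y (fix_le V E hy)) huA
    have hgc : g * c = c * g := (mem_fix.mp hc').2 g hg
    have h1 : g * r₁ * g⁻¹ ∈ ⁅V, A⁆ := by
      rw [← hgR]; exact cj_mem_conj.mpr hr₁
    have h2 : g * r₁ * g⁻¹ * r₁⁻¹ ∈ fixV V D := hRA (Subgroup.mul_mem _ h1 (Subgroup.inv_mem _ hr₁))
    have e : g * (r₁ * c) * g⁻¹ = (g * r₁ * g⁻¹ * r₁⁻¹) * (r₁ * c) := by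
      have hgc' : c * g⁻¹ = g⁻¹ * c := by
        calc c * g⁻¹ = g⁻¹ * (g * c) * g⁻¹ := by group
          _ = g⁻¹ * (c * g) * g⁻¹ := by rw [hgc]
          _ = g⁻¹ * c := by group
      calc g * (r₁ * c) * g⁻¹ = g * r₁ * (c * g⁻¹) := by group
        _ = g * r₁ * (g⁻¹ * c) := by rw [hgc']
        _ = (g * r₁ * g⁻¹ * r₁⁻¹) * (r₁ * c) := by group
    rw [e]
    exact Subgroup.mul_mem _ h2 huD
  -- (1) `D'` commutes with `A`
  have c13 : ∀ x ∈ A, ∀ y ∈ cjs h D, x * y = y * x := by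
    intro x hx y hy
    rw [cj_mem] at hy
    have hx' : h⁻¹ * x * h ∈ A := by
      have : x ∈ cjs h A := by rw [hhA]; exact hx
      exact cj_mem.mp this
    have := hc _ hx' _ hy
    calc x * y = h * ((h⁻¹ * x * h) * (h⁻¹ * y * h)) * h⁻¹ := by group
      _ = h * ((h⁻¹ * y * h) * (h⁻¹ * x * h)) * h⁻¹ := by rw [this]
      _ = y * x := by group
  -- (2) `R_{D'} ≤ U_D`, so `D'` commutes with `D`
  have hR' : ⁅V, cjs h D⁆ ≤ fixV V D := by
    have : ⁅V, cjs h D⁆ = cjs h ⁅V, D⁆ := by rw [cj_comm, hhV]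
    rw [this]
    intro x hx
    rw [cj_mem] at hx
    have hx1 := key h hhE hhR _ (hRD hx) (hquadD hx)
    have : h * (h⁻¹ * x * h) * h⁻¹ = x := by group
    rwa [this] at hx1
  have c32 : ∀ a ∈ cjs h D, ∀ d ∈ D, a * d = d * a :=
    NC_comm Hy hD'P hD'S hD.le hD.so (le_of_eq hcard'.symm) hR'
  have c23 : ∀ x ∈ D, ∀ y ∈ cjs h D, x * y = y * x := fun x hx y hy => (c32 y hy x hx).symm
  -- (3) `U_A ∩ U_D ≤ U_{D'}`
  have hfix : fixV V A ⊓ fixV V D ≤ fixV V (cjs h D) := by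
    rw [cj_fix D hhN]
    intro u hu
    rw [Subgroup.mem_inf] at hu
    rw [cj_mem]
    have hE' : h⁻¹ ∈ E := E.inv_mem hhE
    have := key h⁻¹ hE' hhR' u hu.1 hu.2
    rwa [inv_inv] at this
  rcases F7 Hy K.hA.le K.hA.so hD.le hD.so hD'P hD'S hc c13 c23 with h7 | h7
  · exact h7
  · exact absurd hfix h7

end Cfsg.Agent.S3000P
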