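import Mathlib
import Cfsg.Agent.Helper17.S3000Z1A

/-! S3000, piece Z1C (board `s3000pieces`), core: the statement with `TK6` for `F₁` as a hypothesis. -/

set_option autoImplicit false

namespace Cfsg.Agent.S3000P

open Cfsg.Agent.S2789P Cfsg.Agent.S2999P
open scoped commutatorElement

variable {G : Type*} [Group G] [Finite G] {p : ℕ} [Fact p.Prime] {V P : Subgroup G} {T : Sylow p ↥P} {M : Subgroup ↥P} {q : ℕ}

/-- Z1C with `⁅V, F₁⁆ ≤ C_V(E)` (TK6) as a hypothesis -/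
theorem Z1C_aux_core {A E H : Subgroup G} {w : G} (Hy : Hyp p V P T M) (K : Tool p V P q A E H w) {D F₁ : Subgroup G}
    (hD : InA p V P q D) (hDA : D ≠ A)
    (hc : ∀ a ∈ A, ∀ d ∈ D, a * d = d * a) (hF : InA p V P q F₁) (hFB : F₁ ≤ A ⊔ D)
    (hTK6 : ⁅V, F₁⁆ ≤ fixV V E) : D = F₁ := by
  by_contra hne
  -- some `f ∈ F₁ \ D`
  have hex : ∃ f ∈ F₁, f ∉ D := by
    by_contra hcon
    push Not at hcon
    have hle : F₁ ≤ D := hcon
    have hcard : Nat.card ↥F₁ = Nat.card ↥D := by rw [hF.card, hD.card]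
    have : F₁ = D := Subgroup.eq_of_le_of_card_ge hle (le_of_eq hcard.symm)
    exact hne this.symm
  obtain ⟨f, hf, hfD⟩ := hex
  obtain ⟨a, ha, d, hd, hfad⟩ := Z1A_aux_mem_sup hc (hFB hf)
  have ha1 : a ≠ 1 := by
    rintro rfl
    rw [one_mul] at hfad
    exact hfD (hfad ▸ hd)
  have hai : a⁻¹ ≠ 1 := fun e => ha1 (inv_eq_one.mp e)
  have haE : a ∈ E := K.hAE ha
  -- `U_D ≤ U_A`
  have hle : fixV V D ≤ fixV V A := by
    intro v hv
    have hvV : v ∈ V := fix_le V D hv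
    have hdv : d * v = v * d := (mem_fix.mp hv).2 d hd
    -- `c = f v f⁻¹ v⁻¹ ∈ C`
    have hcC : f * v * f⁻¹ * v⁻¹ ∈ fixV V E := by
      apply hTK6
      have h1 : ⁅v, f⁆ ∈ ⁅V, F₁⁆ := Subgroup.commutator_mem_commutator hvV hf
      have h2 : (⁅v, f⁆)⁻¹ ∈ ⁅V, F₁⁆ := Subgroup.inv_mem _ h1
      have e : (⁅v, f⁆)⁻¹ = f * v * f⁻¹ * v⁻¹ := by rw [commutatorElement_def]; group
      rwa [e] at h2
    have hac : a * (f * v * f⁻¹ * v⁻¹) = (f * v * f⁻¹ * v⁻¹) * a := (mem_fix.mp hcC).2 a haE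
    apply K.hquot a⁻¹ (A.inv_mem ha) hai v hvV
    -- `a⁻¹ v a v⁻¹ = c⁻¹`
    have e : a⁻¹ * v * a⁻¹⁻¹ * v⁻¹ = (f * v * f⁻¹ * v⁻¹)⁻¹ := by
      -- `d = a⁻¹ f`, `d v d⁻¹ = v`
      have hd' : d = a⁻¹ * f := by rw [hfad]; group
      have h1 : a⁻¹ * (f * v * f⁻¹) * a = v := by
        calc a⁻¹ * (f * v * f⁻¹) * a = (a⁻¹ * f) * v * (a⁻¹ * f)⁻¹ := by group
          _ = d * v * d⁻¹ := by rw [hd']
          _ = v * d * d⁻¹ := by rw [hdv]
          _ = v := by group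
      -- `f v f⁻¹ = c v`
      have h2 : a⁻¹ * ((f * v * f⁻¹ * v⁻¹) * v) * a = v := by
        have : (f * v * f⁻¹ * v⁻¹) * v = f * v * f⁻¹ := by group
        rw [this]; exact h1
      have hac' : a⁻¹ * (f * v * f⁻¹ * v⁻¹) = (f * v * f⁻¹ * v⁻¹) * a⁻¹ := by
        calc a⁻¹ * (f * v * f⁻¹ * v⁻¹) = a⁻¹ * ((f * v * f⁻¹ * v⁻¹) * a) * a⁻¹ := by group
          _ = a⁻¹ * (a * (f * v * f⁻¹ * v⁻¹)) * a⁻¹ := by rw [hac]
          _ = (f * v * f⁻¹ * v⁻¹) * a⁻¹ := by group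
      have h3 : (f * v * f⁻¹ * v⁻¹) * (a⁻¹ * v * a) = v := by
        calc (f * v * f⁻¹ * v⁻¹) * (a⁻¹ * v * a) = ((f * v * f⁻¹ * v⁻¹) * a⁻¹) * v * a := by group
          _ = (a⁻¹ * (f * v * f⁻¹ * v⁻¹)) * v * a := by rw [hac']
          _ = a⁻¹ * ((f * v * f⁻¹ * v⁻¹) * v) * a := by group
          _ = v := h2
      rw [inv_inv]
      have h4 : a⁻¹ * v * a = (f * v * f⁻¹ * v⁻¹)⁻¹ * v := by
        rw [eq_inv_mul_iff_mul_eq]; exact h3
      rw [h4]; group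
    rw [e]
    exact Subgroup.inv_mem _ hcC
  -- equal orders
  have h1 := F3_card Hy hD.le hD.so
  have h2 := F3_card Hy K.hA.le K.hA.so
  rw [hD.card] at h1
  rw [K.hA.card] at h2
  have hq : 0 < q := by
    rw [← hD.card]; exact Nat.card_pos
  have hcardeq : Nat.card ↥(fixV V D) = Nat.card ↥(fixV V A) := by
    have : q * Nat.card ↥(fixV V D) = q * Nat.card ↥(fixV V A) := by rw [h1, h2]
    exact Nat.eq_of_mul_eq_mul_left hq this
  have hUeq : fixV V D = fixV V A := Subgroup.eq_of_le_of_card_ge hle (le_of_eq hcardeq.symm)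
  exact hDA (F3_eq_of_fix Hy hD.le hD.so K.hA.le K.hA.so hUeq)

end Cfsg.Agent.S3000P
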