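import Mathlib
import Cfsg.Agent.Helper17.S3000Z1Ccore
import Cfsg.Agent.Helper9.S3000TKD2

/-! S3000, piece Z1C (board `s3000pieces`). -/

set_option autoImplicit false

namespace Cfsg.Agent.S3000P

open Cfsg.Agent.S2789P Cfsg.Agent.S2999P
open scoped commutatorElement

variable {G : Type*} [Group G] [Finite G] {p : ℕ} [Fact p.Prime] {V P : Subgroup G} {T : Sylow p ↥P} {M : Subgroup ↥P} {q : ℕ}

/-- Z1C (M) -/
theorem Z1C {A E H : Subgroup G} {w : G} (Hy : Hyp p V P T M) (K : Tool p V P q A E H w) {D F₁ : Subgroup G}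
    (hD : InA p V P q D) (hDA : D ≠ A)
    (hc : ∀ a ∈ A, ∀ d ∈ D, a * d = d * a) (hF : InA p V P q F₁) (hFB : F₁ ≤ A ⊔ D) (_hFA : F₁ ≠ A)
    (hFE : ∀ f ∈ F₁, ∀ e ∈ E, f * e = e * f) : D = F₁ :=
  Z1C_aux_core Hy K hD hDA hc hF hFB (Tool.TK6 Hy K F₁ hF.le (F2_aux_isPGroup hF.so.hA) hFE)

end Cfsg.Agent.S3000P
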