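import Mathlib
import Cfsg.Agent.Helper28.S3000Defs

/-! S3000, piece TOOLb (board `s3000pieces`): coordinate API for a `Coord F V A E`. -/

set_option autoImplicit false

namespace Cfsg.Agent.S3000P

open Cfsg.Agent.S2789P Cfsg.Agent.S2999P
open scoped commutatorElement

variable {G : Type*} [Group G] {F : Type} [Field F] {V A E : Subgroup G}

/-- the coordinate vector of `v ∈ V` -/
def TOOLb_aux_vec (c : Coord F V A E) (v : ↥V) : Fin 2 → F := Multiplicative.toAdd (c.ψ v)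

/-- the matrix of `e ∈ E` -/
def TOOLb_aux_mat (c : Coord F V A E) (e : ↥E) : Matrix (Fin 2) (Fin 2) F :=
  ((c.ρ e : Matrix.SpecialLinearGroup (Fin 2) F) : Matrix (Fin 2) (Fin 2) F)

theorem TOOLb_aux_vec_mul (c : Coord F V A E) (v v' : ↥V) :
    TOOLb_aux_vec c (v * v') = TOOLb_aux_vec c v + TOOLb_aux_vec c v' := by
  unfold TOOLb_aux_vec
  rw [map_mul, toAdd_mul]

theorem TOOLb_aux_vec_one (c : Coord F V A E) : TOOLb_aux_vec c 1 = 0 := by
  unfold TOOLb_aux_vec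
  rw [map_one, toAdd_one]

theorem TOOLb_aux_vec_inv (c : Coord F V A E) (v : ↥V) :
    TOOLb_aux_vec c v⁻¹ = - TOOLb_aux_vec c v := by
  unfold TOOLb_aux_vec
  rw [map_inv, toAdd_inv]

theorem TOOLb_aux_vec_eq_zero (c : Coord F V A E) (v : ↥V) :
    TOOLb_aux_vec c v = 0 ↔ (v : G) ∈ fixV V E := by
  rw [← c.ker v]
  unfold TOOLb_aux_vec
  constructor
  · intro h
    have : c.ψ v = Multiplicative.ofAdd (Multiplicative.toAdd (c.ψ v)) := rfl
    rw [this, h]; rfl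
  · intro h
    rw [h]; rfl

theorem TOOLb_aux_surj (c : Coord F V A E) (x : Fin 2 → F) : ∃ v : ↥V, TOOLb_aux_vec c v = x := by
  obtain ⟨v, hv⟩ := c.surj (Multiplicative.ofAdd x)
  exact ⟨v, by unfold TOOLb_aux_vec; rw [hv]; rfl⟩

/-- `E` normalises `V` -/
theorem TOOLb_aux_conj_mem (c : Coord F V A E) {e v : G} (he : e ∈ E) (hv : v ∈ V) : e * v * e⁻¹ ∈ V := by
  obtain ⟨w, hw, -⟩ := c.eqv ⟨e, he⟩ ⟨v, hv⟩
  have : (w : G) ∈ V := w.2
  rwa [hw] at this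

/-- equivariance -/
theorem TOOLb_aux_vec_conj (c : Coord F V A E) (e : ↥E) (v : ↥V) (h : (e : G) * (v : G) * (e : G)⁻¹ ∈ V) :
    TOOLb_aux_vec c ⟨(e : G) * (v : G) * (e : G)⁻¹, h⟩ = (TOOLb_aux_mat c e).mulVec (TOOLb_aux_vec c v) := by
  obtain ⟨w, hw, hw2⟩ := c.eqv e v
  have : w = ⟨(e : G) * (v : G) * (e : G)⁻¹, h⟩ := Subtype.ext hw
  rw [← this]
  exact hw2

theorem TOOLb_aux_mat_mul (c : Coord F V A E) (e e' : ↥E) :
    TOOLb_aux_mat c (e * e') = TOOLb_aux_mat c e * TOOLb_aux_mat c e' := by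
  unfold TOOLb_aux_mat
  rw [map_mul, Matrix.SpecialLinearGroup.coe_mul]

theorem TOOLb_aux_mat_one (c : Coord F V A E) : TOOLb_aux_mat c 1 = 1 := by
  unfold TOOLb_aux_mat
  rw [map_one, Matrix.SpecialLinearGroup.coe_one]

theorem TOOLb_aux_mat_det (c : Coord F V A E) (e : ↥E) :
    TOOLb_aux_mat c e 0 0 * TOOLb_aux_mat c e 1 1 - TOOLb_aux_mat c e 0 1 * TOOLb_aux_mat c e 1 0 = 1 := by
  have := (c.ρ e).2
  rw [Matrix.det_fin_two] at this
  exact this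

/-- `e = 1` iff its matrix is the identity -/
theorem TOOLb_aux_mat_eq_one (c : Coord F V A E) (e : ↥E) : TOOLb_aux_mat c e = 1 ↔ e = 1 := by
  constructor
  · intro h
    have : c.ρ e = 1 := by
      apply Subtype.ext
      rw [Matrix.SpecialLinearGroup.coe_one]
      exact h
    exact (MulEquiv.map_eq_one_iff c.ρ).mp this
  · rintro rfl
    exact TOOLb_aux_mat_one c

theorem TOOLb_aux_mulVec (m : Matrix (Fin 2) (Fin 2) F) (x : Fin 2 → F) :
    m.mulVec x = ![m 0 0 * x 0 + m 0 1 * x 1, m 1 0 * x 0 + m 1 1 * x 1] := by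
  funext i
  fin_cases i <;> simp [Matrix.mulVec, dotProduct, Fin.sum_univ_two]

/-- the matrix of `e⁻¹` -/
theorem TOOLb_aux_mat_inv (c : Coord F V A E) (e : ↥E) :
    TOOLb_aux_mat c e⁻¹ = !![TOOLb_aux_mat c e 1 1, - TOOLb_aux_mat c e 0 1; - TOOLb_aux_mat c e 1 0, TOOLb_aux_mat c e 0 0] := by
  unfold TOOLb_aux_mat
  rw [map_inv, Matrix.SpecialLinearGroup.coe_inv, Matrix.adjugate_fin_two]

end Cfsg.Agent.S3000P
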