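import Mathlib
import Cfsg.Agent.Helper17.S3000TOOLbAux

/-! S3000, piece TOOLb (board `s3000pieces`): `C_V(A) = ψ⁻¹(F e₁)` and the orders. -/

set_option autoImplicit false

namespace Cfsg.Agent.S3000P

open Cfsg.Agent.S2789P Cfsg.Agent.S2999P
open scoped commutatorElement

variable {G : Type*} [Group G] {F : Type} [Field F] {V A E : Subgroup G}

/-- the matrix of `a ∈ A` is upper unitriangular -/
theorem TOOLb_aux_mat_A (c : Coord F V A E) (a : ↥E) (ha : (a : G) ∈ A) :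
    TOOLb_aux_mat c a 1 0 = 0 ∧ TOOLb_aux_mat c a 0 0 = 1 ∧ TOOLb_aux_mat c a 1 1 = 1 := by
  obtain ⟨h1, h2⟩ := (c.hA a).mp ha
  have hd := TOOLb_aux_mat_det c a
  refine ⟨h1, h2, ?_⟩
  change TOOLb_aux_mat c a 1 0 = 0 at h1
  change TOOLb_aux_mat c a 0 0 = 1 at h2
  rw [h1, h2] at hd
  simpa using hd

/-- for `1 ≠ a ∈ A` the off-diagonal entry is nonzero -/
theorem TOOLb_aux_mat_A_ne (c : Coord F V A E) (a : ↥E) (ha : (a : G) ∈ A) (ha1 : a ≠ 1) :
    TOOLb_aux_mat c a 0 1 ≠ 0 := by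
  obtain ⟨h1, h2, h3⟩ := TOOLb_aux_mat_A c a ha
  intro h4
  apply ha1
  rw [← TOOLb_aux_mat_eq_one c a]
  ext i j
  fin_cases i <;> fin_cases j <;> simp [h1, h2, h3, h4]

/-- the action of `a ∈ A` on the coordinates -/
theorem TOOLb_aux_vec_conj_A (c : Coord F V A E) (a : ↥E) (ha : (a : G) ∈ A) (v : ↥V)
    (h : (a : G) * (v : G) * (a : G)⁻¹ ∈ V) :
    TOOLb_aux_vec c ⟨(a : G) * (v : G) * (a : G)⁻¹, h⟩ =
      ![TOOLb_aux_vec c v 0 + TOOLb_aux_mat c a 0 1 * TOOLb_aux_vec c v 1, TOOLb_aux_vec c v 1] := by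
  obtain ⟨h1, h2, h3⟩ := TOOLb_aux_mat_A c a ha
  rw [TOOLb_aux_vec_conj, TOOLb_aux_mulVec, h1, h2, h3]
  simp

/-- `C_V(A) ⊆ ψ⁻¹(F e₁)` -/
theorem TOOLb_aux_fixA_le (c : Coord F V A E) (hAE : A ≤ E) (hA1 : A ≠ ⊥) (v : ↥V) (hv : (v : G) ∈ fixV V A) :
    TOOLb_aux_vec c v 1 = 0 := by
  obtain ⟨a, ha1⟩ := (Subgroup.ne_bot_iff_exists_ne_one).mp hA1
  have ha1' : ((⟨(a : G), hAE a.2⟩ : ↥E)) ≠ 1 := by
    intro h
    apply ha1
    apply Subtype.ext
    exact congrArg (fun x : ↥E => (x : G)) h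
  have hne := TOOLb_aux_mat_A_ne c ⟨(a : G), hAE a.2⟩ a.2 ha1'
  have hcomm : (a : G) * (v : G) = (v : G) * (a : G) := (mem_fix.mp hv).2 _ a.2
  have hconj : (a : G) * (v : G) * (a : G)⁻¹ = (v : G) := by rw [hcomm]; group
  have hmem : (a : G) * (v : G) * (a : G)⁻¹ ∈ V := by rw [hconj]; exact v.2
  have h1 := TOOLb_aux_vec_conj_A c ⟨(a : G), hAE a.2⟩ a.2 v hmem
  have h2 : (⟨(a : G) * (v : G) * (a : G)⁻¹, hmem⟩ : ↥V) = v := Subtype.ext hconj
  rw [h2] at h1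
  have h3 := congrFun h1 0
  simp only [Matrix.cons_val_zero] at h3
  have h4 : TOOLb_aux_mat c ⟨(a : G), hAE a.2⟩ 0 1 * TOOLb_aux_vec c v 1 = 0 := by
    have := h3
    exact left_eq_add.mp this
  rcases mul_eq_zero.mp h4 with h5 | h5
  · exact absurd h5 hne
  · exact h5

variable [Finite G] [Fintype F]

omit [Finite G] in
/-- `|V| = |F|² |C_V(E)|` -/
theorem TOOLb_aux_cardV (c : Coord F V A E) :
    Nat.card ↥V = Fintype.card F ^ 2 * Nat.card ↥(fixV V E) := by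
  have h1 := Subgroup.card_mul_index c.ψ.ker
  rw [Subgroup.index_ker] at h1
  have h2 : c.ψ.range = ⊤ := MonoidHom.range_eq_top.mpr c.surj
  have h3 : Nat.card ↥c.ψ.range = Fintype.card F ^ 2 := by
    rw [h2, Subgroup.card_top, Nat.card_eq_fintype_card, Fintype.card_multiplicative, Fintype.card_fun, Fintype.card_fin]
  have h4 : c.ψ.ker = (fixV V E).subgroupOf V := by
    ext v
    rw [MonoidHom.mem_ker, Subgroup.mem_subgroupOf]
    exact c.ker v
  have h5 : Nat.card ↥c.ψ.ker = Nat.card ↥(fixV V E) := by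
    rw [h4]
    exact Nat.card_congr (Subgroup.subgroupOfEquivOfLe (fix_le V E)).toEquiv
  rw [h3, h5] at h1
  rw [← h1]; ring

/-- the second coordinate as a homomorphism -/
def TOOLb_aux_chi (c : Coord F V A E) : ↥V →* Multiplicative F :=
  (AddMonoidHom.toMultiplicative (Pi.evalAddMonoidHom (fun _ : Fin 2 => F) 1)).comp c.ψ

omit [Finite G] [Fintype F] in
theorem TOOLb_aux_chi_apply (c : Coord F V A E) (v : ↥V) :
    TOOLb_aux_chi c v = Multiplicative.ofAdd (TOOLb_aux_vec c v 1) := rfl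

omit [Finite G] [Fintype F] in
theorem TOOLb_aux_mem_ker_chi (c : Coord F V A E) (v : ↥V) :
    v ∈ (TOOLb_aux_chi c).ker ↔ TOOLb_aux_vec c v 1 = 0 := by
  rw [MonoidHom.mem_ker, TOOLb_aux_chi_apply]
  constructor
  · intro h
    exact h
  · intro h
    rw [h]; rfl

omit [Finite G] in
/-- `|ψ⁻¹(F e₁)| · |F| = |V|` -/
theorem TOOLb_aux_card_line (c : Coord F V A E) :
    Nat.card ↥(TOOLb_aux_chi c).ker * Fintype.card F = Nat.card ↥V := by
  have h1 := Subgroup.card_mul_index (TOOLb_aux_chi c).ker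
  rw [Subgroup.index_ker] at h1
  have hs : Function.Surjective (TOOLb_aux_chi c) := by
    intro y
    obtain ⟨v, hv⟩ := TOOLb_aux_surj c ![0, Multiplicative.toAdd y]
    refine ⟨v, ?_⟩
    rw [TOOLb_aux_chi_apply, hv]
    simp
  have h2 : (TOOLb_aux_chi c).range = ⊤ := MonoidHom.range_eq_top.mpr hs
  have h3 : Nat.card ↥(TOOLb_aux_chi c).range = Fintype.card F := by
    rw [h2, Subgroup.card_top, Nat.card_eq_fintype_card, Fintype.card_multiplicative]
  rw [h3] at h1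
  exact h1

variable {p : ℕ} [Fact p.Prime] {P : Subgroup G} {T : Sylow p ↥P} {M : Subgroup ↥P} {q : ℕ}

/-- `C_V(A) = ψ⁻¹(F e₁)` -/
theorem TOOLb_aux_fixA_iff (Hy : Hyp p V P T M) (hA : InA p V P q A) (hAE : A ≤ E)
    (hF : Fintype.card F = q) (c : Coord F V A E) (v : ↥V) :
    (v : G) ∈ fixV V A ↔ TOOLb_aux_vec c v 1 = 0 := by
  constructor
  · exact TOOLb_aux_fixA_le c hAE hA.so.ne v
  · intro hv
    have hle : (fixV V A).subgroupOf V ≤ (TOOLb_aux_chi c).ker := by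
      intro u hu
      rw [Subgroup.mem_subgroupOf] at hu
      rw [TOOLb_aux_mem_ker_chi]
      exact TOOLb_aux_fixA_le c hAE hA.so.ne u hu
    have h1 : Nat.card ↥((fixV V A).subgroupOf V) = Nat.card ↥(fixV V A) :=
      Nat.card_congr (Subgroup.subgroupOfEquivOfLe (fix_le V A)).toEquiv
    have h2 := F3_card Hy hA.le hA.so
    rw [hA.card] at h2
    have h3 := TOOLb_aux_card_line c
    rw [hF] at h3
    have hq : 0 < q := by rw [← hA.card]; exact Nat.card_pos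
    have h4 : Nat.card ↥(TOOLb_aux_chi c).ker = Nat.card ↥((fixV V A).subgroupOf V) := by
      rw [h1]
      have : q * Nat.card ↥(TOOLb_aux_chi c).ker = q * Nat.card ↥(fixV V A) := by
        rw [h2, ← h3]; ring
      exact Nat.eq_of_mul_eq_mul_left hq this
    have h5 : (fixV V A).subgroupOf V = (TOOLb_aux_chi c).ker :=
      Subgroup.eq_of_le_of_card_ge hle (le_of_eq h4)
    have h6 : v ∈ (fixV V A).subgroupOf V := by
      rw [h5, TOOLb_aux_mem_ker_chi]; exact hv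
    exact Subgroup.mem_subgroupOf.mp h6

end Cfsg.Agent.S3000P
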