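import Mathlib
import Cfsg.Agent.Helper17.S3000TOOLbAux2

/-! S3000, piece TOOLb (board `s3000pieces`): the module side of the toolkit of a coordinatised package. -/

set_option autoImplicit false

namespace Cfsg.Agent.S3000P

open Cfsg.Agent.S2789P Cfsg.Agent.S2999P
open scoped commutatorElement

section aux

variable {G : Type*} [Group G] {F : Type} [Field F] {V A E : Subgroup G}

/-- `SL₂(F)` is transitive on the nonzero vectors: a matrix moving `e₁` to `x` -/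
theorem TOOLb_aux_SL2_e1 (x : Fin 2 → F) (hx : x ≠ 0) :
    ∃ g : Matrix.SpecialLinearGroup (Fin 2) F, (g : Matrix (Fin 2) (Fin 2) F).mulVec ![1, 0] = x := by
  by_cases h0 : x 0 = 0
  · have h1 : x 1 ≠ 0 := by
      intro h1
      apply hx
      funext i
      fin_cases i
      · exact h0
      · exact h1
    refine ⟨⟨!![0, -(x 1)⁻¹; x 1, 0], ?_⟩, ?_⟩
    · rw [Matrix.det_fin_two_of]
      field_simp
      ring
    · rw [TOOLb_aux_mulVec]
      funext i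
      fin_cases i
      · simp [h0]
      · simp
  · refine ⟨⟨!![x 0, 0; x 1, (x 0)⁻¹], ?_⟩, ?_⟩
    · rw [Matrix.det_fin_two_of]
      field_simp
      ring
    · rw [TOOLb_aux_mulVec]
      funext i
      fin_cases i
      · simp
      · simp

theorem TOOLb_aux_SL2_trans (x x' : Fin 2 → F) (hx : x ≠ 0) (hx' : x' ≠ 0) :
    ∃ g : Matrix.SpecialLinearGroup (Fin 2) F, (g : Matrix (Fin 2) (Fin 2) F).mulVec x = x' := by
  obtain ⟨g₁, h₁⟩ := TOOLb_aux_SL2_e1 x hx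
  obtain ⟨g₂, h₂⟩ := TOOLb_aux_SL2_e1 x' hx'
  refine ⟨g₂ * g₁⁻¹, ?_⟩
  rw [← h₁, Matrix.mulVec_mulVec, ← Matrix.SpecialLinearGroup.coe_mul, mul_assoc, inv_mul_cancel, mul_one]
  exact h₂

/-- the coordinate vector of `e v e⁻¹ v'⁻¹` -/
theorem TOOLb_aux_vec_conj_div (c : Coord F V A E) (e : ↥E) (v v' : ↥V)
    (h : (e : G) * (v : G) * (e : G)⁻¹ * (v' : G)⁻¹ ∈ V) :
    TOOLb_aux_vec c ⟨(e : G) * (v : G) * (e : G)⁻¹ * (v' : G)⁻¹, h⟩ =
      (TOOLb_aux_mat c e).mulVec (TOOLb_aux_vec c v) - TOOLb_aux_vec c v' := by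
  have hm : (e : G) * (v : G) * (e : G)⁻¹ ∈ V := TOOLb_aux_conj_mem c e.2 v.2
  have : (⟨(e : G) * (v : G) * (e : G)⁻¹ * (v' : G)⁻¹, h⟩ : ↥V) = ⟨(e : G) * (v : G) * (e : G)⁻¹, hm⟩ * v'⁻¹ := by
    apply Subtype.ext
    rfl
  rw [this, TOOLb_aux_vec_mul, TOOLb_aux_vec_inv, TOOLb_aux_vec_conj, sub_eq_add_neg]

variable [Finite G]

/-- an element of `E` with upper triangular matrix normalises `A` -/
theorem TOOLb_aux_upper_norm (c : Coord F V A E) (hAE : A ≤ E) (e : ↥E) (he : TOOLb_aux_mat c e 1 0 = 0) :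
    cjs (e : G) A = A := by
  have hle : cjs (e : G) A ≤ A := by
    intro x hx
    rw [cj_mem] at hx
    set a : ↥E := ⟨(e : G)⁻¹ * x * (e : G), hAE hx⟩ with ha
    have haA : (a : G) ∈ A := hx
    obtain ⟨h1, h2, h3⟩ := TOOLb_aux_mat_A c a haA
    have hx' : x = ((e * a * e⁻¹ : ↥E) : G) := by
      rw [ha]
      simp only [Subgroup.coe_mul, Subgroup.coe_inv]
      group
    have hxE : x ∈ E := by rw [hx']; exact (e * a * e⁻¹).2
    rw [hx']
    rw [c.hA (e * a * e⁻¹)]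
    change TOOLb_aux_mat c (e * a * e⁻¹) 1 0 = 0 ∧ TOOLb_aux_mat c (e * a * e⁻¹) 0 0 = 1
    have hd := TOOLb_aux_mat_det c e
    rw [he] at hd
    rw [TOOLb_aux_mat_mul, TOOLb_aux_mat_mul, TOOLb_aux_mat_inv]
    simp only [Matrix.mul_apply, Fin.sum_univ_two, Matrix.of_apply, Matrix.cons_val', Matrix.cons_val_zero,
      Matrix.cons_val_one, Matrix.empty_val', Matrix.cons_val_fin_one, h1, h2, h3, he]
    constructor
    · ring
    · simp only [mul_zero, sub_zero] at hd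
      linear_combination hd
  exact Subgroup.eq_of_le_of_card_ge hle (le_of_eq (cj_card _ _).symm)

end aux

variable {G : Type*} [Group G] [Finite G] {p : ℕ} [Fact p.Prime] {V P : Subgroup G} {T : Sylow p ↥P} {M : Subgroup ↥P} {q : ℕ}

/-- TOOLb (L): the module side. -/
theorem TOOLb (Hy : Hyp p V P T M) {A E : Subgroup G} (hA : InA p V P q A) (hAE : A ≤ E) (hEP : E ≤ P)
    {F : Type} [Field F] [Fintype F] (hF : Fintype.card F = q) (c : Coord F V A E) :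
    (∀ h ∈ c.torus, h ≠ 1 → ∀ v ∈ V, h * v * h⁻¹ = v → v ∈ fixV V E) ∧
      (∀ e ∈ E, cjs e A ≠ A → fixV V A ⊓ fixV V (cjs e A) ≤ fixV V E) ∧
      (∀ a ∈ A, a ≠ 1 → ∀ v ∈ V, a * v * a⁻¹ * v⁻¹ ∈ fixV V E → v ∈ fixV V A) ∧
      (∀ e ∈ E, (∀ v ∈ V, e * v * e⁻¹ * v⁻¹ ∈ fixV V E) → e = 1) ∧
      (∀ v ∈ V, v ∉ fixV V E → ∀ v' ∈ V, v' ∉ fixV V E → ∃ e ∈ E, e * v * e⁻¹ * v'⁻¹ ∈ fixV V E) ∧
      Nat.card ↥V = q ^ 2 * Nat.card ↥(fixV V E) ∧ NatOut F V E (fixV V E) := by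
  refine ⟨?_, ?_, ?_, ?_, ?_, ?_, ?_⟩
  · -- hfixH
    intro h hh h1 v hv hfix
    obtain ⟨e, he, rfl⟩ := hh
    have he' : TOOLb_aux_mat c e 0 1 = 0 ∧ TOOLb_aux_mat c e 1 0 = 0 := he
    have hne : e ≠ 1 := by
      rintro rfl
      exact h1 rfl
    have hmem : (e : G) * v * (e : G)⁻¹ ∈ V := by
      change (E.subtype e) * v * (E.subtype e)⁻¹ ∈ V
      rw [hfix]; exact hv
    have h2 := TOOLb_aux_vec_conj c e ⟨v, hv⟩ hmem
    have h3 : (⟨(e : G) * v * (e : G)⁻¹, hmem⟩ : ↥V) = ⟨v, hv⟩ := Subtype.ext hfix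
    rw [h3, TOOLb_aux_mulVec, he'.1, he'.2] at h2
    have hd := TOOLb_aux_mat_det c e
    rw [he'.1, he'.2] at hd
    simp only [mul_zero, sub_zero] at hd
    have hx := congrFun h2 0
    have hy := congrFun h2 1
    simp only [Matrix.cons_val_zero, Matrix.cons_val_one, zero_mul, add_zero, zero_add] at hx hy
    rw [← TOOLb_aux_vec_eq_zero c ⟨v, hv⟩]
    by_contra hv0
    apply hne
    rw [← TOOLb_aux_mat_eq_one c e]
    have h00 : TOOLb_aux_mat c e 0 0 = 1 ∧ TOOLb_aux_mat c e 1 1 = 1 := by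
      by_cases hx0 : TOOLb_aux_vec c ⟨v, hv⟩ 0 = 0
      · have hy0 : TOOLb_aux_vec c ⟨v, hv⟩ 1 ≠ 0 := by
          intro hy0
          apply hv0
          funext i
          fin_cases i
          · exact hx0
          · exact hy0
        have h11 : TOOLb_aux_mat c e 1 1 = 1 := by
          have : (TOOLb_aux_mat c e 1 1 - 1) * TOOLb_aux_vec c ⟨v, hv⟩ 1 = 0 := by
            rw [sub_mul, one_mul, ← hy, sub_self]
          rcases mul_eq_zero.mp this with h | h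
          · exact sub_eq_zero.mp h
          · exact absurd h hy0
        rw [h11, mul_one] at hd
        exact ⟨hd, h11⟩
      · have h00 : TOOLb_aux_mat c e 0 0 = 1 := by
          have : (TOOLb_aux_mat c e 0 0 - 1) * TOOLb_aux_vec c ⟨v, hv⟩ 0 = 0 := by
            rw [sub_mul, one_mul, ← hx, sub_self]
          rcases mul_eq_zero.mp this with h | h
          · exact sub_eq_zero.mp h
          · exact absurd h hx0
        rw [h00, one_mul] at hd
        exact ⟨h00, hd⟩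
    ext i j
    fin_cases i <;> fin_cases j <;> simp [h00.1, h00.2, he'.1, he'.2]
  · -- hmeet
    intro e he hne v hv
    rw [Subgroup.mem_inf] at hv
    obtain ⟨hvA, hvB⟩ := hv
    have hvV : v ∈ V := fix_le V A hvA
    have heN : e ∈ Subgroup.normalizer (V : Set G) := Hy.hPV (hEP he)
    rw [cj_fix A heN, cj_mem] at hvB
    have hm : e⁻¹ * v * e ∈ V := fix_le V A hvB
    have h1 := (TOOLb_aux_fixA_iff Hy hA hAE hF c ⟨v, hvV⟩).mp hvA
    have h2 := (TOOLb_aux_fixA_iff Hy hA hAE hF c ⟨e⁻¹ * v * e, hm⟩).mp hvB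
    have hm' : ((⟨e, he⟩⁻¹ : ↥E) : G) * v * ((⟨e, he⟩⁻¹ : ↥E) : G)⁻¹ ∈ V := by
      simp only [Subgroup.coe_inv, inv_inv]; exact hm
    have h3 := TOOLb_aux_vec_conj c (⟨e, he⟩⁻¹ : ↥E) ⟨v, hvV⟩ hm'
    have h4 : (⟨((⟨e, he⟩⁻¹ : ↥E) : G) * v * ((⟨e, he⟩⁻¹ : ↥E) : G)⁻¹, hm'⟩ : ↥V) = ⟨e⁻¹ * v * e, hm⟩ := by
      apply Subtype.ext
      simp only [Subgroup.coe_inv, inv_inv]
    rw [h4, TOOLb_aux_mat_inv, TOOLb_aux_mulVec] at h3
    have h5 := congrFun h3 1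
    simp only [Matrix.of_apply, Matrix.cons_val', Matrix.cons_val_zero,
      Matrix.cons_val_one, Matrix.empty_val', Matrix.cons_val_fin_one] at h5
    rw [h2, h1] at h5
    simp only [mul_zero, add_zero] at h5
    rw [← TOOLb_aux_vec_eq_zero c ⟨v, hvV⟩]
    by_contra hv0
    apply hne
    have hx0 : TOOLb_aux_vec c ⟨v, hvV⟩ 0 ≠ 0 := by
      intro hx0
      apply hv0
      funext i
      fin_cases i
      · exact hx0
      · exact h1
    have h10 : TOOLb_aux_mat c ⟨e, he⟩ 1 0 = 0 := by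
      have : TOOLb_aux_mat c ⟨e, he⟩ 1 0 * TOOLb_aux_vec c ⟨v, hvV⟩ 0 = 0 := by
        have := h5.symm
        simpa using this
      rcases mul_eq_zero.mp this with h | h
      · exact h
      · exact absurd h hx0
    exact TOOLb_aux_upper_norm c hAE ⟨e, he⟩ h10
  · -- hquot
    intro a ha ha1 v hv hav
    have haE : a ∈ E := hAE ha
    have hne : (⟨a, haE⟩ : ↥E) ≠ 1 := by
      intro h
      exact ha1 (congrArg (fun x : ↥E => (x : G)) h)
    have ht := TOOLb_aux_mat_A_ne c ⟨a, haE⟩ ha hne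
    have hm : a * v * a⁻¹ ∈ V := TOOLb_aux_conj_mem c haE hv
    have hmV : a * v * a⁻¹ * v⁻¹ ∈ V := fix_le V E hav
    have h1 := TOOLb_aux_vec_conj_div c ⟨a, haE⟩ ⟨v, hv⟩ ⟨v, hv⟩ hmV
    have h2 := (TOOLb_aux_vec_eq_zero c ⟨a * v * a⁻¹ * v⁻¹, hmV⟩).mpr hav
    rw [h2] at h1
    obtain ⟨m10, m00, m11⟩ := TOOLb_aux_mat_A c ⟨a, haE⟩ ha
    rw [TOOLb_aux_mulVec, m10, m00, m11] at h1
    have h3 := congrFun h1 0
    simp only [Pi.zero_apply, Pi.sub_apply, Matrix.cons_val_zero, one_mul] at h3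
    have h4 : TOOLb_aux_mat c ⟨a, haE⟩ 0 1 * TOOLb_aux_vec c ⟨v, hv⟩ 1 = 0 := by
      linear_combination -h3
    rw [TOOLb_aux_fixA_iff Hy hA hAE hF c ⟨v, hv⟩]
    rcases mul_eq_zero.mp h4 with h | h
    · exact absurd h ht
    · exact h
  · -- hker
    intro e he hall
    have key : ∀ x : Fin 2 → F, (TOOLb_aux_mat c ⟨e, he⟩).mulVec x = x := by
      intro x
      obtain ⟨v, rfl⟩ := TOOLb_aux_surj c x
      have hC := hall v v.2
      have hmV : e * (v : G) * e⁻¹ * (v : G)⁻¹ ∈ V := fix_le V E hC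
      have h1 := TOOLb_aux_vec_conj_div c ⟨e, he⟩ v v hmV
      have h2 := (TOOLb_aux_vec_eq_zero c ⟨e * (v : G) * e⁻¹ * (v : G)⁻¹, hmV⟩).mpr hC
      rw [h2] at h1
      exact (sub_eq_zero.mp h1.symm)
    have h1 := key ![1, 0]
    have h2 := key ![0, 1]
    rw [TOOLb_aux_mulVec] at h1 h2
    have a1 := congrFun h1 0
    have a2 := congrFun h1 1
    have a3 := congrFun h2 0
    have a4 := congrFun h2 1
    simp only [Matrix.cons_val_zero, Matrix.cons_val_one, mul_one, mul_zero, add_zero, zero_add] at a1 a2 a3 a4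
    have : (⟨e, he⟩ : ↥E) = 1 := by
      rw [← TOOLb_aux_mat_eq_one c]
      ext i j
      fin_cases i <;> fin_cases j <;> simp [a1, a2, a3, a4]
    exact congrArg (fun x : ↥E => (x : G)) this
  · -- htrans
    intro v hv hvC v' hv' hvC'
    have hx : TOOLb_aux_vec c ⟨v, hv⟩ ≠ 0 := fun h => hvC ((TOOLb_aux_vec_eq_zero c ⟨v, hv⟩).mp h)
    have hx' : TOOLb_aux_vec c ⟨v', hv'⟩ ≠ 0 := fun h => hvC' ((TOOLb_aux_vec_eq_zero c ⟨v', hv'⟩).mp h)
    obtain ⟨g, hg⟩ := TOOLb_aux_SL2_trans _ _ hx hx'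
    refine ⟨((c.ρ.symm g : ↥E) : G), (c.ρ.symm g).2, ?_⟩
    have hmV : ((c.ρ.symm g : ↥E) : G) * v * ((c.ρ.symm g : ↥E) : G)⁻¹ * v'⁻¹ ∈ V :=
      V.mul_mem (TOOLb_aux_conj_mem c (c.ρ.symm g).2 hv) (V.inv_mem hv')
    have h1 := TOOLb_aux_vec_conj_div c (c.ρ.symm g) ⟨v, hv⟩ ⟨v', hv'⟩ hmV
    have hmat : TOOLb_aux_mat c (c.ρ.symm g) = (g : Matrix (Fin 2) (Fin 2) F) := by
      unfold TOOLb_aux_mat
      rw [MulEquiv.apply_symm_apply]
    rw [hmat, hg, sub_self] at h1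
    exact (TOOLb_aux_vec_eq_zero c _).mp h1
  · rw [TOOLb_aux_cardV c, hF]
  · exact ⟨c.ρ, c.ψ, c.surj, c.ker, c.eqv⟩

end Cfsg.Agent.S3000P
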