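import Mathlib
import Cfsg.Agent.Helper26.S3911Defs
import Cfsg.Prelude.Def_Solvable
import Cfsg.Agent.Helper14.PCore
import Cfsg.Agent.Helper7.Fitting

/-!
# S3913 (a solvable group whose abelian subgroups of equal order are conjugate has all subgroups of equal order
conjugate): definitions (helper17)

* `SProp G`: subgroups of `G` of equal order are conjugate.
* `NC K`: every normal elementary abelian subgroup of `K` is cyclic.
* `Red G`: `G` has no normal subgroup of prime order.
Blueprint: `departures/helper17_S3913_blueprint.md`.  Importing this file makes the instances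
`(Cfsg.pCore p G).Normal` (`Helper14.PCore`) and `(Cfsg.fittingSubgroup G).Normal` (`Helper7.Fitting`) available.
-/

set_option autoImplicit false

namespace Cfsg.Agent.S3913P

/-- subgroups of equal order are conjugate. -/
def SProp (G : Type*) [Group G] : Prop :=
  ∀ A B : Subgroup G, Nat.card ↥A = Nat.card ↥B → ∃ g : G, B = A.map (MulAut.conj g).toMonoidHom

/-- every normal elementary abelian subgroup is cyclic. -/
def NC (K : Type*) [Group K] : Prop :=
  ∀ R : Subgroup K, R.Normal → (∀ x ∈ R, ∀ y ∈ R, x * y = y * x) →
    ∀ r : ℕ, r.Prime → (∀ x ∈ R, x ^ r = 1) → IsCyclic ↥R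

/-- no normal subgroup of prime order. -/
def Red (G : Type*) [Group G] : Prop :=
  ∀ N : Subgroup G, N.Normal → ¬ (Nat.card ↥N).Prime

/-- every Sylow subgroup is cyclic or (for the prime `2`) a quaternion group of order `8`. -/
def CycQ (K : Type*) [Group K] : Prop :=
  ∀ (r : ℕ) [Fact r.Prime] (P : Sylow r K),
    IsCyclic ↥(P : Subgroup K) ∨ (r = 2 ∧ Nonempty (↥(P : Subgroup K) ≃* QuaternionGroup 2))

end Cfsg.Agent.S3913P
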