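import Mathlib
import Cfsg.Agent.Helper26.S3911Defs

/-! Auxiliary lemmas for the board `s3911pieces` (helper17): absorption, generators of `p`-subgroups when the Sylow
`p`-subgroups are cyclic. -/

set_option autoImplicit false

namespace Cfsg.Agent.S3911P

/-- ABSORPTION: in a group with `BProp`, a normal subgroup containing an element of the same order as `a`
contains `a`. -/
theorem ML8c_aux_absorb {G : Type*} [Group G] (hB : BProp G) (M : Subgroup G) [M.Normal]
    {a m : G} (hm : m ∈ M) (h : orderOf a = orderOf m) : a ∈ M := by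
  obtain ⟨g, hg⟩ := hB (Subgroup.zpowers a) (Subgroup.zpowers m) inferInstance inferInstance
    (by rw [Nat.card_zpowers, Nat.card_zpowers, h])
  have h1 : g * a * g⁻¹ ∈ Subgroup.zpowers m := by
    rw [hg]
    exact ⟨a, Subgroup.mem_zpowers a, rfl⟩
  have h2 : g * a * g⁻¹ ∈ M := (Subgroup.zpowers_le.mpr hm) h1
  have h3 : g⁻¹ * (g * a * g⁻¹) * g⁻¹⁻¹ ∈ M := ‹M.Normal›.conj_mem _ h2 g⁻¹
  have h4 : g⁻¹ * (g * a * g⁻¹) * g⁻¹⁻¹ = a := by group
  rwa [h4] at h3

/-- if the Sylow `p`-subgroups of `G` are cyclic, every `p`-subgroup `K` of `G` has a generator. -/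
theorem ML8c_aux_gen {G : Type*} [Group G] [Finite G] (p : ℕ) [Fact p.Prime]
    (hcyc : ∀ P : Sylow p G, IsCyclic ↥(P : Subgroup G)) (K : Subgroup G) (hK : IsPGroup p ↥K) :
    ∃ x ∈ K, orderOf x = Nat.card ↥K ∧ K = Subgroup.zpowers x := by
  obtain ⟨P, hP⟩ := hK.exists_le_sylow
  have : IsCyclic ↥(P : Subgroup G) := hcyc P
  have : IsCyclic ↥(K.subgroupOf (P : Subgroup G)) := inferInstance
  have : IsCyclic ↥K :=
    isCyclic_of_surjective (Subgroup.subgroupOfEquivOfLe hP).toMonoidHom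
      (Subgroup.subgroupOfEquivOfLe hP).surjective
  obtain ⟨g, hg⟩ := IsCyclic.exists_generator (α := ↥K)
  refine ⟨(g : G), g.2, ?_, ?_⟩
  · rw [Subgroup.orderOf_coe]
    exact orderOf_eq_card_of_forall_mem_zpowers hg
  · apply le_antisymm
    · intro x hx
      obtain ⟨n, hn⟩ := Subgroup.mem_zpowers_iff.mp (hg ⟨x, hx⟩)
      refine Subgroup.mem_zpowers_iff.mpr ⟨n, ?_⟩
      have := congrArg (fun y : ↥K => (y : G)) hn
      simpa using this
    · exact Subgroup.zpowers_le.mpr g.2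

end Cfsg.Agent.S3911P
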