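import Mathlib
import Cfsg.Agent.Helper26.S3911Defs
import Cfsg.Agent.Helper17.S3911Aux
import Cfsg.Agent.Helper21.S3911ML5
import Cfsg.Agent.Helper20.S3911ML6c
import Cfsg.Agent.Helper27.S3911ML8a
import Cfsg.Agent.Helper10.S3911ML8b

/-! Piece ML8c of the board `s3911pieces` (helper17): prime powers dividing `|B₀ ∩ M|` divide `|A₀ ∩ M|`. -/

set_option autoImplicit false

namespace Cfsg.Agent.S3911P

/-- ML8c (L): prime powers dividing `|B₀ ∩ M|` divide `|A₀ ∩ M|`. -/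
theorem ML8c {G : Type*} [Group G] [Finite G] (hB : BProp G) (M : Subgroup G) [M.Normal]
    (hgood : Hgood M) (Ab Bb : Subgroup (G ⧸ M)) (A₀ B₀ : Subgroup G)
    (hA : MinLift M Ab A₀) (hB₀ : MinLift M Bb B₀)
    (hnilA : Group.IsNilpotent ↥A₀) (hnilB : Group.IsNilpotent ↥B₀)
    (hcard : Nat.card ↥Ab = Nat.card ↥Bb) (p : ℕ) [Fact p.Prime] (j : ℕ)
    (hj : p ^ j ∣ Nat.card ↥(B₀ ⊓ M)) : p ^ j ∣ Nat.card ↥(A₀ ⊓ M) := by
  have hp : p.Prime := Fact.out
  rcases Nat.eq_zero_or_pos j with rfl | hjpos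
  · simp
  -- `p` divides `|B₀ ∩ M|`
  have hpBM : p ∣ Nat.card ↥(B₀ ⊓ M) := dvd_trans (dvd_pow_self p hjpos.ne') hj
  have hpM : p ∣ Nat.card ↥M := dvd_trans hpBM (Subgroup.card_dvd_of_le inf_le_right)
  have hpB : p ∣ Nat.card ↥B₀ := dvd_trans hpBM (Subgroup.card_dvd_of_le inf_le_left)
  have hpBb : p ∣ Nat.card ↥Bb := ML8a M Bb B₀ hB₀ hnilB p hpB
  have hpA : p ∣ Nat.card ↥A₀ := by
    rw [ML8b M Ab A₀ hA.1, hcard]
    exact dvd_mul_of_dvd_left hpBb _
  -- a Sylow `p`-subgroup of `A₀` is nontrivial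
  obtain ⟨SA⟩ : Nonempty (Sylow p ↥A₀) := inferInstance
  have hSAne : (SA : Subgroup ↥A₀) ≠ ⊥ := by
    intro hbot
    have h1 : Nat.card ↥(SA : Subgroup ↥A₀) = 1 := by rw [hbot]; exact Subgroup.card_bot
    have h2 := Sylow.card_eq_multiplicity SA
    rw [h1] at h2
    have h3 : (Nat.card ↥A₀).factorization p = 0 := by
      by_contra hne
      have : 1 < p ^ (Nat.card ↥A₀).factorization p := Nat.one_lt_pow hne hp.one_lt
      omega
    have h4 : 0 < (Nat.card ↥A₀).factorization p :=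
      hp.factorization_pos_of_dvd Nat.card_pos.ne' hpA
    omega
  -- the Sylow `p`-subgroups of `G` are cyclic
  have hcyc : ∀ P : Sylow p G, IsCyclic ↥(P : Subgroup G) :=
    ML6c hB M hgood Ab A₀ hA hnilA p hpM SA hSAne
  -- (1) an element `m ∈ B₀ ∩ M` of order `p ^ j`
  obtain ⟨K, hK⟩ := Sylow.exists_subgroup_card_pow_prime (G := ↥(B₀ ⊓ M)) p hj
  have hK'card : Nat.card ↥(K.map (B₀ ⊓ M).subtype) = p ^ j := by
    rw [← hK]
    exact Nat.card_congr (K.equivMapOfInjective _ (Subgroup.subtype_injective _)).symm.toEquiv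
  have hK'p : IsPGroup p ↥(K.map (B₀ ⊓ M).subtype) := IsPGroup.of_card hK'card
  obtain ⟨m, hmK, hmord, -⟩ := ML8c_aux_gen p hcyc _ hK'p
  have hmM : m ∈ M := by
    obtain ⟨y, -, rfl⟩ := hmK
    exact y.2.2
  rw [hK'card] at hmord
  -- (2) a generator `s` of the Sylow subgroup of `A₀`
  have hS'card : Nat.card ↥((SA : Subgroup ↥A₀).map A₀.subtype) = Nat.card ↥(SA : Subgroup ↥A₀) :=
    Nat.card_congr
      ((SA : Subgroup ↥A₀).equivMapOfInjective _ (Subgroup.subtype_injective _)).symm.toEquiv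
  have hS'p : IsPGroup p ↥((SA : Subgroup ↥A₀).map A₀.subtype) :=
    IsPGroup.of_card (hS'card.trans (Sylow.card_eq_multiplicity SA))
  obtain ⟨s, hsS, hsord, hSeq⟩ := ML8c_aux_gen p hcyc _ hS'p
  set k := (Nat.card ↥A₀).factorization p with hk
  have hsord' : orderOf s = p ^ k := by
    rw [hsord, hS'card, Sylow.card_eq_multiplicity SA]
  have hsA : s ∈ A₀ := by
    obtain ⟨y, -, rfl⟩ := hsS
    exact y.2
  -- `s ∉ M`
  have hsM : s ∉ M := by
    intro hs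
    apply hSAne
    apply ML5 M Ab A₀ hA hnilA p SA
    intro t ht
    have : (t : G) ∈ (SA : Subgroup ↥A₀).map A₀.subtype := ⟨t, ht, rfl⟩
    rw [hSeq] at this
    exact (Subgroup.zpowers_le.mpr hs) this
  -- (3) compare `j` and `k`
  have hjk : j ≤ k := by
    by_contra hlt
    have hlt : k < j := not_le.mp hlt
    have hord : orderOf (m ^ (p ^ (j - k))) = p ^ k := by
      rw [orderOf_pow_of_dvd (pow_ne_zero _ hp.ne_zero) (by rw [hmord]; exact pow_dvd_pow p (Nat.sub_le j k)),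
        hmord]
      rw [Nat.pow_div (Nat.sub_le j k) hp.pos]
      congr 1; omega
    exact hsM (ML8c_aux_absorb hB M (M.pow_mem hmM _) (hsord'.trans hord.symm))
  have hord : orderOf (s ^ (p ^ (k - j))) = p ^ j := by
    rw [orderOf_pow_of_dvd (pow_ne_zero _ hp.ne_zero) (by rw [hsord']; exact pow_dvd_pow p (Nat.sub_le k j)),
      hsord']
    rw [Nat.pow_div (Nat.sub_le k j) hp.pos]
    congr 1; omega
  have hs'M : s ^ (p ^ (k - j)) ∈ M := ML8c_aux_absorb hB M hmM (hord.trans hmord.symm)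
  have hs'AM : s ^ (p ^ (k - j)) ∈ A₀ ⊓ M := ⟨A₀.pow_mem hsA _, hs'M⟩
  have h5 : orderOf (⟨s ^ (p ^ (k - j)), hs'AM⟩ : ↥(A₀ ⊓ M)) = p ^ j := by
    rw [← Subgroup.orderOf_coe]
    exact hord
  rw [← h5]
  exact orderOf_dvd_natCard _

end Cfsg.Agent.S3911P
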