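import Mathlib
import Cfsg.Agent.Helper26.S3911Defs
import Cfsg.Agent.Helper20.S3912QF3

/-! Piece C2b of the board `s3912pieces` (helper17): a nontrivial normal subgroup of exponent `2` of a group with a
quaternion Sylow `2`-subgroup has order `2` and contains all involutions. -/

set_option autoImplicit false

namespace Cfsg.Agent.S3912P

/-- a `2`-subgroup has a conjugate inside a given Sylow `2`-subgroup -/
theorem C2b_aux_conj {G : Type*} [Group G] [Finite G] (P : Sylow 2 G) (H : Subgroup G)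
    (hH : IsPGroup 2 ↥H) : ∃ g : G, ∀ x ∈ H, g * x * g⁻¹ ∈ (P : Subgroup G) := by
  obtain ⟨Q, hQ⟩ := hH.exists_le_sylow
  obtain ⟨g, hg⟩ := MulAction.exists_smul_eq G Q P
  refine ⟨g, fun x hx => ?_⟩
  have h1 : x ∈ (Q : Subgroup G) := hQ hx
  have h2 : g * x * g⁻¹ ∈ ((g • Q : Sylow 2 G) : Subgroup G) := by
    rw [Sylow.coe_subgroup_smul]
    exact ⟨x, h1, rfl⟩
  rw [hg] at h2
  exact h2

/-- C2b (M): a nontrivial normal subgroup of exponent `2` of a group with a quaternion Sylow `2`-subgroup has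
order `2` and contains all involutions. -/
theorem C2b {G : Type*} [Group G] [Finite G] (P : Sylow 2 G) (m : ℕ) (hm : m ≠ 0)
    (e : ↥(P : Subgroup G) ≃* QuaternionGroup m) (N : Subgroup G) [hNn : N.Normal]
    (hN : ∀ v ∈ N, v ^ 2 = 1) (hNbot : N ≠ ⊥) :
    Nat.card ↥N = 2 ∧ ∀ t : G, orderOf t = 2 → t ∈ N := by
  -- uniqueness of the involution of `P`
  have huniq : ∀ s t : G, s ∈ (P : Subgroup G) → t ∈ (P : Subgroup G) → orderOf s = 2 → orderOf t = 2 →
      s = t := by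
    intro s t hs ht hs2 ht2
    have := QF3 m hm e ⟨s, hs⟩ ⟨t, ht⟩ ((Subgroup.orderOf_mk s hs).trans hs2)
      ((Subgroup.orderOf_mk t ht).trans ht2)
    exact congrArg Subtype.val this
  -- `N` is a `2`-group
  have hNp : IsPGroup 2 ↥N := by
    intro v
    refine ⟨1, ?_⟩
    apply Subtype.ext
    rw [pow_one, Subgroup.coe_pow, Subgroup.coe_one]
    exact hN v v.2
  obtain ⟨g, hg⟩ := C2b_aux_conj P N hNp
  -- `N ≤ P`
  have hNP : ∀ v ∈ N, v ∈ (P : Subgroup G) := by
    intro v hv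
    have h1 : g⁻¹ * v * g⁻¹⁻¹ ∈ N := hNn.conj_mem v hv g⁻¹
    have h2 := hg _ h1
    have h3 : g * (g⁻¹ * v * g⁻¹⁻¹) * g⁻¹ = v := by group
    rwa [h3] at h2
  have hord : ∀ v ∈ N, v ≠ 1 → orderOf v = 2 := by
    intro v hv hv1
    exact orderOf_eq_prime (hN v hv) hv1
  obtain ⟨z, hzN, hz1⟩ := (Subgroup.bot_or_exists_ne_one N).resolve_left hNbot
  have hz2 : orderOf z = 2 := hord z hzN hz1
  have hNz : N = Subgroup.zpowers z := by
    apply le_antisymm
    · intro v hv
      by_cases hv1 : v = 1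
      · rw [hv1]; exact Subgroup.one_mem _
      · rw [huniq v z (hNP v hv) (hNP z hzN) (hord v hv hv1) hz2]
        exact Subgroup.mem_zpowers z
    · exact Subgroup.zpowers_le.mpr hzN
  refine ⟨?_, ?_⟩
  · rw [hNz, Nat.card_zpowers, hz2]
  · intro t ht
    have htp : IsPGroup 2 ↥(Subgroup.zpowers t) := by
      apply IsPGroup.of_card (n := 1)
      rw [Nat.card_zpowers, ht, pow_one]
    obtain ⟨k, hk⟩ := C2b_aux_conj P (Subgroup.zpowers t) htp
    have h1 : k * t * k⁻¹ ∈ (P : Subgroup G) := hk t (Subgroup.mem_zpowers t)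
    have h2 : orderOf (k * t * k⁻¹) = 2 := by
      rw [← ht]
      have hsc : SemiconjBy k t (k * t * k⁻¹) := by
        unfold SemiconjBy
        group
      exact (hsc.orderOf_eq k).symm
    have h3 : k * t * k⁻¹ = z := huniq _ _ h1 (hNP z hzN) h2 hz2
    have h4 : k⁻¹ * z * k⁻¹⁻¹ ∈ N := hNn.conj_mem z hzN k⁻¹
    have h5 : k⁻¹ * z * k⁻¹⁻¹ = t := by rw [← h3]; group
    rwa [h5] at h4

end Cfsg.Agent.S3912P
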