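import Mathlib
import Cfsg.Agent.Helper11.S4409Defs

/-! Board `s4409pieces`, row F2: `Φ(P)` is invariant under every element normalising `P`. -/

set_option autoImplicit false

namespace Cfsg.Agent.S4409P

open Subgroup
open scoped commutatorElement

variable {S : Type*} [Group S] [Finite S]

omit [Finite S] in
/-- conjugation by an element of the normaliser, as an automorphism of `P` -/
def F2_aux_conj (P : Subgroup S) (k : S) (hk : k ∈ normalizer (P : Set S)) : ↥P ≃* ↥P where
  toFun x := ⟨k * (x : S) * k⁻¹, (mem_normalizer_iff.mp hk (x : S)).mp x.2⟩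
  invFun x := ⟨k⁻¹ * (x : S) * k, by
    have := (mem_normalizer_iff.mp hk (k⁻¹ * (x : S) * k)).mpr
    apply this
    have e : k * (k⁻¹ * (x : S) * k) * k⁻¹ = (x : S) := by group
    rw [e]; exact x.2⟩
  left_inv x := by
    apply Subtype.ext
    simp only
    group
  right_inv x := by
    apply Subtype.ext
    simp only
    group
  map_mul' x y := by
    apply Subtype.ext
    simp only [Subgroup.coe_mul]
    group

/-- F2 : `Φ(P)` is invariant under every element normalising `P`. -/
theorem fr_inv (P : Subgroup S) (k : S) (hk : k ∈ normalizer (P : Set S)) : k ∈ normalizer ((Fr P : Subgroup S) : Set S) := by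
  have hchar : (frattini ↥P).Characteristic := frattini_characteristic
  have hmap : ∀ φ : ↥P ≃* ↥P, ∀ y ∈ frattini ↥P, φ y ∈ frattini ↥P := by
    intro φ y hy
    have h1 := (Subgroup.characteristic_iff_map_eq.mp hchar) φ
    rw [← h1]
    exact Subgroup.mem_map_of_mem _ hy
  rw [mem_normalizer_iff]
  intro x
  unfold Fr
  constructor
  · rintro ⟨y, hy, rfl⟩
    exact ⟨F2_aux_conj P k hk y, hmap _ y hy, rfl⟩
  · rintro ⟨z, hz, hzx⟩
    refine ⟨(F2_aux_conj P k hk).symm z, hmap _ z hz, ?_⟩
    change k⁻¹ * (P.subtype z) * k = x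
    rw [hzx]
    group

end Cfsg.Agent.S4409P
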