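import Mathlib
import Cfsg.Prelude.Def_Transfer
import Cfsg.Prelude.Def_Solvable
import Cfsg.Agent.Helper11.S4409Defs
import Cfsg.Agent.Helper9.S4415Defs

/-! Board `s4415pieces`, rows MOD6S (`trivOn_sup`), MOD6I (`inv_sup`) and the core of MOD6 (`MOD6_aux_core`). -/

set_option autoImplicit false
set_option linter.unusedVariables false
set_option linter.unusedSectionVars false

namespace Cfsg.Agent.S4415P

open Subgroup
open Cfsg.Agent.S4409P (Zc Fr Der IsV4 IsQ8 SpecialInt IsAb)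

variable {S : Type*} [Group S] [Finite S] {E : Type*} [AddCommGroup E] [Module (ZMod 3) E] [Finite E]

omit [Finite S] [Finite E] in
/-- the elements acting trivially on `U`, as a subgroup. -/
def MOD6S_aux_fix (ρ : Representation (ZMod 3) S E) (U : Submodule (ZMod 3) E) : Subgroup S where
  carrier := {h | ∀ v ∈ U, ρ h v = v}
  one_mem' := by
    intro v _
    rw [map_one]; rfl
  mul_mem' := by
    intro g h hg hh v hv
    rw [map_mul]
    show ρ g (ρ h v) = v
    rw [hh v hv, hg v hv]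
  inv_mem' := by
    intro g hg v hv
    have h1 : ρ g⁻¹ (ρ g v) = v := by
      have h2 : ρ g⁻¹ (ρ g v) = (ρ g⁻¹ * ρ g) v := rfl
      rw [h2, ← map_mul, inv_mul_cancel, map_one]; rfl
    rw [hg v hv] at h1
    exact h1

/-- MOD6S -/
theorem trivOn_sup (ρ : Representation (ZMod 3) S E) (H₁ H₂ : Subgroup S) (U : Submodule (ZMod 3) E)
    (h₁ : TrivOn ρ H₁ U) (h₂ : TrivOn ρ H₂ U) : TrivOn ρ (H₁ ⊔ H₂) U := by
  have h : H₁ ⊔ H₂ ≤ MOD6S_aux_fix ρ U := sup_le (fun x hx => h₁ x hx) (fun x hx => h₂ x hx)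
  exact fun x hx => h hx

omit [Finite E] in
/-- the elements leaving `U` invariant, as a subgroup (`S` is finite). -/
def MOD6I_aux_stab (ρ : Representation (ZMod 3) S E) (U : Submodule (ZMod 3) E) : Subgroup S where
  carrier := {h | ∀ v ∈ U, ρ h v ∈ U}
  one_mem' := by
    intro v hv
    rw [map_one]; exact hv
  mul_mem' := by
    intro g h hg hh v hv
    rw [map_mul]
    exact hg _ (hh v hv)
  inv_mem' := by
    intro g hg
    have hpow : ∀ n : ℕ, ∀ v ∈ U, ρ (g ^ n) v ∈ U := by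
      intro n
      induction n with
      | zero => intro v hv; rw [pow_zero, map_one]; exact hv
      | succ n ih =>
        intro v hv
        rw [pow_succ, map_mul]
        exact ih _ (hg v hv)
    have hinv : g⁻¹ = g ^ (orderOf g - 1) := by
      apply inv_eq_of_mul_eq_one_right
      rw [← pow_succ', Nat.sub_add_cancel (orderOf_pos g), pow_orderOf_eq_one]
    show ∀ v ∈ U, ρ g⁻¹ v ∈ U
    rw [hinv]
    exact hpow _

/-- MOD6I -/
theorem inv_sup (ρ : Representation (ZMod 3) S E) (H₁ H₂ : Subgroup S) (U : Submodule (ZMod 3) E)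
    (h₁ : Inv ρ H₁ U) (h₂ : Inv ρ H₂ U) : Inv ρ (H₁ ⊔ H₂) U := by
  have h : H₁ ⊔ H₂ ≤ MOD6I_aux_stab ρ U := sup_le (fun x hx => h₁ x hx) (fun x hx => h₂ x hx)
  exact fun x hx => h hx

omit [Finite S] [Finite E] in
/-- MOD6, core: `hsup` is the second clause of MOD2. -/
theorem MOD6_aux_core (ρ : Representation (ZMod 3) S E) (hf : Function.Injective ρ) (Y : Subgroup S)
    (hsup : CE ρ Y ⊔ ComE ρ Y = ⊤) (H : Subgroup S) (hH : TrivOn ρ H (CE ρ Y)) (h : S) (hh : h ∈ H)
    (ht : ∀ v ∈ ComE ρ Y, ρ h v = v) : h = 1 := by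
  apply hf
  rw [map_one]
  apply LinearMap.ext
  intro v
  have hv : v ∈ CE ρ Y ⊔ ComE ρ Y := by rw [hsup]; exact Submodule.mem_top
  obtain ⟨x, hx, y, hy, rfl⟩ := Submodule.mem_sup.mp hv
  rw [map_add, hH h hh x hx, ht y hy]
  rfl

end Cfsg.Agent.S4415P
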