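import Mathlib
import Cfsg.Prelude.Def_SporadicB

/-! A criterion for `IsNonsplitDoubleCover`: a surjection of a finite group with no subgroup of
index two onto a centreless group, with kernel of order two. -/

set_option autoImplicit false
set_option linter.all false

namespace Cfsg.Agent.Helper17.DoubleCover

theorem central_of_normal_card_two {H : Type*} [Group H] (N : Subgroup H) [hN : N.Normal]
    (h2 : Nat.card N = 2) : N ≤ Subgroup.center H := by
  intro z hz
  rw [Subgroup.mem_center_iff]
  intro g
  by_cases h1 : z = 1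
  · subst h1; simp
  · obtain ⟨b, -, hb⟩ := (Nat.card_eq_two_iff' (1 : N)).mp h2
    have hc : g * z * g⁻¹ ∈ N := hN.conj_mem z hz g
    have e1 : (⟨z, hz⟩ : N) = b := hb _ (fun h => h1 (congrArg Subtype.val h))
    have e2 : (⟨g * z * g⁻¹, hc⟩ : N) = b := hb _ (fun h => by
      have h' : g * z * g⁻¹ = 1 := congrArg Subtype.val h
      apply h1
      have : z = g⁻¹ * (g * z * g⁻¹) * g := by group
      rw [this, h']; group)
    have e3 : g * z * g⁻¹ = z := congrArg Subtype.val (e2.trans e1.symm)
    calc g * z = g * z * g⁻¹ * g := by group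
      _ = z * g := by rw [e3]

theorem nonsplit_of {H K : Type*} [Group H] [Group K] (ψ : H →* K)
    (hs : Function.Surjective ψ) (hker : Nat.card ψ.ker = 2) (hZ : Subgroup.center K = ⊥)
    (hperf : ∀ L : Subgroup H, L.index = 2 → False) : Cfsg.IsNonsplitDoubleCover H K := by
  have hle : ψ.ker ≤ Subgroup.center H := central_of_normal_card_two ψ.ker hker
  have hge : Subgroup.center H ≤ ψ.ker := by
    intro z hz
    rw [Subgroup.mem_center_iff] at hz
    rw [MonoidHom.mem_ker]
    have hzK : ψ z ∈ Subgroup.center K := by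
      rw [Subgroup.mem_center_iff]
      intro k
      obtain ⟨h, rfl⟩ := hs k
      rw [← map_mul, ← map_mul, hz h]
    rw [hZ, Subgroup.mem_bot] at hzK
    exact hzK
  have heq : Subgroup.center H = ψ.ker := le_antisymm hge hle
  refine ⟨by rw [heq]; exact hker, ⟨?_⟩, ?_⟩
  · exact (QuotientGroup.quotientMulEquivOfEq heq).trans
      (QuotientGroup.quotientKerEquivOfSurjective ψ hs)
  · intro L hc
    apply hperf L
    rw [hc.index_eq_card, heq]
    exact hker

theorem card_ker_two {H K : Type*} [Group H] [Group K] [Finite H] (ψ : H →* K)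
    (hs : Function.Surjective ψ) (hc : Nat.card H = 2 * Nat.card K) (hK : 0 < Nat.card K) :
    Nat.card ψ.ker = 2 := by
  have h1 := Subgroup.card_eq_card_quotient_mul_card_subgroup ψ.ker
  have h2 : Nat.card (H ⧸ ψ.ker) = Nat.card K :=
    Nat.card_congr (QuotientGroup.quotientKerEquivOfSurjective ψ hs).toEquiv
  rw [h2, hc, mul_comm 2] at h1
  exact (Nat.eq_of_mul_eq_mul_left hK h1).symm

theorem card_conjugatesOf {G : Type*} [Group G] (z : G) :
    Nat.card (conjugatesOf z) = (Subgroup.centralizer {z}).index := by
  have h1 := MulAction.index_stabilizer (ConjAct G) z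
  rw [ConjAct.stabilizer_eq_centralizer, ConjAct.orbit_eq_carrier_conjClasses] at h1
  have h2 : (Subgroup.centralizer {ConjAct.toConjAct z} : Subgroup (ConjAct G)).index =
      (Subgroup.centralizer {z}).index := rfl
  rw [← h2, h1, ← Nat.card_coe_set_eq]
  rfl

theorem closure_conjugatesOf_eq_top {G : Type*} [Group G] [IsSimpleGroup G] {z : G} (hz : z ≠ 1) :
    Subgroup.closure (conjugatesOf z) = ⊤ := by
  have h1 : Subgroup.closure (conjugatesOf z) = Subgroup.normalClosure {z} := by
    simp [Subgroup.normalClosure, Group.conjugatesOfSet]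
  rw [h1]
  rcases (Subgroup.normalClosure_normal (s := {z})).eq_bot_or_eq_top with h | h
  · exfalso
    have : z ∈ Subgroup.normalClosure {z} := Subgroup.subset_normalClosure rfl
    rw [h, Subgroup.mem_bot] at this
    exact hz this
  · exact h

end Cfsg.Agent.Helper17.DoubleCover
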