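import Cfsg.Agent.Helper1.S5665.Lib
import Cfsg.Agent.Helper5.S5700EXK
import Cfsg.Agent.Helper25.S5700DUAL
import Cfsg.Agent.Helper2.FieldBasics

set_option autoImplicit false
set_option linter.unusedSectionVars false
set_option linter.unusedVariables false

/-! # S5665, piece ISO1 -/

namespace Cfsg.Agent.S5665P

open Matrix Module Cfsg.Agent.Helper2.Sp Cfsg.Agent.Helper28.Sg Cfsg.Agent.S5700P

variable {F : Type*} [Field F] [Fintype F] {m : ℕ}
  {δ : Matrix (Fin m ⊕ Fin m) (Fin m ⊕ Fin m) F} {d : F}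

local notation "V" => (Fin m ⊕ Fin m → F)
local notation "Mat" => Matrix (Fin m ⊕ Fin m) (Fin m ⊕ Fin m) F
local notation "Sp" => Matrix.symplecticGroup (Fin m) F

theorem ISO1.exists_iso (U : SData δ d) (h2 : (2 : F) ≠ 0) (hm : 7 ≤ m) {x : V} (hx : x ≠ 0) (p1 p2 : F) :
    ∃ y : V, Qs δ y = 0 ∧ om (δ *ᵥ x) y = p1 ∧ om x y = p2 := by
  have hQ := U.QF_nondeg h2
  have hn := card_idx F m hm
  have hd := U.d_ne_zero
  obtain ⟨u, hu1, hu2⟩ := DUAL.exists_dual2 U.udata hQ hx (2 * p1) (2 * d * p2)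
  rw [U.B_QF] at hu1 hu2
  rw [U.dd, om_smul_left] at hu2
  have e1 : om (δ *ᵥ x) u = p1 := mul_left_cancel₀ h2 hu1
  have e2 : om x u = p2 := by
    have : (2 * d) * om x u = (2 * d) * p2 := by linear_combination hu2
    exact mul_left_cancel₀ (mul_ne_zero h2 hd) this
  obtain ⟨w₁, w₂, hw1, hw2, h12, hp1, hp2⟩ := EXK.K1 hQ hn δ x
  rw [U.hperp_iff h2] at hp1 hp2
  obtain ⟨c₁, c₂, hc⟩ := exists_singular_add hw1 hw2 h12 u
  refine ⟨u + c₁ • w₁ + c₂ • w₂, ?_, ?_, ?_⟩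
  · rw [← QF_apply]; exact hc
  · rw [om_add_right, om_add_right, om_smul_right, om_smul_right, hp1.1, hp2.1, e1]; ring
  · rw [om_add_right, om_add_right, om_smul_right, om_smul_right, hp1.2, hp2.2, e2]; ring

end Cfsg.Agent.S5665P
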