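import Cfsg.Agent.Helper20.S5665LINE
import Cfsg.Agent.Helper22.S5665TRANS

set_option autoImplicit false
set_option linter.unusedSectionVars false
set_option linter.unusedVariables false

/-! # S5665, piece FULL -/

namespace Cfsg.Agent.S5665P

open Matrix Module Cfsg.Agent.Helper2.Sp Cfsg.Agent.Helper28.Sg Cfsg.Agent.S5700P

variable {F : Type*} [Field F] [Fintype F] {m : ℕ}
  {δ : Matrix (Fin m ⊕ Fin m) (Fin m ⊕ Fin m) F} {d : F}

local notation "V" => (Fin m ⊕ Fin m → F)
local notation "Mat" => Matrix (Fin m ⊕ Fin m) (Fin m ⊕ Fin m) F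
local notation "Sp" => Matrix.symplecticGroup (Fin m) F

theorem FULL.top (U : SData δ d) (h2 : (2 : F) ≠ 0) (hm : 7 ≤ m) (M : Subgroup Sp)
    (hH : ∀ g : Sp, InH δ g → g ∈ M) {z : V} (hz0 : z ≠ 0) (hz : Qs δ z = 0)
    (hzM : ∀ s : F, Tg z s ∈ M) : M = ⊤ := by
  have hzS : z ∈ Cfsg.Agent.Helper28.SpMax.SS M := hzM
  have hiso : ∀ y : V, y ≠ 0 → Qs δ y = 0 → y ∈ Cfsg.Agent.Helper28.SpMax.SS M := by
    intro y hy0 hy
    obtain ⟨h, hh, hzy⟩ := TRANS.exists_h U h2 hm hz0 hy0 hz hy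
    rw [← hzy]
    exact Cfsg.Agent.Helper28.SpMax.SS_map M hzS (hH h hh)
  have hall : ∀ (v : V) (c : F), Tg v c ∈ M := by
    intro v c
    by_cases hv : Qs δ v = 0
    · by_cases hv0 : v = 0
      · subst hv0
        have e : Tg (0 : V) c = 1 := by
          apply ext_mulVec
          intro x
          rw [Tg_mulVec]
          simp
        rw [e]
        exact M.one_mem
      · exact hiso v hv0 hv c
    · obtain ⟨y, y', a, hy, hy', hyy', hx⟩ := LINE.exists_line U h2 hm hv
      have hy0 : y ≠ 0 := by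
        rintro rfl
        exact hyy' (om_zero_left _)
      have hy'0 : y' ≠ 0 := by
        rintro rfl
        exact hyy' (om_zero_right _)
      have key := Cfsg.Agent.Helper28.SpMax.SS_line M (hiso y hy0 hy) (hiso y' hy'0 hy') hyy' a 1
      rw [one_smul, add_comm] at key
      rw [hx]
      exact key c
  rw [eq_top_iff, ← TV_eq_top (Fin m) F]
  unfold TV
  rw [Subgroup.closure_le]
  rintro _ ⟨⟨v, c⟩, rfl⟩
  exact hall v c

end Cfsg.Agent.S5665P
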