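import Mathlib

set_option autoImplicit false

namespace Cfsg.Agent.S5949P

open Polynomial

/-- DEG -/
theorem natDegree_of_dvd_cyclotomic {F : Type*} [Field F] [Fintype F] {p : ℕ} [Fact p.Prime]
    [CharP F p] (r : ℕ) [Fact r.Prime] (hrp : r ≠ p) (μ : F[X]) (hμ : Irreducible μ)
    (hdvd : μ ∣ cyclotomic r F) : μ.natDegree = orderOf ((Fintype.card F : ℕ) : ZMod r) := by
  obtain ⟨f, _, hf⟩ := FiniteField.card F p
  have hp : p.Prime := Fact.out
  have hr : r.Prime := Fact.out
  have hn : p.Coprime r := (Nat.coprime_primes hp hr).mpr (Ne.symm hrp)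
  have h := Polynomial.natDegree_of_dvd_cyclotomic_of_irreducible (K := F) (p := p) (f := (f : ℕ)) (n := r)
    hf hn hdvd hμ
  rw [h, ← orderOf_units, ZMod.coe_unitOfCoprime, hf]

end Cfsg.Agent.S5949P
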