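import Mathlib

/-!
# A square matrix over a field is similar to its transpose

Main results:
* `topCoeff q` : the functional "coefficient of `X^(deg q - 1)` of the remainder mod `q`".
* `exists_symm_form_selfAdjoint` : for an endomorphism `φ` of a finite-dimensional vector space
  there is a nondegenerate symmetric bilinear form for which `φ` is self-adjoint.
* `exists_symm_conj_transpose` : for a square matrix `A` over a field there is an invertible
  symmetric `P` with `P * A = Aᵀ * P`.
* `isConj_transpose` : `IsConj A Aᵀ`.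
-/

set_option autoImplicit false

namespace Cfsg.Agent.Helper17

open Polynomial

section Functional

variable {F : Type*} [Field F]

/-- coefficient of `X^(deg q - 1)` of `p % q`, as a linear functional of `p`. -/
noncomputable def topCoeff (q : F[X]) : F[X] →ₗ[F] F :=
  (Polynomial.lcoeff F (q.natDegree - 1)).comp
    (Polynomial.modByMonicHom (q * C (leadingCoeff q)⁻¹))

theorem topCoeff_apply (q p : F[X]) : topCoeff q p = (p % q).coeff (q.natDegree - 1) := rfl

theorem topCoeff_eq_of_dvd_sub (q : F[X]) {p₁ p₂ : F[X]} (h : q ∣ p₁ - p₂) :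
    topCoeff q p₁ = topCoeff q p₂ := by
  rw [topCoeff_apply, topCoeff_apply, Polynomial.mod_eq_of_dvd_sub h]

theorem topCoeff_eq_zero_of_dvd (q : F[X]) {p : F[X]} (h : q ∣ p) : topCoeff q p = 0 := by
  have := topCoeff_eq_of_dvd_sub q (p₁ := p) (p₂ := 0) (by simpa using h)
  rw [this, map_zero]

/-- nondegeneracy of the trace-like form `(p, r) ↦ topCoeff q (p * r)` on `F[X]/(q)`. -/
theorem exists_topCoeff_mul_ne_zero {q : F[X]} (hq : q ≠ 0) {p : F[X]} (hp : ¬ q ∣ p) :
    ∃ r : F[X], topCoeff q (p * r) ≠ 0 := by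
  set p' := p % q with hp'
  have hp'0 : p' ≠ 0 := by
    intro h
    exact hp ((EuclideanDomain.mod_eq_zero).1 h)
  have hdeg : p'.degree < q.degree := Polynomial.degree_mod_lt p hq
  have hnat : p'.natDegree < q.natDegree := Polynomial.natDegree_lt_natDegree hp'0 hdeg
  set k := p'.natDegree with hk
  set d := q.natDegree with hd
  refine ⟨X ^ (d - 1 - k), ?_⟩
  have h1 : q ∣ p * X ^ (d - 1 - k) - p' * X ^ (d - 1 - k) := by
    rw [← sub_mul]
    apply Dvd.dvd.mul_right
    have : p - p' = q * (p / q) := by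
      have := EuclideanDomain.div_add_mod p q
      rw [hp']
      linear_combination this.symm
    rw [this]
    exact dvd_mul_right _ _
  rw [topCoeff_eq_of_dvd_sub q h1, topCoeff_apply]
  have h2 : (p' * X ^ (d - 1 - k)).degree < q.degree := by
    rw [Polynomial.degree_mul, Polynomial.degree_X_pow, Polynomial.degree_eq_natDegree hp'0,
      Polynomial.degree_eq_natDegree hq]
    have : k + (d - 1 - k) < d := by omega
    exact_mod_cast this
  rw [(Polynomial.mod_eq_self_iff hq).2 h2]
  obtain ⟨j, hj⟩ : ∃ j, d - 1 - k = j := ⟨_, rfl⟩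
  have h3 : d - 1 = k + j := by omega
  rw [hj, h3, Polynomial.coeff_mul_X_pow]
  exact Polynomial.leadingCoeff_ne_zero.2 hp'0

end Functional

section Quot

variable {F : Type*} [Field F] (q : F[X])

/-- `topCoeff q` descended to the quotient `F[X] ⧸ (q)`. -/
noncomputable def topCoeffQ : (F[X] ⧸ F[X] ∙ q) →ₗ[F] F :=
  (Submodule.liftQ ((F[X] ∙ q).restrictScalars F) (topCoeff q)
    (fun f (hf : f ∈ (F[X] ∙ q).restrictScalars F) =>
      LinearMap.mem_ker.2
        (topCoeff_eq_zero_of_dvd q (Submodule.mem_span_singleton.1 hf |>.elim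
          (fun c hc => ⟨c, by rw [← hc, smul_eq_mul, mul_comm]⟩))))).comp
    (Submodule.Quotient.restrictScalarsEquiv F (F[X] ∙ q)).symm.toLinearMap

theorem topCoeffQ_mk (p : F[X]) :
    topCoeffQ q (Submodule.Quotient.mk p) = topCoeff q p := rfl

/-- The symmetric bilinear form `(a, b) ↦ topCoeffQ (a * b)` on `F[X] ⧸ (q)`. -/
noncomputable def formQ : LinearMap.BilinForm F (F[X] ⧸ F[X] ∙ q) :=
  (LinearMap.mul F (F[X] ⧸ F[X] ∙ q)).compr₂ (topCoeffQ q)

theorem formQ_apply (a b : F[X] ⧸ F[X] ∙ q) : formQ q a b = topCoeffQ q (a * b) := rfl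

theorem formQ_comm (a b : F[X] ⧸ F[X] ∙ q) : formQ q a b = formQ q b a := by
  rw [formQ_apply, formQ_apply, mul_comm]

theorem formQ_smul_left (f : F[X]) (a b : F[X] ⧸ F[X] ∙ q) :
    formQ q (f • a) b = formQ q a (f • b) := by
  rw [formQ_apply, formQ_apply]
  congr 1
  obtain ⟨r, rfl⟩ := Ideal.Quotient.mk_surjective a
  obtain ⟨t, rfl⟩ := Ideal.Quotient.mk_surjective b
  show Ideal.Quotient.mk _ (f * r) * Ideal.Quotient.mk _ t
    = Ideal.Quotient.mk _ r * Ideal.Quotient.mk _ (f * t)
  rw [← map_mul, ← map_mul]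
  congr 1
  ring

theorem formQ_separating (hq : q ≠ 0) (a : F[X] ⧸ F[X] ∙ q) (h : ∀ b, formQ q a b = 0) :
    a = 0 := by
  by_contra ha
  obtain ⟨r, rfl⟩ := Ideal.Quotient.mk_surjective a
  have hr : ¬ q ∣ r := by
    intro hd
    apply ha
    rw [Ideal.Quotient.eq_zero_iff_mem]
    exact Ideal.mem_span_singleton.2 hd
  obtain ⟨t, ht⟩ := exists_topCoeff_mul_ne_zero hq hr
  apply ht
  have := h (Ideal.Quotient.mk _ t)
  rw [formQ_apply, ← map_mul] at this
  exact this

end Quot

section Main

variable {F : Type*} [Field F] {V : Type*} [AddCommGroup V] [Module F V] [FiniteDimensional F V]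

/-- For an endomorphism `φ` of a finite-dimensional vector space there is a nondegenerate symmetric
bilinear form with respect to which `φ` is self-adjoint. -/
theorem exists_symm_form_selfAdjoint (φ : V →ₗ[F] V) :
    ∃ B : LinearMap.BilinForm F V, B.Nondegenerate ∧ (∀ v w, B v w = B w v) ∧
      ∀ v w, B (φ v) w = B v (φ w) := by
  classical
  have hM : Module.IsTorsion F[X] (Module.AEval' φ) :=
    Module.AEval.isTorsion_of_finiteDimensional F V φ
  obtain ⟨ι, _, p, hp, e, ⟨Φ⟩⟩ := Module.equiv_directSum_of_isTorsion hM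
  have hq : ∀ i, p i ^ e i ≠ 0 := fun i => pow_ne_zero _ (hp i).ne_zero
  let c : ∀ i, V →ₗ[F] (F[X] ⧸ F[X] ∙ (p i ^ e i)) := fun i =>
    ((DirectSum.component F[X] ι (fun i => F[X] ⧸ F[X] ∙ (p i ^ e i)) i).restrictScalars F).comp
      ((Φ.toLinearMap.restrictScalars F).comp (Module.AEval'.of φ).toLinearMap)
  have hc : ∀ i v, c i v = (Φ (Module.AEval'.of φ v)) i := fun i v => rfl
  let B : LinearMap.BilinForm F V := ∑ i, (formQ (p i ^ e i)).compl₁₂ (c i) (c i)
  have hB : ∀ v w, B v w = ∑ i, formQ (p i ^ e i) (c i v) (c i w) := by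
    intro v w
    simp only [B, LinearMap.sum_apply, LinearMap.compl₁₂_apply]
  have hsymm : ∀ v w, B v w = B w v := by
    intro v w
    rw [hB, hB]
    exact Finset.sum_congr rfl (fun i _ => formQ_comm _ _ _)
  have hcφ : ∀ i v, c i (φ v) = (X : F[X]) • c i v := by
    intro i v
    rw [hc, hc, ← Module.AEval'.X_smul_of, map_smul]
    rfl
  have hsep : ∀ v, (∀ w, B v w = 0) → v = 0 := by
    intro v hv
    have h1 : ∀ i, c i v = 0 := by
      intro i
      apply formQ_separating _ (hq i)
      intro b
      have := hv ((Module.AEval'.of φ).symm (Φ.symm (DirectSum.of _ i b)))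
      rw [hB, Finset.sum_eq_single i] at this
      · rw [← this, hc i ((Module.AEval'.of φ).symm _)]
        simp
      · intro j _ hji
        rw [hc j ((Module.AEval'.of φ).symm _)]
        simp only [LinearEquiv.apply_symm_apply]
        rw [DirectSum.of_eq_of_ne _ _ _ hji]
        simp [formQ_apply]
      · intro h; exact absurd (Finset.mem_univ i) h
    have h2 : Φ (Module.AEval'.of φ v) = 0 := by
      apply DFinsupp.ext
      intro i
      rw [← hc, h1 i]
      rfl
    have h3 : Module.AEval'.of φ v = 0 := by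
      simpa using h2
    simpa using h3
  refine ⟨B, ⟨hsep, ?_⟩, hsymm, ?_⟩
  · intro w hw
    apply hsep
    intro v
    rw [hsymm]
    exact hw v
  · intro v w
    rw [hB, hB]
    refine Finset.sum_congr rfl (fun i _ => ?_)
    rw [hcφ, hcφ, formQ_smul_left]

/-- A square matrix over a field is conjugate to its transpose by an invertible symmetric matrix. -/
theorem exists_symm_conj_transpose {n : Type*} [Fintype n] [DecidableEq n] (A : Matrix n n F) :
    ∃ P : Matrix n n F, IsUnit P ∧ P.transpose = P ∧ P * A = A.transpose * P := by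
  obtain ⟨B, hnd, hsymm, hadj⟩ := exists_symm_form_selfAdjoint (Matrix.toLin' A)
  refine ⟨LinearMap.BilinForm.toMatrix' B, ?_, ?_, ?_⟩
  · have := (LinearMap.BilinForm.nondegenerate_toMatrix'_iff).2 hnd
    rw [Matrix.nondegenerate_iff_det_ne_zero] at this
    exact (Matrix.isUnit_iff_isUnit_det _).2 (isUnit_iff_ne_zero.2 this)
  · ext i j
    simp only [Matrix.transpose_apply, LinearMap.BilinForm.toMatrix'_apply]
    exact hsymm _ _
  · have h1 : B.compLeft (Matrix.toLin' A) = B.compRight (Matrix.toLin' A) := by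
      refine LinearMap.ext (fun v => LinearMap.ext (fun w => ?_))
      show B (Matrix.toLin' A v) w = B v (Matrix.toLin' A w)
      exact hadj _ _
    have h2 := congrArg LinearMap.BilinForm.toMatrix' h1
    rw [LinearMap.BilinForm.toMatrix'_compLeft, LinearMap.BilinForm.toMatrix'_compRight,
      LinearMap.toMatrix'_toLin'] at h2
    exact h2.symm

/-- A square matrix over a field is similar to its transpose. -/
theorem isConj_transpose {n : Type*} [Fintype n] [DecidableEq n] (A : Matrix n n F) :
    IsConj A A.transpose := by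
  obtain ⟨P, hP, -, h⟩ := exists_symm_conj_transpose A
  exact ⟨hP.unit, h⟩

end Main

end Cfsg.Agent.Helper17
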