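import Mathlib
import Cfsg.Prelude.Def_GeometricClasses
import Cfsg.Agent.Helper20.S6000Defs

set_option autoImplicit false
open scoped MatrixGroups Matrix

/-! # S6000 piece LI64: pairwise non-proportional elements of `R` are linearly independent
(the nonscalar elements of `R` have trace zero). -/

namespace Cfsg.Agent.S6000P

namespace LI64

/-- the nonscalar elements of `R` have trace zero -/
theorem trace_zero {F : Type*} [Field F] {R : Subgroup (GL (Fin 4) F)} {ι : F} (h : Hyp64 R ι)
    (a : GL (Fin 4) F) (ha : a ∈ R) (hns : ∀ z : F, (a : M4 F) ≠ z • (1 : M4 F)) :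
    Matrix.trace (a : M4 F) = 0 := by
  have hnc : ¬ ∀ b ∈ R, a * b = b * a := by
    intro hc
    obtain ⟨c, hc'⟩ := h.scalar_of_commute (a : M4 F) (fun b hb => by
      rw [← Units.val_mul, ← Units.val_mul, hc b hb])
    exact hns c hc'
  push Not at hnc
  obtain ⟨b, hb, hab⟩ := hnc
  have hanti : a * b = -(b * a) := by
    rcases h.comm a ha b hb with e | e
    · exact absurd e hab
    · exact e
  have hconj : a = -(b * a * b⁻¹) := by
    have : a * b * b⁻¹ = -(b * a) * b⁻¹ := by rw [hanti]
    rw [mul_assoc, mul_inv_cancel, mul_one, neg_mul] at this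
    exact this
  have h1 : Matrix.trace (a : M4 F) = -Matrix.trace (a : M4 F) := by
    conv_lhs => rw [hconj]
    rw [coe_neg, Matrix.trace_neg, Units.val_mul, Units.val_mul, Matrix.trace_mul_cycle,
      ← Units.val_mul, inv_mul_cancel, Units.val_one, Matrix.one_mul]
  have h2 : (2 : F) * Matrix.trace (a : M4 F) = 0 := by linear_combination h1
  exact (mul_eq_zero.mp h2).resolve_left h.two_ne

end LI64

/-- LI64 -/
theorem linearIndependent_of_cosets {F : Type*} [Field F] {R : Subgroup (GL (Fin 4) F)} {ι : F}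
    (h : Hyp64 R ι) {κ : Type*} [Fintype κ] (b : κ → GL (Fin 4) F) (hb : ∀ i, b i ∈ R)
    (hne : ∀ i j, i ≠ j → ∀ z : F, (b i : M4 F) ≠ z • (b j : M4 F)) :
    LinearIndependent F (fun i => ((b i : GL (Fin 4) F) : M4 F)) := by
  classical
  rw [Fintype.linearIndependent_iff]
  intro c hc i
  have h4 : (4 : F) ≠ 0 := by
    have : (4 : F) = 2 * 2 := by norm_num
    rw [this]
    exact mul_ne_zero h.two_ne h.two_ne
  have h1 : ((b i)⁻¹ : GL (Fin 4) F).1 * ∑ j, c j • ((b j : GL (Fin 4) F) : M4 F) = 0 := by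
    rw [hc, Matrix.mul_zero]
  rw [Finset.mul_sum] at h1
  have h2 := congrArg Matrix.trace h1
  rw [Matrix.trace_sum, Matrix.trace_zero] at h2
  rw [Finset.sum_eq_single i] at h2
  · rw [Matrix.mul_smul, Matrix.trace_smul, ← Units.val_mul, inv_mul_cancel, Units.val_one,
      Matrix.trace_one, smul_eq_mul] at h2
    have h3 : (Fintype.card (Fin 4) : F) = 4 := by
      simp
    rw [h3] at h2
    exact (mul_eq_zero.mp h2).resolve_right h4
  · intro j _ hji
    rw [Matrix.mul_smul, Matrix.trace_smul, ← Units.val_mul]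
    have hmem : (b i)⁻¹ * b j ∈ R := R.mul_mem (R.inv_mem (hb i)) (hb j)
    have hns : ∀ z : F, (((b i)⁻¹ * b j : GL (Fin 4) F) : M4 F) ≠ z • (1 : M4 F) := by
      intro z e
      apply hne j i hji z
      have : ((b i : GL (Fin 4) F) : M4 F) * (((b i)⁻¹ * b j : GL (Fin 4) F) : M4 F) =
          (b i : M4 F) * (z • (1 : M4 F)) := by rw [e]
      rw [← Units.val_mul, mul_inv_cancel_left, Matrix.mul_smul, Matrix.mul_one] at this
      exact this
    rw [LI64.trace_zero h _ hmem hns, smul_zero]
  · intro hi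
    exact absurd (Finset.mem_univ i) hi

end Cfsg.Agent.S6000P
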