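import Cfsg.Agent.Helper29.OC2K.Defs

set_option autoImplicit false
set_option linter.unusedSectionVars false
set_option linter.unusedVariables false

/-! # OC2K, chapter CHAR2 (helper17): definitions

`C2.Witt1 Q D`: no block contains a totally singular 2-space (blocks of Witt index `≤ 1`);
`C2.Special M D`: the localisation statement at the blocks where the component of `v` is nonsingular
(the only part of the chapter that needs the minus type when `q = 2`, `k = 4`). -/

namespace Cfsg.Agent.OC2K

open Matrix Cfsg.Agent.Helper28.Sg Cfsg.Agent.Helper28.Spin Cfsg.Agent.Helper12.OrthGen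
  Cfsg.Agent.S2614 Cfsg.Agent.S5683P Cfsg.Agent.Helper28.NDM

variable {F : Type*} [Field F] {t : ℕ} {ι : Type} [Fintype ι] [DecidableEq ι] {Q : QuadraticForm F (ι → F)}

/-- no block contains two independent orthogonal singular vectors -/
def C2.Witt1 (Q : QuadraticForm F (ι → F)) (D : Fin t → Submodule F (ι → F)) : Prop :=
  ∀ c, ∀ x ∈ D c, ∀ x' ∈ D c, Q x = 0 → Q x' = 0 → B (Q) x x' = 0 → x ≠ 0 → ∃ s : F, x' = s • x

/-- localisation at the blocks where the component of `v` is nonsingular -/
def C2.Special (M : Subgroup (OGq Q)) (D : Fin t → Submodule F (ι → F)) : Prop :=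
  ∀ (v : ι → F) (hv : NPV M D v) (c : Fin t), Q (cmp D c v) ≠ 0 →
    ∀ y ∈ Rad M v hv.Qv, ∃ s : F, cmp D c y = s • cmp D c v

end Cfsg.Agent.OC2K
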