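import Mathlib

set_option autoImplicit false

namespace Cfsg.Agent.Helper17

open Matrix Polynomial

section AffSL

variable {F : Type*} [Field F]

/-- The affine subgroup of `SL(3,F)`: matrices with last row `(0,0,1)`. -/
def affSub (F : Type*) [Field F] : Subgroup (SpecialLinearGroup (Fin 3) F) where
  carrier := {M | (M : Matrix (Fin 3) (Fin 3) F) 2 0 = 0 ∧ (M : Matrix (Fin 3) (Fin 3) F) 2 1 = 0 ∧
    (M : Matrix (Fin 3) (Fin 3) F) 2 2 = 1}
  one_mem' := by simp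
  mul_mem' := by
    rintro M N ⟨h1, h2, h3⟩ ⟨h1', h2', h3'⟩
    simp [Matrix.mul_apply, Fin.sum_univ_three, *]
  inv_mem' := by
    rintro M ⟨h1, h2, h3⟩
    have hmul : (M : Matrix (Fin 3) (Fin 3) F) * (M : Matrix (Fin 3) (Fin 3) F).adjugate = 1 := by
      rw [Matrix.mul_adjugate, M.det_coe, one_smul]
    have hrow : ∀ j, (M : Matrix (Fin 3) (Fin 3) F).adjugate 2 j =
        (1 : Matrix (Fin 3) (Fin 3) F) 2 j := by
      intro j
      rw [← hmul, Matrix.mul_apply, Fin.sum_univ_three, h1, h2, h3]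
      simp
    refine ⟨?_, ?_, ?_⟩
    · show (M : Matrix (Fin 3) (Fin 3) F).adjugate 2 0 = 0
      rw [hrow]; simp
    · show (M : Matrix (Fin 3) (Fin 3) F).adjugate 2 1 = 0
      rw [hrow]; simp
    · show (M : Matrix (Fin 3) (Fin 3) F).adjugate 2 2 = 1
      rw [hrow]; simp

theorem mem_affSub {M : SpecialLinearGroup (Fin 3) F} : M ∈ affSub F ↔
    (M : Matrix (Fin 3) (Fin 3) F) 2 0 = 0 ∧ (M : Matrix (Fin 3) (Fin 3) F) 2 1 = 0 ∧
    (M : Matrix (Fin 3) (Fin 3) F) 2 2 = 1 := Iff.rfl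

/-- The Cayley–Hamilton type identity. -/
theorem affSub_annihilate [CharP F 2] {M : SpecialLinearGroup (Fin 3) F} (hM : M ∈ affSub F) :
    ((M : Matrix (Fin 3) (Fin 3) F) + 1) * ((M : Matrix (Fin 3) (Fin 3) F) *
      (M : Matrix (Fin 3) (Fin 3) F) + ((M : Matrix (Fin 3) (Fin 3) F) 0 0 +
        (M : Matrix (Fin 3) (Fin 3) F) 1 1) • (M : Matrix (Fin 3) (Fin 3) F) + 1) = 0 := by
  obtain ⟨h1, h2, h3⟩ := hM
  have hdet := M.det_coe
  rw [Matrix.det_fin_three, h1, h2, h3] at hdet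
  have h20 : (2 : F) = 0 := CharTwo.two_eq_zero
  obtain ⟨A, hA⟩ : ∃ A : Matrix (Fin 3) (Fin 3) F, A = M := ⟨_, rfl⟩
  rw [← hA] at h1 h2 h3 hdet ⊢
  have hdet' : A 0 0 * A 1 1 - A 0 1 * A 1 0 = 1 := by linear_combination hdet
  ext i j
  fin_cases i <;> fin_cases j <;>
    simp [-mul_eq_zero, Matrix.mul_apply, Fin.sum_univ_three, Matrix.add_apply, Matrix.one_apply,
      h1, h2, h3]
  · linear_combination ((A 0 0) + 1) * hdet' + ((A 0 0)^3 + (A 0 0)^2 + 2*(A 0 0)*(A 0 1)*(A 1 0) + (A 0 0) + (A 0 1)*(A 1 0)*(A 1 1) + (A 0 1)*(A 1 0) + 1) * h20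
  · linear_combination (3*(A 0 1)) * hdet' + ((A 0 0)^2*(A 0 1) + (A 0 0)*(A 0 1) + 2*(A 0 1)^2*(A 1 0) + (A 0 1)*(A 1 1)^2 + (A 0 1)*(A 1 1) + 2*(A 0 1)) * h20
  · linear_combination ((A 0 2)) * hdet' + ((A 0 0)^2*(A 0 2) + (A 0 0)*(A 0 1)*(A 1 2) + 2*(A 0 0)*(A 0 2) + (A 0 1)*(A 1 0)*(A 0 2) + (A 0 1)*(A 1 1)*(A 1 2) + (A 0 1)*(A 1 2) + (A 1 1)*(A 0 2) + 2*(A 0 2)) * h20
  · linear_combination (3*(A 1 0)) * hdet' + ((A 0 0)^2*(A 1 0) + (A 0 0)*(A 1 0) + 2*(A 0 1)*(A 1 0)^2 + (A 1 0)*(A 1 1)^2 + (A 1 0)*(A 1 1) + 2*(A 1 0)) * h20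
  · linear_combination ((A 1 1) + 1) * hdet' + ((A 0 0)*(A 0 1)*(A 1 0) + 2*(A 0 1)*(A 1 0)*(A 1 1) + (A 0 1)*(A 1 0) + (A 1 1)^3 + (A 1 1)^2 + (A 1 1) + 1) * h20
  · linear_combination ((A 1 2)) * hdet' + ((A 0 0)*(A 1 0)*(A 0 2) + (A 0 0)*(A 1 2) + (A 0 1)*(A 1 0)*(A 1 2) + (A 1 0)*(A 1 1)*(A 0 2) + (A 1 0)*(A 0 2) + (A 1 1)^2*(A 1 2) + 2*(A 1 1)*(A 1 2) + 2*(A 1 2)) * h20
  · linear_combination (0) * hdet' + ((A 0 0) + (A 1 1) + 2) * h20

theorem pow_eq_one_of_poly {n' : Type*} [Fintype n'] [DecidableEq n'] (A : Matrix n' n' F)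
    (p : F[X]) (hp : aeval A p = 0) (h2 : (2 : Matrix n' n' F) = 0) (n : ℕ) (q r : F[X])
    (e : X ^ n - 1 = p * q + 2 * r) : A ^ n = 1 := by
  have := congrArg (aeval A) e
  rw [map_sub, map_pow, aeval_X, map_one, map_add, map_mul, hp, zero_mul, map_mul, map_ofNat, h2,
    zero_mul, add_zero, sub_eq_zero] at this
  exact this

theorem affSub_pow_cases [CharP F 2] {M : SpecialLinearGroup (Fin 3) F} (hM : M ∈ affSub F) :
    ((M : Matrix (Fin 3) (Fin 3) F) 0 0 + (M : Matrix (Fin 3) (Fin 3) F) 1 1 = 0 → M ^ 4 = 1) ∧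
    ((M : Matrix (Fin 3) (Fin 3) F) 0 0 + (M : Matrix (Fin 3) (Fin 3) F) 1 1 = 1 → M ^ 3 = 1) ∧
    (((M : Matrix (Fin 3) (Fin 3) F) 0 0 + (M : Matrix (Fin 3) (Fin 3) F) 1 1) ^ 2 +
      ((M : Matrix (Fin 3) (Fin 3) F) 0 0 + (M : Matrix (Fin 3) (Fin 3) F) 1 1) + 1 = 0 →
        M ^ 5 = 1) := by
  have hann := affSub_annihilate hM
  obtain ⟨A, hA⟩ : ∃ A : Matrix (Fin 3) (Fin 3) F, A = M := ⟨_, rfl⟩
  obtain ⟨t, ht⟩ : ∃ t : F, t = (M : Matrix (Fin 3) (Fin 3) F) 0 0 +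
    (M : Matrix (Fin 3) (Fin 3) F) 1 1 := ⟨_, rfl⟩
  rw [← ht, ← hA] at hann
  rw [← ht]
  have h2 : (2 : Matrix (Fin 3) (Fin 3) F) = 0 := by
    have h20 : (2 : F) = 0 := CharTwo.two_eq_zero
    ext i j
    fin_cases i <;> fin_cases j <;> simp [Matrix.ofNat_apply, h20]
  have hp : aeval A ((X + 1) * (X ^ 2 + C t * X + 1) : F[X]) = 0 := by
    rw [map_mul, map_add, map_add, map_add, map_mul, map_pow, aeval_X, aeval_C, map_one,
      Algebra.algebraMap_eq_smul_one, smul_mul_assoc, one_mul, pow_two]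
    exact hann
  have hpow : ∀ n : ℕ, A ^ n = 1 → M ^ n = 1 := by
    intro n hn
    exact Subtype.ext ((Matrix.SpecialLinearGroup.coe_pow M n).trans (by rw [← hA, hn]; rfl))
  refine ⟨fun h0 => hpow 4 ?_, fun h1 => hpow 3 ?_, fun hw => hpow 5 ?_⟩
  · apply pow_eq_one_of_poly A _ hp h2 4 (X + 1) (-(X ^ 3 + X ^ 2 + X + 1))
    rw [h0, map_zero]; ring
  · apply pow_eq_one_of_poly A _ hp h2 3 1 (-(X ^ 2 + X + 1))
    rw [h1, map_one]; ring
  · apply pow_eq_one_of_poly A _ hp h2 5 (X ^ 2 + C (t + 1) * X + 1 + C (t ^ 2 + t + 1) * (X ^ 2))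
      (-(C (t + 1) * (X ^ 4 + X ^ 3 + X ^ 2 + X) + 1))
    rw [hw, map_zero, zero_mul, add_zero, map_add, map_one]
    have : (C t : F[X]) ^ 2 = - C t - 1 := by
      have := congrArg (C : F → F[X]) hw
      rw [map_add, map_add, map_pow, map_one, map_zero] at this
      linear_combination this
    linear_combination (- (X ^ 3 + X ^ 2)) * this

theorem charP_two_of_card_four [Fintype F] (hF : Fintype.card F = 4) : CharP F 2 := by
  obtain ⟨p, hp⟩ := CharP.exists F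
  obtain ⟨n, hprime, hn⟩ := FiniteField.card F p
  have : p ∣ 4 := by
    rw [← hF, hn]
    exact dvd_pow_self p n.ne_zero
  have h4 : (4 : ℕ) = 2 ^ 2 := by norm_num
  rw [h4] at this
  have hp2 : p = 2 := (Nat.prime_dvd_prime_iff_eq hprime Nat.prime_two).mp
    (hprime.dvd_of_dvd_pow this)
  rw [← hp2]; exact hp

theorem trace_cases [Fintype F] (hF : Fintype.card F = 4) (t : F) :
    t = 0 ∨ t = 1 ∨ t ^ 2 + t + 1 = 0 := by
  have h := FiniteField.pow_card t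
  rw [hF] at h
  have : t * ((t - 1) * (t ^ 2 + t + 1)) = 0 := by linear_combination h
  rcases mul_eq_zero.mp this with h | h
  · left; exact h
  rcases mul_eq_zero.mp h with h | h
  · right; left; exact sub_eq_zero.mp h
  · right; right; exact h

theorem affSub_orderOf_mem [Fintype F] (hF : Fintype.card F = 4)
    {M : SpecialLinearGroup (Fin 3) F} (hM : M ∈ affSub F) :
    orderOf M ∈ ({1, 2, 3, 4, 5} : Set ℕ) := by
  have := charP_two_of_card_four hF
  obtain ⟨h0, h1, hw⟩ := affSub_pow_cases hM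
  rcases trace_cases hF ((M : Matrix (Fin 3) (Fin 3) F) 0 0 + (M : Matrix (Fin 3) (Fin 3) F) 1 1)
    with h | h | h
  · have hd : orderOf M ∣ 4 := orderOf_dvd_of_pow_eq_one (h0 h)
    have hmem : orderOf M ∈ Nat.divisors 4 := Nat.mem_divisors.mpr ⟨hd, by norm_num⟩
    have h4 : Nat.divisors 4 = {1, 2, 4} := by decide
    rw [h4] at hmem
    simp only [Finset.mem_insert, Finset.mem_singleton] at hmem
    rcases hmem with h | h | h <;> rw [h] <;> simp
  · have hd : orderOf M ∣ 3 := orderOf_dvd_of_pow_eq_one (h1 h)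
    rcases (Nat.dvd_prime Nat.prime_three).mp hd with h | h <;> rw [h] <;> simp
  · have hd : orderOf M ∣ 5 := orderOf_dvd_of_pow_eq_one (hw h)
    rcases (Nat.dvd_prime Nat.prime_five).mp hd with h | h <;> rw [h] <;> simp

/-- A unipotent-type element with parameters. -/
def affMat [CharP F 2] (a b c d x y : F) (h : a * d + b * c = 1) : SpecialLinearGroup (Fin 3) F :=
  ⟨!![a, b, x; c, d, y; 0, 0, 1], by
    rw [Matrix.det_fin_three]
    simp
    have h20 : (2 : F) = 0 := CharTwo.two_eq_zero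
    linear_combination h - b * c * h20⟩

theorem affMat_mem [CharP F 2] (a b c d x y : F) (h : a * d + b * c = 1) :
    affMat a b c d x y h ∈ affSub F := by
  refine ⟨?_, ?_, ?_⟩ <;> simp [affMat]

theorem affMat_ne_one [CharP F 2] (a b c d x y : F) (h : a * d + b * c = 1) (hb : b ≠ 0) :
    affMat a b c d x y h ≠ 1 := by
  intro hh
  have := congrArg (fun X : SpecialLinearGroup (Fin 3) F => (X : Matrix (Fin 3) (Fin 3) F) 0 1) hh
  simp [affMat] at this
  exact hb this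

theorem exists_orderOf_two [CharP F 2] : ∃ M ∈ affSub F, orderOf M = 2 := by
  refine ⟨affMat 1 1 0 1 0 0 (by ring), affMat_mem _ _ _ _ _ _ _, ?_⟩
  have : Fact (Nat.Prime 2) := ⟨Nat.prime_two⟩
  apply orderOf_eq_prime
  · rw [pow_two]
    have h20 : (2 : F) = 0 := CharTwo.two_eq_zero
    have h11 : (1 : F) + 1 = 0 := by rw [one_add_one_eq_two, h20]
    have hsq : (!![1, 1, 0; 0, 1, 0; 0, 0, 1] : Matrix (Fin 3) (Fin 3) F) *
        !![1, 1, 0; 0, 1, 0; 0, 0, 1] = 1 := by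
      ext i j
      fin_cases i <;> fin_cases j <;>
        simp [Matrix.mul_apply, Fin.sum_univ_three, h11]
    exact Subtype.ext ((Matrix.SpecialLinearGroup.coe_mul _ _).trans hsq)
  · exact affMat_ne_one _ _ _ _ _ _ _ one_ne_zero

theorem exists_orderOf_three [CharP F 2] : ∃ M ∈ affSub F, orderOf M = 3 := by
  refine ⟨affMat 0 1 1 1 0 0 (by ring), affMat_mem _ _ _ _ _ _ _, ?_⟩
  have : Fact (Nat.Prime 3) := ⟨Nat.prime_three⟩
  apply orderOf_eq_prime
  · apply (affSub_pow_cases (affMat_mem _ _ _ _ _ _ _)).2.1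
    simp [affMat]
  · exact affMat_ne_one _ _ _ _ _ _ _ one_ne_zero

theorem exists_orderOf_five [CharP F 2] (w : F) (hw : w ^ 2 + w + 1 = 0) :
    ∃ M ∈ affSub F, orderOf M = 5 := by
  refine ⟨affMat 0 1 1 w 0 0 (by ring), affMat_mem _ _ _ _ _ _ _, ?_⟩
  have : Fact (Nat.Prime 5) := ⟨Nat.prime_five⟩
  apply orderOf_eq_prime
  · apply (affSub_pow_cases (affMat_mem _ _ _ _ _ _ _)).2.2
    simp [affMat, hw]
  · exact affMat_ne_one _ _ _ _ _ _ _ one_ne_zero

theorem exists_orderOf_four [CharP F 2] : ∃ M ∈ affSub F, orderOf M = 4 := by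
  refine ⟨affMat 1 1 0 1 0 1 (by ring), affMat_mem _ _ _ _ _ _ _, ?_⟩
  have : Fact (Nat.Prime 2) := ⟨Nat.prime_two⟩
  have h20 : (2 : F) = 0 := CharTwo.two_eq_zero
  have h11 : (1 : F) + 1 = 0 := by rw [one_add_one_eq_two, h20]
  have := orderOf_eq_prime_pow (x := affMat (1 : F) 1 0 1 0 1 (by ring)) (p := 2) (n := 1) ?_ ?_
  · simpa using this
  · intro hh
    rw [pow_one, pow_two] at hh
    have h1 := congrArg (fun X : SpecialLinearGroup (Fin 3) F =>
      (X : Matrix (Fin 3) (Fin 3) F) 0 2) hh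
    have h2 : ((affMat (1 : F) 1 0 1 0 1 (by ring) * affMat (1 : F) 1 0 1 0 1 (by ring) :
        SpecialLinearGroup (Fin 3) F) : Matrix (Fin 3) (Fin 3) F) =
        (!![1, 1, 0; 0, 1, 1; 0, 0, 1] : Matrix (Fin 3) (Fin 3) F) *
        !![1, 1, 0; 0, 1, 1; 0, 0, 1] := Matrix.SpecialLinearGroup.coe_mul _ _
    simp only [h2] at h1
    simp [Matrix.mul_apply, Fin.sum_univ_three] at h1
  · apply (affSub_pow_cases (affMat_mem _ _ _ _ _ _ _)).1
    simp [affMat, h11]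

theorem exists_omega [Fintype F] (hF : Fintype.card F = 4) : ∃ w : F, w ^ 2 + w + 1 = 0 := by
  classical
  have hcard : 2 < Fintype.card F := by rw [hF]; norm_num
  obtain ⟨w, hw0, hw1⟩ : ∃ w : F, w ≠ 0 ∧ w ≠ 1 := by
    by_contra hcon
    push Not at hcon
    have hsub : (Finset.univ : Finset F) ⊆ {0, 1} := by
      intro x _
      by_cases hx : x = 0
      · simp [hx]
      · simp [hcon x hx]
    have := Finset.card_le_card hsub
    rw [Finset.card_univ] at this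
    have h2 : ({0, 1} : Finset F).card ≤ 2 := Finset.card_le_two
    omega
  rcases trace_cases hF w with h | h | h
  · exact absurd h hw0
  · exact absurd h hw1
  · exact ⟨w, h⟩

theorem affSub_spectrum [Fintype F] (hF : Fintype.card F = 4) :
    Set.range (orderOf : affSub F → ℕ) = ({1, 2, 3, 4, 5} : Set ℕ) := by
  have := charP_two_of_card_four hF
  apply Set.Subset.antisymm
  · rintro _ ⟨g, rfl⟩
    rw [← Subgroup.orderOf_coe g]
    exact affSub_orderOf_mem hF g.2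
  · intro n hn
    simp only [Set.mem_insert_iff, Set.mem_singleton_iff] at hn
    have hmk : ∀ (M : SpecialLinearGroup (Fin 3) F) (hM : M ∈ affSub F) (k : ℕ),
        orderOf M = k → k ∈ Set.range (orderOf : affSub F → ℕ) := by
      intro M hM k hk
      exact ⟨⟨M, hM⟩, by rw [Subgroup.orderOf_mk, hk]⟩
    rcases hn with rfl | rfl | rfl | rfl | rfl
    · exact ⟨1, orderOf_one⟩
    · obtain ⟨M, hM, hk⟩ := exists_orderOf_two (F := F)
      exact hmk M hM _ hk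
    · obtain ⟨M, hM, hk⟩ := exists_orderOf_three (F := F)
      exact hmk M hM _ hk
    · obtain ⟨M, hM, hk⟩ := exists_orderOf_four (F := F)
      exact hmk M hM _ hk
    · obtain ⟨w, hw⟩ := exists_omega hF
      obtain ⟨M, hM, hk⟩ := exists_orderOf_five w hw
      exact hmk M hM _ hk

end AffSL

end Cfsg.Agent.Helper17
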