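import Mathlib
import Cfsg.Agent.Helper13.S2276Defs
import Cfsg.Agent.Helper20.S2276FORMGLUE
import Cfsg.Agent.Helper26.S2276ROT

set_option autoImplicit false
set_option linter.unusedSectionVars false
set_option linter.unusedVariables false

/-! # S2276 piece ARCS -/

namespace Cfsg.Agent.S2276P

open Equiv Equiv.Perm

theorem ARCS.glue_mul {a b : ℕ} (x x' : Perm (Fin a)) (y y' : Perm (Fin b)) :
    glue (x * x') (y * y') = glue x y * glue x' y' := by
  ext i
  refine Fin.addCases (fun j => ?_) (fun j => ?_) i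
  · simp [FORMGLUE.glue_castAdd]
  · simp [FORMGLUE.glue_natAdd]

theorem ARCS.glue_cycleType {a b : ℕ} (x : Perm (Fin a)) (y : Perm (Fin b)) :
    (glue x y).cycleType = x.cycleType + y.cycleType := by
  classical
  let fL : Fin a ≃ {i : Fin (a + b) // i ∈ Set.range (Fin.castAdd b : Fin a → Fin (a + b))} :=
    Equiv.ofInjective (Fin.castAdd b) (Fin.castAdd_injective _ _)
  let fR : Fin b ≃ {i : Fin (a + b) // i ∈ Set.range (Fin.natAdd a : Fin b → Fin (a + b))} :=
    Equiv.ofInjective (Fin.natAdd a) (Fin.natAdd_injective _ _)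
  have hLR : ∀ j : Fin a, Fin.castAdd b j ∉ Set.range (Fin.natAdd a : Fin b → Fin (a + b)) := by
    rintro j ⟨l, hl⟩
    have := congrArg Fin.val hl
    simp at this
    omega
  have hRL : ∀ j : Fin b, Fin.natAdd a j ∉ Set.range (Fin.castAdd b : Fin a → Fin (a + b)) := by
    rintro j ⟨l, hl⟩
    have := congrArg Fin.val hl
    simp at this
    omega
  have hfL : ∀ j : Fin a, ((fL j : {i : Fin (a + b) // i ∈ Set.range (Fin.castAdd b : Fin a → Fin (a + b))}) :
      Fin (a + b)) = Fin.castAdd b j := fun j => rfl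
  have hfR : ∀ j : Fin b, ((fR j : {i : Fin (a + b) // i ∈ Set.range (Fin.natAdd a : Fin b → Fin (a + b))}) :
      Fin (a + b)) = Fin.natAdd a j := fun j => rfl
  have heq : glue x y = x.extendDomain fL * y.extendDomain fR := by
    ext i
    refine Fin.addCases (fun j => ?_) (fun j => ?_) i
    · rw [FORMGLUE.glue_castAdd, Perm.mul_apply, Perm.extendDomain_apply_not_subtype _ _ (hLR j),
        ← hfL j, Perm.extendDomain_apply_image, hfL]
    · rw [FORMGLUE.glue_natAdd, Perm.mul_apply, ← hfR j, Perm.extendDomain_apply_image, hfR,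
        Perm.extendDomain_apply_not_subtype _ _ (hRL (y j))]
  have hdisj : Perm.Disjoint (x.extendDomain fL) (y.extendDomain fR) := by
    intro i
    refine Fin.addCases (fun j => ?_) (fun j => ?_) i
    · right
      exact Perm.extendDomain_apply_not_subtype _ _ (hLR j)
    · left
      exact Perm.extendDomain_apply_not_subtype _ _ (hRL j)
  rw [heq, hdisj.cycleType_mul, cycleType_extendDomain, cycleType_extendDomain]

theorem ARCS.cycleType_rot_inv (a : ℕ) :
    ((finRotate (a + 1))⁻¹ : Perm (Fin (a + 1))).cycleType =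
      (([a + 1].filter (fun ℓ => ℓ ≠ 1) : List ℕ) : Multiset ℕ) := by
  rw [Equiv.Perm.cycleType_inv]
  rcases a with _ | a
  · show (1 : Perm (Fin 1)).cycleType = _
    rw [Equiv.Perm.cycleType_one]
    simp
  · rw [cycleType_finRotate]
    simp

theorem ARCS.length_parity : ∀ (L : List ℕ), (∀ ℓ ∈ L, Odd ℓ) → L.length % 2 = L.sum % 2
  | [], _ => by simp
  | ℓ :: L, hL => by
    have ih := ARCS.length_parity L (fun x hx => hL x (List.mem_cons_of_mem _ hx))
    obtain ⟨j, hj⟩ := hL ℓ List.mem_cons_self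
    rw [List.length_cons, List.sum_cons]
    omega

theorem ARCS.aux : ∀ (L : List ℕ), (∀ ℓ ∈ L, Odd ℓ) → ∀ t : ℕ, L.sum = t + 1 →
    ∃ (b : Perm (Fin (t + 1))) (S : List (Fin (t + 1))),
      b.cycleType = ((L.filter (fun ℓ => ℓ ≠ 1) : List ℕ) : Multiset ℕ) ∧ (0 :: S).Nodup ∧
      finRotate (t + 1) * b = (0 :: S).formPerm ∧ S.length + 1 = L.length
  | [], _, t, hs => by simp at hs
  | [ℓ], hL, t, hs => by
    rw [List.sum_singleton] at hs
    subst hs
    refine ⟨(finRotate (t + 1))⁻¹, [], ARCS.cycleType_rot_inv t, by simp, ?_, by simp⟩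
    rw [mul_inv_cancel, List.formPerm_singleton]
  | ℓ :: ℓ' :: L'', hL, t, hs => by
    obtain ⟨j, hj⟩ := hL ℓ List.mem_cons_self
    have hL' : ∀ x ∈ ℓ' :: L'', Odd x := fun x hx => hL x (List.mem_cons_of_mem _ hx)
    obtain ⟨j', hj'⟩ := hL' ℓ' List.mem_cons_self
    obtain ⟨t', ht'⟩ : ∃ t', (ℓ' :: L'').sum = t' + 1 := by
      refine ⟨(ℓ' :: L'').sum - 1, ?_⟩
      rw [List.sum_cons]
      omega
    obtain ⟨b', S', hct', hnd', hrot', hlen'⟩ := ARCS.aux (ℓ' :: L'') hL' t' ht'
    obtain ⟨a, rfl⟩ : ∃ a, ℓ = a + 1 := ⟨2 * j, hj⟩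
    have ht : t = a + 1 + t' := by
      rw [List.sum_cons, ht'] at hs
      omega
    subst ht
    show ∃ (b : Perm (Fin (a + 1 + (t' + 1)))) (S : List (Fin (a + 1 + (t' + 1)))),
      b.cycleType = ((((a + 1) :: ℓ' :: L'').filter (fun ℓ => ℓ ≠ 1) : List ℕ) : Multiset ℕ) ∧
      ((0 : Fin (a + 1 + (t' + 1))) :: S).Nodup ∧
      finRotate (a + 1 + (t' + 1)) * b = ((0 : Fin (a + 1 + (t' + 1))) :: S).formPerm ∧
      S.length + 1 = ((a + 1) :: ℓ' :: L'').length
    have h0 : Fin.castAdd (t' + 1) (0 : Fin (a + 1)) = (0 : Fin (a + 1 + (t' + 1))) := by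
      apply Fin.ext
      simp
    refine ⟨glue (finRotate (a + 1))⁻¹ b', ((0 : Fin (t' + 1)) :: S').map (Fin.natAdd (a + 1)), ?_, ?_, ?_, ?_⟩
    · rw [ARCS.glue_cycleType, hct', ARCS.cycleType_rot_inv]
      rw [Multiset.coe_add, ← List.filter_append]
      rfl
    · rw [List.nodup_cons]
      constructor
      · intro hmem
        obtain ⟨y, -, hy⟩ := List.mem_map.1 hmem
        have := congrArg Fin.val hy
        simp at this
      · exact hnd'.map (Fin.natAdd_injective _ _)
    · rw [ROT.main, mul_assoc, ← ARCS.glue_mul, mul_inv_cancel, hrot', FORMGLUE.right, h0,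
        List.map_cons, ← List.formPerm_cons_cons]
    · simp only [List.length_map, List.length_cons] at hlen' ⊢
      omega

/-- ARCS [L]: reversed consecutive arcs. -/
theorem ARCS.main (t : ℕ) (m : Multiset ℕ) (hm : ∀ y ∈ m, Odd y ∧ 3 ≤ y) (hsum : m.sum ≤ t + 1) :
    ∃ (b : Perm (Fin (t + 1))) (S : List (Fin (t + 1))), b.cycleType = m ∧ (0 :: S).Nodup ∧
      finRotate (t + 1) * b = (0 :: S).formPerm ∧ (S.length + 1) % 2 = (t + 1) % 2 := by
  set f := t + 1 - m.sum with hf
  set L : List ℕ := m.toList ++ List.replicate f 1 with hLdef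
  have hLodd : ∀ ℓ ∈ L, Odd ℓ := by
    intro ℓ hℓ
    rw [hLdef, List.mem_append] at hℓ
    rcases hℓ with h1 | h1
    · exact (hm ℓ (Multiset.mem_toList.1 h1)).1
    · rw [List.mem_replicate] at h1
      rw [h1.2]
      exact odd_one
  have hLsum : L.sum = t + 1 := by
    rw [hLdef, List.sum_append, List.sum_replicate, Multiset.sum_toList, smul_eq_mul, mul_one]
    omega
  obtain ⟨b, S, hct, hnd, hrot, hlen⟩ := ARCS.aux L hLodd t hLsum
  refine ⟨b, S, ?_, hnd, hrot, ?_⟩
  · rw [hct, hLdef, List.filter_append]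
    have h1 : (m.toList.filter (fun ℓ => ℓ ≠ 1)) = m.toList := by
      rw [List.filter_eq_self]
      intro x hx
      have := (hm x (Multiset.mem_toList.1 hx)).2
      simp only [ne_eq, decide_not, Bool.not_eq_eq_eq_not, Bool.not_true, decide_eq_false_iff_not]
      omega
    have h2 : ((List.replicate f 1).filter (fun ℓ => ℓ ≠ 1)) = [] := by
      rw [List.filter_eq_nil_iff]
      intro x hx
      rw [List.mem_replicate] at hx
      simp [hx.2]
    rw [h1, h2, List.append_nil, Multiset.coe_toList]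
  · rw [hlen, ARCS.length_parity L hLodd, hLsum]

end Cfsg.Agent.S2276P
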