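import Mathlib
import Cfsg.Prelude.Def_ClassicalGeometry
import Cfsg.Agent.Helper7.S2676Defs
import Cfsg.Agent.Helper16.S5955Defs
import Cfsg.Agent.Helper23.S5961Defs
import Cfsg.Agent.Helper14.S2481.Defs
import Cfsg.Agent.Helper29.S2482CDefs

/-! # S2482 (class number of `Sp_{2n}(q)`, `q` odd), chapter (G) GEOMETRY + TYPES (driver helper17): definitions.

`SpSpace F`      : a bundled finite dimensional space `V` with a bilinear form `B` and an endomorphism `g`;
                   `S.IsSp` says that `B` is alternating and nondegenerate and `g` an isometry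
                   (`Cfsg.Agent.S5955P.IsYSp S.B S.g 0`).
`S.IsSum S₁ S₂`  : `S` is the orthogonal sum of `S₁` and `S₂` (as spaces with endomorphisms).
`S.Iso S'`       : there is an isometry `S.V ≃ S'.V` intertwining the endomorphisms.
`S.LinIso S'`    : there is a linear isomorphism intertwining the endomorphisms.
`S.neg`          : the same space with `-g`.
`ofSp g`         : the space `F^(2n)` with the standard form `sB n F` and `toLin' g`.
`UniSign B g c s`: `g - 1` nilpotent: `g` has a Cayley transform `X` (`g (1 - X) = 1 + X`, `X` skew) with a frame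
                   (S2676) having `c m` generators of size `m` and, for even `m` with `c m > 0`,
                   `s m = true` iff the discriminant of the block of size `m` is a non-square.
`SignRel S cp sp cm sm` : `S = S₁ ⊥ S₂ ⊥ S₃` with `g₁ - 1`, `g₂ + 1` nilpotent, `g₃ ± 1` invertible,
                   `UniSign B₁ g₁ cp sp`, `UniSign B₂ (-g₂) cm sm`.
`toFin g`        : the matrix of `g ∈ Sp_{2n}` reindexed by `Fin (n + n)`.
-/

set_option autoImplicit false

namespace Cfsg.Agent.S2482P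

open Polynomial Cfsg.Agent.Helper2.SympInvol Cfsg.Agent.S5955P Cfsg.Agent.S5961P Cfsg.Agent.S2676P
  Cfsg.Agent.S2478P Cfsg.Agent.S2481P

universe u

/-- a space with a bilinear form and an endomorphism -/
structure SpSpace (F : Type u) [Field F] where
  V : Type u
  [acg : AddCommGroup V]
  [mod : Module F V]
  [fd : FiniteDimensional F V]
  B : LinearMap.BilinForm F V
  g : Module.End F V

attribute [instance] SpSpace.acg SpSpace.mod SpSpace.fd

namespace SpSpace

variable {F : Type u} [Field F]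

/-- alternating, nondegenerate, `g` an isometry -/
def IsSp (S : SpSpace F) : Prop := IsYSp S.B S.g 0

/-- `S` is the orthogonal sum of `S₁` and `S₂` -/
def IsSum (S S₁ S₂ : SpSpace F) : Prop :=
  ∃ e : S.V ≃ₗ[F] S₁.V × S₂.V,
    (∀ u v, S.B u v = S₁.B (e u).1 (e v).1 + S₂.B (e u).2 (e v).2) ∧
    ∀ v, e (S.g v) = (S₁.g (e v).1, S₂.g (e v).2)

/-- isometric and equivariant -/
def Iso (S S' : SpSpace F) : Prop :=
  ∃ φ : S.V ≃ₗ[F] S'.V, (∀ u v, S'.B (φ u) (φ v) = S.B u v) ∧ ∀ v, φ (S.g v) = S'.g (φ v)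

/-- linearly equivariantly isomorphic -/
def LinIso (S S' : SpSpace F) : Prop :=
  ∃ x : S.V ≃ₗ[F] S'.V, ∀ v, x (S.g v) = S'.g (x v)

/-- the same space with `-g` -/
abbrev neg (S : SpSpace F) : SpSpace F := { V := S.V, B := S.B, g := -S.g }

/-- the dimension of the kernel of `(g - c)^k` -/
noncomputable def kdim (S : SpSpace F) (c : F) (k : ℕ) : ℕ :=
  Module.finrank F (LinearMap.ker ((S.g - algebraMap F (Module.End F S.V) c) ^ k))

end SpSpace

/-- the space of a symplectic matrix -/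
noncomputable def ofSp {F : Type u} [Field F] {n : ℕ} (g : Matrix.symplecticGroup (Fin n) F) :
    SpSpace F :=
  { V := Fin n ⊕ Fin n → F
    B := sB n F
    g := Matrix.toLin' (g : Matrix (Fin n ⊕ Fin n) (Fin n ⊕ Fin n) F) }

/-- the matrix of `g ∈ Sp_{2n}(F)` indexed by `Fin (n + n)` -/
def toFin {F : Type u} [Field F] {n : ℕ} (g : Matrix.symplecticGroup (Fin n) F) :
    Matrix (Fin (n + n)) (Fin (n + n)) F :=
  Matrix.reindex finSumFinEquiv finSumFinEquiv
    (g : Matrix (Fin n ⊕ Fin n) (Fin n ⊕ Fin n) F)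

/-- sign data of an isometry `g` with `g - 1` nilpotent -/
def UniSign {F V : Type*} [Field F] [AddCommGroup V] [Module F V]
    (B : LinearMap.BilinForm F V) (g : Module.End F V) (c : ℕ → ℕ) (s : ℕ → Bool) : Prop :=
  ∃ (X : Module.End F V) (ι : Type) (_ : Fintype ι) (_ : DecidableEq ι) (a : ι → ℕ)
    (K : Matrix ι ι F) (v : ι → V),
    Skew B X ∧ g * (1 - X) = 1 + X ∧ IsFrame B X ⊤ a K v ∧
    (∀ m, c m = Fintype.card {j // a j = m}) ∧
    ∀ m, s m = true ↔ (Even m ∧ 0 < c m ∧ ¬ IsSquare (K.toSquareBlock a m).det)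

/-- the sign relation: a decomposition `S = S₁ ⊥ S₂ ⊥ S₃` into the `1`-part, the `(-1)`-part and the rest, with
sign data of the two unipotent parts -/
def SignRel {F : Type u} [Field F] (S : SpSpace F) (cp : ℕ → ℕ) (sp : ℕ → Bool) (cm : ℕ → ℕ)
    (sm : ℕ → Bool) : Prop :=
  ∃ S₁ S₂ S₃ S₂₃ : SpSpace F, S₁.IsSp ∧ S₂.IsSp ∧ S₃.IsSp ∧ S₂₃.IsSp ∧
    S.IsSum S₁ S₂₃ ∧ S₂₃.IsSum S₂ S₃ ∧
    IsNilpotent (S₁.g - 1) ∧ IsNilpotent (S₂.g + 1) ∧ IsUnit (S₂₃.g - 1) ∧ IsUnit (S₃.g - 1) ∧
    IsUnit (S₃.g + 1) ∧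
    UniSign S₁.B S₁.g cp sp ∧ UniSign S₂.B (-S₂.g) cm sm

/-- the relation between a symplectic matrix and its invariants `(t, s)` -/
def Rel {F : Type u} [Field F] {n : ℕ} (g : Matrix.symplecticGroup (Fin n) F)
    (x : (ℕ → F[X]) × (ℕ → Bool × Bool)) : Prop :=
  HasType (toFin g) x.1 ∧
    ∃ cp cm : ℕ → ℕ, SignRel (ofSp g) cp (fun m => (x.2 m).1) cm (fun m => (x.2 m).2)

theorem tilde0_eq {F : Type*} [Field F] (h : F[X]) :
    tilde0 h = C (h.coeff 0)⁻¹ * h.reverse := by
  unfold tilde0 tilde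
  rw [RingHom.id_apply, Polynomial.map_id]

end Cfsg.Agent.S2482P
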