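import Mathlib
import Cfsg.Agent.Helper10.S2548Defs

set_option autoImplicit false
open scoped Matrix

/-! S2548 piece SUPP (driver helper10; helper17): shape of the root elements, the simple roots. -/

namespace Cfsg.Agent.S2548P

open Cfsg.Agent.MatBN
open Cfsg.Agent.S2546P (E)

variable {K : Type*} [Field K] {n : ℕ}

namespace SUPP

theorem xR_apply (i k : ℕ) (t : K) (a c : Fin n) :
    xR n i k t a c = (if a = c then 1 else 0) + (if a.val = i ∧ c.val = k then t else 0)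
      - (if a.val = n - 1 - k ∧ c.val = n - 1 - i then t else 0) := by
  unfold xR E
  rw [Matrix.sub_apply, Matrix.add_apply, Matrix.smul_apply, Matrix.smul_apply, Matrix.of_apply,
    Matrix.of_apply, Matrix.one_apply, smul_eq_mul, smul_eq_mul, mul_ite, mul_one, mul_zero,
    mul_ite, mul_one, mul_zero]

theorem isRt_symm {i k : ℕ} (h : IsRt n i k) : IsRt n k i := by
  obtain ⟨h1, h2, h3, h4⟩ := h
  exact ⟨h2, h1, h3.symm, by omega⟩

theorem isRt_node (hn : n % 2 = 0) (hn4 : 4 ≤ n) {j : ℕ} (hj : j < n / 2) :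
    IsRt n (nodeI n j) (nodeK n j) ∧ nodeI n j < nodeK n j := by
  unfold IsRt nodeI nodeK
  split_ifs with h
  · refine ⟨⟨by omega, by omega, by omega, by omega⟩, by omega⟩
  · refine ⟨⟨by omega, by omega, by omega, by omega⟩, by omega⟩

theorem isUni_xR (hn : n % 2 = 0) {i k : ℕ} (h : IsRt n i k) (hik : i < k) (t : K) :
    IsUni (xR n i k t) := by
  obtain ⟨h1, h2, h3, h4⟩ := h
  refine ⟨fun a c hca => ?_, fun a => ?_⟩
  · have hca' : c.val < a.val := hca
    rw [xR_apply, if_neg (fun e => by rw [e] at hca'; exact lt_irrefl _ hca'),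
      if_neg (by rintro ⟨e1, e2⟩; omega), if_neg (by rintro ⟨e1, e2⟩; omega)]
    ring
  · rw [xR_apply, if_pos rfl, if_neg (by rintro ⟨e1, e2⟩; omega),
      if_neg (by rintro ⟨e1, e2⟩; omega)]
    ring

theorem isLow_xR (hn : n % 2 = 0) {i k : ℕ} (h : IsRt n i k) (hki : k < i) (t : K) :
    IsLow (xR n i k t) := by
  obtain ⟨h1, h2, h3, h4⟩ := h
  refine ⟨fun a c hac => ?_, fun a => ?_⟩
  · have hac' : a.val < c.val := hac
    rw [xR_apply, if_neg (fun e => by rw [e] at hac'; exact lt_irrefl _ hac'),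
      if_neg (by rintro ⟨e1, e2⟩; omega), if_neg (by rintro ⟨e1, e2⟩; omega)]
    ring
  · rw [xR_apply, if_pos rfl, if_neg (by rintro ⟨e1, e2⟩; omega),
      if_neg (by rintro ⟨e1, e2⟩; omega)]
    ring

theorem xR_injective {i k : ℕ} (h : IsRt n i k) : Function.Injective (xR (K := K) n i k) := by
  obtain ⟨h1, h2, h3, h4⟩ := h
  intro t t' e
  have hx : ∀ s : K, xR n i k s ⟨i, h1⟩ ⟨k, h2⟩ = s := by
    intro s
    rw [xR_apply]
    have c1 : ¬ ((⟨i, h1⟩ : Fin n) = ⟨k, h2⟩) := fun e => h3 (congrArg Fin.val e)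
    have c2 : ((⟨i, h1⟩ : Fin n).val = i ∧ (⟨k, h2⟩ : Fin n).val = k) := ⟨rfl, rfl⟩
    have c3 : ¬ ((⟨i, h1⟩ : Fin n).val = n - 1 - k ∧ (⟨k, h2⟩ : Fin n).val = n - 1 - i) := by
      rintro ⟨e1, e2⟩
      simp only at e1 e2
      omega
    rw [if_neg c1, if_pos c2, if_neg c3]
    ring
  rw [← hx t, ← hx t', e]

end SUPP

end Cfsg.Agent.S2548P
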