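import Mathlib
import Cfsg.Agent.Helper10.S2548Defs
import Cfsg.Agent.Helper8.S2546EMB
import Cfsg.Agent.Helper17.S2546JCalc

set_option autoImplicit false
open scoped Matrix

/-! S2548 piece HD (driver helper10; helper17): the rank one Bruhat identity as a pure matrix
statement.  All three factors live on the two disjoint index pairs `(i,k)` and `(rev k, rev i)`;
we write them as products of two commuting `2 × 2` block embeddings. -/

namespace Cfsg.Agent.S2548P

open Cfsg.Agent.MatBN
open Cfsg.Agent.S2546P (E)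

variable {K : Type*} [Field K] {n : ℕ}

namespace HD

open Cfsg.Agent.MatBN.EMB

/-- the pair map -/
def pr (a b : Fin n) : Fin 2 → Fin n := ![a, b]

theorem pr_zero (a b : Fin n) : pr a b 0 = a := rfl

theorem pr_one (a b : Fin n) : pr a b 1 = b := rfl

theorem pr_strictMono {a b : Fin n} (h : a < b) : StrictMono (pr a b) := by
  intro p q hpq
  fin_cases p <;> fin_cases q
  · exact absurd hpq (lt_irrefl _)
  · exact h
  · exact absurd hpq (by decide)
  · exact absurd hpq (lt_irrefl _)

theorem incT_mul_inc_disj {f g : Fin 2 → Fin n} (hfg : ∀ p q, f p ≠ g q) :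
    (inc K f)ᵀ * inc K g = 0 := by
  ext p q
  rw [Matrix.mul_apply, Matrix.zero_apply]
  apply Finset.sum_eq_zero
  intro a _
  rw [Matrix.transpose_apply, inc_apply, inc_apply]
  by_cases h1 : a = f p
  · rw [if_pos h1, if_neg (fun h2 => hfg p q (h1.symm.trans h2)), mul_zero]
  · rw [if_neg h1, zero_mul]

theorem emb_mul_disj {f g : Fin 2 → Fin n} (hfg : ∀ p q, f p ≠ g q)
    (A B : Matrix (Fin 2) (Fin 2) K) :
    emb f A * emb g B = 1 + inc K f * (A - 1) * (inc K f)ᵀ + inc K g * (B - 1) * (inc K g)ᵀ := by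
  unfold emb
  have h0 : (inc K f * (A - 1) * (inc K f)ᵀ) * (inc K g * (B - 1) * (inc K g)ᵀ) = 0 := by
    calc (inc K f * (A - 1) * (inc K f)ᵀ) * (inc K g * (B - 1) * (inc K g)ᵀ)
        = inc K f * (A - 1) * ((inc K f)ᵀ * inc K g) * (B - 1) * (inc K g)ᵀ := by
          simp only [Matrix.mul_assoc]
      _ = 0 := by rw [incT_mul_inc_disj hfg]; simp
  rw [mul_add, add_mul, add_mul, one_mul, mul_one, one_mul, h0, add_zero, add_assoc]

theorem emb_comm {f g : Fin 2 → Fin n} (hfg : ∀ p q, f p ≠ g q)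
    (A B : Matrix (Fin 2) (Fin 2) K) : emb f A * emb g B = emb g B * emb f A := by
  rw [emb_mul_disj hfg, emb_mul_disj (fun p q => (hfg q p).symm)]
  abel

theorem inc_pr (a b : Fin n) (M : Matrix (Fin 2) (Fin 2) K) :
    inc K (pr a b) * M * (inc K (pr a b))ᵀ = Matrix.single a a (M 0 0) + Matrix.single a b (M 0 1)
      + Matrix.single b a (M 1 0) + Matrix.single b b (M 1 1) := by
  have hM : M = Matrix.single 0 0 (M 0 0) + Matrix.single 0 1 (M 0 1)
      + Matrix.single 1 0 (M 1 0) + Matrix.single 1 1 (M 1 1) := by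
    ext p q
    fin_cases p <;> fin_cases q <;> simp
  conv_lhs => rw [hM]
  simp only [Matrix.mul_add, Matrix.add_mul, inc_single_incT, pr_zero, pr_one]

theorem single_neg' (a b : Fin n) (t : K) : Matrix.single a b (-t) = -Matrix.single a b t := by
  ext p q
  rw [Matrix.neg_apply, Matrix.single_apply, Matrix.single_apply]
  split_ifs <;> simp

section Main

variable {i k : ℕ}

/-- the four indices -/
def iI (h : IsRt n i k) : Fin n := ⟨i, h.1⟩
def iK (h : IsRt n i k) : Fin n := ⟨k, h.2.1⟩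
def iRK (h : IsRt n i k) : Fin n := ⟨n - 1 - k, by have := h.1; omega⟩
def iRI (h : IsRt n i k) : Fin n := ⟨n - 1 - i, by have := h.1; omega⟩

theorem disj (hn : n % 2 = 0) (h : IsRt n i k) :
    ∀ p q, pr (iI h) (iK h) p ≠ pr (iRK h) (iRI h) q := by
  obtain ⟨h1, h2, h3, h4⟩ := h
  intro p q e
  have e' := congrArg Fin.val e
  fin_cases p <;> fin_cases q <;> simp [pr, iI, iK, iRK, iRI] at e' <;> omega

theorem xR_eq (hn : n % 2 = 0) (h : IsRt n i k) (t : K) :
    xR n i k t = emb (pr (iI h) (iK h)) !![1, t; 0, 1] * emb (pr (iRK h) (iRI h)) !![1, -t; 0, 1] := by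
  rw [emb_mul_disj (disj hn h), inc_pr, inc_pr]
  unfold xR
  rw [Cfsg.Agent.S2546P.JC.E_eq_single i k h.1 h.2.1,
    Cfsg.Agent.S2546P.JC.E_eq_single (n - 1 - k) (n - 1 - i) (by have := h.1; omega)
      (by have := h.1; omega)]
  simp [Matrix.smul_single, iI, iK, iRK, iRI, sub_eq_add_neg, single_neg']

theorem xR_eq' (hn : n % 2 = 0) (h : IsRt n i k) (s : K) :
    xR n k i s = emb (pr (iI h) (iK h)) !![1, 0; s, 1] * emb (pr (iRK h) (iRI h)) !![1, 0; -s, 1] := by
  rw [emb_mul_disj (disj hn h), inc_pr, inc_pr]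
  unfold xR
  rw [Cfsg.Agent.S2546P.JC.E_eq_single k i h.2.1 h.1,
    Cfsg.Agent.S2546P.JC.E_eq_single (n - 1 - i) (n - 1 - k) (by have := h.1; omega)
      (by have := h.1; omega)]
  simp [Matrix.smul_single, iI, iK, iRK, iRI, sub_eq_add_neg, single_neg']

theorem wM_eq (hn : n % 2 = 0) (h : IsRt n i k) :
    (wM n i k : Matrix (Fin n) (Fin n) K) =
      emb (pr (iI h) (iK h)) !![0, 1; -1, 0] * emb (pr (iRK h) (iRI h)) !![0, -1; 1, 0] := by
  rw [emb_mul_disj (disj hn h), inc_pr, inc_pr]
  unfold wM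
  have hi := h.1
  have hk := h.2.1
  rw [Cfsg.Agent.S2546P.JC.E_eq_single i i hi hi, Cfsg.Agent.S2546P.JC.E_eq_single k k hk hk,
    Cfsg.Agent.S2546P.JC.E_eq_single i k hi hk, Cfsg.Agent.S2546P.JC.E_eq_single k i hk hi,
    Cfsg.Agent.S2546P.JC.E_eq_single (n - 1 - i) (n - 1 - i) (by omega) (by omega),
    Cfsg.Agent.S2546P.JC.E_eq_single (n - 1 - k) (n - 1 - k) (by omega) (by omega),
    Cfsg.Agent.S2546P.JC.E_eq_single (n - 1 - k) (n - 1 - i) (by omega) (by omega),
    Cfsg.Agent.S2546P.JC.E_eq_single (n - 1 - i) (n - 1 - k) (by omega) (by omega)]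
  simp [iI, iK, iRK, iRI, sub_eq_add_neg, single_neg']
  abel

/-- products of the double embeddings -/
theorem dbl_mul {f g : Fin 2 → Fin n} (hf : Function.Injective f) (hg : Function.Injective g)
    (hfg : ∀ p q, f p ≠ g q) (A A' B B' : Matrix (Fin 2) (Fin 2) K) :
    (emb f A * emb g B) * (emb f A' * emb g B') = emb f (A * A') * emb g (B * B') := by
  rw [← emb_mul hf, ← emb_mul hg]
  calc (emb f A * emb g B) * (emb f A' * emb g B')
      = emb f A * (emb g B * emb f A') * emb g B' := by simp only [Matrix.mul_assoc]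
    _ = emb f A * (emb f A' * emb g B) * emb g B' := by rw [emb_comm hfg A' B]
    _ = _ := by simp only [Matrix.mul_assoc]

theorem hd_tri_aux (hn : n % 2 = 0) (h : IsRt n i k) (hik : i < k) {t : K} (ht : t ≠ 0) :
    IsTri (wM n i k * xR n i k t * xR n k i (-t⁻¹)) := by
  have hIK : iI h < iK h := hik
  have hRR : iRK h < iRI h := by
    show n - 1 - k < n - 1 - i
    have := h.2.1
    omega
  have hf := pr_strictMono hIK
  have hg := pr_strictMono hRR
  rw [wM_eq hn h, xR_eq hn h t, xR_eq' hn h (-t⁻¹), dbl_mul hf.injective hg.injective (disj hn h),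
    dbl_mul hf.injective hg.injective (disj hn h)]
  apply IsTri.mul
  · apply isTri_emb hf
    intro p q hqp
    fin_cases p <;> fin_cases q
    · exact absurd hqp (lt_irrefl _)
    · exact absurd hqp (by decide)
    · simp [Matrix.mul_apply, Fin.sum_univ_two]
      field_simp
      ring
    · exact absurd hqp (lt_irrefl _)
  · apply isTri_emb hg
    intro p q hqp
    fin_cases p <;> fin_cases q
    · exact absurd hqp (lt_irrefl _)
    · exact absurd hqp (by decide)
    · simp [Matrix.mul_apply, Fin.sum_univ_two]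
      field_simp
      ring
    · exact absurd hqp (lt_irrefl _)

end Main

theorem hd_tri (hn : n % 2 = 0) {i k : ℕ} (h : IsRt n i k) (hik : i < k) {t : K} (ht : t ≠ 0) :
    IsTri (wM n i k * xR n i k t * xR n k i (-t⁻¹)) :=
  hd_tri_aux hn h hik ht

end HD


end Cfsg.Agent.S2548P
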