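import Mathlib
import Cfsg.Prelude.Def_Classical
import Cfsg.Agent.Helper17.S2482GDefs
import Cfsg.Agent.Helper29.S2558CDefs

/-! # S2558 (class numbers of `O^±_{2n}(q)`, `q` odd), chapter (G) GEOMETRY (driver helper17): definitions.

Orthogonal twin of `Cfsg.Agent.Helper17.S2482GDefs`; the bundled spaces `SpSpace F = (V, B, g)` with
`IsSum`, `Iso`, `LinIso`, `neg`, `kdim` are REUSED (they do not mention the kind of the form).

`S.IsOrth`        : `B` symmetric and nondegenerate, `g` an isometry.
`IsPolar Q B`     : `B` is a nondegenerate symmetric bilinear form on `F^ι` with `Q v = B v v`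
                    (so, as `2 ≠ 0`, a matrix preserves `Q` iff it preserves `B`).
`ofO B M`         : the space `F^ι` with the form `B` and the endomorphism `toLin' M`.
`toFinO e M`      : the matrix `M` reindexed along `e : ι ≃ Fin N`.
`UniSignO B g c s`: `g - 1` nilpotent: `g` has a Cayley transform `X` with a frame having `c m` generators of size
                    `m` and, for ODD `m` with `c m > 0`, `s m = true` iff the discriminant of the block of size `m`
                    is a non-square.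
`SignRelO S cp sp cm sm` : `S = S₁ ⊥ S₂ ⊥ S₃` as in `SignRel`, all parts `IsOrth`.
`RelO B e M x`    : the relation between a matrix and its invariants `x = (t, s)`.
`SameDisc S S'`   : the discriminants agree modulo squares (for some pair of bases indexed by the same `Fin k`).
-/

set_option autoImplicit false

namespace Cfsg.Agent.S2482P.SpSpace

open Cfsg.Agent.Helper2.SympInvol

universe u

/-- symmetric, nondegenerate, `g` an isometry -/
structure IsOrth {F : Type u} [Field F] (S : SpSpace F) : Prop where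
  symm : ∀ u v, S.B u v = S.B v u
  nondeg : Nondeg S.B ⊤
  isom : ∀ u v, S.B (S.g u) (S.g v) = S.B u v

/-- the discriminants of `S` and `S'` agree modulo squares -/
def SameDisc {F : Type u} [Field F] (S S' : SpSpace F) : Prop :=
  ∃ (k : ℕ) (b : Module.Basis (Fin k) F S.V) (b' : Module.Basis (Fin k) F S'.V),
    IsSquare ((LinearMap.BilinForm.toMatrix b S.B).det * (LinearMap.BilinForm.toMatrix b' S'.B).det)

end Cfsg.Agent.S2482P.SpSpace

namespace Cfsg.Agent.S2558P

open Polynomial Cfsg.Agent.Helper2.SympInvol Cfsg.Agent.S2676P Cfsg.Agent.S2478P Cfsg.Agent.S2481P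
  Cfsg.Agent.S2482P

universe u

/-- `B` is a nondegenerate symmetric bilinear form with `Q v = B v v` -/
structure IsPolar {F : Type u} [Field F] {ι : Type} [Fintype ι] (Q : (ι → F) → F)
    (B : LinearMap.BilinForm F (ι → F)) : Prop where
  symm : ∀ u v, B u v = B v u
  nondeg : Nondeg B ⊤
  eq : ∀ v, Q v = B v v

/-- the space `F^ι` with the form `B` and the endomorphism of the matrix `M` -/
noncomputable def ofO {F : Type u} [Field F] {ι : Type} [Fintype ι] [DecidableEq ι]
    (B : LinearMap.BilinForm F (ι → F)) (M : Matrix ι ι F) : SpSpace F :=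
  { V := ι → F
    B := B
    g := Matrix.toLin' M }

/-- the matrix `M` reindexed along `e : ι ≃ Fin N` -/
def toFinO {F : Type u} [Field F] {ι : Type} {N : ℕ} (e : ι ≃ Fin N) (M : Matrix ι ι F) :
    Matrix (Fin N) (Fin N) F :=
  Matrix.reindex e e M

/-- sign data of an isometry `g` of a symmetric space with `g - 1` nilpotent -/
def UniSignO {F V : Type*} [Field F] [AddCommGroup V] [Module F V]
    (B : LinearMap.BilinForm F V) (g : Module.End F V) (c : ℕ → ℕ) (s : ℕ → Bool) : Prop :=
  ∃ (X : Module.End F V) (ι : Type) (_ : Fintype ι) (_ : DecidableEq ι) (a : ι → ℕ)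
    (K : Matrix ι ι F) (v : ι → V),
    Skew B X ∧ g * (1 - X) = 1 + X ∧ IsFrame B X ⊤ a K v ∧
    (∀ m, c m = Fintype.card {j // a j = m}) ∧
    ∀ m, s m = true ↔ (Odd m ∧ 0 < c m ∧ ¬ IsSquare (K.toSquareBlock a m).det)

/-- the sign relation: a decomposition `S = S₁ ⊥ S₂ ⊥ S₃` into the `1`-part, the `(-1)`-part and the rest, with
sign data of the two unipotent parts -/
def SignRelO {F : Type u} [Field F] (S : SpSpace F) (cp : ℕ → ℕ) (sp : ℕ → Bool) (cm : ℕ → ℕ)
    (sm : ℕ → Bool) : Prop :=
  ∃ S₁ S₂ S₃ S₂₃ : SpSpace F, S₁.IsOrth ∧ S₂.IsOrth ∧ S₃.IsOrth ∧ S₂₃.IsOrth ∧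
    S.IsSum S₁ S₂₃ ∧ S₂₃.IsSum S₂ S₃ ∧
    IsNilpotent (S₁.g - 1) ∧ IsNilpotent (S₂.g + 1) ∧ IsUnit (S₂₃.g - 1) ∧ IsUnit (S₃.g - 1) ∧
    IsUnit (S₃.g + 1) ∧
    UniSignO S₁.B S₁.g cp sp ∧ UniSignO S₂.B (-S₂.g) cm sm

/-- the relation between a matrix and its invariants `(t, s)` -/
def RelO {F : Type u} [Field F] {ι : Type} [Fintype ι] [DecidableEq ι] {N : ℕ}
    (B : LinearMap.BilinForm F (ι → F)) (e : ι ≃ Fin N) (M : Matrix ι ι F)
    (x : (ℕ → F[X]) × (ℕ → Bool × Bool)) : Prop :=
  HasType (toFinO e M) x.1 ∧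
    ∃ cp cm : ℕ → ℕ, SignRelO (ofO B M) cp (fun m => (x.2 m).1) cm (fun m => (x.2 m).2)

end Cfsg.Agent.S2558P
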