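import Mathlib
import Cfsg.Agent.Helper3.S3Lift
import Cfsg.Agent.Helper7.S4Inv5
import Cfsg.Agent.Helper26.Involves

set_option autoImplicit false
set_option linter.unusedSectionVars false
set_option linter.unusedVariables false

/-! # S2799 piece T2: four-group data gives an involved `S₄` -/

namespace Cfsg.Agent.S2799P

open Subgroup MulAction

/-- conjugation by `s` preserves `closure {v, v'}` when it maps both generators into it -/
theorem T2_aux_conj_mem {X : Type*} [Group X] (v v' s : X)
    (h1 : s * v * s⁻¹ ∈ closure ({v, v'} : Set X)) (h2 : s * v' * s⁻¹ ∈ closure ({v, v'} : Set X)) :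
    ∀ x ∈ closure ({v, v'} : Set X), s * x * s⁻¹ ∈ closure ({v, v'} : Set X) := by
  intro x hx
  induction hx using Subgroup.closure_induction with
  | mem y hy =>
    rcases hy with rfl | hy
    · exact h1
    · rw [Set.mem_singleton_iff] at hy; subst hy; exact h2
  | one => simp
  | mul y z _ _ hy hz =>
    have e : s * (y * z) * s⁻¹ = (s * y * s⁻¹) * (s * z * s⁻¹) := by group
    rw [e]; exact Subgroup.mul_mem _ hy hz
  | inv y _ hy =>
    have e : s * y⁻¹ * s⁻¹ = (s * y * s⁻¹)⁻¹ := by group
    rw [e]; exact Subgroup.inv_mem _ hy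

/-- an element commuting with both generators centralizes `closure {v, v'}` -/
theorem T2_aux_cent {X : Type*} [Group X] (v v' c : X) (h1 : v * c = c * v) (h2 : v' * c = c * v') :
    c ∈ centralizer ((closure ({v, v'} : Set X) : Subgroup X) : Set X) := by
  rw [Subgroup.mem_centralizer_iff]
  intro x hx
  have hx' : x ∈ closure ({v, v'} : Set X) := hx
  induction hx' using Subgroup.closure_induction with
  | mem y hy =>
    rcases hy with rfl | hy
    · exact h1
    · rw [Set.mem_singleton_iff] at hy; subst hy; exact h2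
  | one => simp
  | mul y z _ _ hy hz =>
    have hy' := hy (by assumption)
    have hz' := hz (by assumption)
    rw [mul_assoc, hz', ← mul_assoc, hy', mul_assoc]
  | inv y _ hy =>
    have hy' := hy (by assumption)
    have : c * y⁻¹ = y⁻¹ * (y * c) * y⁻¹ := by group
    rw [this, hy']; group

theorem T2 {X : Type*} [Group X] [Finite X] (v v' s t : X) (hv : v * v = 1) (hv' : v' * v' = 1)
    (hvv' : v * v' = v' * v) (hne : v ≠ 1) (hne' : v' ≠ 1) (hvne : v ≠ v')
    (hsv : s * v * s⁻¹ = v) (hsv' : s * v' * s⁻¹ = v * v') (htv' : t * v' * t⁻¹ = v')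
    (htv : t * v * t⁻¹ = v * v') : Cfsg.Involves (Equiv.Perm (Fin 4)) X := by
  classical
  -- rewriting rules
  have hs1 : s * v = v * s := by
    have := congrArg (· * s) hsv; simpa [mul_assoc] using this
  have hs2 : s * v' = v * v' * s := by
    have := congrArg (· * s) hsv'; simpa [mul_assoc] using this
  have ht1 : t * v' = v' * t := by
    have := congrArg (· * t) htv'; simpa [mul_assoc] using this
  have ht2 : t * v = v * v' * t := by
    have := congrArg (· * t) htv; simpa [mul_assoc] using this
  have hvinv : v⁻¹ = v := inv_eq_of_mul_eq_one_left hv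
  have hv'inv : v'⁻¹ = v' := inv_eq_of_mul_eq_one_left hv'
  obtain ⟨T, hT⟩ : ∃ T : Subgroup X, T = closure ({v, v'} : Set X) := ⟨_, rfl⟩
  have hvT : v ∈ T := by rw [hT]; exact subset_closure (by simp)
  have hv'T : v' ∈ T := by rw [hT]; exact subset_closure (by simp)
  -- T is abelian of exponent 2
  have hTv : ∀ x ∈ T, x * v = v * x ∧ x * v' = v' * x := by
    intro x hx
    rw [hT] at hx
    induction hx using Subgroup.closure_induction with
    | mem y hy =>
      rcases hy with rfl | hy
      · exact ⟨rfl, hvv'⟩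
      · rw [Set.mem_singleton_iff] at hy; subst hy; exact ⟨hvv'.symm, rfl⟩
    | one => simp
    | mul y z _ _ hy hz =>
      constructor
      · rw [mul_assoc, hz.1, ← mul_assoc, hy.1, mul_assoc]
      · rw [mul_assoc, hz.2, ← mul_assoc, hy.2, mul_assoc]
    | inv y _ hy =>
      constructor
      · have : y⁻¹ * v = y⁻¹ * (v * y) * y⁻¹ := by group
        rw [this, ← hy.1]; group
      · have : y⁻¹ * v' = y⁻¹ * (v' * y) * y⁻¹ := by group
        rw [this, ← hy.2]; group
  have hTcomm : ∀ x ∈ T, ∀ y ∈ T, x * y = y * x := by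
    intro x hx y hy
    rw [hT] at hy
    induction hy using Subgroup.closure_induction with
    | mem z hz =>
      rcases hz with rfl | hz
      · exact (hTv x hx).1
      · rw [Set.mem_singleton_iff] at hz; subst hz; exact (hTv x hx).2
    | one => simp
    | mul y z _ _ hy hz =>
      rw [← mul_assoc, hy, mul_assoc, hz, mul_assoc]
    | inv y _ hy =>
      have : x * y⁻¹ = y⁻¹ * (y * x) * y⁻¹ := by group
      rw [this, ← hy]; group
  have hTsq : ∀ x ∈ T, x * x = 1 := by
    intro x hx
    have hx0 := hx
    rw [hT] at hx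
    induction hx using Subgroup.closure_induction with
    | mem z hz =>
      rcases hz with rfl | hz
      · exact hv
      · rw [Set.mem_singleton_iff] at hz; subst hz; exact hv'
    | one => simp
    | mul y z hy' hz' hy hz =>
      have hyT : y ∈ T := by rw [hT]; exact hy'
      have hzT : z ∈ T := by rw [hT]; exact hz'
      have hy1 := hy hyT
      have hz1 := hz hzT
      have hc := hTcomm y hyT z hzT
      calc y * z * (y * z) = y * (z * y) * z := by group
        _ = y * (y * z) * z := by rw [hc]
        _ = (y * y) * (z * z) := by group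
        _ = 1 := by rw [hy1, hz1, one_mul]
    | inv y hy' hy =>
      have hyT : y ∈ T := by rw [hT]; exact hy'
      have hy1 := hy hyT
      have : y⁻¹ * y⁻¹ = (y * y)⁻¹ := by group
      rw [this, hy1, inv_one]
  have hTp : IsPGroup 2 T := by
    intro x
    refine ⟨1, ?_⟩
    apply Subtype.ext
    have := hTsq x x.2
    simp only [pow_one, pow_two, Subgroup.coe_mul, Subgroup.coe_one]
    exact this
  -- s, t normalize T
  have hvv'T : v * v' ∈ T := T.mul_mem hvT hv'T
  have hsinv_v : s⁻¹ * v * s = v := by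
    have : s⁻¹ * v * s = s⁻¹ * (s * v * s⁻¹) * s := by rw [hsv]
    rw [this]; group
  have hsinv_v' : s⁻¹ * v' * s = v * v' := by
    have h1 : s * (v * v') * s⁻¹ = v' := by
      have : s * (v * v') * s⁻¹ = (s * v * s⁻¹) * (s * v' * s⁻¹) := by group
      rw [this, hsv, hsv', ← mul_assoc, hv, one_mul]
    have : s⁻¹ * v' * s = s⁻¹ * (s * (v * v') * s⁻¹) * s := by rw [h1]
    rw [this]; group
  have htinv_v' : t⁻¹ * v' * t = v' := by
    have : t⁻¹ * v' * t = t⁻¹ * (t * v' * t⁻¹) * t := by rw [htv']
    rw [this]; group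
  have htinv_v : t⁻¹ * v * t = v * v' := by
    have h1 : t * (v * v') * t⁻¹ = v := by
      have : t * (v * v') * t⁻¹ = (t * v * t⁻¹) * (t * v' * t⁻¹) := by group
      rw [this, htv, htv', mul_assoc, hv', mul_one]
    have : t⁻¹ * v * t = t⁻¹ * (t * (v * v') * t⁻¹) * t := by rw [h1]
    rw [this]; group
  have hsN : s ∈ normalizer (T : Set X) := by
    rw [Subgroup.mem_normalizer_iff]
    intro h
    constructor
    · intro hh
      rw [hT] at hh ⊢
      exact T2_aux_conj_mem v v' s (by rw [hsv, ← hT]; exact hvT) (by rw [hsv', ← hT]; exact hvv'T) h hh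
    · intro hh
      rw [hT] at hh
      have := T2_aux_conj_mem v v' s⁻¹ (by rw [inv_inv, hsinv_v, ← hT]; exact hvT)
        (by rw [inv_inv, hsinv_v', ← hT]; exact hvv'T) _ hh
      rw [hT]
      have e : s⁻¹ * (s * h * s⁻¹) * s⁻¹⁻¹ = h := by group
      rwa [e] at this
  have htN : t ∈ normalizer (T : Set X) := by
    rw [Subgroup.mem_normalizer_iff]
    intro h
    constructor
    · intro hh
      rw [hT] at hh ⊢
      exact T2_aux_conj_mem v v' t (by rw [htv, ← hT]; exact hvv'T) (by rw [htv', ← hT]; exact hv'T) h hh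
    · intro hh
      rw [hT] at hh
      have := T2_aux_conj_mem v v' t⁻¹ (by rw [inv_inv, htinv_v, ← hT]; exact hvv'T)
        (by rw [inv_inv, htinv_v', ← hT]; exact hv'T) _ hh
      rw [hT]
      have e : t⁻¹ * (t * h * t⁻¹) * t⁻¹⁻¹ = h := by group
      rwa [e] at this
  -- centralizer facts
  have hss : s * s ∈ centralizer (T : Set X) := by
    rw [hT]
    apply T2_aux_cent
    · -- v * (s*s) = (s*s) * v
      rw [mul_assoc s s v, hs1, ← mul_assoc s v s, hs1, mul_assoc]
    · -- v' * (s*s) = (s*s) * v'
      rw [mul_assoc s s v', hs2, ← mul_assoc s (v * v') s, ← mul_assoc s v v', hs1, mul_assoc v s v', hs2,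
        ← mul_assoc v (v * v') s, ← mul_assoc v v v', hv, one_mul, mul_assoc]
  have htt : t * t ∈ centralizer (T : Set X) := by
    rw [hT]
    apply T2_aux_cent
    · -- v * (t*t) = (t*t) * v
      rw [mul_assoc t t v, ht2, ← mul_assoc t (v * v') t, ← mul_assoc t v v', ht2, mul_assoc (v * v') t v',
        ht1, ← mul_assoc (v * v') v' t, mul_assoc v v' v', hv', mul_one, mul_assoc]
    · rw [mul_assoc t t v', ht1, ← mul_assoc t v' t, ht1, mul_assoc]
  -- the action of s*t: v ↦ v', v' ↦ v v'
  have hst_v : (s * t) * v = v' * (s * t) := by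
    rw [mul_assoc s t v, ht2, ← mul_assoc s (v * v') t, ← mul_assoc s v v', hs1, mul_assoc v s v', hs2,
      ← mul_assoc v (v * v') s, ← mul_assoc v v v', hv, one_mul, mul_assoc]
  have hst_v' : (s * t) * v' = v * v' * (s * t) := by
    rw [mul_assoc s t v', ht1, ← mul_assoc s v' t, hs2, mul_assoc]
  have hst3 : (s * t) ^ 3 ∈ centralizer (T : Set X) := by
    rw [hT]
    obtain ⟨c, hc⟩ : ∃ c : X, c = s * t := ⟨_, rfl⟩
    rw [← hc] at hst_v hst_v' ⊢
    have hst_vv' : c * (v * v') = v * c := by
      calc c * (v * v') = (c * v) * v' := by rw [mul_assoc]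
        _ = (v' * c) * v' := by rw [hst_v]
        _ = v' * (c * v') := by rw [mul_assoc]
        _ = v' * (v * v' * c) := by rw [hst_v']
        _ = (v' * v) * v' * c := by simp only [mul_assoc]
        _ = (v * v') * v' * c := by rw [hvv']
        _ = v * (v' * v') * c := by simp only [mul_assoc]
        _ = v * c := by rw [hv', mul_one]
    apply T2_aux_cent
    · -- v * c^3 = c^3 * v
      symm
      calc c ^ 3 * v = c * (c * (c * v)) := by rw [pow_succ, pow_succ, pow_one]; simp only [mul_assoc]
        _ = c * (c * (v' * c)) := by rw [hst_v]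
        _ = c * ((c * v') * c) := by simp only [mul_assoc]
        _ = c * ((v * v' * c) * c) := by rw [hst_v']
        _ = (c * (v * v')) * (c * c) := by simp only [mul_assoc]
        _ = (v * c) * (c * c) := by rw [hst_vv']
        _ = v * c ^ 3 := by rw [pow_succ, pow_succ, pow_one]; simp only [mul_assoc]
    · symm
      calc c ^ 3 * v' = c * (c * (c * v')) := by rw [pow_succ, pow_succ, pow_one]; simp only [mul_assoc]
        _ = c * (c * (v * v' * c)) := by rw [hst_v']
        _ = c * ((c * (v * v')) * c) := by simp only [mul_assoc]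
        _ = c * ((v * c) * c) := by rw [hst_vv']
        _ = (c * v) * (c * c) := by simp only [mul_assoc]
        _ = (v' * c) * (c * c) := by rw [hst_v]
        _ = v' * c ^ 3 := by rw [pow_succ, pow_succ, pow_one]; simp only [mul_assoc]
  have hstnot : s * t ∉ centralizer (T : Set X) := by
    intro h
    have := (Subgroup.mem_centralizer_iff.1 h) v hvT
    rw [hst_v] at this
    -- v * (s*t) = v' * (s*t)
    exact hvne (mul_right_cancel this)
  -- pass to the quotient N(T)/C(T)
  obtain ⟨N, hN⟩ : ∃ N : Subgroup X, N = normalizer (T : Set X) := ⟨_, rfl⟩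
  have hsN' : s ∈ N := by rw [hN]; exact hsN
  have htN' : t ∈ N := by rw [hN]; exact htN
  have hCn : ((centralizer (T : Set X)).subgroupOf N).Normal := by
    rw [hN]; infer_instance
  set sb : ↥N ⧸ (centralizer (T : Set X)).subgroupOf N := QuotientGroup.mk ⟨s, hsN'⟩ with hsb
  set tb : ↥N ⧸ (centralizer (T : Set X)).subgroupOf N := QuotientGroup.mk ⟨t, htN'⟩ with htb
  have e1 : sb * sb = 1 := by
    rw [hsb, ← QuotientGroup.mk_mul, QuotientGroup.eq_one_iff, Subgroup.mem_subgroupOf]
    exact hss
  have e2 : tb * tb = 1 := by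
    rw [htb, ← QuotientGroup.mk_mul, QuotientGroup.eq_one_iff, Subgroup.mem_subgroupOf]
    exact htt
  have e3 : (sb * tb) ^ 3 = 1 := by
    rw [hsb, htb, ← QuotientGroup.mk_mul, ← QuotientGroup.mk_pow, QuotientGroup.eq_one_iff,
      Subgroup.mem_subgroupOf]
    exact hst3
  have e4 : sb * tb ≠ 1 := by
    rw [hsb, htb, ← QuotientGroup.mk_mul, Ne, QuotientGroup.eq_one_iff, Subgroup.mem_subgroupOf]
    exact hstnot
  have hnc : ¬ Commute sb tb := by
    intro hc
    apply e4
    have h2 : (sb * tb) ^ 2 = 1 := by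
      rw [hc.mul_pow, pow_two, pow_two, e1, e2, one_mul]
    have : sb * tb = (sb * tb) ^ 3 * ((sb * tb) ^ 2)⁻¹ := by group
    rw [this, e3, h2, inv_one, one_mul]
  obtain ⟨φ⟩ := Cfsg.Agent.Helper3.closure_pair_equiv_perm sb tb e1 e2 e3 hnc
  have hinv : Cfsg.Involves (Equiv.Perm (Fin 3))
      (↥N ⧸ (centralizer (T : Set X)).subgroupOf N) :=
    Cfsg.Agent.Helper26.involves_of_surjective _ φ.toMonoidHom φ.surjective
  subst hN
  exact Cfsg.Agent.Helper7.S4Inv.involves_S4_of_section T hTp hinv

end Cfsg.Agent.S2799P
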