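import Mathlib
import Cfsg.Agent.Helper7.S2862Defs
import Cfsg.Agent.Helper14.PCore

/-! Board `s2862pieces`, row CP2 (core): `CP_pgroup`, and `CP_normal` with `[Vt,Vt] ≤ Vb` (row CP1) as a hypothesis. -/

set_option autoImplicit false

namespace Cfsg.Agent.S2862P

open Cfsg
open Cfsg.Agent.Helper14 (cj)
open Subgroup
open scoped commutatorElement

variable {G : Type*} [Group G] [Finite G] {p : ℕ} [Fact p.Prime]
variable {H Y D L L0 Vt Vb : Subgroup G}

omit [Finite G] [Fact p.Prime] in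
/-- CP2 with `[Vt,Vt] ≤ Vb` as a hypothesis -/
theorem CP2_aux_normal (habel : ⁅Vt, Vt⁆ ≤ Vb) {Z : Subgroup G} (hb : Vb ≤ Z) (ht : Z ≤ Vt) :
    Vt ≤ normalizer (Z : Set G) := by
  intro v hv
  have key : ∀ u ∈ Vt, ∀ z ∈ Z, u * z * u⁻¹ ∈ Z := by
    intro u hu z hz
    have h1 : ⁅u, z⁆ ∈ ⁅Vt, Vt⁆ := Subgroup.commutator_mem_commutator hu (ht hz)
    have h2 : ⁅u, z⁆ ∈ Z := hb (habel h1)
    have e : u * z * u⁻¹ = ⁅u, z⁆ * z := by rw [commutatorElement_def]; group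
    rw [e]
    exact Z.mul_mem h2 hz
  rw [mem_normalizer_iff]
  intro z
  constructor
  · exact key v hv z
  · intro hz
    have := key v⁻¹ (Vt.inv_mem hv) _ hz
    have e : v⁻¹ * (v * z * v⁻¹) * v⁻¹⁻¹ = z := by group
    rwa [e] at this

/-- CP2p : `Vt` is a `p`-group. -/
theorem CP_pgroup (C : ChiefPair p H Vt Vb) : IsPGroup p ↥Vt :=
  (Cfsg.Agent.Helper14.pCoreOf_isPGroup p H).to_le C.le

end Cfsg.Agent.S2862P
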