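import Mathlib
import Cfsg.Agent.Helper7.S2862Defs
import Cfsg.Agent.Helper17.S2862CP2core
import Cfsg.Agent.Lead.ThompsonPQ

/-! Board `s2862pieces`, row CP9: a `p`-group acting on a nontrivial section of `Vt` has a fixed point. -/

set_option autoImplicit false

namespace Cfsg.Agent.S2862P

open Cfsg
open Cfsg.Agent.Helper14 (cj)
open Subgroup
open scoped commutatorElement

variable {G : Type*} [Group G] [Finite G] {p : ℕ} [Fact p.Prime]
variable {H Y D L L0 Vt Vb : Subgroup G}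

/-- if `U` normalises `W` then `U` normalises `⁅W, U⁆` -/
theorem CP9_aux_comm_inv {W U : Subgroup G} (hUW : U ≤ normalizer (W : Set G)) :
    U ≤ normalizer ((⁅W, U⁆ : Subgroup G) : Set G) := by
  intro u hu
  have hmap : (⁅W, U⁆).map (MulAut.conj u).toMonoidHom = ⁅W, U⁆ := by
    rw [Subgroup.map_commutator]
    have h1 : W.map (MulAut.conj u).toMonoidHom = W := by
      apply le_antisymm
      · rintro _ ⟨w, hw, rfl⟩
        exact (mem_normalizer_iff.mp (hUW hu) w).mp hw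
      · intro w hw
        refine ⟨u⁻¹ * w * u, ?_, by simp [MulAut.conj_apply]; group⟩
        have := (mem_normalizer_iff.mp (hUW hu) (u⁻¹ * w * u)).mpr
        apply this
        have e : u * (u⁻¹ * w * u) * u⁻¹ = w := by group
        rw [e]; exact hw
    have h2 : U.map (MulAut.conj u).toMonoidHom = U := by
      apply le_antisymm
      · rintro _ ⟨w, hw, rfl⟩
        simp only [MulEquiv.coe_toMonoidHom, MulAut.conj_apply]
        exact U.mul_mem (U.mul_mem hu hw) (U.inv_mem hu)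
      · intro w hw
        exact ⟨u⁻¹ * w * u, U.mul_mem (U.mul_mem (U.inv_mem hu) hw) hu, by simp [MulAut.conj_apply]; group⟩
    rw [h1, h2]
  rw [mem_normalizer_iff]
  intro x
  constructor
  · intro hx
    rw [← hmap]
    exact ⟨x, hx, by simp [MulAut.conj_apply]⟩
  · intro hx
    rw [← hmap] at hx
    obtain ⟨y, hy, hyx⟩ := hx
    have : y = x := by
      simp only [MulEquiv.coe_toMonoidHom, MulAut.conj_apply] at hyx
      have e1 : y = u⁻¹ * (u * y * u⁻¹) * u := by group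
      rw [e1, hyx]; group
    rwa [← this]

/-- CP9 : a `p`-group acting on a nontrivial section of `Vt` has a fixed point. -/
theorem exists_fix (C : ChiefPair p H Vt Vb) {U Zt Zb : Subgroup G} (hU : IsPGroup p ↥U)
    (hb : Vb ≤ Zb) (hlt : Zb < Zt) (ht : Zt ≤ Vt)
    (hUt : U ≤ normalizer (Zt : Set G)) (hUb : U ≤ normalizer (Zb : Set G)) :
    ∃ v ∈ Zt, v ∉ Zb ∧ ∀ u ∈ U, ⁅v, u⁆ ∈ Zb := by
  have hZtp : IsPGroup p ↥Zt := (CP_pgroup C).to_le ht
  let S : Set (Subgroup G) := {W | W ≤ Zt ∧ U ≤ normalizer (W : Set G) ∧ ¬ W ≤ Zb}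
  have hSne : S.Nonempty := ⟨Zt, le_rfl, hUt, fun h => (lt_irrefl _ (lt_of_lt_of_le hlt h))⟩
  obtain ⟨W, hWS, hWmin⟩ := S.toFinite.exists_minimal hSne
  obtain ⟨hWZ, hUW, hWb⟩ := hWS
  have hWne : W ≠ ⊥ := by
    rintro rfl
    exact hWb bot_le
  have hlt' : ⁅W, U⁆ < W := Cfsg.Agent.Lead.commutator_lt_of_isPGroup (hZtp.to_le hWZ) hU hUW hWne
  have hcom : ⁅W, U⁆ ≤ Zb := by
    by_contra hnot
    have hmem : ⁅W, U⁆ ∈ S := ⟨hlt'.le.trans hWZ, CP9_aux_comm_inv hUW, hnot⟩
    have := hWmin hmem hlt'.le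
    exact absurd (le_antisymm hlt'.le this) hlt'.ne
  obtain ⟨v, hvW, hvb⟩ := SetLike.not_le_iff_exists.mp hWb
  exact ⟨v, hWZ hvW, hvb, fun u hu => hcom (Subgroup.commutator_mem_commutator hvW hu)⟩

end Cfsg.Agent.S2862P
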