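import Mathlib
import Cfsg.Agent.Helper7.S2862Defs
import Cfsg.Agent.Helper19.S2862CP3
import Cfsg.Agent.Helper22.S2862CP4
import Cfsg.Agent.Helper22.S2862CP11

/-! Board `s2862pieces`, row CP8: a noncentral chief factor has no fixed points of `H`, and `[X,H] = X`. -/

set_option autoImplicit false

namespace Cfsg.Agent.S2862P

open Cfsg
open Cfsg.Agent.Helper14 (cj)
open Subgroup
open scoped commutatorElement

variable {G : Type*} [Group G] [Finite G] {p : ℕ} [Fact p.Prime]
variable {H Y D L L0 Vt Vb : Subgroup G}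

/-- CP8a : a noncentral chief factor has no fixed points of `H`. -/
theorem fixP_H (C : ChiefPair p H Vt Vb) (hnc : Noncentral H Vt Vb) : fixP Vt Vb H = Vb := by
  have hinv : H ≤ normalizer ((fixP Vt Vb H : Subgroup G) : Set G) :=
    fun g hg => fixP_inv C le_rfl hg (le_normalizer hg)
  rcases C.chief _ hinv (le_fixP C le_rfl) (fixP_le C le_rfl) with h | h
  · exact h
  · exfalso
    apply hnc
    rw [Subgroup.commutator_le]
    intro v hv a ha
    have hv' : v ∈ fixP Vt Vb H := by rw [h]; exact hv
    exact ((mem_fixP C le_rfl).mp hv').2 a ha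

/-- CP8b : and `[X,H] = X`. -/
theorem commP_H (C : ChiefPair p H Vt Vb) (hnc : Noncentral H Vt Vb) : commP Vt Vb H = Vt := by
  rcases C.chief _ (commP_inv C le_rfl).1 (le_commP H) (commP_le C le_rfl) with h | h
  · exfalso
    apply hnc
    have : ⁅Vt, H⁆ ≤ commP Vt Vb H := le_sup_left
    rwa [h] at this
  · exact h

end Cfsg.Agent.S2862P
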