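import Mathlib
import Cfsg.Agent.Helper27.S3001QDefs
import Cfsg.Agent.Helper27.S3001G1

/-! S3001 quotient dictionary (board `s3001qpieces`), row S3a (core): `C_{V/V₀}(P) = 1`, with `P ≤ N_G(V₀)` as a hypothesis. -/

set_option autoImplicit false

namespace Cfsg.Agent.S3001P

open Cfsg.Agent.S2789P Cfsg.Agent.S2999P Cfsg.Agent.S3000P
open scoped commutatorElement

universe u

variable {G : Type u} [Group G]

/-- if `c = x w x⁻¹ w⁻¹` commutes with `x` then `x^k w x^{-k} = c^k w` -/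
theorem S3a_aux_pow {x w : G} (hxc : x * (x * w * x⁻¹ * w⁻¹) = (x * w * x⁻¹ * w⁻¹) * x) (k : ℕ) :
    x ^ k * w * (x ^ k)⁻¹ = (x * w * x⁻¹ * w⁻¹) ^ k * w := by
  induction k with
  | zero => simp
  | succ k ih =>
    have hck : x * (x * w * x⁻¹ * w⁻¹) ^ k = (x * w * x⁻¹ * w⁻¹) ^ k * x := by
      have : Commute x (x * w * x⁻¹ * w⁻¹) := hxc
      exact (this.pow_right k)
    calc x ^ (k + 1) * w * (x ^ (k + 1))⁻¹ = x * (x ^ k * w * (x ^ k)⁻¹) * x⁻¹ := by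
          rw [pow_succ']; group
      _ = x * ((x * w * x⁻¹ * w⁻¹) ^ k * w) * x⁻¹ := by rw [ih]
      _ = (x * (x * w * x⁻¹ * w⁻¹) ^ k) * w * x⁻¹ := by group
      _ = ((x * w * x⁻¹ * w⁻¹) ^ k * x) * w * x⁻¹ := by rw [hck]
      _ = (x * w * x⁻¹ * w⁻¹) ^ k * (x * w * x⁻¹ * w⁻¹) * w := by group
      _ = (x * w * x⁻¹ * w⁻¹) ^ (k + 1) * w := by rw [pow_succ]

/-- a `p'`-element `x` with `[x,w] ∈ V` of exponent `p` commuting with `x` centralises `w` -/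
theorem S3a_aux_comm {p : ℕ} {x w : G} (hc : (orderOf x).Coprime p)
    (hxc : x * (x * w * x⁻¹ * w⁻¹) = (x * w * x⁻¹ * w⁻¹) * x) (hp : (x * w * x⁻¹ * w⁻¹) ^ p = 1) :
    x * w = w * x := by
  have h1 := S3a_aux_pow hxc (orderOf x)
  rw [pow_orderOf_eq_one] at h1
  have h2 : (x * w * x⁻¹ * w⁻¹) ^ orderOf x = 1 := by
    have : w = (x * w * x⁻¹ * w⁻¹) ^ orderOf x * w := by simpa using h1
    exact (mul_eq_right).mp this.symm
  have d1 : orderOf (x * w * x⁻¹ * w⁻¹) ∣ orderOf x := orderOf_dvd_of_pow_eq_one h2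
  have d2 : orderOf (x * w * x⁻¹ * w⁻¹) ∣ p := orderOf_dvd_of_pow_eq_one hp
  have h3 : orderOf (x * w * x⁻¹ * w⁻¹) = 1 := Nat.eq_one_of_dvd_coprimes hc d1 d2
  have h4 : x * w * x⁻¹ * w⁻¹ = 1 := orderOf_eq_one_iff.mp h3
  calc x * w = (x * w * x⁻¹ * w⁻¹) * w * x := by group
    _ = w * x := by rw [h4, one_mul]

variable {p : ℕ} {V P : Subgroup G}

theorem S3a_aux_core (H : Hyp1 p V P) (hPN : P ≤ NR (V0 p V P)) :
    fixV (hat (V0 p V P) V) (hat (V0 p V P) P) = ⊥ := by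
  rw [eq_bot_iff]
  intro y hy
  rw [mem_fix] at hy
  obtain ⟨hyV, hyP⟩ := hy
  obtain ⟨w, hwV, rfl⟩ := mem_hat.mp hyV
  rw [Subgroup.mem_bot, qpi_eq_one_iff]
  -- `w ∈ V₀`
  have key : ∀ x ∈ P, (orderOf x).Coprime p → x * (w : G) = (w : G) * x := by
    intro x hx hc
    have hxO : x ∈ OpP p P := Subgroup.subset_closure ⟨hx, hc⟩
    have hcomm := hyP (qpi (V0 p V P) ⟨x, hPN hx⟩) (qpi_mem_hat ⟨x, hPN hx⟩ hx)
    have h1 : qpi (V0 p V P) (⟨x, hPN hx⟩ * w * ⟨x, hPN hx⟩⁻¹ * w⁻¹) = 1 := by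
      rw [map_mul, map_mul, map_mul, map_inv, map_inv, hcomm]
      group
    rw [qpi_eq_one_iff] at h1
    have h2 : x * (w : G) * x⁻¹ * (w : G)⁻¹ ∈ V0 p V P := by
      simpa using h1
    unfold V0 at h2
    rw [mem_fix] at h2
    obtain ⟨hcV, hcO⟩ := h2
    exact S3a_aux_comm hc (hcO x hxO) (H.hV.2 _ hcV)
  unfold V0
  rw [mem_fix]
  refine ⟨hwV, ?_⟩
  intro e he
  unfold OpP at he
  induction he using Subgroup.closure_induction with
  | mem x hx => exact key x hx.1 hx.2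
  | one => simp
  | mul a b _ _ iha ihb =>
    calc a * b * (w : G) = a * (b * (w : G)) := by group
      _ = a * ((w : G) * b) := by rw [ihb]
      _ = (a * (w : G)) * b := by group
      _ = ((w : G) * a) * b := by rw [iha]
      _ = (w : G) * (a * b) := by group
  | inv a _ iha =>
    calc a⁻¹ * (w : G) = a⁻¹ * ((w : G) * a) * a⁻¹ := by group
      _ = a⁻¹ * (a * (w : G)) * a⁻¹ := by rw [iha]
      _ = (w : G) * a⁻¹ := by group

end Cfsg.Agent.S3001P
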