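import Mathlib
import Cfsg.Agent.Helper17.S3001S3acore
import Cfsg.Agent.Helper3.S3001S1

/-! S3001 quotient dictionary (board `s3001qpieces`), row S3a: `C_{V/V₀}(P) = 1`. -/

set_option autoImplicit false

namespace Cfsg.Agent.S3001P

open Cfsg.Agent.S2789P Cfsg.Agent.S2999P Cfsg.Agent.S3000P

universe u

variable {G : Type u} [Group G] {p : ℕ} {V P : Subgroup G}

theorem QFIXP [Finite G] [Fact p.Prime] (H : Hyp1 p V P) : fixV (hat (V0 p V P) V) (hat (V0 p V P) P) = ⊥ :=
  S3a_aux_core H (P_le_NR H.hPV)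

end Cfsg.Agent.S3001P
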