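import Mathlib
import Cfsg.Agent.Helper13.S3816Defs
import Cfsg.Agent.Helper13.S3816Basic
import Cfsg.Agent.S0022

/-! S3816 board, row QUOT2 (helper17): `Thm` in `G ⧸ N` gives `[K,A] ∩ C(A) ≤ D(K) N`. -/

set_option autoImplicit false

open scoped commutatorElement

namespace Cfsg.Agent.S3816P

universe u

variable {G : Type u} [Group G] [Finite G] {p : ℕ} [Fact p.Prime] {A K : Subgroup G}

/-- the image of `[k,A]` in a quotient is `[k̄,Ā]`. -/
theorem quot_step_aux_map_cA {H : Type*} [Group H] (f : G →* H) (A : Subgroup G) (k : G) :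
    cA (A.map f) (f k) = (cA A k).map f := by
  unfold cA
  rw [MonoidHom.map_closure]
  congr 1
  ext c
  constructor
  · rintro ⟨_, ⟨a, ha, rfl⟩, rfl⟩
    refine ⟨k⁻¹ * (a * k * a⁻¹), ⟨a, ha, rfl⟩, ?_⟩
    simp
  · rintro ⟨_, ⟨a, ha, rfl⟩, rfl⟩
    refine ⟨f a, ⟨a, ha, rfl⟩, ?_⟩
    simp

/-- fixed points of `Ā` in the image of `[k,A]` lift to fixed points of `A` in `[k,A]`. -/
theorem quot_step_aux_lift (h : Hyp p A K) (N : Subgroup G) [hN : N.Normal] {k : G} (hk : k ∈ K) :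
    (cA A k).map (QuotientGroup.mk' N) ⊓
      Subgroup.centralizer ((A.map (QuotientGroup.mk' N) : Subgroup (G ⧸ N)) : Set (G ⧸ N)) ≤
      (DD A K).map (QuotientGroup.mk' N) := by
  rintro _ hmem
  obtain ⟨⟨y, hy, rfl⟩, hfix⟩ := Subgroup.mem_inf.mp hmem
  set L := cA A k with hL
  have hLK : L ≤ K := cA_le h.norm hk
  have hAL : A ≤ Subgroup.normalizer (L : Set G) := cA_normalized A k
  have hcop : (Nat.card A).Coprime (Nat.card L) := by
    rw [h.card]
    exact (Nat.Coprime.coprime_dvd_left (Subgroup.card_dvd_of_le hLK) h.cop).symm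
  have hsolv : Group.IsSolvable A ∨ Group.IsSolvable L := by
    right
    have := h.solv
    exact Group.isSolvable_of_isSolvable_injective (Subgroup.inclusion_injective hLK)
  have h1 : L ≤ Subgroup.normalizer ((N ⊓ L : Subgroup G) : Set G) := by
    rw [Subgroup.le_normalizer_iff]
    intro l hl x hx
    exact Subgroup.mem_inf.mpr ⟨hN.conj_mem _ (Subgroup.mem_inf.mp hx).1 _,
      L.mul_mem (L.mul_mem hl (Subgroup.mem_inf.mp hx).2) (L.inv_mem hl)⟩
  have h2 : A ≤ Subgroup.normalizer ((N ⊓ L : Subgroup G) : Set G) := by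
    rw [Subgroup.le_normalizer_iff]
    intro a ha x hx
    exact Subgroup.mem_inf.mpr ⟨hN.conj_mem _ (Subgroup.mem_inf.mp hx).1 _,
      (Subgroup.le_normalizer_iff.mp hAL) a ha x (Subgroup.mem_inf.mp hx).2⟩
  have h3 : ∀ a ∈ A, a * y * a⁻¹ * y⁻¹ ∈ N ⊓ L := by
    intro a ha
    refine Subgroup.mem_inf.mpr ⟨?_, L.mul_mem ((Subgroup.le_normalizer_iff.mp hAL) a ha y hy) (L.inv_mem hy)⟩
    have hc := Subgroup.mem_centralizer_iff.mp hfix ((QuotientGroup.mk' N) a) ⟨a, ha, rfl⟩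
    -- `ā ȳ = ȳ ā`
    rw [← QuotientGroup.eq_one_iff]
    have : ((a * y * a⁻¹ * y⁻¹ : G) : G ⧸ N) =
        (QuotientGroup.mk' N) a * (QuotientGroup.mk' N) y * ((QuotientGroup.mk' N) a)⁻¹ *
          ((QuotientGroup.mk' N) y)⁻¹ := by
      simp
    rw [this, hc]
    group
  obtain ⟨c, hc, hcy⟩ := Cfsg.Agent.S0022.result A L hAL hcop hsolv (N ⊓ L) inf_le_right h1 h2 y hy h3
  refine ⟨c, cA_inf_le_DD hk hc, ?_⟩
  rw [QuotientGroup.mk'_apply, QuotientGroup.mk'_apply]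
  symm
  exact QuotientGroup.eq.mpr (Subgroup.mem_inf.mp hcy).1

theorem quot_step (h : Hyp p A K) (N : Subgroup G) [N.Normal] (hNK : N ≤ K)
    (hq : Thm (A.map (QuotientGroup.mk' N)) (K.map (QuotientGroup.mk' N))) :
    ⁅K, A⁆ ⊓ Subgroup.centralizer (A : Set G) ≤ DD A K ⊔ N := by
  intro x hx'
  have hx := Subgroup.mem_inf.mp hx'
  set π := QuotientGroup.mk' N with hπ
  -- `π x` lies in `[K̄,Ā] ∩ C(Ā)`
  have h1 : π x ∈ ⁅K.map π, A.map π⁆ ⊓
      Subgroup.centralizer ((A.map π : Subgroup (G ⧸ N)) : Set (G ⧸ N)) := by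
    refine Subgroup.mem_inf.mpr ⟨?_, ?_⟩
    · rw [← Subgroup.map_commutator]
      exact ⟨x, hx.1, rfl⟩
    · rw [Subgroup.mem_centralizer_iff]
      rintro _ ⟨a, ha, rfl⟩
      have := Subgroup.mem_centralizer_iff.mp hx.2 a ha
      rw [← map_mul, ← map_mul, this]
  have h2 : π x ∈ DD (A.map π) (K.map π) := hq h1
  -- `DD Ā K̄ ≤ π (DD A K)`
  have h3 : DD (A.map π) (K.map π) ≤ (DD A K).map π := by
    unfold DD
    refine iSup₂_le ?_
    rintro _ ⟨k, hk, rfl⟩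
    rw [quot_step_aux_map_cA]
    exact quot_step_aux_lift h N hk
  have h4 : x ∈ ((DD A K).map π).comap π := h3 h2
  rw [Subgroup.comap_map_eq, hπ, QuotientGroup.ker_mk'] at h4
  exact h4

end Cfsg.Agent.S3816P
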