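import Cfsg.Agent.Helper26.S3818Defs

/-! Board `s3818pieces`, row GT1 (`GT1_exists_Q`): the choice of the minimal noncentral normal subgroup `Q`. -/

set_option autoImplicit false

namespace Cfsg.Agent.S3818P

open Module

universe u v w

/-- a minimal noncentral normal subgroup. -/
theorem GT1_aux_min {G : Type*} [Group G] [Finite G]
    (hnc : ¬ (⊤ : Subgroup G) ≤ Subgroup.center G) :
    ∃ Q : Subgroup G, Q.Normal ∧ ¬ Q ≤ Subgroup.center G ∧
      ∀ N : Subgroup G, N.Normal → N ≤ Q → N ≠ Q → N ≤ Subgroup.center G := by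
  classical
  set 𝒮 : Set (Subgroup G) := {N | N.Normal ∧ ¬ N ≤ Subgroup.center G} with h𝒮
  have htop : (⊤ : Subgroup G) ∈ 𝒮 := ⟨inferInstance, hnc⟩
  obtain ⟨Q, -, hQmin⟩ := (Set.toFinite 𝒮).exists_le_minimal htop
  refine ⟨Q, hQmin.prop.1, hQmin.prop.2, ?_⟩
  intro N hN hNQ hne
  by_contra hNc
  have hNS : N ∈ 𝒮 := ⟨hN, hNc⟩
  exact hne (le_antisymm hNQ (hQmin.le_of_le hNS hNQ))

/-- commutators of `Q` are central in `G`. -/
theorem GT1_aux_comm {G : Type*} [Group G] [Finite G] [Group.IsSolvable G]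
    (Q : Subgroup G) (hQn : Q.Normal) (hQnc : ¬ Q ≤ Subgroup.center G)
    (hQmin : ∀ N : Subgroup G, N.Normal → N ≤ Q → N ≠ Q → N ≤ Subgroup.center G) :
    ∀ u ∈ Q, ∀ v ∈ Q, u * v * u⁻¹ * v⁻¹ ∈ Subgroup.center G := by
  have hQne : Q ≠ ⊥ := by
    intro h; apply hQnc; rw [h]; exact bot_le
  have : Nontrivial ↥Q := (Subgroup.nontrivial_iff_ne_bot Q).mpr hQne
  have hlt : commutator ↥Q < ⊤ := Group.IsSolvable.commutator_lt_top_of_nontrivial ↥Q
  have hmap : (commutator ↥Q).map Q.subtype = ⁅Q, Q⁆ := Subgroup.map_subtype_commutator Q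
  have hle : ⁅Q, Q⁆ ≤ Q := Subgroup.commutator_le_right Q Q
  have hne : ⁅Q, Q⁆ ≠ Q := by
    intro h
    apply hlt.ne
    rw [eq_top_iff]
    intro x _
    have hx : (x : G) ∈ ⁅Q, Q⁆ := by rw [h]; exact x.2
    rw [← hmap] at hx
    obtain ⟨y, hy, hyx⟩ := hx
    have : y = x := Subtype.ext hyx
    rw [← this]; exact hy
  have hcen : ⁅Q, Q⁆ ≤ Subgroup.center G := hQmin _ inferInstance hle hne
  intro u hu v hv
  apply hcen
  have := Subgroup.commutator_mem_commutator hu hv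
  rwa [commutatorElement_def] at this

/-- `Z(Q) = Q ∩ Z(G)`. -/
theorem GT1_aux_center {G : Type*} [Group G] (Q : Subgroup G) (hQn : Q.Normal)
    (hab : ∀ N : Subgroup G, N.Normal → (∀ a ∈ N, ∀ b ∈ N, a * b = b * a) → N ≤ Subgroup.center G) :
    Q ⊓ Subgroup.centralizer (Q : Set G) = Q ⊓ Subgroup.center G := by
  apply le_antisymm
  · refine le_inf inf_le_left ?_
    apply hab _ inferInstance
    intro a ha b hb
    exact ((Subgroup.mem_centralizer_iff.mp hb.2) a ha.1)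
  · exact inf_le_inf_left _ (Subgroup.center_le_centralizer _)

/-- `Q` is nilpotent (class at most two). -/
theorem GT1_aux_nilpotent {G : Type*} [Group G] (Q : Subgroup G)
    (hcomm : ∀ u ∈ Q, ∀ v ∈ Q, u * v * u⁻¹ * v⁻¹ ∈ Subgroup.center G) : Group.IsNilpotent ↥Q := by
  refine ⟨⟨2, ?_⟩⟩
  rw [eq_top_iff]
  intro x _
  rw [Subgroup.mem_upperCentralSeries_succ_iff]
  intro y
  rw [Subgroup.upperCentralSeries_one, Subgroup.mem_center_iff]
  intro g
  apply Subtype.ext
  have h := hcomm x x.2 y y.2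
  have := (Subgroup.mem_center_iff.mp h) (g : G)
  simpa [commutatorElement_def] using this

/-- the Sylow subgroups of `Q` are normal in `G`. -/
theorem GT1_aux_sylow_normal {G : Type*} [Group G] [Finite G] (Q : Subgroup G) (hQn : Q.Normal)
    (hnil : Group.IsNilpotent ↥Q) (r : ℕ) [Fact r.Prime] (P : Sylow r ↥Q) :
    ((P : Subgroup ↥Q).map Q.subtype).Normal := by
  have h4 := ((Group.isNilpotent_of_finite_tfae (G := ↥Q)).out 0 3).mp hnil
  have hPn : (P : Subgroup ↥Q).Normal := h4 r inferInstance P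
  have hPc : (P : Subgroup ↥Q).Characteristic := P.characteristic_of_normal hPn
  exact ConjAct.normal_of_characteristic_of_normal

/-- some Sylow subgroup of a noncentral `Q` is noncentral. -/
theorem GT1_aux_exists_sylow {G : Type*} [Group G] [Finite G] (Q : Subgroup G)
    (hQnc : ¬ Q ≤ Subgroup.center G) :
    ∃ (r : ℕ) (_ : Fact r.Prime) (P : Sylow r ↥Q), ¬ (P : Subgroup ↥Q).map Q.subtype ≤ Subgroup.center G := by
  by_contra hcon
  push_neg at hcon
  apply hQnc
  have hdvd : Nat.card ↥Q ∣ Nat.card ↥(Q ⊓ Subgroup.center G) := by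
    have hQ0 : Nat.card ↥Q ≠ 0 := Nat.card_pos.ne'
    have hZ0 : Nat.card ↥(Q ⊓ Subgroup.center G) ≠ 0 := Nat.card_pos.ne'
    rw [← Nat.factorization_le_iff_dvd hQ0 hZ0]
    intro r
    by_cases hr : r.Prime
    · have : Fact r.Prime := ⟨hr⟩
      obtain ⟨P⟩ : Nonempty (Sylow r ↥Q) := inferInstance
      have hP := hcon r ⟨hr⟩ P
      have hle : (P : Subgroup ↥Q).map Q.subtype ≤ Q ⊓ Subgroup.center G := by
        refine le_inf ?_ hP
        rintro _ ⟨y, _, rfl⟩
        exact y.2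
      have hcard : Nat.card ↥((P : Subgroup ↥Q).map Q.subtype) = r ^ (Nat.card ↥Q).factorization r := by
        rw [Subgroup.card_map_of_injective Q.subtype_injective]
        exact P.card_eq_multiplicity
      have h1 := Subgroup.card_dvd_of_le hle
      rw [hcard] at h1
      exact (hr.pow_dvd_iff_le_factorization hZ0).mp h1
    · rw [Nat.factorization_eq_zero_of_not_prime _ hr]
      exact Nat.zero_le _
  have heq : Q ⊓ Subgroup.center G = Q :=
    Subgroup.eq_of_le_of_card_ge inf_le_left (Nat.le_of_dvd Nat.card_pos hdvd)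
  rw [← heq]; exact inf_le_right

/-- the elements of `Q` whose `r`-th power is central. -/
def GT1_aux_M {G : Type*} [Group G] (Q : Subgroup G) (r : ℕ)
    (hcomm : ∀ u ∈ Q, ∀ v ∈ Q, u * v * u⁻¹ * v⁻¹ ∈ Subgroup.center G) : Subgroup G where
  carrier := {u | u ∈ Q ∧ u ^ r ∈ Subgroup.center G}
  one_mem' := ⟨one_mem _, by rw [one_pow]; exact one_mem _⟩
  mul_mem' := by
    rintro u v ⟨hu, hur⟩ ⟨hv, hvr⟩
    refine ⟨mul_mem hu hv, ?_⟩
    have key : ∀ w : G, w ∈ Subgroup.center G ↔ (QuotientGroup.mk' (Subgroup.center G)) w = 1 :=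
      fun w => (QuotientGroup.eq_one_iff w).symm
    rw [key] at hur hvr ⊢
    rw [map_pow] at hur hvr ⊢
    rw [map_mul]
    have hc : Commute ((QuotientGroup.mk' (Subgroup.center G)) u) ((QuotientGroup.mk' (Subgroup.center G)) v) := by
      have h1 := (key _).mp (hcomm u hu v hv)
      rw [map_mul, map_mul, map_mul, map_inv, map_inv] at h1
      generalize (QuotientGroup.mk' (Subgroup.center G)) u = a at h1 ⊢
      generalize (QuotientGroup.mk' (Subgroup.center G)) v = b at h1 ⊢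
      show a * b = b * a
      calc a * b = (a * b * a⁻¹ * b⁻¹) * (b * a) := by group
        _ = b * a := by rw [h1, one_mul]
    rw [hc.mul_pow, hur, hvr, one_mul]
  inv_mem' := by
    rintro u ⟨hu, hur⟩
    refine ⟨inv_mem hu, ?_⟩
    rw [inv_pow]; exact inv_mem hur

/-- GT1 (choice of `Q`). -/
theorem GT1_exists_Q {G : Type*} [Group G] [Finite G] [Group.IsSolvable G]
    (hnc : ¬ (⊤ : Subgroup G) ≤ Subgroup.center G)
    (hab : ∀ N : Subgroup G, N.Normal → (∀ a ∈ N, ∀ b ∈ N, a * b = b * a) →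
      N ≤ Subgroup.center G) :
    ∃ (Q : Subgroup G) (r : ℕ), Q.Normal ∧ r.Prime ∧ IsPGroup r Q ∧ ¬ Q ≤ Subgroup.center G ∧
      (∀ u ∈ Q, ∀ v ∈ Q, u * v * u⁻¹ * v⁻¹ ∈ Subgroup.center G) ∧
      (Q ⊓ Subgroup.centralizer (Q : Set G) = Q ⊓ Subgroup.center G) ∧
      (∀ u ∈ Q, u ^ r ∈ Subgroup.center G) ∧
      (∀ N : Subgroup G, N.Normal → Q ⊓ Subgroup.center G ≤ N → N ≤ Q →
        N = Q ⊓ Subgroup.center G ∨ N = Q) := by
  obtain ⟨Q, hQn, hQnc, hQmin⟩ := GT1_aux_min hnc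
  have hcomm := GT1_aux_comm Q hQn hQnc hQmin
  have hcenter := GT1_aux_center Q hQn hab
  have hnil := GT1_aux_nilpotent Q hcomm
  obtain ⟨r, hr, P, hP⟩ := GT1_aux_exists_sylow Q hQnc
  have hPn := GT1_aux_sylow_normal Q hQn hnil r P
  have hPle : (P : Subgroup ↥Q).map Q.subtype ≤ Q := by
    rintro _ ⟨y, _, rfl⟩
    exact y.2
  have hPQ : (P : Subgroup ↥Q).map Q.subtype = Q := by
    by_contra hne
    exact hP (hQmin _ hPn hPle hne)
  have hpg : IsPGroup r ↥Q := by
    intro g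
    have hg : (g : G) ∈ (P : Subgroup ↥Q).map Q.subtype := by rw [hPQ]; exact g.2
    obtain ⟨y, hy, hyg⟩ := hg
    have hyg' : y = g := Subtype.ext hyg
    rw [hyg'] at hy
    obtain ⟨k, hk⟩ := P.isPGroup' ⟨g, hy⟩
    refine ⟨k, ?_⟩
    have := congrArg Subtype.val hk
    simpa using this
  have h7 : ∀ N : Subgroup G, N.Normal → Q ⊓ Subgroup.center G ≤ N → N ≤ Q →
      N = Q ⊓ Subgroup.center G ∨ N = Q := by
    intro N hN hZN hNQ
    by_cases h : N = Q
    · exact Or.inr h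
    · left
      exact le_antisymm (le_inf hNQ (hQmin N hN hNQ h)) hZN
  refine ⟨Q, r, hQn, hr.out, hpg, hQnc, hcomm, hcenter, ?_, h7⟩
  have hMn : (GT1_aux_M Q r hcomm).Normal := by
    constructor
    intro u hu g
    refine ⟨hQn.conj_mem u hu.1 g, ?_⟩
    rw [conj_pow]
    exact (inferInstance : (Subgroup.center G).Normal).conj_mem _ hu.2 g
  have hZM : Q ⊓ Subgroup.center G ≤ GT1_aux_M Q r hcomm := fun u hu => ⟨hu.1, pow_mem hu.2 r⟩
  have hMQ : GT1_aux_M Q r hcomm ≤ Q := fun u hu => hu.1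
  have hMne : GT1_aux_M Q r hcomm ≠ Q ⊓ Subgroup.center G := by
    classical
    obtain ⟨u₀, hu₀Q, hu₀c⟩ := SetLike.not_le_iff_exists.mp hQnc
    obtain ⟨k, hk⟩ := hpg ⟨u₀, hu₀Q⟩
    have hk' : u₀ ^ r ^ k = 1 := by
      have := congrArg Subtype.val hk
      simpa using this
    have hex : ∃ j, u₀ ^ r ^ j ∈ Subgroup.center G := ⟨k, by rw [hk']; exact one_mem _⟩
    have hj0 : Nat.find hex ≠ 0 := by
      intro h0
      have := Nat.find_spec hex
      rw [h0, pow_zero, pow_one] at this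
      exact hu₀c this
    obtain ⟨j, hj⟩ : ∃ j, Nat.find hex = j + 1 := ⟨Nat.find hex - 1, by omega⟩
    have hjmin : u₀ ^ r ^ j ∉ Subgroup.center G := Nat.find_min hex (by omega)
    have hjspec : u₀ ^ r ^ (j + 1) ∈ Subgroup.center G := by
      have := Nat.find_spec hex
      rwa [hj] at this
    intro hM
    apply hjmin
    have hmem : u₀ ^ r ^ j ∈ GT1_aux_M Q r hcomm := by
      refine ⟨pow_mem hu₀Q _, ?_⟩
      rw [← pow_mul, ← pow_succ]
      exact hjspec
    rw [hM] at hmem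
    exact hmem.2
  have hMeq : GT1_aux_M Q r hcomm = Q := by
    rcases h7 _ hMn hZM hMQ with h | h
    · exact absurd h hMne
    · exact h
  intro u hu
  have : u ∈ GT1_aux_M Q r hcomm := by rw [hMeq]; exact hu
  exact this.2

end Cfsg.Agent.S3818P
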