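import Mathlib

set_option autoImplicit false
set_option linter.all false

namespace Cfsg.Agent.Helper17.TCG

variable {G : Type*} [Group G] (H : Subgroup G)

/-- Part A: a family of cosets containing the trivial coset and closed under a generating set
exhausts the coset space. -/
theorem exists_nd_of_closed (gens : Set G) (hgen : Subgroup.closure gens = ⊤)
    (hinv : ∀ g ∈ gens, g⁻¹ ∈ gens)
    (nd : ℕ → G ⧸ H) (h0 : nd 0 = ((1 : G) : G ⧸ H))
    (hcl : ∀ i, ∀ g ∈ gens, ∃ j, g • nd i = nd j) :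
    ∀ q : G ⧸ H, ∃ i, q = nd i := by
  have key : ∀ g : G, (∀ i, ∃ j, g • nd i = nd j) ∧ (∀ i, ∃ j, g⁻¹ • nd i = nd j) := by
    intro g
    have hg : g ∈ Subgroup.closure gens := hgen ▸ Subgroup.mem_top g
    induction hg using Subgroup.closure_induction with
    | mem x hx => exact ⟨fun i => hcl i x hx, fun i => hcl i _ (hinv x hx)⟩
    | one => exact ⟨fun i => ⟨i, one_smul _ _⟩, fun i => ⟨i, by simp⟩⟩
    | mul x y _ _ ihx ihy =>
      refine ⟨fun i => ?_, fun i => ?_⟩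
      · obtain ⟨j, hj⟩ := ihy.1 i
        obtain ⟨k, hk⟩ := ihx.1 j
        exact ⟨k, by rw [mul_smul, hj, hk]⟩
      · obtain ⟨j, hj⟩ := ihx.2 i
        obtain ⟨k, hk⟩ := ihy.2 j
        exact ⟨k, by rw [mul_inv_rev, mul_smul, hj, hk]⟩
    | inv x _ ih => exact ⟨ih.2, by simpa using ih.1⟩
  intro q
  induction q using QuotientGroup.induction_on with
  | H g =>
    obtain ⟨j, hj⟩ := (key g).1 0
    refine ⟨j, ?_⟩
    rw [← hj, h0, MulAction.Quotient.smul_mk]
    simp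

variable (φ : G →* Equiv.Perm ℕ) (hH : ∀ h ∈ H, φ h 0 = 0)

/-- the orbit map `gH ↦ φ(g) 0`. -/
def psi : G ⧸ H → ℕ :=
  fun q => Quotient.liftOn' q (fun g => φ g 0) (by
    intro a b hab
    rw [QuotientGroup.leftRel_apply] at hab
    have : b = a * (a⁻¹ * b) := by group
    show φ a 0 = φ b 0
    rw [this, map_mul, Equiv.Perm.mul_apply, hH _ hab])

theorem psi_mk (g : G) : psi H φ hH (g : G ⧸ H) = φ g 0 := rfl

theorem psi_smul (g : G) (q : G ⧸ H) : psi H φ hH (g • q) = φ g (psi H φ hH q) := by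
  induction q using QuotientGroup.induction_on with
  | H a =>
    rw [MulAction.Quotient.smul_mk, psi_mk, psi_mk, smul_eq_mul, map_mul, Equiv.Perm.mul_apply]

theorem card_eq (N : ℕ) (nd : ℕ → G ⧸ H) (hsurj : ∀ q : G ⧸ H, ∃ i, i < N ∧ q = nd i)
    (hψ : ∀ i, i < N → psi H φ hH (nd i) = i) :
    Nat.card (G ⧸ H) = N ∧ Function.Injective (psi H φ hH) := by
  have hinj : Function.Injective (psi H φ hH) := by
    intro q q' h
    obtain ⟨i, hi, rfl⟩ := hsurj q
    obtain ⟨j, hj, rfl⟩ := hsurj q'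
    rw [hψ i hi, hψ j hj] at h
    rw [h]
  refine ⟨?_, hinj⟩
  have e : (G ⧸ H) ≃ Fin N := by
    refine Equiv.ofBijective (fun q => ⟨psi H φ hH q, ?_⟩) ⟨?_, ?_⟩
    · obtain ⟨i, hi, rfl⟩ := hsurj q
      rw [hψ i hi]; exact hi
    · intro q q' h
      exact hinj (Fin.mk.inj_iff.mp h)
    · intro ⟨i, hi⟩
      exact ⟨nd i, Fin.ext (hψ i hi)⟩
  rw [Nat.card_congr e, Nat.card_fin]

theorem orbit_ncard_eq (hinj : Function.Injective (psi H φ hH)) (q : G ⧸ H) (O : Set ℕ)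
    (h1 : ∀ h ∈ H, φ h (psi H φ hH q) ∈ O)
    (h2 : ∀ i ∈ O, ∃ h ∈ H, φ h (psi H φ hH q) = i) :
    (MulAction.orbit H q).ncard = O.ncard := by
  have : psi H φ hH '' (MulAction.orbit H q) = O := by
    ext i
    constructor
    · rintro ⟨_, ⟨⟨h, hh⟩, rfl⟩, rfl⟩
      show psi H φ hH (h • q) ∈ O
      rw [psi_smul]
      exact h1 h hh
    · intro hi
      obtain ⟨h, hh, rfl⟩ := h2 i hi
      exact ⟨h • q, ⟨⟨h, hh⟩, rfl⟩, psi_smul H φ hH h q⟩
  rw [← this, Set.ncard_image_of_injective _ hinj]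

end Cfsg.Agent.Helper17.TCG
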