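import Mathlib

/-!
# One step of a verified Schreier–Sims stabiliser chain

`chain_step`: if `T β` (`β ∈ O`) are elements of `closure Y` with `T β b = β`, `T b = 1`, the set `O`
is closed under `Y`, `H' ≤ closure Y` fixes `b` and contains all Schreier generators
`(T (y β))⁻¹ * y * T β`, then every element `g` of `closure Y` has `g b ∈ O` and `(T (g b))⁻¹ * g ∈ H'`.
Consequences: the stabiliser of `b` in `closure Y` is `H'` and `|closure Y| = |O| * |H'|`.
-/

set_option autoImplicit false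

namespace Cfsg.Agent.Helper17.SchreierSims

variable {Ω : Type*} [DecidableEq Ω] [Fintype Ω]

theorem chain_step (Y : Set (Equiv.Perm Ω)) (H' : Subgroup (Equiv.Perm Ω)) (b : Ω) (O : Finset Ω)
    (T : Ω → Equiv.Perm Ω) (hb : b ∈ O) (hT1 : T b = 1)
    (hTb : ∀ β ∈ O, T β b = β)
    (hS : ∀ β ∈ O, ∀ y ∈ Y, y β ∈ O ∧ (T (y β))⁻¹ * y * T β ∈ H')
    (hH'fix : ∀ h ∈ H', h b = b) :
    ∀ g ∈ Subgroup.closure Y, g b ∈ O ∧ (T (g b))⁻¹ * g ∈ H' := by
  -- the set `X = {T β * h}`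
  have key : ∀ g ∈ Submonoid.closure Y, ∀ β ∈ O, ∀ h ∈ H',
      (g * (T β * h)) b ∈ O ∧ (T ((g * (T β * h)) b))⁻¹ * (g * (T β * h)) ∈ H' := by
    intro g hg
    induction hg using Submonoid.closure_induction with
    | mem y hy =>
      intro β hβ h hh
      obtain ⟨h1, h2⟩ := hS β hβ y hy
      have h3 : (y * (T β * h)) b = y β := by
        simp only [Equiv.Perm.coe_mul, Function.comp_apply, hH'fix h hh, hTb β hβ]
      rw [h3]
      refine ⟨h1, ?_⟩
      have : (T (y β))⁻¹ * (y * (T β * h)) = ((T (y β))⁻¹ * y * T β) * h := by group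
      rw [this]
      exact H'.mul_mem h2 hh
    | one =>
      intro β hβ h hh
      have h3 : ((1 : Equiv.Perm Ω) * (T β * h)) b = β := by
        simp only [one_mul, Equiv.Perm.coe_mul, Function.comp_apply, hH'fix h hh, hTb β hβ]
      rw [h3]
      refine ⟨hβ, ?_⟩
      have : (T β)⁻¹ * (1 * (T β * h)) = h := by group
      rw [this]
      exact hh
    | mul x y _ _ ihx ihy =>
      intro β hβ h hh
      obtain ⟨h1, h2⟩ := ihy β hβ h hh
      set γ := (y * (T β * h)) b with hγ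
      have h4 : y * (T β * h) = T γ * ((T γ)⁻¹ * (y * (T β * h))) := by group
      have h5 : x * y * (T β * h) = x * (T γ * ((T γ)⁻¹ * (y * (T β * h)))) := by
        rw [mul_assoc x y, ← h4]
      rw [h5]
      exact ihx γ h1 _ h2
  intro g hg
  have hg' : g ∈ Submonoid.closure Y := by
    rw [← Subgroup.closure_toSubmonoid_of_finite]
    exact hg
  have := key g hg' b hb 1 H'.one_mem
  rw [hT1] at this
  simpa using this

theorem stabilizer_eq (Y : Set (Equiv.Perm Ω)) (H' : Subgroup (Equiv.Perm Ω)) (b : Ω)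
    (O : Finset Ω) (T : Ω → Equiv.Perm Ω) (hb : b ∈ O) (hT1 : T b = 1)
    (hTb : ∀ β ∈ O, T β b = β)
    (hS : ∀ β ∈ O, ∀ y ∈ Y, y β ∈ O ∧ (T (y β))⁻¹ * y * T β ∈ H')
    (hH'fix : ∀ h ∈ H', h b = b) (hH'le : H' ≤ Subgroup.closure Y) :
    Subgroup.closure Y ⊓ MulAction.stabilizer (Equiv.Perm Ω) b = H' := by
  ext g
  rw [Subgroup.mem_inf, MulAction.mem_stabilizer_iff]
  constructor
  · rintro ⟨hg, hgb⟩
    have h := (chain_step Y H' b O T hb hT1 hTb hS hH'fix g hg).2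
    have hgb' : g b = b := hgb
    rw [hgb', hT1] at h
    simpa using h
  · intro hg
    exact ⟨hH'le hg, hH'fix g hg⟩

theorem card_eq (Y : Set (Equiv.Perm Ω)) (H' : Subgroup (Equiv.Perm Ω)) (b : Ω)
    (O : Finset Ω) (T : Ω → Equiv.Perm Ω) (hb : b ∈ O) (hT1 : T b = 1)
    (hTb : ∀ β ∈ O, T β b = β) (hTmem : ∀ β ∈ O, T β ∈ Subgroup.closure Y)
    (hS : ∀ β ∈ O, ∀ y ∈ Y, y β ∈ O ∧ (T (y β))⁻¹ * y * T β ∈ H')
    (hH'fix : ∀ h ∈ H', h b = b) (hH'le : H' ≤ Subgroup.closure Y) :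
    Nat.card (Subgroup.closure Y) = O.card * Nat.card H' := by
  have hstep := chain_step Y H' b O T hb hT1 hTb hS hH'fix
  let f : O × H' → Subgroup.closure Y := fun p =>
    ⟨T p.1 * p.2, Subgroup.mul_mem _ (hTmem p.1 p.1.2) (hH'le p.2.2)⟩
  have hinj : Function.Injective f := by
    rintro ⟨⟨β, hβ⟩, ⟨h, hh⟩⟩ ⟨⟨β', hβ'⟩, ⟨h', hh'⟩⟩ hff
    have h1 : T β * h = T β' * h' := congrArg Subtype.val hff
    have h2 : (T β * h) b = (T β' * h') b := by rw [h1]
    simp only [Equiv.Perm.coe_mul, Function.comp_apply, hH'fix h hh, hH'fix h' hh', hTb β hβ,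
      hTb β' hβ'] at h2
    subst h2
    have h3 : h = h' := mul_left_cancel h1
    subst h3
    rfl
  have hsurj : Function.Surjective f := by
    rintro ⟨g, hg⟩
    obtain ⟨h1, h2⟩ := hstep g hg
    refine ⟨⟨⟨g b, h1⟩, ⟨(T (g b))⁻¹ * g, h2⟩⟩, ?_⟩
    apply Subtype.ext
    simp [f]
  have := Nat.card_congr (Equiv.ofBijective f ⟨hinj, hsurj⟩)
  rw [← this, Nat.card_prod, Nat.card_eq_fintype_card, Fintype.card_coe]

end Cfsg.Agent.Helper17.SchreierSims
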