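import Mathlib

set_option autoImplicit false

namespace Cfsg.Agent.Helper17

set_option maxRecDepth 1000000 in
/-- Every even permutation of five points has order 1, 2, 3 or 5. -/
theorem a5_pow_cases : ∀ g : Equiv.Perm (Fin 5), Equiv.Perm.sign g = 1 →
    g = 1 ∨ (g ≠ 1 ∧ g ^ 2 = 1) ∨ (g ≠ 1 ∧ g ^ 3 = 1) ∨ (g ≠ 1 ∧ g ^ 5 = 1) := by
  decide +kernel

theorem a5_orderOf_mem (g : alternatingGroup (Fin 5)) :
    orderOf g ∈ ({1, 2, 3, 5} : Set ℕ) := by
  have hs : Equiv.Perm.sign (g : Equiv.Perm (Fin 5)) = 1 := Equiv.Perm.mem_alternatingGroup.mp g.2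
  have hsub : orderOf g = orderOf (g : Equiv.Perm (Fin 5)) := (Subgroup.orderOf_coe g).symm
  rw [hsub]
  rcases a5_pow_cases _ hs with h | ⟨h1, h2⟩ | ⟨h1, h2⟩ | ⟨h1, h2⟩
  · rw [h, orderOf_one]; simp
  · have : Fact (Nat.Prime 2) := ⟨Nat.prime_two⟩
    rw [orderOf_eq_prime h2 h1]; simp
  · have : Fact (Nat.Prime 3) := ⟨Nat.prime_three⟩
    rw [orderOf_eq_prime h2 h1]; simp
  · have : Fact (Nat.Prime 5) := ⟨Nat.prime_five⟩
    rw [orderOf_eq_prime h2 h1]; simp

def a5two : alternatingGroup (Fin 5) :=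
  ⟨Equiv.swap 0 1 * Equiv.swap 2 3, by rw [Equiv.Perm.mem_alternatingGroup]; decide⟩

def a5three : alternatingGroup (Fin 5) :=
  ⟨Equiv.swap 0 1 * Equiv.swap 1 2, by rw [Equiv.Perm.mem_alternatingGroup]; decide⟩

def a5five : alternatingGroup (Fin 5) :=
  ⟨finRotate 5, by rw [Equiv.Perm.mem_alternatingGroup]; decide⟩

theorem orderOf_a5two : orderOf a5two = 2 := by
  have : Fact (Nat.Prime 2) := ⟨Nat.prime_two⟩
  apply orderOf_eq_prime
  · apply Subtype.ext; simp only [a5two, Subgroup.coe_pow, Subgroup.coe_one]; decide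
  · intro h
    have := congrArg Subtype.val h
    simp only [a5two, Subgroup.coe_one] at this
    revert this; decide

theorem orderOf_a5three : orderOf a5three = 3 := by
  have : Fact (Nat.Prime 3) := ⟨Nat.prime_three⟩
  apply orderOf_eq_prime
  · apply Subtype.ext; simp only [a5three, Subgroup.coe_pow, Subgroup.coe_one]; decide
  · intro h
    have := congrArg Subtype.val h
    simp only [a5three, Subgroup.coe_one] at this
    revert this; decide

theorem orderOf_a5five : orderOf a5five = 5 := by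
  have : Fact (Nat.Prime 5) := ⟨Nat.prime_five⟩
  apply orderOf_eq_prime
  · apply Subtype.ext; simp only [a5five, Subgroup.coe_pow, Subgroup.coe_one]; decide
  · intro h
    have := congrArg Subtype.val h
    simp only [a5five, Subgroup.coe_one] at this
    revert this; decide

theorem a5_spectrum :
    Set.range (orderOf : alternatingGroup (Fin 5) → ℕ) = ({1, 2, 3, 5} : Set ℕ) := by
  apply Set.Subset.antisymm
  · rintro _ ⟨g, rfl⟩
    exact a5_orderOf_mem g
  · intro n hn
    simp only [Set.mem_insert_iff, Set.mem_singleton_iff] at hn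
    rcases hn with rfl | rfl | rfl | rfl
    · exact ⟨1, orderOf_one⟩
    · exact ⟨a5two, orderOf_a5two⟩
    · exact ⟨a5three, orderOf_a5three⟩
    · exact ⟨a5five, orderOf_a5five⟩

end Cfsg.Agent.Helper17
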