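import Mathlib

set_option autoImplicit false
set_option linter.all false

namespace Cfsg.Agent.Helper17.TCG

/-- kernel-friendly bounded universal quantifier -/
def allD (n : ℕ) (p : ℕ → Bool) : Bool :=
  Nat.rec (motive := fun _ => Bool) true (fun k ih => Bool.rec false ih (p k)) n

theorem allD_succ (n : ℕ) (p : ℕ → Bool) : allD (n + 1) p = Bool.rec false (allD n p) (p n) := rfl

theorem allD_iff (n : ℕ) (p : ℕ → Bool) : allD n p = true ↔ ∀ k, k < n → p k = true := by
  induction n with
  | zero => exact ⟨fun _ k hk => absurd hk (Nat.not_lt_zero k), fun _ => rfl⟩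
  | succ n ih =>
    rw [allD_succ]
    cases hp : p n with
    | false =>
      constructor
      · intro h; exact absurd h (by simp)
      · intro h; have := h n (Nat.lt_succ_self n); rw [hp] at this; exact this
    | true =>
      show allD n p = true ↔ _
      rw [ih]
      constructor
      · intro h k hk
        rcases Nat.lt_succ_iff_lt_or_eq.mp hk with h1 | h1
        · exact h k h1
        · rw [h1]; exact hp
      · intro h k hk; exact h k (Nat.lt_succ_of_lt hk)

/-- the range `[a, a+n)` -/
def allR (a n : ℕ) (p : ℕ → Bool) : Bool := allD n fun k => p (Nat.add a k)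

theorem allR_iff (a n : ℕ) (p : ℕ → Bool) :
    allR a n p = true ↔ ∀ i, a ≤ i → i < a + n → p i = true := by
  unfold allR
  rw [allD_iff]
  constructor
  · intro h i h1 h2
    have := h (i - a) (by omega)
    have e : Nat.add a (i - a) = i := by show a + (i - a) = i; omega
    rwa [e] at this
  · intro h k hk
    exact h _ (Nat.le_add_right a k) (by show a + k < a + n; omega)

theorem nbeq {a b : ℕ} : Nat.beq a b = true ↔ a = b :=
  ⟨Nat.eq_of_beq_eq_true, fun h => h ▸ Nat.beq_refl a⟩

theorem nble_succ {a b : ℕ} : Nat.ble (Nat.succ a) b = true ↔ a < b := by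
  rw [Nat.ble_eq]; exact Nat.succ_le_iff

theorem of_slices (p : ℕ → Bool) (S ns N : ℕ) (hN : N ≤ ns * S)
    (h : ∀ s, s < ns → allR (s * S) S p = true) : ∀ i, i < N → p i = true := by
  intro i hi
  have hS : 0 < S := by
    rcases Nat.eq_zero_or_pos S with h0 | h0
    · subst h0; omega
    · exact h0
  have hs : i / S < ns := by
    apply Nat.div_lt_of_lt_mul
    rw [Nat.mul_comm]; omega
  have := (allR_iff _ _ _).mp (h _ hs) i (Nat.div_mul_le_self i S) (by
    have := Nat.lt_div_mul_add hS (a := i)
    omega)
  exact this

end Cfsg.Agent.Helper17.TCG
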