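import Cfsg.Agent.Helper29.OC2K.Defs
import Cfsg.Agent.Helper29.OC2K.SIEGMEM
import Cfsg.Agent.Helper29.OC2K.GP
import Cfsg.Agent.Helper29.OC2K.RADT
import Cfsg.Agent.Helper29.OC2K.CMP2

set_option autoImplicit false
set_option linter.unusedSectionVars false
set_option linter.unusedVariables false

/-! # OC2K, chapter CHAR2, piece C2.PM (helper17): characteristic-free replacements of the `±`-trick:
block Siegel elements `E(u, w)` fixing `v` act on `Rad M v`; first order (`step1`), polarisation (`polar`),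
scalars (`scal`). -/

namespace Cfsg.Agent.OC2K

open Matrix Cfsg.Agent.Helper28.Sg Cfsg.Agent.Helper28.Spin Cfsg.Agent.Helper12.OrthGen
  Cfsg.Agent.S2614 Cfsg.Agent.S5683P Cfsg.Agent.Helper28.NDM

variable {F : Type*} [Field F] {t k : ℕ} {ι : Type} [Fintype ι] [DecidableEq ι] {Q : QuadraticForm F (ι → F)} [QHyp Q] {D : Fin t → Submodule F (ι → F)}
  {M : Subgroup (OGq Q)}

/-- the basic element of `Rad M v` -/
theorem C2.PM.delta (hD : HD Q k D) (hHM : HS D ≤ M)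
    {v : ι → F} (hv : NPV M D v) {c : Fin t} {u w : ι → F} (hu : u ∈ D c) (hw : w ∈ D c)
    (hQu : Q u = 0) (huw : B (Q) u w = 0)
    (huv : B (Q) u v = 0) (hwv : B (Q) w v = 0) {y : ι → F}
    (hy : y ∈ Rad M v hv.Qv) :
    B (Q) u y • w - B (Q) w y • u - (Q w * B (Q) u y) • u ∈ Rad M v hv.Qv := by
  have hp := SIEGMEM.mem hD hu hw hQu huw
  have hfp : mt (Q) (siegO (Q) u w hQu huw) *ᵥ v = v := by
    rw [siegO_mulVec, huv, hwv]
    simp
  have h1 := GP.one hHM hv.Qv hp hfp hy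
  have e1 : mt (Q) (siegO (Q) u w hQu huw) *ᵥ y - y =
      B (Q) u y • w - B (Q) w y • u - (Q w * B (Q) u y) • u := by
    rw [siegO_mulVec]
    abel
  rw [e1] at h1
  exact h1

/-- first order: if `u ⊥ y` then `w ⊥ y` -/
theorem C2.PM.step1 (hD : HD Q k D) (hHM : HS D ≤ M) (hG1 : ¬ G1 M D)
    {v : ι → F} (hv : NPV M D v) {c : Fin t} {u w : ι → F} (hu : u ∈ D c) (hw : w ∈ D c)
    (hu0 : u ≠ 0) (hQu : Q u = 0) (huw : B (Q) u w = 0)
    (huv : B (Q) u v = 0) (hwv : B (Q) w v = 0) {y : ι → F}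
    (hy : y ∈ Rad M v hv.Qv) (h0 : B (Q) u y = 0) : B (Q) w y = 0 := by
  have h1 := C2.PM.delta hD hHM hv hu hw hQu huw huv hwv hy
  rw [h0] at h1
  have e4 : (0 : F) • w - B (Q) w y • u - (Q w * 0) • u = (- B (Q) w y) • u := by
    module
  rw [e4] at h1
  have h7 := GP.smul_zero hD hHM hG1 hv hu hu0 hQu h1
  rw [neg_eq_zero] at h7
  exact h7

/-- polarisation -/
theorem C2.PM.polar (hD : HD Q k D) (hHM : HS D ≤ M) (hG1 : ¬ G1 M D)
    {v : ι → F} (hv : NPV M D v) {c : Fin t} {u w w' : ι → F} (hu : u ∈ D c) (hw : w ∈ D c)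
    (hw' : w' ∈ D c) (hu0 : u ≠ 0) (hQu : Q u = 0) (huw : B (Q) u w = 0) (huw' : B (Q) u w' = 0)
    (huv : B (Q) u v = 0) (hwv : B (Q) w v = 0) (hw'v : B (Q) w' v = 0) {y : ι → F}
    (hy : y ∈ Rad M v hv.Qv) : B (Q) w w' * B (Q) u y = 0 := by
  have h1 := C2.PM.delta hD hHM hv hu hw hQu huw huv hwv hy
  have h2 := C2.PM.delta hD hHM hv hu hw' hQu huw' huv hw'v hy
  have huww : B (Q) u (w + w') = 0 := by rw [CMP2.B_add_right', huw, huw', add_zero]
  have hwwv : B (Q) (w + w') v = 0 := by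
    rw [B_comm, CMP2.B_add_right', B_comm, hwv, B_comm, hw'v, add_zero]
  have h3 := C2.PM.delta hD hHM hv hu ((D c).add_mem hw hw') hQu huww huv hwwv hy
  have hB : B (Q) (w + w') y = B (Q) w y + B (Q) w' y := by
    rw [B_comm, CMP2.B_add_right', B_comm, B_comm (Q) y w']
  have hQ : Q (w + w') = Q w + Q w' + B (Q) w w' := by
    show (Q) (w + w') = (Q) w + (Q) w' + QuadraticMap.polar (⇑Q) w w'
    unfold QuadraticMap.polar
    ring
  have h4 := (Rad M v hv.Qv).sub_mem h3 ((Rad M v hv.Qv).add_mem h1 h2)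
  have e : (B (Q) u y • (w + w') - B (Q) (w + w') y • u - (Q (w + w') * B (Q) u y) • u) -
      ((B (Q) u y • w - B (Q) w y • u - (Q w * B (Q) u y) • u) +
        (B (Q) u y • w' - B (Q) w' y • u - (Q w' * B (Q) u y) • u)) =
      (-(B (Q) w w' * B (Q) u y)) • u := by
    rw [hB, hQ]
    module
  rw [e] at h4
  have h7 := GP.smul_zero hD hHM hG1 hv hu hu0 hQu h4
  rw [neg_eq_zero] at h7
  exact h7

/-- the scalar trick -/
theorem C2.PM.scal (hD : HD Q k D) (hHM : HS D ≤ M) (hG1 : ¬ G1 M D)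
    {v : ι → F} (hv : NPV M D v) {c : Fin t} {u w : ι → F} (hu : u ∈ D c) (hw : w ∈ D c)
    (hu0 : u ≠ 0) (hQu : Q u = 0) (huw : B (Q) u w = 0)
    (huv : B (Q) u v = 0) (hwv : B (Q) w v = 0) {y : ι → F}
    (hy : y ∈ Rad M v hv.Qv) (s : F) : (s - s ^ 2) * (Q w * B (Q) u y) = 0 := by
  have hsy : s • y ∈ Rad M v hv.Qv := RADV.smul hD hHM hG1 hv hy s
  have husw : B (Q) u (s • w) = 0 := by
    show QuadraticMap.polar (⇑Q) u (s • w) = 0
    rw [QuadraticMap.polar_smul_right]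
    simp only [B] at huw
    rw [huw, smul_zero]
  have hswv : B (Q) (s • w) v = 0 := by
    show QuadraticMap.polar (⇑Q) (s • w) v = 0
    rw [QuadraticMap.polar_smul_left]
    simp only [B] at hwv
    rw [hwv, smul_zero]
  have h1 := C2.PM.delta hD hHM hv hu ((D c).smul_mem s hw) hQu husw huv hswv hy
  have h2 := C2.PM.delta hD hHM hv hu hw hQu huw huv hwv hsy
  have hB1 : B (Q) (s • w) y = s * B (Q) w y := by
    show QuadraticMap.polar (⇑Q) (s • w) y = s * QuadraticMap.polar (⇑Q) w y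
    rw [QuadraticMap.polar_smul_left, smul_eq_mul]
  have hB2 : B (Q) u (s • y) = s * B (Q) u y := by
    show QuadraticMap.polar (⇑Q) u (s • y) = s * QuadraticMap.polar (⇑Q) u y
    rw [QuadraticMap.polar_smul_right, smul_eq_mul]
  have hB3 : B (Q) w (s • y) = s * B (Q) w y := by
    show QuadraticMap.polar (⇑Q) w (s • y) = s * QuadraticMap.polar (⇑Q) w y
    rw [QuadraticMap.polar_smul_right, smul_eq_mul]
  have hQ : Q (s • w) = s * s * Q w := by
    show (Q) (s • w) = s * s * (Q) w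
    rw [QuadraticMap.map_smul, smul_eq_mul]
  have h4 := (Rad M v hv.Qv).sub_mem h2 h1
  have e : (B (Q) u (s • y) • w - B (Q) w (s • y) • u - (Q w * B (Q) u (s • y)) • u) -
      (B (Q) u y • (s • w) - B (Q) (s • w) y • u - (Q (s • w) * B (Q) u y) • u) =
      (-((s - s ^ 2) * (Q w * B (Q) u y))) • u := by
    rw [hB1, hB2, hB3, hQ]
    module
  rw [e] at h4
  have h7 := GP.smul_zero hD hHM hG1 hv hu hu0 hQu h4
  rw [neg_eq_zero] at h7
  exact h7

end Cfsg.Agent.OC2K
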