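import Mathlib
import Cfsg.Prelude.Def_ClassicalGeometry
import Cfsg.Agent.Helper25.S5955TRANSPORT

/-! # S2482 (k(Sp_2n(q)) bounds), LOWER BOUND `q^n ≤ k(Sp_2n(F))` (helper17; any finite field).

For `h` monic of degree `n ≥ 1` let `R = F[Y]/(h)`, `μ : R → F` the top-coefficient functional (its kernel
contains no nonzero ideal), `V = R × R` with the alternating form `B((a,b),(a',b')) = μ(b a' - a b')` and
`g(a,b) = (-b, a + Y b)` (an element of `SL₂(R)`, so it preserves `det`, hence `B`).  `g + g⁻¹ = Y`, so the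
characteristic polynomial of `x + x⁻¹` of the corresponding symplectic matrix `x` is `h²`, a class invariant
separating the `q^n` polynomials `h`. -/

set_option autoImplicit false

namespace Cfsg.Agent.S2482P

open Polynomial Cfsg.Agent.Helper2.SympInvol Cfsg.Agent.S5955P Cfsg.Agent.S5961P

namespace LOW

section form

variable {F R : Type*} [Field F] [CommRing R] [Algebra F R]

/-- `B((a,b),(a',b')) = μ(b a' - a b')` -/
noncomputable def detForm (μ : R →ₗ[F] F) : LinearMap.BilinForm F (R × R) :=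
  LinearMap.mk₂ F (fun u v => μ (u.2 * v.1 - u.1 * v.2))
    (by
      intro u u' v
      simp only [Prod.fst_add, Prod.snd_add]
      rw [← map_add]
      congr 1
      ring)
    (by
      intro c u v
      simp only [Prod.smul_fst, Prod.smul_snd]
      rw [smul_mul_assoc, smul_mul_assoc, ← smul_sub, map_smul])
    (by
      intro u v v'
      simp only [Prod.fst_add, Prod.snd_add]
      rw [← map_add]
      congr 1
      ring)
    (by
      intro c u v
      simp only [Prod.smul_fst, Prod.smul_snd]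
      rw [mul_smul_comm, mul_smul_comm, ← smul_sub, map_smul])

theorem detForm_apply (μ : R →ₗ[F] F) (u v : R × R) :
    detForm μ u v = μ (u.2 * v.1 - u.1 * v.2) := rfl

theorem detForm_alt (μ : R →ₗ[F] F) (v : R × R) : detForm μ v v = 0 := by
  rw [detForm_apply, mul_comm, sub_self, map_zero]

theorem detForm_nondeg (μ : R →ₗ[F] F) (hμ : ∀ b : R, (∀ c, μ (b * c) = 0) → b = 0) :
    Nondeg (detForm μ) ⊤ := by
  intro m _ hm0
  by_contra hcon
  push Not at hcon
  apply hm0
  have h2 : m.2 = 0 := by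
    apply hμ
    intro c
    have := hcon (c, 0) trivial
    rw [detForm_apply] at this
    simpa using this
  have h1 : m.1 = 0 := by
    apply hμ
    intro c
    have := hcon (0, c) trivial
    rw [detForm_apply] at this
    simp only [mul_zero, zero_sub, map_neg, neg_eq_zero] at this
    exact this
  exact Prod.ext h1 h2

/-- the rotation `(a,b) ↦ (-b, a + Y b)` -/
def rot (Y : R) : R × R →ₗ[F] R × R :=
  LinearMap.prod (-(LinearMap.snd F R R))
    (LinearMap.fst F R R + (LinearMap.mulLeft F Y).comp (LinearMap.snd F R R))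

theorem rot_apply (Y : R) (u : R × R) : rot (F := F) Y u = (-u.2, u.1 + Y * u.2) := rfl

/-- its inverse `(a,b) ↦ (Y a + b, -a)` -/
def rotInv (Y : R) : R × R →ₗ[F] R × R :=
  LinearMap.prod ((LinearMap.mulLeft F Y).comp (LinearMap.fst F R R) + LinearMap.snd F R R)
    (-(LinearMap.fst F R R))

theorem rotInv_apply (Y : R) (u : R × R) : rotInv (F := F) Y u = (Y * u.1 + u.2, -u.1) := rfl

theorem rot_rotInv (Y : R) (u : R × R) : rot (F := F) Y (rotInv (F := F) Y u) = u := by
  rw [rot_apply, rotInv_apply]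
  ext
  · simp
  · simp only
    ring

theorem detForm_rot (μ : R →ₗ[F] F) (Y : R) (u v : R × R) :
    detForm μ (rot (F := F) Y u) (rot (F := F) Y v) = detForm μ u v := by
  simp only [detForm_apply, rot_apply]
  congr 1
  ring

theorem rot_add_rotInv (Y : R) :
    rot (F := F) Y + rotInv (F := F) Y =
      (LinearMap.mulLeft F Y).prodMap (LinearMap.mulLeft F Y) := by
  apply LinearMap.ext
  intro u
  rw [LinearMap.add_apply, rot_apply, rotInv_apply, LinearMap.prodMap_apply]
  ext
  · simp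
  · simp

end form

section frob

variable {F : Type*} [Field F]

/-- the top-coefficient functional of `F[Y]/(h)` -/
noncomputable def topCoeff (h : F[X]) (hh : h.Monic) : AdjoinRoot h →ₗ[F] F :=
  (Polynomial.lcoeff F (h.natDegree - 1)).comp (AdjoinRoot.modByMonicHom hh)

theorem topCoeff_apply (h : F[X]) (hh : h.Monic) (x : AdjoinRoot h) :
    topCoeff h hh x = (AdjoinRoot.modByMonicHom hh x).coeff (h.natDegree - 1) := rfl

/-- the kernel of the top-coefficient functional contains no nonzero ideal -/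
theorem topCoeff_nondeg (h : F[X]) (hh : h.Monic) (hn : 1 ≤ h.natDegree) (b : AdjoinRoot h)
    (hb : ∀ c, topCoeff h hh (b * c) = 0) : b = 0 := by
  by_contra hb0
  set r : F[X] := AdjoinRoot.modByMonicHom hh b with hr
  have hbr : AdjoinRoot.mk h r = b := AdjoinRoot.mk_leftInverse hh b
  have hr0 : r ≠ 0 := by
    intro h0
    apply hb0
    rw [← hbr, h0, map_zero]
  have hdeg : r.degree < h.degree := by
    have h1 : b = AdjoinRoot.mk h r := hbr.symm
    rw [hr, h1, AdjoinRoot.modByMonicHom_mk]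
    exact Polynomial.degree_modByMonic_lt _ hh
  have hnat : r.natDegree < h.natDegree := Polynomial.natDegree_lt_natDegree hr0 hdeg
  have key := hb (AdjoinRoot.mk h (X ^ (h.natDegree - 1 - r.natDegree)))
  rw [topCoeff_apply, ← hbr, ← map_mul, AdjoinRoot.modByMonicHom_mk] at key
  have hdeg2 : (r * X ^ (h.natDegree - 1 - r.natDegree)).degree < h.degree := by
    rw [Polynomial.degree_mul, Polynomial.degree_X_pow, Polynomial.degree_eq_natDegree hr0,
      Polynomial.degree_eq_natDegree hh.ne_zero]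
    norm_cast
    omega
  rw [(Polynomial.modByMonic_eq_self_iff hh).mpr hdeg2] at key
  have h3 : r.natDegree + (h.natDegree - 1 - r.natDegree) = h.natDegree - 1 := by omega
  have h4 := Polynomial.coeff_mul_X_pow r (h.natDegree - 1 - r.natDegree) r.natDegree
  rw [h3, key] at h4
  exact hr0 (Polynomial.leadingCoeff_eq_zero.mp h4.symm)

/-- multiplication by the root on `F[Y]/(h)` has characteristic polynomial `h` -/
theorem charpoly_mulLeft_root (h : F[X]) (hh : h.Monic) [Module.Finite F (AdjoinRoot h)] :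
    (LinearMap.mulLeft F (AdjoinRoot.root h)).charpoly = h := by
  have h1 := charpoly_leftMulMatrix (AdjoinRoot.powerBasis hh.ne_zero)
  rw [AdjoinRoot.minpoly_powerBasis_gen_of_monic hh, AdjoinRoot.powerBasis_gen,
    ← Algebra.toMatrix_lmul_eq, LinearMap.charpoly_toMatrix] at h1
  exact h1

end frob

section real

variable {F : Type*} [Field F]

open scoped MatrixGroups

/-- for every monic `h` of degree `n ≥ 1` a symplectic matrix `x` with `charpoly (x + x⁻¹) = h²` -/
theorem exists_sp (h : F[X]) (hh : h.Monic) (n : ℕ) (hn : h.natDegree = n) (hn1 : 1 ≤ n) :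
    ∃ x : Matrix.symplecticGroup (Fin n) F,
      ((x : Matrix (Fin n ⊕ Fin n) (Fin n ⊕ Fin n) F) +
        ((x⁻¹ : Matrix.symplecticGroup (Fin n) F) :
          Matrix (Fin n ⊕ Fin n) (Fin n ⊕ Fin n) F)).charpoly = h * h := by
  classical
  have : Module.Finite F (AdjoinRoot h) := hh.finite_adjoinRoot
  have hfr : Module.finrank F (AdjoinRoot h) = n := by
    rw [(AdjoinRoot.powerBasis hh.ne_zero).finrank, AdjoinRoot.powerBasis_dim, hn]
  have hysp : IsYSp (detForm (topCoeff h hh)) (rot (F := F) (AdjoinRoot.root h)) 0 :=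
    ⟨detForm_alt _, detForm_nondeg _ (topCoeff_nondeg h hh (hn ▸ hn1)),
      detForm_rot _ _, pow_zero _⟩
  have hd : Module.finrank F (AdjoinRoot h × AdjoinRoot h) = 2 * n := by
    rw [Module.finrank_prod, hfr]
    ring
  obtain ⟨x, e, -, hxe⟩ := exists_sp_of_ysp _ _ 0 hysp n hd
  refine ⟨x, ?_⟩
  -- the inverse
  have hinv : ∀ v, e (rotInv (F := F) (AdjoinRoot.root h) v) =
      Matrix.toLin' ((x⁻¹ : Matrix.symplecticGroup (Fin n) F) :
        Matrix (Fin n ⊕ Fin n) (Fin n ⊕ Fin n) F) (e v) := by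
    intro v
    have h1 : (x : Matrix (Fin n ⊕ Fin n) (Fin n ⊕ Fin n) F) *
        ((x⁻¹ : Matrix.symplecticGroup (Fin n) F) :
          Matrix (Fin n ⊕ Fin n) (Fin n ⊕ Fin n) F) = 1 := by
      rw [← Submonoid.coe_mul, mul_inv_cancel]
      rfl
    have h2 : ((x⁻¹ : Matrix.symplecticGroup (Fin n) F) :
          Matrix (Fin n ⊕ Fin n) (Fin n ⊕ Fin n) F) *
        (x : Matrix (Fin n ⊕ Fin n) (Fin n ⊕ Fin n) F) = 1 := by
      rw [← Submonoid.coe_mul, inv_mul_cancel]
      rfl
    have h3 := hxe (rotInv (F := F) (AdjoinRoot.root h) v)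
    rw [rot_rotInv] at h3
    rw [h3, ← LinearMap.comp_apply, ← Matrix.toLin'_mul, h2, Matrix.toLin'_one,
      LinearMap.id_apply]
  have hsum : Matrix.toLin' ((x : Matrix (Fin n ⊕ Fin n) (Fin n ⊕ Fin n) F) +
        ((x⁻¹ : Matrix.symplecticGroup (Fin n) F) :
          Matrix (Fin n ⊕ Fin n) (Fin n ⊕ Fin n) F)) =
      e.conj ((LinearMap.mulLeft F (AdjoinRoot.root h)).prodMap
        (LinearMap.mulLeft F (AdjoinRoot.root h))) := by
    apply LinearMap.ext
    intro w
    obtain ⟨v, rfl⟩ := e.surjective w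
    rw [map_add, LinearMap.add_apply, ← hxe, ← hinv, ← map_add, ← LinearMap.add_apply,
      rot_add_rotInv, LinearEquiv.conj_apply_apply, LinearEquiv.symm_apply_apply]
  have hcp : ((x : Matrix (Fin n ⊕ Fin n) (Fin n ⊕ Fin n) F) +
        ((x⁻¹ : Matrix.symplecticGroup (Fin n) F) :
          Matrix (Fin n ⊕ Fin n) (Fin n ⊕ Fin n) F)).charpoly =
      (Matrix.toLin' ((x : Matrix (Fin n ⊕ Fin n) (Fin n ⊕ Fin n) F) +
        ((x⁻¹ : Matrix.symplecticGroup (Fin n) F) :
          Matrix (Fin n ⊕ Fin n) (Fin n ⊕ Fin n) F))).charpoly := by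
    rw [← LinearMap.charpoly_toMatrix _ (Pi.basisFun F (Fin n ⊕ Fin n)),
      LinearMap.toMatrix_eq_toMatrix', LinearMap.toMatrix'_toLin']
  rw [hcp, hsum, LinearEquiv.charpoly_conj, LinearMap.charpoly_prodMap,
    charpoly_mulLeft_root h hh]

/-- `charpoly (x + x⁻¹)` is a class function on the symplectic group -/
theorem charpoly_add_inv_of_isConj {n : ℕ} (x y : Matrix.symplecticGroup (Fin n) F)
    (hc : IsConj x y) :
    ((x : Matrix (Fin n ⊕ Fin n) (Fin n ⊕ Fin n) F) +
        ((x⁻¹ : Matrix.symplecticGroup (Fin n) F) :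
          Matrix (Fin n ⊕ Fin n) (Fin n ⊕ Fin n) F)).charpoly =
      ((y : Matrix (Fin n ⊕ Fin n) (Fin n ⊕ Fin n) F) +
        ((y⁻¹ : Matrix.symplecticGroup (Fin n) F) :
          Matrix (Fin n ⊕ Fin n) (Fin n ⊕ Fin n) F)).charpoly := by
  obtain ⟨c, hc⟩ := isConj_iff.mp hc
  have hy : y = c * x * c⁻¹ := hc.symm
  have hyi : y⁻¹ = c * x⁻¹ * c⁻¹ := by
    rw [hy]
    group
  have h1 : ((c⁻¹ : Matrix.symplecticGroup (Fin n) F) :
        Matrix (Fin n ⊕ Fin n) (Fin n ⊕ Fin n) F) *
      (c : Matrix (Fin n ⊕ Fin n) (Fin n ⊕ Fin n) F) = 1 := by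
    rw [← Submonoid.coe_mul, inv_mul_cancel]
    rfl
  have h2 : (y : Matrix (Fin n ⊕ Fin n) (Fin n ⊕ Fin n) F) +
      ((y⁻¹ : Matrix.symplecticGroup (Fin n) F) :
          Matrix (Fin n ⊕ Fin n) (Fin n ⊕ Fin n) F) =
      (c : Matrix (Fin n ⊕ Fin n) (Fin n ⊕ Fin n) F) *
        (((x : Matrix (Fin n ⊕ Fin n) (Fin n ⊕ Fin n) F) +
        ((x⁻¹ : Matrix.symplecticGroup (Fin n) F) :
          Matrix (Fin n ⊕ Fin n) (Fin n ⊕ Fin n) F)) *
        ((c⁻¹ : Matrix.symplecticGroup (Fin n) F) :
          Matrix (Fin n ⊕ Fin n) (Fin n ⊕ Fin n) F)) := by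
    rw [hyi, hy]
    simp only [Submonoid.coe_mul]
    rw [Matrix.add_mul, Matrix.mul_add, Matrix.mul_assoc, Matrix.mul_assoc]
  rw [h2, Matrix.charpoly_mul_comm, Matrix.mul_assoc, h1, Matrix.mul_one]

end real

section count

variable {F : Type*} [Field F] [Fintype F]

theorem card_monic_natDegree (n : ℕ) :
    Nat.card {f : F[X] // f.Monic ∧ f.natDegree = n} = Fintype.card F ^ n := by
  rw [Nat.card_congr ((Polynomial.monicEquivDegreeLT n).trans
    (Polynomial.degreeLTEquiv F n).toEquiv), Nat.card_fun, Nat.card_eq_fintype_card,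
    Nat.card_eq_fintype_card, Fintype.card_fin]

omit [Fintype F] in
theorem monic_eq_of_sq_eq (f g : F[X]) (hf : f.Monic) (hg : g.Monic) (h : f * f = g * g) :
    f = g := by
  have h1 : (f - g) * (f + g) = 0 := by ring_nf; rw [sq, sq, h]; ring
  rcases mul_eq_zero.mp h1 with h2 | h2
  · exact sub_eq_zero.mp h2
  · -- f = -g, both monic: then natDegree equal and leading coeffs 1 = -1, so char 2 and f = g
    have h3 : f = -g := eq_neg_of_add_eq_zero_left h2
    have h4 : (1 : F) = -1 := by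
      have := congrArg Polynomial.leadingCoeff h3
      rwa [Polynomial.leadingCoeff_neg, hf.leadingCoeff, hg.leadingCoeff] at this
    have h5 : (-g : F[X]) = g := by
      have : (-g : F[X]) = C (-1 : F) * g := by rw [map_neg, map_one, neg_one_mul]
      rw [this, ← h4, map_one, one_mul]
    rw [h3, h5]

end count

end LOW

/-- lower bound `q^n ≤ k(Sp_2n(F))` (any finite field `F`) -/
theorem card_pow_le_card_conjClasses_symplectic {F : Type*} [Field F] [Fintype F] (n : ℕ)
    (hn : 1 ≤ n) :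
    Fintype.card F ^ n ≤ Nat.card (ConjClasses (Matrix.symplecticGroup (Fin n) F)) := by
  classical
  rw [← LOW.card_monic_natDegree (F := F) n]
  have key : ∀ f : {f : F[X] // f.Monic ∧ f.natDegree = n},
      ∃ x : Matrix.symplecticGroup (Fin n) F,
        ((x : Matrix (Fin n ⊕ Fin n) (Fin n ⊕ Fin n) F) +
          ((x⁻¹ : Matrix.symplecticGroup (Fin n) F) :
            Matrix (Fin n ⊕ Fin n) (Fin n ⊕ Fin n) F)).charpoly = f.1 * f.1 :=
    fun f => LOW.exists_sp f.1 f.2.1 n f.2.2 hn
  choose φ hφ using key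
  have : Finite (Matrix.symplecticGroup (Fin n) F) := Subtype.finite
  apply Nat.card_le_card_of_injective (fun f => ConjClasses.mk (φ f))
  intro f f' h
  have h' : IsConj (φ f) (φ f') := ConjClasses.mk_eq_mk_iff_isConj.mp h
  have h2 := LOW.charpoly_add_inv_of_isConj _ _ h'
  rw [hφ, hφ] at h2
  exact Subtype.ext (LOW.monic_eq_of_sq_eq _ _ f.2.1 f'.2.1 h2)

end Cfsg.Agent.S2482P
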