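import Mathlib
import Cfsg.Prelude.Def_Classical
import Cfsg.Agent.Helper8.MatBNDefs
import Cfsg.Agent.Helper8.S2546Defs
import Cfsg.Agent.Helper17.S2546PRES
import Cfsg.Agent.Helper17.S2546TauVal
import Cfsg.Agent.Helper17.S2546XMEM

set_option autoImplicit false
open scoped Matrix

/-! # S2546 piece SUPP: supports of the root elements; nontrivial root elements exist. -/

namespace Cfsg.Agent.S2546P

open Cfsg.Agent.MatBN

variable {K : Type*} [Field K]

namespace SUPP

theorem E_apply (n i k : ℕ) (a c : Fin n) :
    (E n i k : Matrix (Fin n) (Fin n) K) a c = if a.val = i ∧ c.val = k then 1 else 0 := rfl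

theorem xL_apply (σ : K →+* K) (n j : ℕ) (t : K) (a c : Fin n) :
    xL σ n j t a c = (if a = c then 1 else 0) + t * (if a.val = j ∧ c.val = j + 1 then 1 else 0) -
      σ t * (if a.val = n - 2 - j ∧ c.val = n - 1 - j then 1 else 0) := by
  unfold xL
  rw [Matrix.sub_apply, Matrix.add_apply, Matrix.smul_apply, Matrix.smul_apply, E_apply, E_apply,
    Matrix.one_apply, smul_eq_mul, smul_eq_mul]

theorem xE_apply (n : ℕ) (t : K) (a c : Fin n) :
    xE n t a c = (if a = c then 1 else 0) +
      t * (if a.val = n / 2 - 1 ∧ c.val = n / 2 then 1 else 0) := by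
  unfold xE
  rw [Matrix.add_apply, Matrix.smul_apply, E_apply, Matrix.one_apply, smul_eq_mul]

theorem xO_apply (σ : K →+* K) (n : ℕ) (x y : K) (a c : Fin n) :
    xO σ n x y a c = (if a = c then 1 else 0) +
      x * (if a.val = n / 2 - 1 ∧ c.val = n / 2 then 1 else 0) +
      y * (if a.val = n / 2 - 1 ∧ c.val = n / 2 + 1 then 1 else 0) -
      σ x * (if a.val = n / 2 ∧ c.val = n / 2 + 1 then 1 else 0) := by
  unfold xO
  rw [Matrix.sub_apply, Matrix.add_apply, Matrix.add_apply, Matrix.smul_apply, Matrix.smul_apply,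
    Matrix.smul_apply, E_apply, E_apply, E_apply, Matrix.one_apply, smul_eq_mul, smul_eq_mul,
    smul_eq_mul]

theorem tv_last (n j x : ℕ) (h2 : j + 1 = n / 2) :
    TAU17.tv n j x = if x = j then n - 1 - j else if x = n - 1 - j then j else x := by
  unfold TAU17.tv
  have h1 : ¬ (j + 1 < n / 2) := by omega
  rw [if_neg h1, if_pos h2]

end SUPP

open SUPP TAU17

/-- SUPP -/
theorem supp_XMat (σ : K →+* K) (n j : ℕ) (hj : j < n / 2) (M : Matrix (Fin n) (Fin n) K)
    (hM : M ∈ XMat σ n j) :
    (∀ a, M a a = 1) ∧ ∀ a c, a ≠ c → M a c ≠ 0 → a < c ∧ tau n j c < tau n j a := by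
  unfold XMat at hM
  by_cases h1 : j + 1 < n / 2
  · rw [if_pos h1] at hM
    obtain ⟨t, rfl⟩ := hM
    constructor
    · intro a
      have ha := a.2
      have e1 : ¬ (a.val = j ∧ a.val = j + 1) := by omega
      have e2 : ¬ (a.val = n - 2 - j ∧ a.val = n - 1 - j) := by omega
      rw [xL_apply, if_pos rfl, if_neg e1, if_neg e2]
      ring
    · intro a c hac hne
      have ha := a.2
      have hc := c.2
      have hcases : (a.val = j ∧ c.val = j + 1) ∨ (a.val = n - 2 - j ∧ c.val = n - 1 - j) := by
        by_contra hcon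
        push Not at hcon
        apply hne
        rw [xL_apply, if_neg hac, if_neg (fun h => hcon.1 h.1 h.2), if_neg (fun h => hcon.2 h.1 h.2)]
        ring
      constructor
      · rw [Fin.lt_def]
        omega
      · rw [Fin.lt_def, tau_val, tau_val]
        unfold tv
        rcases hcases with ⟨e1, e2⟩ | ⟨e1, e2⟩
        · rw [e1, e2]
          split_ifs <;> omega
        · rw [e1, e2]
          split_ifs <;> omega
  · rw [if_neg h1] at hM
    have hj' : j = n / 2 - 1 := by omega
    by_cases h2 : n % 2 = 0
    · rw [if_pos h2] at hM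
      obtain ⟨t, -, rfl⟩ := hM
      constructor
      · intro a
        have ha := a.2
        have e1 : ¬ (a.val = n / 2 - 1 ∧ a.val = n / 2) := by omega
        rw [xE_apply, if_pos rfl, if_neg e1]
        ring
      · intro a c hac hne
        have ha := a.2
        have hc := c.2
        have hcases : a.val = n / 2 - 1 ∧ c.val = n / 2 := by
          by_contra hcon
          apply hne
          rw [xE_apply, if_neg hac, if_neg hcon]
          ring
        obtain ⟨e1, e2⟩ := hcases
        constructor
        · rw [Fin.lt_def]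
          omega
        · rw [Fin.lt_def, tau_val, tau_val, tv_last n j _ (by omega), tv_last n j _ (by omega), e1, e2]
          split_ifs <;> omega
    · rw [if_neg h2] at hM
      obtain ⟨x, y, -, rfl⟩ := hM
      constructor
      · intro a
        have ha := a.2
        have e1 : ¬ (a.val = n / 2 - 1 ∧ a.val = n / 2) := by omega
        have e2 : ¬ (a.val = n / 2 - 1 ∧ a.val = n / 2 + 1) := by omega
        have e3 : ¬ (a.val = n / 2 ∧ a.val = n / 2 + 1) := by omega
        rw [xO_apply, if_pos rfl, if_neg e1, if_neg e2, if_neg e3]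
        ring
      · intro a c hac hne
        have ha := a.2
        have hc := c.2
        have hcases : (a.val = n / 2 - 1 ∧ c.val = n / 2) ∨ (a.val = n / 2 - 1 ∧ c.val = n / 2 + 1) ∨
            (a.val = n / 2 ∧ c.val = n / 2 + 1) := by
          by_contra hcon
          push Not at hcon
          apply hne
          rw [xO_apply, if_neg hac, if_neg (fun h => hcon.1 h.1 h.2),
            if_neg (fun h => hcon.2.1 h.1 h.2), if_neg (fun h => hcon.2.2 h.1 h.2)]
          ring
        constructor
        · rw [Fin.lt_def]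
          omega
        · rw [Fin.lt_def, tau_val, tau_val, tv_last n j _ (by omega), tv_last n j _ (by omega)]
          rcases hcases with ⟨e1, e2⟩ | ⟨e1, e2⟩ | ⟨e1, e2⟩
          · rw [e1, e2]
            split_ifs <;> omega
          · rw [e1, e2]
            split_ifs <;> omega
          · rw [e1, e2]
            split_ifs <;> omega

/-- XNE: nontrivial root elements exist -/
theorem exists_X_ne_one (σ : K →+* K) (hσ : ∀ x, σ (σ x) = x) (n : ℕ) (ζ : K) (hζ : ζ ≠ 0)
    (hζσ : σ ζ = -ζ) (j : ℕ) (hj : j < n / 2) : ∃ x ∈ Xset σ n j, x ≠ 1 := by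
  have key : ∀ (M : Matrix (Fin n) (Fin n) K) (a c : Fin n), PresJ σ n M ∧ M.det = 1 →
      M ∈ XMat σ n j → a ≠ c → M a c ≠ 0 → ∃ x ∈ Xset σ n j, x ≠ 1 := by
    rintro M a c ⟨hP, hdet⟩ hX hac hne
    obtain ⟨x, hx⟩ := exists_of_presJ σ n M hdet hP
    refine ⟨x, ?_, ?_⟩
    · show rho σ n x ∈ XMat σ n j
      rw [hx]
      exact hX
    · intro h1
      apply hne
      rw [← hx, h1, map_one, Matrix.one_apply_ne hac]
  by_cases h1 : j + 1 < n / 2
  · apply key (xL σ n j 1) ⟨j, by omega⟩ ⟨j + 1, by omega⟩ (presJ_xL σ hσ n j h1 1)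
    · unfold XMat
      rw [if_pos h1]
      exact ⟨1, rfl⟩
    · intro h
      have := congrArg Fin.val h
      simp at this
    · rw [xL_apply]
      have e0 : ¬ ((⟨j, by omega⟩ : Fin n) = ⟨j + 1, by omega⟩) := by
        intro h
        have := congrArg Fin.val h
        simp at this
      have e2 : ¬ ((⟨j, by omega⟩ : Fin n).val = n - 2 - j ∧
          (⟨j + 1, by omega⟩ : Fin n).val = n - 1 - j) := by
        simp only
        omega
      rw [if_neg e0, if_pos ⟨rfl, rfl⟩, if_neg e2]
      simp
  · have hj' : j = n / 2 - 1 := by omega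
    by_cases h2 : n % 2 = 0
    · have hn2 : 2 ≤ n := by omega
      apply key (xE n ζ) ⟨n / 2 - 1, by omega⟩ ⟨n / 2, by omega⟩
        (presJ_xE σ hσ n h2 hn2 ζ (by rw [hζσ, add_neg_cancel]))
      · unfold XMat
        rw [if_neg h1, if_pos h2]
        exact ⟨ζ, by rw [hζσ, add_neg_cancel], rfl⟩
      · intro h
        have := congrArg Fin.val h
        simp only at this
        omega
      · rw [xE_apply]
        have e0 : ¬ ((⟨n / 2 - 1, by omega⟩ : Fin n) = ⟨n / 2, by omega⟩) := by
          intro h
          have := congrArg Fin.val h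
          simp only at this
          omega
        rw [if_neg e0, if_pos ⟨rfl, rfl⟩]
        simpa using hζ
    · have hn : n % 2 = 1 := by omega
      have hn3 : 3 ≤ n := by omega
      have hab : ζ + σ ζ + 0 * σ 0 = 0 := by rw [hζσ]; ring
      apply key (xO σ n 0 ζ) ⟨n / 2 - 1, by omega⟩ ⟨n / 2 + 1, by omega⟩
        (presJ_xO σ hσ n hn hn3 0 ζ hab)
      · unfold XMat
        rw [if_neg h1, if_neg h2]
        exact ⟨0, ζ, hab, rfl⟩
      · intro h
        have := congrArg Fin.val h
        simp only at this
        omega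
      · rw [xO_apply]
        have e0 : ¬ ((⟨n / 2 - 1, by omega⟩ : Fin n) = ⟨n / 2 + 1, by omega⟩) := by
          intro h
          have := congrArg Fin.val h
          simp only at this
          omega
        have e1 : ¬ ((⟨n / 2 - 1, by omega⟩ : Fin n).val = n / 2 - 1 ∧
            (⟨n / 2 + 1, by omega⟩ : Fin n).val = n / 2) := by
          simp only
          omega
        rw [if_neg e0, if_neg e1, if_pos ⟨rfl, rfl⟩]
        simpa using hζ

end Cfsg.Agent.S2546P
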