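import Mathlib
import Cfsg.Prelude.Def_Classical
import Cfsg.Agent.Helper8.MatBNDefs
import Cfsg.Agent.Helper8.S2546Defs
import Cfsg.Agent.Helper23.S2546MONALG
import Cfsg.Agent.Helper17.S2546PRES
import Cfsg.Agent.Helper17.S2546TauVal
import Cfsg.Agent.Helper17.S2546XMEM
import Cfsg.Agent.Helper17.S2546SUPP

set_option autoImplicit false
open scoped Matrix

/-! # S2546: general lemmas for the pieces HAE / HAO (helper17). -/

namespace Cfsg.Agent.S2546P

open Cfsg.Agent.MatBN

variable {K : Type*} [Field K]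

namespace HA17

/-- conjugating an upper triangular element by a monomial one: the result is upper triangular as soon as the
entries on the inversion set of the permutation vanish -/
theorem isTri_conj (σ : K →+* K) (n : ℕ) (s C : SUJ σ n) (π : Equiv.Perm (Fin n))
    (hs : Mon (rho σ n s) π) (hC : IsTri (rho σ n C))
    (hinv : ∀ a c : Fin n, a < c → π c < π a → rho σ n C a c = 0) :
    IsTri (rho σ n (s * C * s⁻¹)) := by
  intro a c hca
  by_contra hne
  rw [map_mul, map_mul] at hne
  have h1 : rho σ n s * rho σ n s⁻¹ = 1 := by rw [← map_mul, mul_inv_cancel, map_one]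
  have h2 := (Mon.conj_apply_ne_zero_iff hs h1 a c).mp hne
  have h3 : ¬ (π⁻¹ c < π⁻¹ a) := fun h => h2 (hC _ _ h)
  have h4 : π⁻¹ a ≠ π⁻¹ c := by
    intro h
    have : a = c := by
      have := congrArg π h
      rwa [MONALG.apply_inv_self', MONALG.apply_inv_self'] at this
    exact absurd hca (by rw [this]; exact lt_irrefl _)
  have h5 : π⁻¹ a < π⁻¹ c := lt_of_le_of_ne (not_lt.mp h3) h4
  apply h2
  apply hinv _ _ h5
  rw [MONALG.apply_inv_self', MONALG.apply_inv_self']
  exact hca

theorem mul_E_apply {n : ℕ} (C : Matrix (Fin n) (Fin n) K) (p q : ℕ) (hp : p < n) (i k : Fin n) :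
    (C * (E n p q : Matrix (Fin n) (Fin n) K)) i k = if k.val = q then C i ⟨p, hp⟩ else 0 := by
  rw [Matrix.mul_apply]
  by_cases hk : k.val = q
  · rw [if_pos hk, Finset.sum_eq_single (⟨p, hp⟩ : Fin n)]
    · rw [SUPP.E_apply, if_pos ⟨rfl, hk⟩, mul_one]
    · intro l _ hl
      rw [SUPP.E_apply, if_neg, mul_zero]
      rintro ⟨h1, -⟩
      exact hl (Fin.ext h1)
    · intro h
      exact absurd (Finset.mem_univ _) h
  · rw [if_neg hk]
    apply Finset.sum_eq_zero
    intro l _
    rw [SUPP.E_apply, if_neg (fun h => hk h.2), mul_zero]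

/-- the sum in `PresJ` for an upper triangular matrix only runs over `rev c ≤ i ≤ a` -/
theorem presJ_tri_sum {n : ℕ} (σ : K →+* K) (B : Matrix (Fin n) (Fin n) K) (hB : IsTri B)
    (a c : Fin n) (S : Finset (Fin n)) (hS : ∀ i : Fin n, c.rev ≤ i → i ≤ a → i ∈ S) :
    ∑ i, B i a * σ (B i.rev c) = ∑ i ∈ S, B i a * σ (B i.rev c) := by
  symm
  apply Finset.sum_subset (Finset.subset_univ _)
  intro i _ hi
  by_contra hne
  apply hi
  have h1 : B i a ≠ 0 := left_ne_zero_of_mul hne
  have h2 : B i.rev c ≠ 0 := by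
    intro h0
    apply hne
    rw [h0, map_zero, mul_zero]
  have h3 : i ≤ a := not_lt.mp (fun h => h1 (hB _ _ h))
  have h4 : i.rev ≤ c := not_lt.mp (fun h => h2 (hB _ _ h))
  apply hS i _ h3
  rw [← Fin.rev_le_rev, Fin.rev_rev]
  exact h4

/-- the factor `b * x⁻¹` is upper triangular, and multiplying back by `x` gives `b` -/
theorem tri_factor (σ : K →+* K) (n : ℕ) (b x : SUJ σ n) (hb : IsTri (rho σ n b))
    (hx : IsTri (rho σ n x)) :
    IsTri (rho σ n (b * x⁻¹)) ∧ rho σ n (b * x⁻¹) * rho σ n x = rho σ n b := by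
  constructor
  · rw [map_mul]
    apply IsTri.mul hb
    apply IsTri.of_mul_eq_one hx
    rw [← map_mul, mul_inv_cancel, map_one]
  · rw [← map_mul, mul_assoc, inv_mul_cancel, mul_one]

end HA17

end Cfsg.Agent.S2546P
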