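import Mathlib
import Cfsg.Prelude.Def_Classical
import Cfsg.Agent.Helper8.MatBNDefs
import Cfsg.Agent.Helper8.S2546Defs
import Cfsg.Agent.Helper17.S2546SMEM
import Cfsg.Agent.Helper17.S2546HAGen

set_option autoImplicit false
open scoped Matrix

/-! # S2546 piece HAE: `B = (B ∩ s⁻¹ B s) X` for the last node, `n` even. -/

namespace Cfsg.Agent.S2546P

open Cfsg.Agent.MatBN

variable {K : Type*} [Field K]

namespace HA17

theorem mul_xE_apply {n : ℕ} (hn2 : 2 ≤ n) (C : Matrix (Fin n) (Fin n) K) (t : K) (i k : Fin n) :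
    (C * xE n t) i k =
      C i k + (if k.val = n / 2 then t * C i ⟨n / 2 - 1, by omega⟩ else 0) := by
  unfold xE
  rw [Matrix.mul_add, Matrix.mul_one, Matrix.mul_smul, Matrix.add_apply, Matrix.smul_apply,
    mul_E_apply C _ _ (by omega : n / 2 - 1 < n), smul_eq_mul]
  split_ifs <;> simp

end HA17

open HA17 TAU17 SMEM17

/-- HAE -/
theorem ha_E (σ : K →+* K) (hσ : ∀ x, σ (σ x) = x) (n : ℕ) (hn : n % 2 = 0) (hn2 : 2 ≤ n) (ζ : K)
    (hζ : ζ ≠ 0) (hζσ : σ ζ = -ζ) (s : SUJ σ n) (hs : rho σ n s = sE n ζ) (b : SUJ σ n)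
    (hb : IsTri (rho σ n b)) :
    ∃ x ∈ Xset σ n (n / 2 - 1), IsTri (rho σ n (s * (b * x⁻¹) * s⁻¹)) := by
  have h0 : n / 2 - 1 < n := by omega
  have h1 : n / 2 < n := by omega
  set a0 : Fin n := ⟨n / 2 - 1, h0⟩ with ha0
  set a1 : Fin n := ⟨n / 2, h1⟩ with ha1
  have hrev0 : a0.rev = a1 := by
    apply Fin.ext
    rw [Fin.val_rev]
    show n - (n / 2 - 1 + 1) = n / 2
    omega
  have hrev1 : a1.rev = a0 := by rw [← hrev0, Fin.rev_rev]
  have h01 : a0 ≠ a1 := by
    intro h
    have := congrArg Fin.val h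
    simp only [ha0, ha1] at this
    omega
  have hP := presJ_of_mem σ n b
  -- first relation
  have r1 : rho σ n b a0 a0 * σ (rho σ n b a1 a1) = 1 := by
    have := hP a0 a1
    rw [presJ_tri_sum σ _ hb a0 a1 {a0} (by
      intro i hi1 hi2
      rw [hrev1] at hi1
      rw [Finset.mem_singleton]
      exact le_antisymm hi2 hi1), Finset.sum_singleton, hrev0, if_pos rfl] at this
    exact this
  -- second relation
  have r2 : rho σ n b a0 a1 * σ (rho σ n b a1 a1) + rho σ n b a1 a1 * σ (rho σ n b a0 a1) = 0 := by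
    have := hP a1 a1
    rw [presJ_tri_sum σ _ hb a1 a1 {a0, a1} (by
      intro i hi1 hi2
      rw [hrev1] at hi1
      rw [Finset.mem_insert, Finset.mem_singleton]
      have e1 := Fin.le_def.mp hi1
      have e2 := Fin.le_def.mp hi2
      simp only [ha0, ha1] at e1 e2
      rcases Nat.lt_or_ge i.val (n / 2) with h | h
      · left
        apply Fin.ext
        show i.val = n / 2 - 1
        omega
      · right
        apply Fin.ext
        show i.val = n / 2
        omega), Finset.sum_pair h01, hrev0, hrev1, if_neg h01.symm] at this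
    exact this
  have hp : rho σ n b a0 a0 ≠ 0 := left_ne_zero_of_mul_eq_one r1
  set t : K := rho σ n b a0 a1 / rho σ n b a0 a0 with ht
  have hσw : σ (rho σ n b a1 a1) = (rho σ n b a0 a0)⁻¹ := eq_inv_of_mul_eq_one_right r1
  have ht0 : t + σ t = 0 := by
    have e1 : t = rho σ n b a0 a1 * σ (rho σ n b a1 a1) := by
      rw [ht, hσw, div_eq_mul_inv]
    rw [e1, map_mul, hσ, mul_comm (σ (rho σ n b a0 a1))]
    exact r2
  obtain ⟨hPx, hdx⟩ := presJ_xE σ hσ n hn hn2 t ht0
  obtain ⟨x, hx⟩ := exists_of_presJ σ n (xE n t) hdx hPx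
  have hXmem : x ∈ Xset σ n (n / 2 - 1) := by
    show rho σ n x ∈ XMat σ n (n / 2 - 1)
    unfold XMat
    have e1 : ¬ (n / 2 - 1 + 1 < n / 2) := by omega
    rw [if_neg e1, if_pos hn]
    exact ⟨t, ht0, hx⟩
  refine ⟨x, hXmem, ?_⟩
  have hxTri : IsTri (rho σ n x) := by
    rw [hx]
    unfold xE
    exact (JC.isUni_one_add _ (by
      intro a c hca
      rw [Matrix.smul_apply, JC.E_apply_of_le _ _ (by omega) _ _ hca, smul_zero])).1
  obtain ⟨hCtri, hCX⟩ := tri_factor σ n b x hb hxTri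
  have hsMon : Mon (rho σ n s) (tau n (n / 2 - 1)) := by
    rw [hs]
    exact (presJ_sE σ n hn hn2 ζ hζ hζσ).2.2
  apply isTri_conj σ n s (b * x⁻¹) _ hsMon hCtri
  intro a c hac hinv
  -- the only inversion is `(a0, a1)`
  have hpair : a = a0 ∧ c = a1 := by
    have hav := a.2
    have hcv := c.2
    rw [Fin.lt_def] at hac hinv
    rw [tau_last_val n hn2, tau_last_val n hn2] at hinv
    constructor
    · apply Fin.ext
      show a.val = n / 2 - 1
      split_ifs at hinv <;> omega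
    · apply Fin.ext
      show c.val = n / 2
      split_ifs at hinv <;> omega
  obtain ⟨rfl, rfl⟩ := hpair
  -- entries of `C * X = B`
  have e01 := congrFun (congrFun hCX a0) a1
  have e00 := congrFun (congrFun hCX a0) a0
  rw [hx, mul_xE_apply hn2] at e01 e00
  have c1 : (a1 : Fin n).val = n / 2 := rfl
  have c0 : ¬ ((a0 : Fin n).val = n / 2) := by
    show ¬ (n / 2 - 1 = n / 2)
    omega
  rw [if_pos c1] at e01
  rw [if_neg c0, add_zero] at e00
  have e00' : rho σ n (b * x⁻¹) ⟨n / 2 - 1, by omega⟩ ⟨n / 2 - 1, by omega⟩ = rho σ n b a0 a0 := e00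
  rw [e00'] at e01
  have : t * rho σ n b a0 a0 = rho σ n b a0 a1 := by
    rw [ht]
    field_simp
  rw [this] at e01
  exact add_eq_right.mp e01

end Cfsg.Agent.S2546P
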