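import Mathlib
import Cfsg.Prelude.Def_Classical
import Cfsg.Agent.Helper8.MatBNDefs
import Cfsg.Agent.Helper8.S2546Defs
import Cfsg.Agent.Helper17.S2546SMEM
import Cfsg.Agent.Helper17.S2546HAGen

set_option autoImplicit false
open scoped Matrix

/-! # S2546 piece HAO: `B = (B ∩ s⁻¹ B s) X` for the last node, `n` odd. -/

namespace Cfsg.Agent.S2546P

open Cfsg.Agent.MatBN

variable {K : Type*} [Field K]

namespace HA17

theorem mul_xO_apply {n : ℕ} (hn3 : 3 ≤ n) (σ : K →+* K) (C : Matrix (Fin n) (Fin n) K) (α β : K)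
    (i k : Fin n) :
    (C * xO σ n α β) i k =
      C i k + α * (if k.val = n / 2 then C i ⟨n / 2 - 1, by omega⟩ else 0) +
        β * (if k.val = n / 2 + 1 then C i ⟨n / 2 - 1, by omega⟩ else 0) -
        σ α * (if k.val = n / 2 + 1 then C i ⟨n / 2, by omega⟩ else 0) := by
  unfold xO
  rw [Matrix.mul_sub, Matrix.mul_add, Matrix.mul_add, Matrix.mul_one, Matrix.mul_smul,
    Matrix.mul_smul, Matrix.mul_smul, Matrix.sub_apply, Matrix.add_apply, Matrix.add_apply,
    Matrix.smul_apply, Matrix.smul_apply, Matrix.smul_apply,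
    mul_E_apply C _ _ (by omega : n / 2 - 1 < n), mul_E_apply C _ _ (by omega : n / 2 - 1 < n),
    mul_E_apply C _ _ (by omega : n / 2 < n), smul_eq_mul, smul_eq_mul, smul_eq_mul]

end HA17

open HA17 TAU17 SMEM17

/-- HAO -/
theorem ha_O (σ : K →+* K) (hσ : ∀ x, σ (σ x) = x) (n : ℕ) (hn : n % 2 = 1) (hn3 : 3 ≤ n)
    (s : SUJ σ n) (hs : rho σ n s = sO n) (b : SUJ σ n) (hb : IsTri (rho σ n b)) :
    ∃ x ∈ Xset σ n (n / 2 - 1), IsTri (rho σ n (s * (b * x⁻¹) * s⁻¹)) := by
  have hn2 : 2 ≤ n := by omega
  have h0 : n / 2 - 1 < n := by omega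
  have h1 : n / 2 < n := by omega
  have h2 : n / 2 + 1 < n := by omega
  set a0 : Fin n := ⟨n / 2 - 1, h0⟩ with ha0
  set a1 : Fin n := ⟨n / 2, h1⟩ with ha1
  set a2 : Fin n := ⟨n / 2 + 1, h2⟩ with ha2
  have hrev0 : a0.rev = a2 := by
    apply Fin.ext
    rw [Fin.val_rev]
    show n - (n / 2 - 1 + 1) = n / 2 + 1
    omega
  have hrev2 : a2.rev = a0 := by rw [← hrev0, Fin.rev_rev]
  have hrev1 : a1.rev = a1 := by
    apply Fin.ext
    rw [Fin.val_rev]
    show n - (n / 2 + 1) = n / 2
    omega
  have h01 : a0 ≠ a1 := by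
    intro h
    have := congrArg Fin.val h
    simp only [ha0, ha1] at this
    omega
  have h02 : a0 ≠ a2 := by
    intro h
    have := congrArg Fin.val h
    simp only [ha0, ha2] at this
    omega
  have h12 : a1 ≠ a2 := by
    intro h
    have := congrArg Fin.val h
    simp only [ha1, ha2] at this
    omega
  have hP := presJ_of_mem σ n b
  set p := rho σ n b a0 a0 with hp
  set q := rho σ n b a0 a1 with hq
  set r := rho σ n b a0 a2 with hr
  set u := rho σ n b a1 a1 with hu
  set v := rho σ n b a1 a2 with hv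
  set w := rho σ n b a2 a2 with hw
  -- R1
  have R1 : p * σ w = 1 := by
    have := hP a0 a2
    rw [presJ_tri_sum σ _ hb a0 a2 {a0} (by
      intro i hi1 hi2
      rw [hrev2] at hi1
      rw [Finset.mem_singleton]
      exact le_antisymm hi2 hi1), Finset.sum_singleton, hrev0, if_pos rfl] at this
    exact this
  -- R2
  have R2 : u * σ u = 1 := by
    have := hP a1 a1
    rw [presJ_tri_sum σ _ hb a1 a1 {a1} (by
      intro i hi1 hi2
      rw [hrev1] at hi1
      rw [Finset.mem_singleton]
      exact le_antisymm hi2 hi1), Finset.sum_singleton, hrev1, if_pos rfl] at this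
    exact this
  -- R3
  have R3 : q * σ w + u * σ v = 0 := by
    have := hP a1 a2
    rw [presJ_tri_sum σ _ hb a1 a2 {a0, a1} (by
      intro i hi1 hi2
      rw [hrev2] at hi1
      rw [Finset.mem_insert, Finset.mem_singleton]
      have e1 := Fin.le_def.mp hi1
      have e2 := Fin.le_def.mp hi2
      simp only [ha0, ha1] at e1 e2
      rcases Nat.lt_or_ge i.val (n / 2) with h | h
      · left
        apply Fin.ext
        show i.val = n / 2 - 1
        omega
      · right
        apply Fin.ext
        show i.val = n / 2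
        omega), Finset.sum_pair h01, hrev0, hrev1, if_neg h12.symm] at this
    exact this
  -- R4
  have R4 : r * σ w + v * σ v + w * σ r = 0 := by
    have := hP a2 a2
    rw [presJ_tri_sum σ _ hb a2 a2 {a0, a1, a2} (by
      intro i hi1 hi2
      rw [hrev2] at hi1
      rw [Finset.mem_insert, Finset.mem_insert, Finset.mem_singleton]
      have e1 := Fin.le_def.mp hi1
      have e2 := Fin.le_def.mp hi2
      simp only [ha0, ha2] at e1 e2
      rcases Nat.lt_trichotomy i.val (n / 2) with h | h | h
      · left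
        apply Fin.ext
        show i.val = n / 2 - 1
        omega
      · right; left
        apply Fin.ext
        show i.val = n / 2
        omega
      · right; right
        apply Fin.ext
        show i.val = n / 2 + 1
        omega), Finset.sum_insert (by
          rw [Finset.mem_insert, Finset.mem_singleton]
          rintro (h | h)
          · exact h01 h
          · exact h02 h), Finset.sum_pair h12, hrev0, hrev1, hrev2, if_neg h02.symm] at this
    rw [← this]
    ring
  -- conjugate relations
  have R1' : σ p * w = 1 := by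
    have := congrArg σ R1
    rwa [map_mul, hσ, map_one] at this
  have R3' : σ q * w + σ u * v = 0 := by
    have := congrArg σ R3
    rwa [map_add, map_mul, map_mul, hσ, hσ, map_zero] at this
  have hp0 : p ≠ 0 := left_ne_zero_of_mul_eq_one R1
  have hσp0 : σ p ≠ 0 := left_ne_zero_of_mul_eq_one R1'
  have hw0 : w ≠ 0 := right_ne_zero_of_mul_eq_one R1'
  have hσw0 : σ w ≠ 0 := right_ne_zero_of_mul_eq_one R1
  -- key identities
  have K1 : v * σ p + σ q * u = 0 := by
    have : (v * σ p + σ q * u) * w = 0 := by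
      linear_combination v * R1' + u * R3' - v * R2
    rcases mul_eq_zero.mp this with h | h
    · exact h
    · exact absurd h hw0
  have K2 : r * σ p + σ r * p + q * σ q = 0 := by
    have : (r * σ p + σ r * p + q * σ q) * (w * σ w) = 0 := by
      linear_combination (r * σ w) * R1' + (σ r * w) * R1 + (σ q * w) * R3 - (u * σ v) * R3' +
        (v * σ v) * R2 + R4
    rcases mul_eq_zero.mp this with h | h
    · exact h
    · exact absurd h (mul_ne_zero hw0 hσw0)
  set α : K := q / p with hα
  set β : K := r / p with hβ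
  have hαβ : β + σ β + α * σ α = 0 := by
    rw [hα, hβ, map_div₀, map_div₀]
    field_simp
    linear_combination K2
  obtain ⟨hPx, hdx⟩ := presJ_xO σ hσ n hn hn3 α β hαβ
  obtain ⟨x, hx⟩ := exists_of_presJ σ n (xO σ n α β) hdx hPx
  have hXmem : x ∈ Xset σ n (n / 2 - 1) := by
    show rho σ n x ∈ XMat σ n (n / 2 - 1)
    unfold XMat
    have e1 : ¬ (n / 2 - 1 + 1 < n / 2) := by omega
    have e2 : ¬ (n % 2 = 0) := by omega
    rw [if_neg e1, if_neg e2]
    exact ⟨α, β, hαβ, hx⟩
  refine ⟨x, hXmem, ?_⟩
  have hxTri : IsTri (rho σ n x) := by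
    rw [hx]
    have : xO σ n α β = 1 + (α • E n (n / 2 - 1) (n / 2) + β • E n (n / 2 - 1) (n / 2 + 1) -
        σ α • E n (n / 2) (n / 2 + 1)) := by
      unfold xO; abel
    rw [this]
    exact (JC.isUni_one_add _ (by
      intro a c hca
      rw [Matrix.sub_apply, Matrix.add_apply, Matrix.smul_apply, Matrix.smul_apply,
        Matrix.smul_apply, JC.E_apply_of_le _ _ (by omega) _ _ hca,
        JC.E_apply_of_le _ _ (by omega) _ _ hca, JC.E_apply_of_le _ _ (by omega) _ _ hca, smul_zero,
        smul_zero, smul_zero, add_zero, sub_zero])).1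
  obtain ⟨hCtri, hCX⟩ := tri_factor σ n b x hb hxTri
  have hsMon : Mon (rho σ n s) (tau n (n / 2 - 1)) := by
    rw [hs]
    exact (presJ_sO σ n hn hn3).2.2
  -- entries of `C * X = B`
  set C := rho σ n (b * x⁻¹) with hC
  have ent : ∀ i k : Fin n, rho σ n b i k =
      C i k + α * (if k.val = n / 2 then C i a0 else 0) +
        β * (if k.val = n / 2 + 1 then C i a0 else 0) -
        σ α * (if k.val = n / 2 + 1 then C i a1 else 0) := by
    intro i k
    rw [← hCX, hx, mul_xO_apply hn3]
  have v0 : (a0 : Fin n).val = n / 2 - 1 := rfl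
  have v1 : (a1 : Fin n).val = n / 2 := rfl
  have v2 : (a2 : Fin n).val = n / 2 + 1 := rfl
  have n01 : ¬ (n / 2 - 1 = n / 2) := by omega
  have n02 : ¬ (n / 2 - 1 = n / 2 + 1) := by omega
  have n12 : ¬ (n / 2 = n / 2 + 1) := by omega
  have n21 : ¬ (n / 2 + 1 = n / 2) := by omega
  have c10 : C a1 a0 = 0 := hCtri a1 a0 (by rw [Fin.lt_def]; show n / 2 - 1 < n / 2; omega)
  have e00 := ent a0 a0
  simp only [v0, n01, n02, if_false, mul_zero, add_zero, sub_zero] at e00
  have e01 := ent a0 a1
  simp only [v1, n12, if_true, if_false, mul_zero, add_zero, sub_zero] at e01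
  have e11 := ent a1 a1
  simp only [v1, n12, if_true, if_false, mul_zero, add_zero, sub_zero, c10] at e11
  have e02 := ent a0 a2
  simp only [v2, n21, if_true, if_false, mul_zero, add_zero] at e02
  have e12 := ent a1 a2
  simp only [v2, n21, if_true, if_false, mul_zero, add_zero, c10] at e12
  -- the three entries vanish
  have z01 : C a0 a1 = 0 := by
    have : α * p = q := by rw [hα]; field_simp
    rw [← e00, this] at e01
    exact (add_eq_right.mp e01.symm)
  have z02 : C a0 a2 = 0 := by
    have : β * p = r := by rw [hβ]; field_simp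
    rw [z01, mul_zero, sub_zero, ← e00, this] at e02
    exact (add_eq_right.mp e02.symm)
  have z12 : C a1 a2 = 0 := by
    have hσα : σ α = σ q / σ p := by rw [hα, map_div₀]
    have : σ α * u = -v := by
      rw [hσα]
      field_simp
      linear_combination K1
    rw [← e11, this] at e12
    linear_combination -e12
  apply isTri_conj σ n s (b * x⁻¹) _ hsMon hCtri
  intro a c hac hinv
  have hav := a.2
  have hcv := c.2
  rw [Fin.lt_def] at hac hinv
  rw [tau_last_val n hn2, tau_last_val n hn2] at hinv
  have hcases : (a.val = n / 2 - 1 ∧ c.val = n / 2) ∨ (a.val = n / 2 - 1 ∧ c.val = n / 2 + 1) ∨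
      (a.val = n / 2 ∧ c.val = n / 2 + 1) := by
    split_ifs at hinv <;> omega
  rcases hcases with ⟨e1, e2⟩ | ⟨e1, e2⟩ | ⟨e1, e2⟩
  · have : a = a0 := Fin.ext e1
    have : c = a1 := Fin.ext e2
    subst_vars
    exact z01
  · have : a = a0 := Fin.ext e1
    have : c = a2 := Fin.ext e2
    subst_vars
    exact z02
  · have : a = a1 := Fin.ext e1
    have : c = a2 := Fin.ext e2
    subst_vars
    exact z12

end Cfsg.Agent.S2546P
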