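import Mathlib
import Cfsg.Prelude.Def_Classical
import Cfsg.Agent.Helper8.MatBNDefs
import Cfsg.Agent.Helper8.S2546Defs
import Cfsg.Agent.Helper17.S2546PRES

set_option autoImplicit false
open scoped Matrix

/-! # S2546 piece MONREV: the permutation of a monomial isometry commutes with `rev`. -/

namespace Cfsg.Agent.S2546P

open Cfsg.Agent.MatBN

variable {K : Type*} [Field K]

/-- MONREV -/
theorem mon_rev (σ : K →+* K) (hσ : ∀ x, σ (σ x) = x) (n : ℕ) (g : SUJ σ n)
    (π : Equiv.Perm (Fin n)) (hg : Mon (rho σ n g) π) (i : Fin n) : π i.rev = (π i).rev := by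
  have hP := presJ_of_mem σ n g i i.rev
  rw [if_pos rfl, Finset.sum_eq_single (π i)] at hP
  · have h1 : σ (rho σ n g (π i).rev i.rev) ≠ 0 := by
      intro h0
      rw [h0, mul_zero] at hP
      exact zero_ne_one hP
    have h2 : rho σ n g (π i).rev i.rev ≠ 0 := by
      intro h0
      apply h1
      rw [h0, map_zero]
    exact ((hg _ _).mp h2).symm
  · intro b _ hb
    have : rho σ n g b i = 0 := by
      by_contra hne
      exact hb ((hg _ _).mp hne)
    rw [this, zero_mul]
  · intro h
    exact absurd (Finset.mem_univ _) h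

end Cfsg.Agent.S2546P
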