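import Mathlib
import Cfsg.Prelude.Def_Transfer
import Cfsg.Agent.Helper4.S4404Defs

/-!
# Board `s4404pieces`, rows AUTW and AUTW5

`B ≤ N(U)` acts on `U` by conjugation; this gives a homomorphism `↥B →* Equiv.Perm ↥U` with kernel `C_B(U)`, so
`|B| = |C_B(U)| * m` with `m ∣ |U|!`.  For an `r`-group `B` the number `m` is a power of `r`, and
`r ^ k ∣ 4! = 24` (`r` odd) or `7 ^ k ∣ 8! = 40320` force `k ≤ 1`; `r ^ k ∣ 24` with `r ≥ 5` forces `k = 0`.
-/

set_option autoImplicit false
set_option linter.unusedVariables false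

namespace Cfsg.Agent.S4404P

open Subgroup

variable {S : Type*} [Group S] [Finite S]

omit [Finite S] in
/-- the conjugation action of `B ≤ N(U)` on `U`, as a homomorphism `↥B →* Equiv.Perm ↥U`. -/
def AUTW_aux_hom (B U : Subgroup S) (hN : B ≤ normalizer (U : Set S)) : ↥B →* Equiv.Perm ↥U where
  toFun b :=
    { toFun := fun u => ⟨(b : S) * u * (b : S)⁻¹, ((mem_normalizer_iff.mp (hN b.2)) u).mp u.2⟩
      invFun := fun u => ⟨(b : S)⁻¹ * u * (b : S), by
        have h := ((mem_normalizer_iff.mp (inv_mem (hN b.2))) u).mp u.2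
        simpa using h⟩
      left_inv := fun u => by
        apply Subtype.ext
        simp [mul_assoc]
      right_inv := fun u => by
        apply Subtype.ext
        simp [mul_assoc] }
  map_one' := by
    ext u
    simp
  map_mul' := fun a b => by
    ext u
    simp [mul_assoc]

omit [Finite S] in
theorem AUTW_aux_hom_apply (B U : Subgroup S) (hN : B ≤ normalizer (U : Set S)) (b : ↥B) (u : ↥U) :
    ((AUTW_aux_hom B U hN b u : ↥U) : S) = (b : S) * u * (b : S)⁻¹ := rfl

omit [Finite S] in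
theorem AUTW_aux_ker (B U : Subgroup S) (hN : B ≤ normalizer (U : Set S)) :
    (AUTW_aux_hom B U hN).ker = (B ⊓ centralizer (U : Set S)).subgroupOf B := by
  ext b
  rw [MonoidHom.mem_ker, mem_subgroupOf, mem_inf, mem_centralizer_iff]
  constructor
  · intro h
    refine ⟨b.2, fun u hu => ?_⟩
    have h1 : AUTW_aux_hom B U hN b ⟨u, hu⟩ = ⟨u, hu⟩ := by rw [h]; rfl
    have h2 := congrArg Subtype.val h1
    rw [AUTW_aux_hom_apply] at h2
    simp only at h2
    calc u * (b : S) = ((b : S) * u * (b : S)⁻¹) * (b : S) := by rw [h2]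
      _ = (b : S) * u := by group
  · rintro ⟨_, h⟩
    ext u
    rw [AUTW_aux_hom_apply]
    have h3 := h (u : S) u.2
    simp only [Equiv.Perm.coe_one, id_eq]
    calc (b : S) * u * (b : S)⁻¹ = (u * (b : S)) * (b : S)⁻¹ := by rw [h3]
      _ = u := by group

/-- `|B| = |C_B(U)| * m` with `m ∣ |U|!`. -/
theorem AUTW_aux_main (B U : Subgroup S) (hN : B ≤ normalizer (U : Set S)) :
    ∃ m : ℕ, Nat.card ↥B = Nat.card ↥(B ⊓ centralizer (U : Set S)) * m ∧ m ∣ (Nat.card ↥U).factorial ∧
      m ∣ Nat.card ↥B := by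
  refine ⟨Nat.card (AUTW_aux_hom B U hN).range, ?_, ?_, Subgroup.card_range_dvd _⟩
  · have h1 := Subgroup.card_mul_index (AUTW_aux_hom B U hN).ker
    rw [Subgroup.index_ker, AUTW_aux_ker] at h1
    rw [← h1]
    congr 1
    exact Nat.card_congr (Subgroup.subgroupOfEquivOfLe
      (inf_le_left : B ⊓ centralizer (U : Set S) ≤ B)).toEquiv
  · have h2 := Subgroup.card_subgroup_dvd_card (AUTW_aux_hom B U hN).range
    rwa [Nat.card_perm] at h2

/-- AUTW : an `r`-group (`r` odd) normalising an elementary abelian `2`-group `U` of order `4`, or of order `8` with `r = 7`,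
induces a group of order at most `r` on it. -/
theorem card_le_mul_card_cent (r : ℕ) [Fact r.Prime] (hr2 : r ≠ 2) (B U : Subgroup S) (hB : IsPGroup r ↥B)
    (hU : Cfsg.IsElementaryAbelian 2 U) (hN : B ≤ normalizer (U : Set S))
    (hcase : Nat.card ↥U = 4 ∨ (Nat.card ↥U = 8 ∧ r = 7)) :
    Nat.card ↥B ≤ r * Nat.card ↥(B ⊓ centralizer (U : Set S)) := by
  have hr : r.Prime := Fact.out
  obtain ⟨m, hm1, hm2, hm3⟩ := AUTW_aux_main B U hN
  obtain ⟨n, hn⟩ := IsPGroup.iff_card.mp hB
  rw [hn] at hm3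
  obtain ⟨k, hk, rfl⟩ := (Nat.dvd_prime_pow hr).mp hm3
  have hk1 : k ≤ 1 := by
    by_contra hk2
    have hk2 : 2 ≤ k := by omega
    have h2 : r ^ 2 ∣ (Nat.card ↥U).factorial := (pow_dvd_pow r hk2).trans hm2
    rcases hcase with h4 | ⟨h8, h7⟩
    · rw [h4] at h2
      have h24 : (4 : ℕ).factorial = 24 := by decide
      rw [h24] at h2
      have hr24 : r ∣ 24 := (dvd_pow_self r (by norm_num)).trans h2
      have hle : r ≤ 24 := Nat.le_of_dvd (by norm_num) hr24
      have hr2' := hr.two_le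
      interval_cases r <;> omega
    · rw [h8, h7] at h2
      have h40320 : (8 : ℕ).factorial = 40320 := by decide
      rw [h40320] at h2
      omega
  rw [hm1, mul_comm]
  apply Nat.mul_le_mul_right
  calc r ^ k ≤ r ^ 1 := Nat.pow_le_pow_right hr.pos hk1
    _ = r := pow_one r

/-- AUTW5 : an `r`-group with `r ≥ 5` normalising a group of order `4` centralises it. -/
theorem le_centralizer_of_card_four (r : ℕ) [Fact r.Prime] (hr5 : 5 ≤ r) (B U : Subgroup S) (hB : IsPGroup r ↥B)
    (hU4 : Nat.card ↥U = 4) (hN : B ≤ normalizer (U : Set S)) : B ≤ centralizer (U : Set S) := by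
  have hr : r.Prime := Fact.out
  obtain ⟨m, hm1, hm2, hm3⟩ := AUTW_aux_main B U hN
  obtain ⟨n, hn⟩ := IsPGroup.iff_card.mp hB
  rw [hn] at hm3
  obtain ⟨k, hk, rfl⟩ := (Nat.dvd_prime_pow hr).mp hm3
  have hk0 : k = 0 := by
    by_contra hk1
    have h2 : r ∣ (Nat.card ↥U).factorial := (dvd_pow_self r hk1).trans hm2
    rw [hU4] at h2
    have h24 : (4 : ℕ).factorial = 24 := by decide
    rw [h24] at h2
    have hle : r ≤ 24 := Nat.le_of_dvd (by norm_num) h2
    interval_cases r <;> first | omega | (norm_num at hr)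
  subst hk0
  rw [pow_zero, mul_one] at hm1
  have hle : B ⊓ centralizer (U : Set S) ≤ B := inf_le_left
  have heq : B ⊓ centralizer (U : Set S) = B :=
    Subgroup.eq_of_le_of_card_ge hle (le_of_eq hm1)
  exact inf_eq_left.mp heq

end Cfsg.Agent.S4404P
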