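import Mathlib
import Cfsg.Agent.Helper11.S4409Defs

/-! Board `s4409pieces`, row E2 (core): a special `2`-group with `|Z| = 4` has a non-cyclic abelian subgroup of order `8`.
The fact `x² ∈ Φ(P)` (row F4) is a hypothesis here. -/

set_option autoImplicit false

namespace Cfsg.Agent.S4409P

open Subgroup
open scoped commutatorElement

variable {S : Type*} [Group S]

theorem E2_aux_form {Z : Subgroup S} {x a : S} (ha : a * x⁻¹ ∈ Z) : ∃ z ∈ Z, a = z * x :=
  ⟨a * x⁻¹, ha, by group⟩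

/-- `Z ∪ Zx` as a subgroup, for `Z` centralised by `x` and `x² ∈ Z` -/
def E2_aux_ext (Z : Subgroup S) (x : S) (hxZ : ∀ z ∈ Z, x * z = z * x) (hx2 : x * x ∈ Z) : Subgroup S where
  carrier := {a | a ∈ Z ∨ a * x⁻¹ ∈ Z}
  one_mem' := Or.inl Z.one_mem
  mul_mem' := by
    rintro a b (ha | ha) (hb | hb)
    · exact Or.inl (Z.mul_mem ha hb)
    · right
      have : a * b * x⁻¹ = a * (b * x⁻¹) := by group
      rw [this]; exact Z.mul_mem ha hb
    · right
      obtain ⟨za, hza, rfl⟩ := E2_aux_form ha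
      have : za * x * b * x⁻¹ = za * b := by
        calc za * x * b * x⁻¹ = za * (x * b) * x⁻¹ := by group
          _ = za * (b * x) * x⁻¹ := by rw [hxZ b hb]
          _ = za * b := by group
      rw [this]; exact Z.mul_mem hza hb
    · left
      obtain ⟨za, hza, rfl⟩ := E2_aux_form ha
      obtain ⟨zb, hzb, rfl⟩ := E2_aux_form hb
      have : za * x * (zb * x) = za * zb * (x * x) := by
        calc za * x * (zb * x) = za * (x * zb) * x := by group
          _ = za * (zb * x) * x := by rw [hxZ zb hzb]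
          _ = za * zb * (x * x) := by group
      rw [this]; exact Z.mul_mem (Z.mul_mem hza hzb) hx2
  inv_mem' := by
    rintro a (ha | ha)
    · exact Or.inl (Z.inv_mem ha)
    · right
      obtain ⟨za, hza, rfl⟩ := E2_aux_form ha
      have : (za * x)⁻¹ * x⁻¹ = za⁻¹ * (x * x)⁻¹ := by
        calc (za * x)⁻¹ * x⁻¹ = x⁻¹ * (za⁻¹ * x) * x⁻¹ * x⁻¹ := by group
          _ = x⁻¹ * (x * za⁻¹) * x⁻¹ * x⁻¹ := by rw [hxZ za⁻¹ (Z.inv_mem hza)]
          _ = za⁻¹ * (x * x)⁻¹ := by group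
      rw [this]; exact Z.mul_mem (Z.inv_mem hza) (Z.inv_mem hx2)

theorem E2_aux_mem_ext {Z : Subgroup S} {x : S} {hxZ : ∀ z ∈ Z, x * z = z * x} {hx2 : x * x ∈ Z} {a : S} :
    a ∈ E2_aux_ext Z x hxZ hx2 ↔ a ∈ Z ∨ a * x⁻¹ ∈ Z := Iff.rfl

/-- `Z` has index `2` in `Z ∪ Zx` if `x ∉ Z` -/
theorem E2_aux_index (Z : Subgroup S) (x : S) (hxZ : ∀ z ∈ Z, x * z = z * x) (hx2 : x * x ∈ Z) (hx : x ∉ Z) :
    (Z.subgroupOf (E2_aux_ext Z x hxZ hx2)).index = 2 := by
  rw [Subgroup.index_eq_two_iff]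
  have hxA : x ∈ E2_aux_ext Z x hxZ hx2 := Or.inr (by rw [mul_inv_cancel]; exact Z.one_mem)
  refine ⟨⟨x, hxA⟩, ?_⟩
  rintro ⟨b, hb⟩
  simp only [Subgroup.mem_subgroupOf, Subgroup.coe_mul]
  rcases hb with hb | hb
  · right
    refine ⟨hb, ?_⟩
    intro h
    apply hx
    have : x = b⁻¹ * (b * x) := by group
    rw [this]; exact Z.mul_mem (Z.inv_mem hb) h
  · left
    obtain ⟨zb, hzb, rfl⟩ := E2_aux_form hb
    constructor
    · have : zb * x * x = zb * (x * x) := by group
      rw [this]; exact Z.mul_mem hzb hx2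
    · intro h
      apply hx
      have : x = zb⁻¹ * (zb * x) := by group
      rw [this]; exact Z.mul_mem (Z.inv_mem hzb) h

/-- the order of `Z ∪ Zx` -/
theorem E2_aux_card (Z : Subgroup S) (x : S) (hxZ : ∀ z ∈ Z, x * z = z * x) (hx2 : x * x ∈ Z) (hx : x ∉ Z) :
    Nat.card ↥(E2_aux_ext Z x hxZ hx2) = Nat.card ↥Z * 2 := by
  have hle : Z ≤ E2_aux_ext Z x hxZ hx2 := fun z hz => Or.inl hz
  have h1 := Subgroup.card_mul_index (Z.subgroupOf (E2_aux_ext Z x hxZ hx2))
  rw [E2_aux_index Z x hxZ hx2 hx] at h1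
  have h2 : Nat.card ↥(Z.subgroupOf (E2_aux_ext Z x hxZ hx2)) = Nat.card ↥Z :=
    Nat.card_congr (Subgroup.subgroupOfEquivOfLe hle).toEquiv
  rw [h2] at h1
  exact h1.symm

/-- a group of order `4` and exponent `2` is not cyclic -/
theorem E2_aux_not_cyclic (Z : Subgroup S) (h4 : Nat.card ↥Z = 4) (hexp : ∀ z ∈ Z, z * z = 1) : ¬ IsCyclic ↥Z := by
  intro hc
  obtain ⟨g, hg⟩ := hc.exists_generator
  have h1 : orderOf g = Nat.card ↥Z := orderOf_eq_card_of_forall_mem_zpowers hg
  have h2 : g ^ 2 = 1 := by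
    apply Subtype.ext
    rw [pow_two]
    exact hexp g g.2
  have h3 : orderOf g ∣ 2 := orderOf_dvd_of_pow_eq_one h2
  rw [h1, h4] at h3
  omega

/-- E2 with the fact `x² ∈ Φ(P)` as a hypothesis -/
theorem E2_aux_core (P : Subgroup S) (hsq : ∀ x ∈ P, x * x ∈ Fr P) (hs : SpecialInt P) (hz : Nat.card ↥(Zc P) = 4) :
    HasA P := by
  obtain ⟨hFr, hDer⟩ := hs
  have hcen : ∀ z ∈ Zc P, ∀ y ∈ P, y * z = z * y := fun z hz => (mem_Zc.mp hz).2
  have hsqZ : ∀ x ∈ P, x * x ∈ Zc P := fun x hx => hFr ▸ hsq x hx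
  -- commutators have order ≤ 2
  have hcomm : ∀ x ∈ P, ∀ y ∈ P, ⁅x, y⁆ * ⁅x, y⁆ = 1 := by
    intro x hx y hy
    have hc : ⁅x, y⁆ ∈ Zc P := by
      rw [← hDer]; exact Subgroup.commutator_mem_commutator hx hy
    have h1 : ⁅x * x, y⁆ = x * ⁅x, y⁆ * x⁻¹ * ⁅x, y⁆ := by
      simp only [commutatorElement_def]; group
    have h2 : x * ⁅x, y⁆ = ⁅x, y⁆ * x := hcen _ hc x hx
    have h3 : ⁅x * x, y⁆ = 1 := by
      have := hcen _ (hsqZ x hx) y hy
      rw [commutatorElement_def, ← this]; group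
    rw [h3, h2] at h1
    rw [h1]; group
  -- `Z` has exponent 2
  have hexp : ∀ z ∈ Zc P, z * z = 1 := by
    intro z hz
    rw [← hDer] at hz
    unfold Der at hz
    rw [Subgroup.commutator_def] at hz
    induction hz using Subgroup.closure_induction with
    | mem c hc =>
      obtain ⟨x, hx, y, hy, rfl⟩ := hc
      exact hcomm x hx y hy
    | one => simp
    | mul a b ha hb iha ihb =>
      have haZ : a ∈ Zc P := by rw [← hDer]; unfold Der; rw [Subgroup.commutator_def]; exact ha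
      have hbZ : b ∈ Zc P := by rw [← hDer]; unfold Der; rw [Subgroup.commutator_def]; exact hb
      have hab : b * a = a * b := hcen a haZ b (Zc_le P hbZ)
      calc a * b * (a * b) = a * (b * a) * b := by group
        _ = a * (a * b) * b := by rw [hab]
        _ = (a * a) * (b * b) := by group
        _ = 1 := by rw [iha, ihb, one_mul]
    | inv a ha iha =>
      calc a⁻¹ * a⁻¹ = (a * a)⁻¹ := by group
        _ = 1 := by rw [iha, inv_one]
  -- an element outside the centre
  have hex : ∃ x ∈ P, x ∉ Zc P := by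
    by_contra hcon
    push Not at hcon
    have hab : P ≤ centralizer (P : Set S) := by
      intro x hx
      rw [Subgroup.mem_centralizer_iff]
      intro y hy
      exact hcen x (hcon x hx) y hy
    have hbot : Der P = ⊥ := by
      unfold Der
      exact Subgroup.commutator_eq_bot_iff_le_centralizer.mpr hab
    rw [hDer] at hbot
    rw [hbot, Subgroup.card_bot] at hz
    omega
  obtain ⟨x, hxP, hxZ⟩ := hex
  have hxc : ∀ z ∈ Zc P, x * z = z * x := fun z hz => hcen z hz x hxP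
  have hx2 : x * x ∈ Zc P := hsqZ x hxP
  refine ⟨E2_aux_ext (Zc P) x hxc hx2, ?_, ?_, ?_, ?_⟩
  · -- `A ≤ P`
    rintro a (ha | ha)
    · exact Zc_le P ha
    · obtain ⟨za, hza, rfl⟩ := E2_aux_form ha
      exact P.mul_mem (Zc_le P hza) hxP
  · -- abelian
    refine ⟨⟨?_⟩⟩
    rintro ⟨a, ha⟩ ⟨b, hb⟩
    apply Subtype.ext
    simp only [Subgroup.coe_mul]
    have hAP : ∀ a ∈ E2_aux_ext (Zc P) x hxc hx2, a ∈ P := by
      rintro a (ha | ha)
      · exact Zc_le P ha
      · obtain ⟨za, hza, rfl⟩ := E2_aux_form ha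
        exact P.mul_mem (Zc_le P hza) hxP
    rcases ha with ha' | ha'
    · exact (hcen a ha' b (hAP b hb)).symm
    · rcases hb with hb' | hb'
      · exact hcen b hb' a (hAP a (Or.inr ha'))
      · obtain ⟨za, hza, rfl⟩ := E2_aux_form ha'
        obtain ⟨zb, hzb, rfl⟩ := E2_aux_form hb'
        have h1 : x * zb = zb * x := hxc zb hzb
        have h2 : x * za = za * x := hxc za hza
        have h3 : zb * za = za * zb := hcen za hza zb (Zc_le P hzb)
        calc za * x * (zb * x) = za * (x * zb) * x := by group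
          _ = za * (zb * x) * x := by rw [h1]
          _ = (za * zb) * x * x := by group
          _ = (zb * za) * x * x := by rw [h3]
          _ = zb * (za * x) * x := by group
          _ = zb * (x * za) * x := by rw [h2]
          _ = zb * x * (za * x) := by group
  · -- not cyclic
    intro hc
    have hle : Zc P ≤ E2_aux_ext (Zc P) x hxc hx2 := fun z hz => Or.inl hz
    have h1 : IsCyclic ↥((Zc P).subgroupOf (E2_aux_ext (Zc P) x hxc hx2)) := inferInstance
    have h2 : IsCyclic ↥(Zc P) :=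
      isCyclic_of_surjective (Subgroup.subgroupOfEquivOfLe hle) (Subgroup.subgroupOfEquivOfLe hle).surjective
    exact E2_aux_not_cyclic (Zc P) hz hexp h2
  · rw [E2_aux_card (Zc P) x hxc hx2 hxZ, hz]

end Cfsg.Agent.S4409P
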