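import Mathlib
import Cfsg.Agent.Helper17.S4409E2core
import Cfsg.Agent.Helper9.S4409F

/-! Board `s4409pieces`, row E2. -/

set_option autoImplicit false

namespace Cfsg.Agent.S4409P

open Subgroup
open scoped commutatorElement

variable {S : Type*} [Group S] [Finite S]

/-- E2 -/
theorem sp_hasA (P : Subgroup S) (hP : IsPGroup 2 ↥P) (hs : SpecialInt P) (hz : Nat.card ↥(Zc P) = 4) : HasA P :=
  E2_aux_core P (fun _ hx => sq_mem_fr P hP hx) hs hz

end Cfsg.Agent.S4409P
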