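import Mathlib
import Cfsg.Agent.Helper25.S5165.Defs
import Cfsg.Agent.Helper23.S5165CARDSQ
import Cfsg.Agent.Helper4.S5165LEGENDRE

/-! S5165 piece SYLOWSQ (driver helper25): `SQ r Q` is a Sylow `p`-subgroup of `Perm (X p I r)`. -/

set_option autoImplicit false
set_option linter.unusedSectionVars false
set_option linter.unusedVariables false

namespace Cfsg.Agent.S5165P

open Equiv

section lib

variable {p : ℕ} [Fact p.Prime] {I : Type} [Fintype I] [DecidableEq I] {r : ℕ}

namespace SYLOWSQ

theorem card_X : Fintype.card (X p I r) = p * Fintype.card I + r := by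
  rw [Fintype.card_sum, Fintype.card_prod, ZMod.card, Fintype.card_fin, mul_comm]

theorem card_perm_X : Nat.card (Perm (X p I r)) = (p * Fintype.card I + r).factorial := by
  rw [Nat.card_eq_fintype_card, Fintype.card_perm, card_X]

theorem card_perm_I : Nat.card (Perm I) = (Fintype.card I).factorial := by
  rw [Nat.card_eq_fintype_card, Fintype.card_perm]

end SYLOWSQ

theorem SYLOWSQ.exists_sylow (Q : Sylow p (Perm I)) (hr : r < p) :
    ∃ P : Sylow p (Perm (X p I r)), (P : Subgroup (Perm (X p I r))) = SQ r (Q : Subgroup (Perm I)) := by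
  have hcard : Nat.card (SQ (p := p) r (Q : Subgroup (Perm I))) =
      p ^ (Nat.card (Perm (X p I r))).factorization p := by
    rw [CARDSQ.card_SQ, Sylow.card_eq_multiplicity, SYLOWSQ.card_perm_X, SYLOWSQ.card_perm_I,
      LEGENDRE.factorization_factorial _ _ hr, pow_add]
  exact ⟨Sylow.ofCard _ hcard, Sylow.coe_ofCard _ hcard⟩

end lib

end Cfsg.Agent.S5165P
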