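import Mathlib
import Cfsg.Agent.Helper25.S5165.Defs
import Cfsg.Agent.Helper17.S5165SYLOWSQ

/-! S5165 piece IND (driver helper25): induction principle for the Sylow `p`-subgroups of all symmetric groups. -/

set_option autoImplicit false
set_option linter.unusedSectionVars false
set_option linter.unusedVariables false

namespace Cfsg.Agent.S5165P

open Equiv

namespace IND

/-- the image of a Sylow subgroup under an isomorphism is a Sylow subgroup -/
theorem exists_sylow_map {G H : Type*} [Group G] [Group H] [Finite G] [Finite H] {p : ℕ}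
    [Fact p.Prime] (e : G ≃* H) (P : Sylow p G) :
    ∃ P' : Sylow p H, (P' : Subgroup H) = (P : Subgroup G).map e.toMonoidHom := by
  have hcard : Nat.card ((P : Subgroup G).map e.toMonoidHom) = p ^ (Nat.card H).factorization p := by
    rw [Subgroup.card_map_of_injective (f := e.toMonoidHom) e.injective, Sylow.card_eq_multiplicity,
      Nat.card_congr e.toEquiv]
  exact ⟨Sylow.ofCard _ hcard, Sylow.coe_ofCard _ hcard⟩

/-- the conjugate of a Sylow subgroup -/
theorem coe_smul_sylow {G : Type*} [Group G] {p : ℕ} (g : G) (P : Sylow p G) :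
    ((g • P : Sylow p G) : Subgroup G) = (P : Subgroup G).map (MulAut.conj g).toMonoidHom :=
  rfl

/-- a Sylow `p`-subgroup of a symmetric group of degree `< p` is trivial -/
theorem eq_bot_of_card_lt (p : ℕ) [Fact p.Prime] (Y : Type) [Fintype Y] [DecidableEq Y]
    (h : Fintype.card Y < p) (P : Sylow p (Perm Y)) : (P : Subgroup (Perm Y)) = ⊥ := by
  have hp : p.Prime := Fact.out
  apply Subgroup.eq_bot_of_card_eq
  rw [Sylow.card_eq_multiplicity, Nat.card_eq_fintype_card, Fintype.card_perm,
    Nat.factorization_eq_zero_of_not_dvd, pow_zero]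
  rw [hp.dvd_factorial]
  omega

end IND

theorem IND.sylow_induction (p : ℕ) [Fact p.Prime]
    (C : ∀ (Y : Type) [Fintype Y] [DecidableEq Y], Subgroup (Perm Y) → Prop)
    (hconj : ∀ (Y : Type) [Fintype Y] [DecidableEq Y] (P : Subgroup (Perm Y)) (g : Perm Y),
      C Y P → C Y (P.map (MulAut.conj g).toMonoidHom))
    (hequiv : ∀ (Y Z : Type) [Fintype Y] [DecidableEq Y] [Fintype Z] [DecidableEq Z] (e : Y ≃ Z)
      (P : Subgroup (Perm Y)), C Y P → C Z (P.map (Equiv.permCongrHom e).toMonoidHom))
    (hbase : ∀ (Y : Type) [Fintype Y] [DecidableEq Y], Fintype.card Y < p → C Y ⊥)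
    (hstep : ∀ (m r : ℕ), 1 ≤ m → r < p → ∀ Q : Sylow p (Perm (Fin m)),
      C (Fin m) (Q : Subgroup (Perm (Fin m))) → C (X p (Fin m) r) (SQ r (Q : Subgroup (Perm (Fin m)))))
    (Y : Type) [Fintype Y] [DecidableEq Y] (P : Sylow p (Perm Y)) : C Y (P : Subgroup (Perm Y)) := by
  have hp : p.Prime := Fact.out
  suffices H : ∀ n : ℕ, ∀ (Y : Type) [Fintype Y] [DecidableEq Y], Fintype.card Y = n →
      ∀ P : Sylow p (Perm Y), C Y (P : Subgroup (Perm Y)) from H _ Y rfl P
  intro n
  induction n using Nat.strong_induction_on with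
  | _ n ih =>
    intro Y _ _ hn P
    by_cases hlt : Fintype.card Y < p
    · rw [IND.eq_bot_of_card_lt p Y hlt P]
      exact hbase Y hlt
    · have hle : p ≤ Fintype.card Y := Nat.le_of_not_lt hlt
      have hm : 1 ≤ Fintype.card Y / p := Nat.div_pos hle hp.pos
      have hr : Fintype.card Y % p < p := Nat.mod_lt _ hp.pos
      have hcard : p * (Fintype.card Y / p) + Fintype.card Y % p = Fintype.card Y :=
        Nat.div_add_mod _ _
      generalize Fintype.card Y / p = m at hm hcard
      generalize Fintype.card Y % p = r at hr hcard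
      have hmn : m < n := by
        have h2 := hp.two_le
        have : 2 * m ≤ p * m := Nat.mul_le_mul_right m h2
        omega
      obtain ⟨Q⟩ := (inferInstance : Nonempty (Sylow p (Perm (Fin m))))
      have hQ := ih m hmn (Fin m) (Fintype.card_fin m) Q
      have hS := hstep m r hm hr Q hQ
      obtain ⟨P₀, hP₀⟩ := SYLOWSQ.exists_sylow (I := Fin m) (r := r) Q hr
      have hX : Fintype.card (X p (Fin m) r) = Fintype.card Y := by
        rw [SYLOWSQ.card_X, Fintype.card_fin, hcard]
      have hE := hequiv (X p (Fin m) r) Y (Fintype.equivOfCardEq hX) _ hS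
      obtain ⟨P₁, hP₁⟩ := IND.exists_sylow_map (Equiv.permCongrHom (Fintype.equivOfCardEq hX)) P₀
      obtain ⟨g, hg⟩ := MulAction.exists_smul_eq (Perm Y) P₁ P
      have hfin := hconj Y _ g hE
      rw [← hP₀, ← hP₁, ← IND.coe_smul_sylow, hg] at hfin
      exact hfin

end Cfsg.Agent.S5165P
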