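import Mathlib
import Cfsg.Prelude.Def_GeometricClasses
import Cfsg.Agent.Helper18.S5707.Defs

set_option autoImplicit false

/-! # S5707, piece ENT -/

namespace Cfsg.Agent.S5707P

open Matrix

variable {F : Type*} [Field F] {k t : ℕ}

theorem ENT.loc_apply (i0 : Fin t) (A : Matrix (Fin k) (Fin k) F) (x x' : X k t) :
    loc i0 A x x' = ∏ s, (upd1 i0 A s) (x s) (x' s) := rfl

theorem ENT.far_zero (L : Submodule F (Matrix (Fin k) (Fin k) F)) (M : Matrix (X k t) (X k t) F)
    (hM : M ∈ calV (t := t) L) (x x' : X k t) (i j : Fin t) (hij : i ≠ j) (hi : x i ≠ x' i)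
    (hj : x j ≠ x' j) : M x x' = 0 := by
  unfold calV at hM
  induction hM using Submodule.span_induction with
  | mem M hM =>
    obtain ⟨i0, A, _, rfl⟩ := hM
    rw [ENT.loc_apply]
    have key : ∀ s : Fin t, s ≠ i0 → x s ≠ x' s → ∏ s, (upd1 i0 A s) (x s) (x' s) = 0 := by
      intro s hs hx
      apply Finset.prod_eq_zero (Finset.mem_univ s)
      unfold upd1
      rw [Function.update_of_ne hs, Matrix.one_apply_ne hx]
    by_cases h : i = i0
    · exact key j (by rw [← h]; exact hij.symm) hj
    · exact key i h hi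
  | zero => rfl
  | add a b _ _ ha hb => rw [Matrix.add_apply, ha, hb, add_zero]
  | smul c a _ ha => rw [Matrix.smul_apply, ha, smul_zero]

theorem ENT.near (L : Submodule F (Matrix (Fin k) (Fin k) F)) (M : Matrix (X k t) (X k t) F)
    (hM : M ∈ calV (t := t) L) (i : Fin t) :
    ∃ A ∈ L, ∀ x x' : X k t, (∀ j, j ≠ i → x j = x' j) → x i ≠ x' i → M x x' = A (x i) (x' i) := by
  unfold calV at hM
  induction hM using Submodule.span_induction with
  | mem M hM =>
    obtain ⟨i0, A, hA, rfl⟩ := hM
    by_cases h : i0 = i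
    · subst h
      refine ⟨A, hA, ?_⟩
      intro x x' hx hne
      rw [ENT.loc_apply, Finset.prod_eq_single i0]
      · unfold upd1
        rw [Function.update_self]
      · intro s _ hs
        unfold upd1
        rw [Function.update_of_ne hs, hx s hs, Matrix.one_apply_eq]
      · intro h
        exact absurd (Finset.mem_univ i0) h
    · refine ⟨0, L.zero_mem, ?_⟩
      intro x x' hx hne
      rw [ENT.loc_apply, Matrix.zero_apply]
      apply Finset.prod_eq_zero (Finset.mem_univ i)
      unfold upd1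
      rw [Function.update_of_ne (Ne.symm h), Matrix.one_apply_ne hne]
  | zero =>
    exact ⟨0, L.zero_mem, fun x x' _ _ => rfl⟩
  | add a b _ _ ha hb =>
    obtain ⟨A, hA, hA'⟩ := ha
    obtain ⟨B, hB, hB'⟩ := hb
    refine ⟨A + B, L.add_mem hA hB, ?_⟩
    intro x x' hx hne
    rw [Matrix.add_apply, Matrix.add_apply, hA' x x' hx hne, hB' x x' hx hne]
  | smul c a _ ha =>
    obtain ⟨A, hA, hA'⟩ := ha
    refine ⟨c • A, L.smul_mem c hA, ?_⟩
    intro x x' hx hne
    rw [Matrix.smul_apply, Matrix.smul_apply, hA' x x' hx hne]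

end Cfsg.Agent.S5707P
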