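import Mathlib
import Cfsg.Prelude.Def_Characters
import Cfsg.Agent.Helper12.LSLDefs
import Cfsg.Agent.Helper7.LSLPERFV

set_option autoImplicit false

/-! S2332 piece PERFW: the stabiliser of a row vector in `SL_m` is perfect (from the column version
by the automorphism `A ↦ (A⁻¹)ᵀ`). -/

namespace Cfsg.Agent.Helper12.LSL

open Matrix Cfsg

variable {F : Type*} [Field F] {m : ℕ}

/-- the inverse transpose automorphism of `SL_m` -/
def perfw_tau : MM m F →* MM m F where
  toFun A := (A⁻¹).transpose
  map_one' := by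
    apply Subtype.ext
    simp [Matrix.SpecialLinearGroup.coe_transpose]
  map_mul' A B := by
    apply Subtype.ext
    rw [_root_.mul_inv_rev, Matrix.SpecialLinearGroup.coe_mul,
      Matrix.SpecialLinearGroup.coe_transpose, Matrix.SpecialLinearGroup.coe_transpose,
      Matrix.SpecialLinearGroup.coe_transpose, Matrix.SpecialLinearGroup.coe_mul,
      Matrix.transpose_mul]

theorem perfw_tau_tau (A : MM m F) : perfw_tau (perfw_tau A) = A := by
  apply Subtype.ext
  show (((A⁻¹).transpose)⁻¹).transpose.1 = A.1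
  have h : ((A⁻¹).transpose)⁻¹ = A.transpose := by
    rw [inv_eq_iff_mul_eq_one]
    apply Subtype.ext
    rw [Matrix.SpecialLinearGroup.coe_mul, Matrix.SpecialLinearGroup.coe_transpose,
      Matrix.SpecialLinearGroup.coe_transpose, ← Matrix.transpose_mul,
      ← Matrix.SpecialLinearGroup.coe_mul, mul_inv_cancel, Matrix.SpecialLinearGroup.coe_one,
      Matrix.transpose_one]
  rw [h, Matrix.SpecialLinearGroup.coe_transpose, Matrix.SpecialLinearGroup.coe_transpose,
    Matrix.transpose_transpose]

theorem perfw_tau_injective : Function.Injective (perfw_tau : MM m F → MM m F) :=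
  Function.LeftInverse.injective perfw_tau_tau

theorem perfw_tau_surjective : Function.Surjective (perfw_tau : MM m F → MM m F) :=
  fun A => ⟨perfw_tau A, perfw_tau_tau A⟩

theorem perfw_comap (w : Fin m → F) : (stabV w).comap perfw_tau = stabW w := by
  ext A
  rw [Subgroup.mem_comap]
  show ((A⁻¹).transpose).1 *ᵥ w = w ↔ w ᵥ* A.1 = w
  rw [Matrix.SpecialLinearGroup.coe_transpose, Matrix.mulVec_transpose]
  have h1 : w ᵥ* (A⁻¹).1 = w ↔ A⁻¹ ∈ stabW w := Iff.rfl
  have h2 : w ᵥ* A.1 = w ↔ A ∈ stabW w := Iff.rfl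
  rw [h1, h2, inv_mem_iff]

theorem perfw_map (w : Fin m → F) : (stabW w).map perfw_tau = stabV w := by
  rw [← perfw_comap, Subgroup.map_comap_eq_self_of_surjective perfw_tau_surjective]

/-! ### PERFW -/
theorem commutator_stabW [Fintype F] (hm : 3 ≤ m) (hq : m = 3 → 4 ≤ Fintype.card F)
    (w : Fin m → F) (hw : w ≠ 0) : ⁅stabW w, stabW w⁆ = stabW w := by
  apply Subgroup.map_injective perfw_tau_injective
  rw [Subgroup.map_commutator, perfw_map, commutator_stabV hm hq w hw]

end Cfsg.Agent.Helper12.LSL
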