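import Mathlib
import Cfsg.Prelude.Def_Classical
import Cfsg.Agent.Helper8.MatBNDefs
import Cfsg.Agent.Helper8.S2546Defs

set_option autoImplicit false

/-!
# S2547 (Steinberg character of `PΩ_{2m+1}(q)`, `q` odd), driver helper17: shared definitions

The odd-dimensional orthogonal group is modelled as the case `σ = id` of helper8's unitary model of
S2546: `hJ id n u v = ∑ i, u i * v (rev i)` is the symmetric bilinear form with antidiagonal Gram
matrix, `SOJ K n = SUJ id n` its special isometry group (`= SO_n`, `n` odd, characteristic `≠ 2`),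
and `Ω = commutator (SOJ K n)`.  All `σ`-generic pieces of S2546 (PRES, XLMEM, XOMEM, SMEML, SMEMO,
SUPP, MONREV, DICH, HE, YLOW, DIAG, HAL, HAO, HDL, HDO, N0) apply verbatim with `σ = RingHom.id K`.
-/

namespace Cfsg.Agent.S2547P

open Cfsg.Agent.MatBN Cfsg.Agent.S2546P

variable (K : Type*) [Field K]

/-- `SO(J)`: the special isometry group of the symmetric bilinear form with antidiagonal Gram
matrix (the unitary model of S2546 with `σ = id`) -/
abbrev SOJ (n : ℕ) : Subgroup (Matrix.SpecialLinearGroup (Fin n) K) := SUJ (RingHom.id K) n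

/-- its matrix representation -/
abbrev rhoO (n : ℕ) : SOJ K n →* Matrix (Fin n) (Fin n) K := rho (RingHom.id K) n

/-- the simple root sets -/
abbrev XsetO (n j : ℕ) : Set (SOJ K n) := Xset (RingHom.id K) n j

/-- the generating set: upper triangular elements and the standard lifts of the simple reflections
(for `n` odd `sMat n ζ j` does not depend on `ζ`) -/
def GenSet (n : ℕ) : Set (SOJ K n) :=
  {b | IsTri (rhoO K n b)} ∪ {s | ∃ j, j < n / 2 ∧ rhoO K n s = sMat n 0 j}

/-- the index shift `Fin k → Fin (k + 2)`, `i ↦ i + 1` (the Levi embedding `SO_k → SO_{k+2}`) -/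
def fS (k : ℕ) : Fin k → Fin (k + 2) := fun i => ⟨i.val + 1, by omega⟩

end Cfsg.Agent.S2547P
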