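import Mathlib
import Cfsg.Prelude.Def_GeometricClasses
import Cfsg.Agent.Helper2.S5886.Defs
import Cfsg.Agent.Helper2.S5664.Defs
import Cfsg.Agent.Helper4.S5886SYLGENB
import Cfsg.Agent.Helper4.S5664SIEGEL
import Cfsg.Agent.Helper23.S5664KSPTV
import Cfsg.Agent.Helper4.S5664PARTNER

/-! # S5664 piece FIXL' (helper17): the common fixed space of a Sylow `p`-subgroup of
`StabPt M (K v)` is `K v` (symplectic version of S5886 FIXL). -/

set_option autoImplicit false

namespace Cfsg.Agent.S5664P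

open Cfsg.Agent.S5886P

variable {F K V : Type*} [Field F] [Field K] [Algebra F K]
  [AddCommGroup V] [Module F V] [Module K V] [IsScalarTower F K V]

namespace FIXLP

theorem mem_Kline {v x : V} : x ∈ Kline (F := F) (K := K) v ↔ ∃ c : K, c • v = x := by
  unfold Kline
  rw [Submodule.restrictScalars_mem, Submodule.mem_span_singleton]

theorem skew (B : V →ₗ[K] V →ₗ[K] K) (hB : IsAltND B) (x y : V) : B x y = - B y x := by
  have h := hB.alt (x + y)
  simp only [map_add, LinearMap.add_apply, hB.alt x, hB.alt y] at h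
  linear_combination h

/-- `Tr (k * m) = 0` for all `k` forces `m = 0`. -/
theorem eq_zero_of_trace [Finite F] [Finite K] (m : K)
    (h : ∀ k : K, Algebra.trace F K (k * m) = 0) : m = 0 := by
  have hnd := traceForm_nondegenerate F K
  apply hnd.1 m
  intro k
  rw [Algebra.traceForm_apply, mul_comm]
  exact h k

/-- an element of `SpF` fixing `K v` pointwise maps `V` into `v^⊥` by `g - 1`. -/
theorem B_sub_eq_zero [Finite F] [Finite K] (B : V →ₗ[K] V →ₗ[K] K)
    (M : Subgroup (V ≃ₗ[F] V)) (hM : M ≤ SpF F B) (v : V) (g : V ≃ₗ[F] V)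
    (hg : g ∈ StabPt M (Kline (F := F) (K := K) v)) (x : V) : B (g x - x) v = 0 := by
  apply eq_zero_of_trace (F := F)
  intro k
  have h1 : g (k • v) = k • v := hg.2 _ (mem_Kline.2 ⟨k, rfl⟩)
  have h2 := hM hg.1 x (k • v)
  rw [h1] at h2
  unfold trf at h2
  have h3 : k * B (g x - x) v = B (g x) (k • v) - B x (k • v) := by
    rw [map_sub, LinearMap.sub_apply, map_smul, map_smul, smul_eq_mul, smul_eq_mul, mul_sub]
  rw [h3, map_sub, h2, sub_self]

theorem B_apply_eq [Finite F] [Finite K] (B : V →ₗ[K] V →ₗ[K] K)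
    (M : Subgroup (V ≃ₗ[F] V)) (hM : M ≤ SpF F B) (v : V) (g : V ≃ₗ[F] V)
    (hg : g ∈ StabPt M (Kline (F := F) (K := K) v)) (x : V) : B (g x) v = B x v := by
  have h := B_sub_eq_zero B M hM v g hg x
  rw [map_sub, LinearMap.sub_apply, sub_eq_zero] at h
  exact h

/-- the subgroup `R`. -/
def Rgrp [Finite F] [Finite K] (B : V →ₗ[K] V →ₗ[K] K) (M : Subgroup (V ≃ₗ[F] V))
    (hM : M ≤ SpF F B) (v : V) : Subgroup (V ≃ₗ[F] V) where
  carrier := {g | g ∈ StabPt M (Kline (F := F) (K := K) v) ∧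
    ∀ x, B x v = 0 → g x - x ∈ Kline (F := F) (K := K) v}
  mul_mem' := by
    rintro a b ⟨ha, ha1⟩ ⟨hb, hb1⟩
    refine ⟨(StabPt M _).mul_mem ha hb, fun x hx => ?_⟩
    have h1 : (a * b) x - x = (a (b x) - b x) + (b x - x) := by
      rw [LinearEquiv.mul_apply]; abel
    rw [h1]
    have h2 : B (b x) v = 0 := by rw [B_apply_eq B M hM v b hb, hx]
    exact Submodule.add_mem _ (ha1 _ h2) (hb1 x hx)
  one_mem' := ⟨(StabPt M _).one_mem, fun x _ => by simp⟩
  inv_mem' := by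
    rintro a ⟨ha, ha1⟩
    refine ⟨(StabPt M _).inv_mem ha, fun x hx => ?_⟩
    have h2 : a (a⁻¹ x) = x := by simp
    have h3 : B (a⁻¹ x) v = 0 := by
      rw [← B_apply_eq B M hM v a ha, h2, hx]
    have h4 := ha1 _ h3
    rw [h2] at h4
    have h5 : a⁻¹ x - x = -(x - a⁻¹ x) := by abel
    rw [h5]
    exact Submodule.neg_mem _ h4

theorem Rgrp_le [Finite F] [Finite K] (B : V →ₗ[K] V →ₗ[K] K) (M : Subgroup (V ≃ₗ[F] V))
    (hM : M ≤ SpF F B) (v : V) : Rgrp B M hM v ≤ StabPt M (Kline (F := F) (K := K) v) :=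
  fun _ hg => hg.1

/-- `g ^ n x = x + n • (g x - x) + l` with `l ∈ K v`. -/
theorem pow_apply [Finite F] [Finite K] (B : V →ₗ[K] V →ₗ[K] K) (M : Subgroup (V ≃ₗ[F] V))
    (hM : M ≤ SpF F B) (v : V) {g : V ≃ₗ[F] V} (hg : g ∈ Rgrp B M hM v) (n : ℕ) (x : V) :
    ∃ l ∈ Kline (F := F) (K := K) v, (g ^ n) x = x + n • (g x - x) + l := by
  induction n with
  | zero => exact ⟨0, Submodule.zero_mem _, by simp⟩
  | succ n ih =>
    obtain ⟨l, hl, h⟩ := ih
    have hN : g (g x - x) - (g x - x) ∈ Kline (F := F) (K := K) v :=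
      hg.2 _ (B_sub_eq_zero B M hM v g hg.1 x)
    refine ⟨n • (g (g x - x) - (g x - x)) + l, Submodule.add_mem _ (Submodule.smul_of_tower_mem _ n hN) hl, ?_⟩
    rw [pow_succ', LinearEquiv.mul_apply, h, map_add, map_add, map_nsmul, hg.1.2 l hl, succ_nsmul]
    have e : g x = x + (g x - x) := by abel
    have e2 : g (g x - x) = (g x - x) + (g (g x - x) - (g x - x)) := by abel
    rw [e2, nsmul_add]
    nth_rewrite 1 [e]
    abel

theorem Rgrp_pow_p [Finite F] [Finite K] (p : ℕ) [Fact p.Prime] [CharP F p]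
    (B : V →ₗ[K] V →ₗ[K] K) (M : Subgroup (V ≃ₗ[F] V))
    (hM : M ≤ SpF F B) (v : V) {g : V ≃ₗ[F] V} (hg : g ∈ Rgrp B M hM v) (x : V) :
    ∃ l ∈ Kline (F := F) (K := K) v, (g ^ p) x = x + l := by
  obtain ⟨l, hl, h⟩ := pow_apply B M hM v hg p x
  refine ⟨l, hl, ?_⟩
  have : (p : ℕ) • (g x - x) = 0 := by
    rw [← Nat.cast_smul_eq_nsmul F, CharP.cast_eq_zero F p, zero_smul]
  rw [h, this, add_zero]

theorem Rgrp_isPGroup [Finite F] [Finite K] (p : ℕ) [Fact p.Prime] [CharP F p]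
    (B : V →ₗ[K] V →ₗ[K] K) (M : Subgroup (V ≃ₗ[F] V))
    (hM : M ≤ SpF F B) (v : V) : IsPGroup p (Rgrp B M hM v) := by
  intro g
  refine ⟨2, ?_⟩
  apply Subtype.ext
  rw [Subgroup.coe_pow, Subgroup.coe_one]
  -- `h = g ^ p` acts trivially on `V / L` and on `L`
  have hh : ∀ n : ℕ, ∀ x : V, ∃ l ∈ Kline (F := F) (K := K) v,
      (((g : V ≃ₗ[F] V) ^ p) ^ n) x = x + n • (((g : V ≃ₗ[F] V) ^ p) x - x) := by
    intro n
    induction n with
    | zero => intro x; exact ⟨0, Submodule.zero_mem _, by simp⟩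
    | succ n ih =>
      intro x
      obtain ⟨_, _, h⟩ := ih x
      obtain ⟨l, hl, hl'⟩ := Rgrp_pow_p p B M hM v g.2 x
      refine ⟨0, Submodule.zero_mem _, ?_⟩
      have hfix : ((g : V ≃ₗ[F] V) ^ p) l = l :=
        ((StabPt M (Kline (F := F) (K := K) v)).pow_mem g.2.1 p).2 l hl
      rw [pow_succ', LinearEquiv.mul_apply, h, hl', add_sub_cancel_left, map_add, map_nsmul, hfix,
        hl', succ_nsmul]
      abel
  apply LinearEquiv.ext
  intro x
  obtain ⟨_, _, h⟩ := hh p x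
  rw [pow_two, pow_mul, h, LinearEquiv.coe_one, id_eq]
  have : (p : ℕ) • (((g : V ≃ₗ[F] V) ^ p) x - x) = 0 := by
    rw [← Nat.cast_smul_eq_nsmul F, CharP.cast_eq_zero F p, zero_smul]
  rw [this, add_zero]

theorem Rgrp_normal [Finite F] [Finite K] (B : V →ₗ[K] V →ₗ[K] K) (M : Subgroup (V ≃ₗ[F] V))
    (hM : M ≤ SpF F B) (v : V) :
    ∀ c ∈ StabPt M (Kline (F := F) (K := K) v), ∀ y ∈ Rgrp B M hM v,
      c * y * c⁻¹ ∈ Rgrp B M hM v := by
  intro c hc y hy
  refine ⟨(StabPt M _).mul_mem ((StabPt M _).mul_mem hc hy.1) ((StabPt M _).inv_mem hc),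
    fun x hx => ?_⟩
  have h1 : (c * y * c⁻¹) x - x = c (y (c⁻¹ x) - c⁻¹ x) := by
    rw [LinearEquiv.mul_apply, LinearEquiv.mul_apply, map_sub]
    simp
  have h2 : B (c⁻¹ x) v = 0 := by
    rw [B_apply_eq B M hM v c⁻¹ ((StabPt M _).inv_mem hc), hx]
  rw [h1, hc.2 _ (hy.2 _ h2)]
  exact hy.2 _ h2

end FIXLP

open FIXLP in
/-- FIXL' -/
theorem FIXL' [Finite F] [Finite K] [Finite V] (p : ℕ) [Fact p.Prime] [CharP F p]
    (B : V →ₗ[K] V →ₗ[K] K) (hB : IsAltND B)
    (M : Subgroup (V ≃ₗ[F] V)) (hK : SpK F B ≤ M) (hM : M ≤ SpF F B) (v : V) (hv : v ≠ 0)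
    (Q : Subgroup (V ≃ₗ[F] V)) (hQ : IsSylIn p (StabPt M (Kline (F := F) (K := K) v)) Q)
    (x : V) (hx : ∀ g ∈ Q, g x = x) : x ∈ Kline (F := F) (K := K) v := by
  have hRQ : Rgrp B M hM v ≤ Q :=
    SYLGEN.normal_le p _ Q _ hQ (Rgrp_le B M hM v) (Rgrp_isPGroup p B M hM v) (Rgrp_normal B M hM v)
  -- the transvection with `c = 1`
  have hxv : B x v = 0 := by
    obtain ⟨g, hg, hgx⟩ := KSPTV (F := F) B hB v 1
    have hgR : g ∈ Rgrp B M hM v := by
      refine ⟨⟨hK hg, fun y hy => ?_⟩, fun y _ => ?_⟩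
      · obtain ⟨c, rfl⟩ := mem_Kline.1 hy
        rw [hgx, map_smul, LinearMap.smul_apply, hB.alt, smul_zero, mul_zero, zero_smul, add_zero]
      · rw [hgx, add_sub_cancel_left]
        exact mem_Kline.2 ⟨_, rfl⟩
    have h1 := hx g (hRQ hgR)
    rw [hgx, one_mul] at h1
    have h2 : B x v • v = 0 := by
      have := congrArg (fun y => y - x) h1
      simpa using this
    rcases smul_eq_zero.1 h2 with h3 | h3
    · exact h3
    · exact absurd h3 hv
  -- the Siegel elements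
  have hxu : ∀ u : V, B u v = 0 → B x u = 0 := by
    intro u huv
    have hvu : B v u = 0 := by rw [skew B hB, huv, neg_zero]
    obtain ⟨g, hg, hgx⟩ := SIEGEL (F := F) B hB v u huv
    have hgR : g ∈ Rgrp B M hM v := by
      refine ⟨⟨hK hg, fun y hy => ?_⟩, fun y hy => ?_⟩
      · obtain ⟨c, rfl⟩ := mem_Kline.1 hy
        rw [hgx, map_smul, LinearMap.smul_apply, LinearMap.smul_apply, hB.alt, hvu,
          smul_zero, zero_smul, zero_smul, add_zero, add_zero]
      · rw [hgx, hy, zero_smul, add_zero, add_sub_cancel_left]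
        exact mem_Kline.2 ⟨_, rfl⟩
    have h1 := hx g (hRQ hgR)
    rw [hgx, hxv, zero_smul, add_zero] at h1
    have h2 : B x u • v = 0 := by
      have := congrArg (fun y => y - x) h1
      simpa using this
    rcases smul_eq_zero.1 h2 with h3 | h3
    · exact h3
    · exact absurd h3 hv
  obtain ⟨v', hv'⟩ := PARTNER B hB v hv
  have hv'v : B v' v = -1 := by rw [skew B hB, hv']
  refine mem_Kline.2 ⟨B x v', ?_⟩
  have hz : x - B x v' • v = 0 := by
    apply hB.nd
    intro y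
    -- `y = u - B y v • v'` with `u ∈ v^⊥`
    have hu : B (y + B y v • v') v = 0 := by
      rw [map_add, LinearMap.add_apply, map_smul, LinearMap.smul_apply, hv'v, smul_eq_mul]
      ring
    have hy : y = (y + B y v • v') - B y v • v' := by abel
    have h1 : B x y = - (B y v * B x v') := by
      have := hxu _ hu
      rw [map_add, map_smul, smul_eq_mul] at this
      linear_combination this
    have h2 : B v y = B v (y + B y v • v') - B y v * B v v' := by
      rw [map_add, map_smul, smul_eq_mul]; ring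
    have h3 : B v (y + B y v • v') = 0 := by rw [skew B hB, hu, neg_zero]
    rw [map_sub, LinearMap.sub_apply, map_smul, LinearMap.smul_apply, smul_eq_mul, h1, h2, h3, hv']
    ring
  rw [sub_eq_zero] at hz
  exact hz.symm

end Cfsg.Agent.S5664P
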