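import Mathlib
import Cfsg.Prelude.Def_GeometricClasses
import Cfsg.Agent.Helper2.S5886.Defs
import Cfsg.Agent.Helper2.S5664.Defs
import Cfsg.Agent.Helper4.S5664PARTNER
import Cfsg.Agent.Helper17.S5664FIXLP

/-! # S5664 piece TLEVI (helper17): the Levi part `n ∈ SpK` of `g ∈ StabPt M (K v)`.
(Written characteristic-free, with the correct signs; `CharP F 2` is not used.) -/

set_option autoImplicit false

namespace Cfsg.Agent.S5664P

open Cfsg.Agent.S5886P

variable {F K V : Type*} [Field F] [Field K] [Algebra F K]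
  [AddCommGroup V] [Module F V] [Module K V] [IsScalarTower F K V]

namespace TLEVI

/-- the projection onto `⟨v, v'⟩^⊥` (for `B v v' = 1`). -/
def pr (B : V →ₗ[K] V →ₗ[K] K) (v v' : V) : V →ₗ[K] V :=
  LinearMap.id - (B.flip v').smulRight v + (B.flip v).smulRight v'

theorem pr_apply (B : V →ₗ[K] V →ₗ[K] K) (v v' y : V) :
    pr B v v' y = y - B y v' • v + B y v • v' := by
  simp only [pr, LinearMap.add_apply, LinearMap.sub_apply, LinearMap.id_coe, id_eq,
    LinearMap.smulRight_apply, LinearMap.flip_apply]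

theorem pr_v (B : V →ₗ[K] V →ₗ[K] K) (hB : IsAltND B) (v v' : V) (h : B v v' = 1) :
    pr B v v' v = 0 := by
  rw [pr_apply, h, hB.alt, one_smul, zero_smul, sub_self, add_zero]

theorem B_pr_v (B : V →ₗ[K] V →ₗ[K] K) (hB : IsAltND B) (v v' : V) (h : B v v' = 1) (y : V) :
    B (pr B v v' y) v = 0 := by
  have h' : B v' v = -1 := by rw [FIXLP.skew B hB, h]
  rw [pr_apply, map_add, map_sub, LinearMap.add_apply, LinearMap.sub_apply, map_smul, map_smul,
    LinearMap.smul_apply, LinearMap.smul_apply, hB.alt, h', smul_eq_mul, smul_eq_mul]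
  ring

theorem B_pr_v' (B : V →ₗ[K] V →ₗ[K] K) (hB : IsAltND B) (v v' : V) (h : B v v' = 1) (y : V) :
    B (pr B v v' y) v' = 0 := by
  rw [pr_apply, map_add, map_sub, LinearMap.add_apply, LinearMap.sub_apply, map_smul, map_smul,
    LinearMap.smul_apply, LinearMap.smul_apply, hB.alt, h, smul_eq_mul, smul_eq_mul]
  ring

theorem decomp (B : V →ₗ[K] V →ₗ[K] K) (v v' y : V) :
    B y v' • v - B y v • v' + pr B v v' y = y := by
  rw [pr_apply]; abel

theorem expand (B : V →ₗ[K] V →ₗ[K] K) (hB : IsAltND B) (v v' : V) (h : B v v' = 1)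
    (s s' : V) (hs : B s v = 0) (hs' : B s v' = 0) (ht : B s' v = 0) (ht' : B s' v' = 0)
    (a b a' b' : K) :
    B (a • v - b • v' + s) (a' • v - b' • v' + s') = -(a * b') + b * a' + B s s' := by
  have h' : B v' v = -1 := by rw [FIXLP.skew B hB, h]
  have e1 : B v s' = 0 := by rw [FIXLP.skew B hB, ht, neg_zero]
  have e2 : B v' s' = 0 := by rw [FIXLP.skew B hB, ht', neg_zero]
  simp only [map_add, map_sub, map_smul, LinearMap.add_apply, LinearMap.sub_apply,
    LinearMap.smul_apply, smul_eq_mul, hB.alt, h, h', e1, e2, hs, hs']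
  ring

end TLEVI

open TLEVI in
/-- TLEVI -/
theorem TLEVI [Finite F] [Finite K] [Finite V] [CharP F 2] (B : V →ₗ[K] V →ₗ[K] K) (hB : IsAltND B)
    (M : Subgroup (V ≃ₗ[F] V)) (hM : M ≤ SpF F B) (v : V) (hv : v ≠ 0)
    (g : V ≃ₗ[F] V) (hg : g ∈ StabPt M (Kline (F := F) (K := K) v))
    (hδ : ∀ u, B u v = 0 → ∀ c : K, g (c • u) - c • g u ∈ Kline (F := F) (K := K) v) :
    ∃ n ∈ SpK F B, n v = v ∧ ∀ u, B u v = 0 → g u - n u ∈ Kline (F := F) (K := K) v := by
  obtain ⟨v', hvv'⟩ := PARTNER B hB v hv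
  have hgv : ∀ y, B (g y) v = B y v := fun y => FIXLP.B_apply_eq B M hM v g hg y
  have hgfix : ∀ c : K, g (c • v) = c • v := fun c => hg.2 _ (FIXLP.mem_Kline.2 ⟨c, rfl⟩)
  -- `g` is a `B`-isometry on `v^⊥`
  have hiso : ∀ s s', B s v = 0 → B s' v = 0 → B (g s) (g s') = B s s' := by
    intro s s' hs hs'
    rw [← sub_eq_zero]
    apply FIXLP.eq_zero_of_trace (F := F)
    intro a
    have h1 := hM hg.1 (a • s) s'
    unfold trf at h1
    obtain ⟨e, he⟩ := FIXLP.mem_Kline.1 (hδ s hs a)
    have h2 : g (a • s) = a • g s + e • v := by rw [he]; abel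
    have h3 : B v (g s') = 0 := by rw [FIXLP.skew B hB, hgv, hs', neg_zero]
    have h4 : a * (B (g s) (g s') - B s s') = B (g (a • s)) (g s') - B (a • s) s' := by
      rw [h2, map_add, LinearMap.add_apply, map_smul, map_smul, map_smul, LinearMap.smul_apply,
        LinearMap.smul_apply, LinearMap.smul_apply, h3, smul_eq_mul, smul_eq_mul, smul_eq_mul]
      ring
    rw [h4, map_sub, h1, sub_self]
  -- the `K`-linear map `n`
  let nK : V →ₗ[K] V :=
    { toFun := fun y => B y v' • v - B y v • v' + pr B v v' (g (pr B v v' y))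
      map_add' := by
        intro y y'
        simp only [map_add, LinearMap.add_apply, add_smul]
        abel
      map_smul' := by
        intro c y
        have hs : B (pr B v v' y) v = 0 := B_pr_v B hB v v' hvv' y
        obtain ⟨e, he⟩ := FIXLP.mem_Kline.1 (hδ _ hs c)
        have h2 : g (c • pr B v v' y) = c • g (pr B v v' y) + e • v := by rw [he]; abel
        simp only [RingHom.id_apply]
        have h5 : pr B v v' (e • v) = 0 := by rw [map_smul, pr_v B hB v v' hvv', smul_zero]
        rw [map_smul (pr B v v') c y, h2, map_add, h5, add_zero, map_smul (pr B v v') c, map_smul,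
          LinearMap.smul_apply, LinearMap.smul_apply, smul_add, smul_sub, smul_smul, smul_smul,
          smul_eq_mul, smul_eq_mul] }
  have hnK : ∀ y, nK y = B y v' • v - B y v • v' + pr B v v' (g (pr B v v' y)) := fun _ => rfl
  have hniso : ∀ y y', B (nK y) (nK y') = B y y' := by
    intro y y'
    have hs : B (pr B v v' y) v = 0 := B_pr_v B hB v v' hvv' y
    have hs' : B (pr B v v' y') v = 0 := B_pr_v B hB v v' hvv' y'
    rw [hnK, hnK, expand B hB v v' hvv' _ _ (B_pr_v B hB v v' hvv' _) (B_pr_v' B hB v v' hvv' _)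
      (B_pr_v B hB v v' hvv' _) (B_pr_v' B hB v v' hvv' _)]
    have e1 : B (pr B v v' (g (pr B v v' y))) (pr B v v' (g (pr B v v' y'))) =
        B (pr B v v' y) (pr B v v' y') := by
      rw [← hiso _ _ hs hs']
      have hz : B (g (pr B v v' y)) v = 0 := by rw [hgv, hs]
      have hz' : B (g (pr B v v' y')) v = 0 := by rw [hgv, hs']
      have hz'' : B v (g (pr B v v' y')) = 0 := by rw [FIXLP.skew B hB, hz', neg_zero]
      rw [pr_apply B v v' (g (pr B v v' y)), pr_apply B v v' (g (pr B v v' y')), hz, hz']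
      simp only [zero_smul, add_zero, map_sub, map_smul, LinearMap.sub_apply, LinearMap.smul_apply,
        smul_eq_mul, hB.alt, hz, hz'']
      ring
    rw [e1]
    conv_rhs => rw [← decomp B v v' y, ← decomp B v v' y']
    rw [expand B hB v v' hvv' _ _ (B_pr_v B hB v v' hvv' _) (B_pr_v' B hB v v' hvv' _)
      (B_pr_v B hB v v' hvv' _) (B_pr_v' B hB v v' hvv' _)]
  -- `n` is injective, hence bijective
  have hinj : Function.Injective nK := by
    intro y y' hyy'
    rw [← sub_eq_zero]
    apply hB.nd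
    intro z
    rw [← hniso, map_sub, hyy', sub_self, map_zero, LinearMap.zero_apply]
  let nF : V →ₗ[F] V := nK.restrictScalars F
  have hnF : ∀ y, nF y = nK y := fun _ => rfl
  have hbij : Function.Bijective nF := ⟨hinj, Finite.injective_iff_surjective.mp hinj⟩
  refine ⟨LinearEquiv.ofBijective nF hbij, ⟨fun k x => ?_, fun x y => ?_⟩, ?_, fun u hu => ?_⟩
  · rw [LinearEquiv.ofBijective_apply, LinearEquiv.ofBijective_apply, hnF, hnF, map_smul]
  · rw [LinearEquiv.ofBijective_apply, LinearEquiv.ofBijective_apply, hnF, hnF, hniso]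
  · rw [LinearEquiv.ofBijective_apply, hnF, hnK, pr_v B hB v v' hvv', map_zero, map_zero, hvv',
      hB.alt, one_smul, zero_smul, sub_zero, add_zero]
  · rw [LinearEquiv.ofBijective_apply, hnF, hnK, hu, zero_smul, sub_zero]
    have hs : B (pr B v v' u) v = 0 := B_pr_v B hB v v' hvv' u
    have hz : B (g (pr B v v' u)) v = 0 := by rw [hgv, hs]
    have hu' : u = B u v' • v + pr B v v' u := by
      have := decomp B v v' u
      rw [hu, zero_smul, sub_zero] at this
      exact this.symm
    have h1 : g u = B u v' • v + g (pr B v v' u) := by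
      nth_rewrite 1 [hu']
      rw [map_add, hgfix]
    rw [h1, pr_apply B v v' (g (pr B v v' u)), hz, zero_smul, add_zero]
    refine FIXLP.mem_Kline.2 ⟨B (g (pr B v v' u)) v', ?_⟩
    abel

end Cfsg.Agent.S5664P
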