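import Cfsg.Agent.Helper12.S5683Lib
import Cfsg.Agent.Helper18.S5650NO9

/-! S5683 piece EXC (driver helper12): a square root of `-1` lies in `F₀` when the degree is odd
(= S5650 piece NO9, landed by helper18). -/

set_option autoImplicit false
set_option linter.unusedSectionVars false
set_option linter.unusedVariables false

namespace Cfsg.Agent.S5683P

variable {F : Type*} [Field F] {m : ℕ}

/-- EXC: a square root of `-1` lies in `F₀` when the degree `r` is odd. -/
theorem EXC.mem_of_sq [Fintype F] (F₀ : Subfield F) (r : ℕ) (hr : Odd r)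
    (hcard : Fintype.card F = Nat.card F₀ ^ r) (x : F) (hx : x ^ 2 = -1) : x ∈ F₀ :=
  Cfsg.Agent.S5650P.NO9.mem F₀ r hr hcard x hx

end Cfsg.Agent.S5683P
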