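import Cfsg.Agent.Helper12.S5683Lib
import Cfsg.Agent.Helper23.S5683RATSIEG
import Cfsg.Agent.Helper20.S5683TRANSO

/-! S5683 piece CENTRAT (driver helper12): the part of `M` in the unipotent radical of a rational singular point
is rational modulo the point. -/

set_option autoImplicit false
set_option linter.unusedSectionVars false
set_option linter.unusedVariables false

namespace Cfsg.Agent.S5683P

open Matrix Cfsg.Agent.Helper28.Sg Cfsg.Agent.Helper28.Spin Cfsg.Agent.Helper12.OrthGen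
  Cfsg.Agent.S2614

variable {F : Type*} [Field F] {m : ℕ}

namespace CENTRAT

theorem ee_rr (i j : Fin m) : (ee F i : Idx m → F) (Sum.inr (Sum.inr j)) = 0 := by simp [ee]
theorem ee_rl (i j : Fin m) :
    (ee F i : Idx m → F) (Sum.inr (Sum.inl j)) = if j = i then 1 else 0 := by
  simp [ee, Pi.single_apply]
theorem ee_l (i : Fin m) : (ee F i : Idx m → F) (Sum.inl ()) = 0 := by simp [ee]
theorem ff_rl (i j : Fin m) : (ff F i : Idx m → F) (Sum.inr (Sum.inl j)) = 0 := by simp [ff]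
theorem ff_rr (i j : Fin m) :
    (ff F i : Idx m → F) (Sum.inr (Sum.inr j)) = if j = i then 1 else 0 := by
  simp [ff, Pi.single_apply]
theorem ff_l (i : Fin m) : (ff F i : Idx m → F) (Sum.inl ()) = 0 := by simp [ff]
theorem dd_l : (dd F m : Idx m → F) (Sum.inl ()) = 1 := by simp [dd]
theorem dd_rl (j : Fin m) : (dd F m : Idx m → F) (Sum.inr (Sum.inl j)) = 0 := by simp [dd]
theorem dd_rr (j : Fin m) : (dd F m : Idx m → F) (Sum.inr (Sum.inr j)) = 0 := by simp [dd]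

/-- conjugating `x ∈ Rad e0` by a rational Siegel element fixing `e0`, and subtracting `x` -/
theorem diff_mem (F₀ : Subfield F) (M : Subgroup (OG m F)) (hM : HasRatO F₀ M)
    {e0 : Idx m → F} (he0 : QfOdd m F e0 = 0)
    {a b : Idx m → F} (ha : Rat F₀ a) (hb : Rat F₀ b) (hQa : QfOdd m F a = 0)
    (hab : B (QfOdd m F) a b = 0) (ha0 : B (QfOdd m F) a e0 = 0) (hb0 : B (QfOdd m F) b e0 = 0)
    {x : Idx m → F} (hx : x ∈ Rad M e0 he0) :
    B (QfOdd m F) a x • b - B (QfOdd m F) b x • a - (QfOdd m F b * B (QfOdd m F) a x) • a ∈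
      Rad M e0 he0 := by
  obtain ⟨_, hg⟩ := RATSIEG.mem_rad F₀ M hM a b ha hb hQa hab
  have h1 : mt (QfOdd m F) (siegO (QfOdd m F) a b hQa hab) *ᵥ e0 = e0 := by
    rw [siegO_mulVec, ha0, hb0]
    simp
  have h2 := Rad_conj' hg hx he0 h1 (siegO_mulVec (QfOdd m F) a b hQa hab x)
  have h3 := (Rad M e0 he0).sub_mem h2 hx
  have e : x + B (QfOdd m F) a x • b - B (QfOdd m F) b x • a -
      (QfOdd m F b * B (QfOdd m F) a x) • a - x =
      B (QfOdd m F) a x • b - B (QfOdd m F) b x • a - (QfOdd m F b * B (QfOdd m F) a x) • a := by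
    abel
  rw [e] at h3
  exact h3

theorem indep_ee {i l : Fin m} (h : l ≠ i) : Indep (ee F i : Idx m → F) (ee F l) := by
  intro a b hab
  have h1 := congrFun hab (Sum.inr (Sum.inl i))
  have h2 := congrFun hab (Sum.inr (Sum.inl l))
  simp [ee_rl, h, Ne.symm h] at h1 h2
  exact ⟨h1, h2⟩

/-- the conclusion of the two-step argument: `c • e_l ∈ Rad e_0 ⇒ c ∈ F₀` -/
theorem mem_of_smul_ee (F₀ : Subfield F) (M : Subgroup (OG m F)) (hR : RootRatO F₀ M)
    {i l : Fin m} (h : l ≠ i) {c : F} (hc : c • ee F l ∈ Rad M (ee F i) (Q_ee i)) : c ∈ F₀ :=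
  hR (ee F i) (ee F l) c (Q_ee i) (rat_ee i) (rat_ee l) (Q_ee l) (by rw [B_ee, ee_rr])
    (indep_ee h) hc

/-- the `f_j`-coordinates are rational -/
theorem xi_mem (F₀ : Subfield F) (M : Subgroup (OG m F)) (hM : HasRatO F₀ M) (hR : RootRatO F₀ M)
    {i j k l : Fin m} (hji : j ≠ i) (hki : k ≠ i) (hli : l ≠ i) (hkj : k ≠ j) (hlk : l ≠ k)
    {x : Idx m → F} (hx : x ∈ Rad M (ee F i) (Q_ee i)) : x (Sum.inr (Sum.inr j)) ∈ F₀ := by
  have y1 := diff_mem F₀ M hM (Q_ee i) (rat_ee j) (rat_ee k) (Q_ee j)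
    (by rw [B_ee, ee_rr]) (by rw [B_ee, ee_rr]) (by rw [B_ee, ee_rr]) hx
  have y2 := diff_mem F₀ M hM (Q_ee i) (rat_ff k) (rat_ee l) (Q_ff k)
    (by rw [B_ff, ee_rl, if_neg hlk.symm]) (by rw [B_ff, ee_rl, if_neg hki])
    (by rw [B_ee, ee_rr]) y1
  have e : B (QfOdd m F) (ff F k) (B (QfOdd m F) (ee F j) x • ee F k - B (QfOdd m F) (ee F k) x • ee F j -
        (QfOdd m F (ee F k) * B (QfOdd m F) (ee F j) x) • ee F j) • ee F l -
      B (QfOdd m F) (ee F l) (B (QfOdd m F) (ee F j) x • ee F k - B (QfOdd m F) (ee F k) x • ee F j -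
        (QfOdd m F (ee F k) * B (QfOdd m F) (ee F j) x) • ee F j) • ff F k -
      (QfOdd m F (ee F l) * B (QfOdd m F) (ff F k) (B (QfOdd m F) (ee F j) x • ee F k -
        B (QfOdd m F) (ee F k) x • ee F j -
        (QfOdd m F (ee F k) * B (QfOdd m F) (ee F j) x) • ee F j)) • ff F k =
      x (Sum.inr (Sum.inr j)) • ee F l := by
    simp only [B_ee, B_ff, Q_ee, Pi.sub_apply, Pi.smul_apply, smul_eq_mul, ee_rr, ee_rl, if_pos,
      if_neg hkj, zero_mul, mul_zero, mul_one, sub_zero, zero_smul]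
  rw [e] at y2
  exact mem_of_smul_ee F₀ M hR hli y2

/-- the `e_j`-coordinates (`j ≠ i`) are rational -/
theorem eta_mem (F₀ : Subfield F) (M : Subgroup (OG m F)) (hM : HasRatO F₀ M) (hR : RootRatO F₀ M)
    {i j k l : Fin m} (hji : j ≠ i) (hki : k ≠ i) (hli : l ≠ i) (hkj : k ≠ j) (hlk : l ≠ k)
    (hlj : l ≠ j)
    {x : Idx m → F} (hx : x ∈ Rad M (ee F i) (Q_ee i)) : x (Sum.inr (Sum.inl j)) ∈ F₀ := by
  have y1 := diff_mem F₀ M hM (Q_ee i) (rat_ff j) (rat_ee k) (Q_ff j)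
    (by rw [B_ff, ee_rl, if_neg hkj.symm]) (by rw [B_ff, ee_rl, if_neg hji]) (by rw [B_ee, ee_rr]) hx
  have y2 := diff_mem F₀ M hM (Q_ee i) (rat_ff k) (rat_ee l) (Q_ff k)
    (by rw [B_ff, ee_rl, if_neg hlk.symm]) (by rw [B_ff, ee_rl, if_neg hki])
    (by rw [B_ee, ee_rr]) y1
  have e : B (QfOdd m F) (ff F k) (B (QfOdd m F) (ff F j) x • ee F k - B (QfOdd m F) (ee F k) x • ff F j -
        (QfOdd m F (ee F k) * B (QfOdd m F) (ff F j) x) • ff F j) • ee F l -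
      B (QfOdd m F) (ee F l) (B (QfOdd m F) (ff F j) x • ee F k - B (QfOdd m F) (ee F k) x • ff F j -
        (QfOdd m F (ee F k) * B (QfOdd m F) (ff F j) x) • ff F j) • ff F k -
      (QfOdd m F (ee F l) * B (QfOdd m F) (ff F k) (B (QfOdd m F) (ff F j) x • ee F k -
        B (QfOdd m F) (ee F k) x • ff F j -
        (QfOdd m F (ee F k) * B (QfOdd m F) (ff F j) x) • ff F j)) • ff F k =
      x (Sum.inr (Sum.inl j)) • ee F l := by
    simp only [B_ee, B_ff, Q_ee, Pi.sub_apply, Pi.smul_apply, smul_eq_mul, ee_rr, ee_rl, ff_rl, ff_rr,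
      if_pos, if_neg hlj, zero_mul, mul_zero, mul_one, sub_zero, zero_smul]
  rw [e] at y2
  exact mem_of_smul_ee F₀ M hR hli y2

/-- the `d`-coordinate is rational -/
theorem x0_mem (h2 : (2 : F) ≠ 0) (F₀ : Subfield F) (M : Subgroup (OG m F)) (hM : HasRatO F₀ M)
    (hR : RootRatO F₀ M)
    {i j l : Fin m} (hji : j ≠ i) (hli : l ≠ i) (hlj : l ≠ j)
    {x : Idx m → F} (hx : x ∈ Rad M (ee F i) (Q_ee i)) (hxi : x (Sum.inr (Sum.inr j)) ∈ F₀) :
    x (Sum.inl ()) ∈ F₀ := by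
  have y1 := diff_mem F₀ M hM (Q_ee i) (rat_ee j) (rat_dd (m := m)) (Q_ee j)
    (by rw [B_ee, dd_rr]) (by rw [B_ee, ee_rr]) (by rw [B_dd, ee_l, mul_zero]) hx
  have y2 := diff_mem F₀ M hM (Q_ee i) (rat_ff j) (rat_ee l) (Q_ff j)
    (by rw [B_ff, ee_rl, if_neg hlj.symm]) (by rw [B_ff, ee_rl, if_neg hji])
    (by rw [B_ee, ee_rr]) y1
  have e : B (QfOdd m F) (ff F j) (B (QfOdd m F) (ee F j) x • dd F m - B (QfOdd m F) (dd F m) x • ee F j -
        (QfOdd m F (dd F m) * B (QfOdd m F) (ee F j) x) • ee F j) • ee F l -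
      B (QfOdd m F) (ee F l) (B (QfOdd m F) (ee F j) x • dd F m - B (QfOdd m F) (dd F m) x • ee F j -
        (QfOdd m F (dd F m) * B (QfOdd m F) (ee F j) x) • ee F j) • ff F j -
      (QfOdd m F (ee F l) * B (QfOdd m F) (ff F j) (B (QfOdd m F) (ee F j) x • dd F m -
        B (QfOdd m F) (dd F m) x • ee F j -
        (QfOdd m F (dd F m) * B (QfOdd m F) (ee F j) x) • ee F j)) • ff F j =
      (-(2 * x (Sum.inl ()) + x (Sum.inr (Sum.inr j)))) • ee F l := by
    simp only [B_ee, B_ff, B_dd, Q_ee, Q_dd, Pi.sub_apply, Pi.smul_apply, smul_eq_mul, ee_rr, ee_rl,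
      dd_rl, dd_rr, if_pos, zero_mul, mul_zero, mul_one, one_mul, sub_zero, zero_smul, zero_sub]
    congr 1
    ring
  rw [e] at y2
  have h3 := mem_of_smul_ee F₀ M hR hli y2
  have h4 : 2 * x (Sum.inl ()) ∈ F₀ := by
    have := F₀.add_mem (F₀.neg_mem h3) (F₀.neg_mem hxi)
    have e2 : - -(2 * x (Sum.inl ()) + x (Sum.inr (Sum.inr j))) + -x (Sum.inr (Sum.inr j)) =
        2 * x (Sum.inl ()) := by ring
    rwa [e2] at this
  have h2' : (2 : F) ∈ F₀ := by
    have : (2 : F) = 1 + 1 := by norm_num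
    rw [this]
    exact F₀.add_mem F₀.one_mem F₀.one_mem
  have e3 : x (Sum.inl ()) = (2 : F)⁻¹ * (2 * x (Sum.inl ())) := by
    rw [← mul_assoc, inv_mul_cancel₀ h2, one_mul]
  rw [e3]
  exact F₀.mul_mem (F₀.inv_mem h2') h4

theorem exists_not_mem (s : Finset (Fin m)) (h : s.card < m) : ∃ k, k ∉ s := by
  by_contra hcon
  push Not at hcon
  have : s = Finset.univ := Finset.eq_univ_iff_forall.2 hcon
  rw [this, Finset.card_univ, Fintype.card_fin] at h
  exact lt_irrefl _ h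

/-- the case `u = e_i` -/
theorem rat_mod_ee (h2 : (2 : F) ≠ 0) (hm : 4 ≤ m) (F₀ : Subfield F) (M : Subgroup (OG m F))
    (hM : HasRatO F₀ M) (hR : RootRatO F₀ M) (i : Fin m) {x : Idx m → F}
    (hx : x ∈ Rad M (ee F i) (Q_ee i)) :
    Rat F₀ (x - x (Sum.inr (Sum.inl i)) • ee F i) := by
  classical
  have hxi : ∀ j : Fin m, j ≠ i → x (Sum.inr (Sum.inr j)) ∈ F₀ := by
    intro j hji
    obtain ⟨k, hk⟩ := exists_not_mem ({i, j} : Finset (Fin m))
      (lt_of_le_of_lt Finset.card_le_two (by omega))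
    obtain ⟨l, hl⟩ := exists_not_mem ({i, j, k} : Finset (Fin m))
      (lt_of_le_of_lt Finset.card_le_three (by omega))
    simp only [Finset.mem_insert, Finset.mem_singleton, not_or] at hk hl
    exact xi_mem F₀ M hM hR hji hk.1 hl.1 hk.2 hl.2.2 hx
  have heta : ∀ j : Fin m, j ≠ i → x (Sum.inr (Sum.inl j)) ∈ F₀ := by
    intro j hji
    obtain ⟨k, hk⟩ := exists_not_mem ({i, j} : Finset (Fin m))
      (lt_of_le_of_lt Finset.card_le_two (by omega))
    obtain ⟨l, hl⟩ := exists_not_mem ({i, j, k} : Finset (Fin m))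
      (lt_of_le_of_lt Finset.card_le_three (by omega))
    simp only [Finset.mem_insert, Finset.mem_singleton, not_or] at hk hl
    exact eta_mem F₀ M hM hR hji hk.1 hl.1 hk.2 hl.2.2 hl.2.1 hx
  have hx0 : x (Sum.inl ()) ∈ F₀ := by
    obtain ⟨j, hj⟩ := exists_not_mem ({i} : Finset (Fin m)) (by rw [Finset.card_singleton]; omega)
    obtain ⟨l, hl⟩ := exists_not_mem ({i, j} : Finset (Fin m))
      (lt_of_le_of_lt Finset.card_le_two (by omega))
    simp only [Finset.mem_insert, Finset.mem_singleton, not_or] at hj hl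
    exact x0_mem h2 F₀ M hM hR hj hl.1 hl.2 hx (hxi j hj)
  have hperp : x (Sum.inr (Sum.inr i)) = 0 := by
    have := Rad_perp hx
    rwa [B_ee] at this
  intro κ
  rcases κ with u | j | j
  · rw [Pi.sub_apply, Pi.smul_apply, ee_l, smul_zero, sub_zero]
    exact hx0
  · by_cases hji : j = i
    · rw [hji, Pi.sub_apply, Pi.smul_apply, ee_rl, if_pos rfl, smul_eq_mul, mul_one, sub_self]
      exact F₀.zero_mem
    · rw [Pi.sub_apply, Pi.smul_apply, ee_rl, if_neg hji, smul_zero, sub_zero]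
      exact heta j hji
  · rw [Pi.sub_apply, Pi.smul_apply, ee_rr, smul_zero, sub_zero]
    by_cases hji : j = i
    · rw [hji, hperp]; exact F₀.zero_mem
    · exact hxi j hji

end CENTRAT

/-- CENTRAT: the part of `M` in the unipotent radical of a rational singular point is rational. -/
theorem CENTRAT.rat_mod (h2 : (2 : F) ≠ 0) (hm : 4 ≤ m) (F₀ : Subfield F) (M : Subgroup (OG m F))
    (hM : HasRatO F₀ M) (hR : RootRatO F₀ M) (u x : Idx m → F) (hu : Rat F₀ u) (hu0 : u ≠ 0)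
    (hQu : QfOdd m F u = 0) (hx : x ∈ Rad M u hQu) : ∃ t : F, Rat F₀ (x - t • u) := by
  set i0 : Fin m := ⟨0, by omega⟩ with hi0
  obtain ⟨g, c, hgS, hgr, hgr', hc, hc0, hgu⟩ :=
    TRANSO.exists_move₁ h2 (by omega) F₀ u hu hu0 hQu i0
  have hgM : g ∈ M := hM g hgS hgr
  have hQ' : QfOdd m F (c • ee F i0) = 0 := by rw [Q_smul, Q_ee, mul_zero]
  have hx1 : mt (QfOdd m F) g *ᵥ x ∈ Rad M (c • ee F i0) hQ' := Rad_conj' hgM hx hQ' hgu rfl
  have hx2 : c • (mt (QfOdd m F) g *ᵥ x) ∈ Rad M (ee F i0) (Q_ee i0) :=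
    Rad_smul_left (Q_ee i0) c hQ' hx1
  have h3 := CENTRAT.rat_mod_ee h2 hm F₀ M hM hR i0 hx2
  set t' : F := (c • (mt (QfOdd m F) g *ᵥ x)) (Sum.inr (Sum.inl i0)) with ht'
  have h4 := RatM.mulVec hgr' h3
  have hginv : mt (QfOdd m F) g⁻¹ *ᵥ ee F i0 = c⁻¹ • u := by
    have h5 : mt (QfOdd m F) g⁻¹ *ᵥ (mt (QfOdd m F) g *ᵥ u) = u := mt_inv_mulVec (QfOdd m F) g u
    rw [hgu, Matrix.mulVec_smul] at h5
    rw [← h5, smul_smul, inv_mul_cancel₀ hc0, one_smul]
  rw [Matrix.mulVec_sub, Matrix.mulVec_smul, Matrix.mulVec_smul, mt_inv_mulVec, hginv, smul_smul] at h4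
  refine ⟨c⁻¹ * (t' * c⁻¹), ?_⟩
  have e : x - (c⁻¹ * (t' * c⁻¹)) • u = c⁻¹ • (c • x - (t' * c⁻¹) • u) := by
    rw [smul_sub, smul_smul, smul_smul, inv_mul_cancel₀ hc0, one_smul]
  rw [e]
  exact Rat.smul (F₀.inv_mem hc) h4

end Cfsg.Agent.S5683P
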