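import Cfsg.Agent.Helper12.S5702Defs2
import Cfsg.Agent.Helper20.S5702RATSIEG
import Cfsg.Agent.Helper20.S5702TRANSO

/-! S5702 piece CENTRAT (driver helper12; port of `Cfsg.Agent.Helper17.S5683CENTRAT`): the part of `M` in the unipotent
radical of a rational singular point is rational modulo the point. -/

set_option autoImplicit false
set_option linter.unusedSectionVars false
set_option linter.unusedVariables false

namespace Cfsg.Agent.S5702P

open Matrix Cfsg.Agent.Helper28.Sg Cfsg.Agent.Helper28.Spin Cfsg.Agent.Helper12.OrthGen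
  Cfsg.Agent.S5683P

variable {F : Type*} [Field F] {m : ℕ} {a b : F}

namespace CENTRAT

theorem ee_lr (i j : Fin m) : (ee F i : Idx m → F) (Sum.inl (Sum.inr j)) = 0 := by simp [ee]
theorem ee_ll (i j : Fin m) :
    (ee F i : Idx m → F) (Sum.inl (Sum.inl j)) = if j = i then 1 else 0 := by
  simp [ee, Pi.single_apply]
theorem ee_r (i : Fin m) (k : Fin 2) : (ee F i : Idx m → F) (Sum.inr k) = 0 := by simp [ee]
theorem ff_ll (i j : Fin m) : (ff F i : Idx m → F) (Sum.inl (Sum.inl j)) = 0 := by simp [ff]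
theorem ff_lr (i j : Fin m) :
    (ff F i : Idx m → F) (Sum.inl (Sum.inr j)) = if j = i then 1 else 0 := by
  simp [ff, Pi.single_apply]
theorem ff_r (i : Fin m) (k : Fin 2) : (ff F i : Idx m → F) (Sum.inr k) = 0 := by simp [ff]
theorem d1_ll (j : Fin m) : (d1 F m : Idx m → F) (Sum.inl (Sum.inl j)) = 0 := by simp [d1]
theorem d1_lr (j : Fin m) : (d1 F m : Idx m → F) (Sum.inl (Sum.inr j)) = 0 := by simp [d1]
theorem d2_ll (j : Fin m) : (d2 F m : Idx m → F) (Sum.inl (Sum.inl j)) = 0 := by simp [d2]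
theorem d2_lr (j : Fin m) : (d2 F m : Idx m → F) (Sum.inl (Sum.inr j)) = 0 := by simp [d2]

/-- conjugating `x ∈ Rad e0` by a rational Siegel element fixing `e0`, and subtracting `x` -/
theorem diff_mem (F₀ : Subfield F) (ha : a ∈ F₀) (hb : b ∈ F₀) (M : Subgroup (OG m F a b))
    (hM : HasRatO F₀ M)
    {e0 : Idx m → F} (he0 : QfMinus m F a b e0 = 0)
    {p r : Idx m → F} (hp : Rat F₀ p) (hr : Rat F₀ r) (hQp : QfMinus m F a b p = 0)
    (hpr : B (QfMinus m F a b) p r = 0) (hp0 : B (QfMinus m F a b) p e0 = 0)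
    (hr0 : B (QfMinus m F a b) r e0 = 0)
    {x : Idx m → F} (hx : x ∈ Rad M e0 he0) :
    B (QfMinus m F a b) p x • r - B (QfMinus m F a b) r x • p -
      (QfMinus m F a b r * B (QfMinus m F a b) p x) • p ∈ Rad M e0 he0 := by
  obtain ⟨_, hg⟩ := RATSIEG.mem_rad F₀ ha hb M hM p r hp hr hQp hpr
  have h1 : mt (QfMinus m F a b) (siegO (QfMinus m F a b) p r hQp hpr) *ᵥ e0 = e0 := by
    rw [siegO_mulVec, hp0, hr0]
    simp
  have h2 := Rad_conj' hg hx he0 h1 (siegO_mulVec (QfMinus m F a b) p r hQp hpr x)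
  have h3 := (Rad M e0 he0).sub_mem h2 hx
  have e : x + B (QfMinus m F a b) p x • r - B (QfMinus m F a b) r x • p -
      (QfMinus m F a b r * B (QfMinus m F a b) p x) • p - x =
      B (QfMinus m F a b) p x • r - B (QfMinus m F a b) r x • p -
        (QfMinus m F a b r * B (QfMinus m F a b) p x) • p := by
    abel
  rw [e] at h3
  exact h3

theorem indep_ee {i l : Fin m} (h : l ≠ i) : Indep (ee F i : Idx m → F) (ee F l) := by
  intro c d hcd
  have h1 := congrFun hcd (Sum.inl (Sum.inl i))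
  have h2 := congrFun hcd (Sum.inl (Sum.inl l))
  simp [ee_ll, h, Ne.symm h] at h1 h2
  exact ⟨h1, h2⟩

/-- the conclusion of the two-step argument: `c • e_l ∈ Rad e_0 ⇒ c ∈ F₀` -/
theorem mem_of_smul_ee (F₀ : Subfield F) (M : Subgroup (OG m F a b)) (hR : RootRatO F₀ M)
    {i l : Fin m} (h : l ≠ i) {c : F} (hc : c • ee F l ∈ Rad M (ee F i) (Q_ee i)) : c ∈ F₀ :=
  hR (ee F i) (ee F l) c (Q_ee i) (rat_ee i) (rat_ee l) (Q_ee l) (by rw [B_ee, ee_lr])
    (indep_ee h) hc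

/-- the `f_j`-coordinates are rational -/
theorem xi_mem (F₀ : Subfield F) (ha : a ∈ F₀) (hb : b ∈ F₀) (M : Subgroup (OG m F a b))
    (hM : HasRatO F₀ M) (hR : RootRatO F₀ M)
    {i j k l : Fin m} (hji : j ≠ i) (hki : k ≠ i) (hli : l ≠ i) (hkj : k ≠ j) (hlk : l ≠ k)
    {x : Idx m → F} (hx : x ∈ Rad M (ee F i) (Q_ee i)) : x (Sum.inl (Sum.inr j)) ∈ F₀ := by
  have y1 := diff_mem F₀ ha hb M hM (Q_ee i) (rat_ee j) (rat_ee k) (Q_ee j)
    (by rw [B_ee, ee_lr]) (by rw [B_ee, ee_lr]) (by rw [B_ee, ee_lr]) hx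
  have y2 := diff_mem F₀ ha hb M hM (Q_ee i) (rat_ff k) (rat_ee l) (Q_ff k)
    (by rw [B_ff, ee_ll, if_neg hlk.symm]) (by rw [B_ff, ee_ll, if_neg hki])
    (by rw [B_ee, ee_lr]) y1
  have e : B (QfMinus m F a b) (ff F k) (B (QfMinus m F a b) (ee F j) x • ee F k -
        B (QfMinus m F a b) (ee F k) x • ee F j -
        (QfMinus m F a b (ee F k) * B (QfMinus m F a b) (ee F j) x) • ee F j) • ee F l -
      B (QfMinus m F a b) (ee F l) (B (QfMinus m F a b) (ee F j) x • ee F k -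
        B (QfMinus m F a b) (ee F k) x • ee F j -
        (QfMinus m F a b (ee F k) * B (QfMinus m F a b) (ee F j) x) • ee F j) • ff F k -
      (QfMinus m F a b (ee F l) * B (QfMinus m F a b) (ff F k) (B (QfMinus m F a b) (ee F j) x • ee F k -
        B (QfMinus m F a b) (ee F k) x • ee F j -
        (QfMinus m F a b (ee F k) * B (QfMinus m F a b) (ee F j) x) • ee F j)) • ff F k =
      x (Sum.inl (Sum.inr j)) • ee F l := by
    simp only [B_ee, B_ff, Q_ee, Pi.sub_apply, Pi.smul_apply, smul_eq_mul, ee_lr, ee_ll, if_pos,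
      if_neg hkj, zero_mul, mul_zero, mul_one, sub_zero, zero_smul]
  rw [e] at y2
  exact mem_of_smul_ee F₀ M hR hli y2

/-- the `e_j`-coordinates (`j ≠ i`) are rational -/
theorem eta_mem (F₀ : Subfield F) (ha : a ∈ F₀) (hb : b ∈ F₀) (M : Subgroup (OG m F a b))
    (hM : HasRatO F₀ M) (hR : RootRatO F₀ M)
    {i j k l : Fin m} (hji : j ≠ i) (hki : k ≠ i) (hli : l ≠ i) (hkj : k ≠ j) (hlk : l ≠ k)
    (hlj : l ≠ j)
    {x : Idx m → F} (hx : x ∈ Rad M (ee F i) (Q_ee i)) : x (Sum.inl (Sum.inl j)) ∈ F₀ := by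
  have y1 := diff_mem F₀ ha hb M hM (Q_ee i) (rat_ff j) (rat_ee k) (Q_ff j)
    (by rw [B_ff, ee_ll, if_neg hkj.symm]) (by rw [B_ff, ee_ll, if_neg hji])
    (by rw [B_ee, ee_lr]) hx
  have y2 := diff_mem F₀ ha hb M hM (Q_ee i) (rat_ff k) (rat_ee l) (Q_ff k)
    (by rw [B_ff, ee_ll, if_neg hlk.symm]) (by rw [B_ff, ee_ll, if_neg hki])
    (by rw [B_ee, ee_lr]) y1
  have e : B (QfMinus m F a b) (ff F k) (B (QfMinus m F a b) (ff F j) x • ee F k -
        B (QfMinus m F a b) (ee F k) x • ff F j -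
        (QfMinus m F a b (ee F k) * B (QfMinus m F a b) (ff F j) x) • ff F j) • ee F l -
      B (QfMinus m F a b) (ee F l) (B (QfMinus m F a b) (ff F j) x • ee F k -
        B (QfMinus m F a b) (ee F k) x • ff F j -
        (QfMinus m F a b (ee F k) * B (QfMinus m F a b) (ff F j) x) • ff F j) • ff F k -
      (QfMinus m F a b (ee F l) * B (QfMinus m F a b) (ff F k) (B (QfMinus m F a b) (ff F j) x • ee F k -
        B (QfMinus m F a b) (ee F k) x • ff F j -
        (QfMinus m F a b (ee F k) * B (QfMinus m F a b) (ff F j) x) • ff F j)) • ff F k =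
      x (Sum.inl (Sum.inl j)) • ee F l := by
    simp only [B_ee, B_ff, Q_ee, Pi.sub_apply, Pi.smul_apply, smul_eq_mul, ee_lr, ee_ll, ff_ll, ff_lr,
      if_pos, if_neg hlj, zero_mul, mul_zero, mul_one, sub_zero, zero_smul]
  rw [e] at y2
  exact mem_of_smul_ee F₀ M hR hli y2

/-- the pairing with a rational vector `d` of the binary part is rational -/
theorem bd_mem (F₀ : Subfield F) (ha : a ∈ F₀) (hb : b ∈ F₀) (M : Subgroup (OG m F a b))
    (hM : HasRatO F₀ M) (hR : RootRatO F₀ M)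
    {i j l : Fin m} (hji : j ≠ i) (hli : l ≠ i) (hlj : l ≠ j)
    {d : Idx m → F} (hd : Rat F₀ d) (hdll : ∀ k, d (Sum.inl (Sum.inl k)) = 0)
    (hdlr : ∀ k, d (Sum.inl (Sum.inr k)) = 0) (hdi : B (QfMinus m F a b) d (ee F i) = 0)
    (hQd : QfMinus m F a b d ∈ F₀)
    {x : Idx m → F} (hx : x ∈ Rad M (ee F i) (Q_ee i)) (hxi : x (Sum.inl (Sum.inr j)) ∈ F₀) :
    B (QfMinus m F a b) d x ∈ F₀ := by
  have y1 := diff_mem F₀ ha hb M hM (Q_ee i) (rat_ee j) hd (Q_ee j)
    (by rw [B_ee, hdlr]) (by rw [B_ee, ee_lr]) hdi hx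
  have y2 := diff_mem F₀ ha hb M hM (Q_ee i) (rat_ff j) (rat_ee l) (Q_ff j)
    (by rw [B_ff, ee_ll, if_neg hlj.symm]) (by rw [B_ff, ee_ll, if_neg hji])
    (by rw [B_ee, ee_lr]) y1
  have e : B (QfMinus m F a b) (ff F j) (B (QfMinus m F a b) (ee F j) x • d -
        B (QfMinus m F a b) d x • ee F j -
        (QfMinus m F a b d * B (QfMinus m F a b) (ee F j) x) • ee F j) • ee F l -
      B (QfMinus m F a b) (ee F l) (B (QfMinus m F a b) (ee F j) x • d -
        B (QfMinus m F a b) d x • ee F j -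
        (QfMinus m F a b d * B (QfMinus m F a b) (ee F j) x) • ee F j) • ff F j -
      (QfMinus m F a b (ee F l) * B (QfMinus m F a b) (ff F j) (B (QfMinus m F a b) (ee F j) x • d -
        B (QfMinus m F a b) d x • ee F j -
        (QfMinus m F a b d * B (QfMinus m F a b) (ee F j) x) • ee F j)) • ff F j =
      (-(B (QfMinus m F a b) d x + QfMinus m F a b d * x (Sum.inl (Sum.inr j)))) • ee F l := by
    simp only [B_ee, B_ff, Q_ee, Pi.sub_apply, Pi.smul_apply, smul_eq_mul, ee_lr, ee_ll,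
      hdll, hdlr, if_pos, zero_mul, mul_zero, mul_one, sub_zero, zero_smul, zero_sub]
    congr 1
    ring
  rw [e] at y2
  have h3 := mem_of_smul_ee F₀ M hR hli y2
  have := F₀.sub_mem (F₀.neg_mem h3) (F₀.mul_mem hQd hxi)
  have e2 : -(-(B (QfMinus m F a b) d x + QfMinus m F a b d * x (Sum.inl (Sum.inr j)))) -
      QfMinus m F a b d * x (Sum.inl (Sum.inr j)) = B (QfMinus m F a b) d x := by ring
  rwa [e2] at this

theorem exists_not_mem (s : Finset (Fin m)) (h : s.card < m) : ∃ k, k ∉ s := by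
  by_contra hcon
  push Not at hcon
  have : s = Finset.univ := Finset.eq_univ_iff_forall.2 hcon
  rw [this, Finset.card_univ, Fintype.card_fin] at h
  exact lt_irrefl _ h

/-- the case `u = e_i` -/
theorem rat_mod_ee (hm : 4 ≤ m) (F₀ : Subfield F) (ha : a ∈ F₀) (hb : b ∈ F₀)
    (hab : 4 * b - a ^ 2 ≠ 0) (M : Subgroup (OG m F a b))
    (hM : HasRatO F₀ M) (hR : RootRatO F₀ M) (i : Fin m) {x : Idx m → F}
    (hx : x ∈ Rad M (ee F i) (Q_ee i)) :
    Rat F₀ (x - x (Sum.inl (Sum.inl i)) • ee F i) := by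
  classical
  have hxi : ∀ j : Fin m, j ≠ i → x (Sum.inl (Sum.inr j)) ∈ F₀ := by
    intro j hji
    obtain ⟨k, hk⟩ := exists_not_mem ({i, j} : Finset (Fin m))
      (lt_of_le_of_lt Finset.card_le_two (by omega))
    obtain ⟨l, hl⟩ := exists_not_mem ({i, j, k} : Finset (Fin m))
      (lt_of_le_of_lt Finset.card_le_three (by omega))
    simp only [Finset.mem_insert, Finset.mem_singleton, not_or] at hk hl
    exact xi_mem F₀ ha hb M hM hR hji hk.1 hl.1 hk.2 hl.2.2 hx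
  have heta : ∀ j : Fin m, j ≠ i → x (Sum.inl (Sum.inl j)) ∈ F₀ := by
    intro j hji
    obtain ⟨k, hk⟩ := exists_not_mem ({i, j} : Finset (Fin m))
      (lt_of_le_of_lt Finset.card_le_two (by omega))
    obtain ⟨l, hl⟩ := exists_not_mem ({i, j, k} : Finset (Fin m))
      (lt_of_le_of_lt Finset.card_le_three (by omega))
    simp only [Finset.mem_insert, Finset.mem_singleton, not_or] at hk hl
    exact eta_mem F₀ ha hb M hM hR hji hk.1 hl.1 hk.2 hl.2.2 hl.2.1 hx
  obtain ⟨j, hj⟩ := exists_not_mem ({i} : Finset (Fin m)) (by rw [Finset.card_singleton]; omega)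
  obtain ⟨l, hl⟩ := exists_not_mem ({i, j} : Finset (Fin m))
    (lt_of_le_of_lt Finset.card_le_two (by omega))
  simp only [Finset.mem_insert, Finset.mem_singleton, not_or] at hj hl
  have hd1 : B (QfMinus m F a b) (d1 F m) x ∈ F₀ :=
    bd_mem F₀ ha hb M hM hR hj hl.1 hl.2 rat_d1 d1_ll d1_lr
      (by rw [B_d1, ee_r, ee_r]; ring) (by rw [Q_d1]; exact F₀.one_mem) hx (hxi j hj)
  have hd2 : B (QfMinus m F a b) (d2 F m) x ∈ F₀ :=
    bd_mem F₀ ha hb M hM hR hj hl.1 hl.2 rat_d2 d2_ll d2_lr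
      (by rw [B_d2, ee_r, ee_r]; ring) (by rw [Q_d2]; exact hb) hx (hxi j hj)
  have hperp : x (Sum.inl (Sum.inr i)) = 0 := by
    have := Rad_perp hx
    rwa [B_ee] at this
  -- pairings of `y = x - t • e_i` with the coordinate vectors
  have hBsub : ∀ z : Idx m → F, B (QfMinus m F a b) z (x - x (Sum.inl (Sum.inl i)) • ee F i) =
      B (QfMinus m F a b) z x - x (Sum.inl (Sum.inl i)) * B (QfMinus m F a b) z (ee F i) := by
    intro z
    show QuadraticMap.polar _ _ _ = QuadraticMap.polar _ _ _ - _ * QuadraticMap.polar _ _ _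
    rw [sub_eq_add_neg, QuadraticMap.polar_add_right, QuadraticMap.polar_neg_right,
      QuadraticMap.polar_smul_right, smul_eq_mul, sub_eq_add_neg]
  refine rat_of_B ha hb hab ?_ ?_ ?_ ?_
  · intro k
    rw [hBsub, B_ee, B_ee, ee_lr, mul_zero, sub_zero]
    by_cases hki : k = i
    · rw [hki, hperp]; exact F₀.zero_mem
    · exact hxi k hki
  · intro k
    rw [hBsub, B_ff, B_ff, ee_ll]
    by_cases hki : k = i
    · rw [hki, if_pos rfl, mul_one, sub_self]; exact F₀.zero_mem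
    · rw [if_neg hki, mul_zero, sub_zero]; exact heta k hki
  · rw [hBsub, B_d1 (ee F i), ee_r, ee_r]
    have e : B (QfMinus m F a b) (d1 F m) x - x (Sum.inl (Sum.inl i)) * (2 * 0 + a * 0) =
        B (QfMinus m F a b) (d1 F m) x := by ring
    rw [e]; exact hd1
  · rw [hBsub, B_d2 (ee F i), ee_r, ee_r]
    have e : B (QfMinus m F a b) (d2 F m) x - x (Sum.inl (Sum.inl i)) * (a * 0 + 2 * b * 0) =
        B (QfMinus m F a b) (d2 F m) x := by ring
    rw [e]; exact hd2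

end CENTRAT

/-- CENTRAT: the part of `M` in the unipotent radical of a rational singular point is rational. -/
theorem CENTRAT.rat_mod (hm : 4 ≤ m) (F₀ : Subfield F) (ha : a ∈ F₀) (hb : b ∈ F₀)
    (hab : 4 * b - a ^ 2 ≠ 0) (M : Subgroup (OG m F a b))
    (hM : HasRatO F₀ M) (hR : RootRatO F₀ M) (u x : Idx m → F) (hu : Rat F₀ u) (hu0 : u ≠ 0)
    (hQu : QfMinus m F a b u = 0) (hx : x ∈ Rad M u hQu) : ∃ t : F, Rat F₀ (x - t • u) := by
  set i0 : Fin m := ⟨0, by omega⟩ with hi0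
  obtain ⟨g, c, hgS, hgr, hgr', hc, hc0, hgu⟩ :=
    TRANSO.exists_move₁ (by omega) F₀ ha hb hab u hu hu0 hQu i0
  have hgM : g ∈ M := hM g hgS hgr
  have hQ' : QfMinus m F a b (c • ee F i0) = 0 := by rw [Q_smul, Q_ee, mul_zero]
  have hx1 : mt (QfMinus m F a b) g *ᵥ x ∈ Rad M (c • ee F i0) hQ' := Rad_conj' hgM hx hQ' hgu rfl
  have hx2 : c • (mt (QfMinus m F a b) g *ᵥ x) ∈ Rad M (ee F i0) (Q_ee i0) :=
    Rad_smul_left (Q_ee i0) c hQ' hx1
  have h3 := CENTRAT.rat_mod_ee hm F₀ ha hb hab M hM hR i0 hx2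
  set t' : F := (c • (mt (QfMinus m F a b) g *ᵥ x)) (Sum.inl (Sum.inl i0)) with ht'
  have h4 := RatM.mulVec hgr' h3
  have hginv : mt (QfMinus m F a b) g⁻¹ *ᵥ ee F i0 = c⁻¹ • u := by
    have h5 : mt (QfMinus m F a b) g⁻¹ *ᵥ (mt (QfMinus m F a b) g *ᵥ u) = u :=
      mt_inv_mulVec (QfMinus m F a b) g u
    rw [hgu, Matrix.mulVec_smul] at h5
    rw [← h5, smul_smul, inv_mul_cancel₀ hc0, one_smul]
  rw [Matrix.mulVec_sub, Matrix.mulVec_smul, Matrix.mulVec_smul, mt_inv_mulVec, hginv, smul_smul] at h4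
  refine ⟨c⁻¹ * (t' * c⁻¹), ?_⟩
  have e : x - (c⁻¹ * (t' * c⁻¹)) • u = c⁻¹ • (c • x - (t' * c⁻¹) • u) := by
    rw [smul_sub, smul_smul, smul_smul, inv_mul_cancel₀ hc0, one_smul]
  rw [e]
  exact Rat.smul (F₀.inv_mem hc) h4

end Cfsg.Agent.S5702P
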