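import Cfsg.Agent.Helper12.S5683Lib
import Cfsg.Agent.Helper4.S5683RATCOORD

/-! S5683 piece ALLPRATO (driver helper12): an injective matrix mapping every rational singular point to a rational
point is in `F^* GL(F₀)`. -/

set_option autoImplicit false
set_option linter.unusedSectionVars false
set_option linter.unusedVariables false

namespace Cfsg.Agent.S5683P

open Matrix Cfsg.Agent.Helper28.Sg Cfsg.Agent.Helper28.Spin Cfsg.Agent.Helper12.OrthGen
  Cfsg.Agent.S2614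

variable {F : Type*} [Field F] {m : ℕ}

namespace ALLPRATO

/-- transfer of the scalar along two independent vectors whose sum is again "good" -/
theorem transfer {ι : Type} [Fintype ι] (F₀ : Subfield F) (A : Matrix ι ι F)
    (hA : ∀ x : ι → F, A *ᵥ x = 0 → x = 0) {s₁ s₂ : ι → F} {z₁ z₂ z₃ : F}
    (hz₁ : z₁ ≠ 0) (hz₂ : z₂ ≠ 0) (hz₃ : z₃ ≠ 0)
    (h₁ : Rat F₀ (z₁ • A *ᵥ s₁)) (h₂ : Rat F₀ (z₂ • A *ᵥ s₂))
    (h₃ : Rat F₀ (z₃ • A *ᵥ (s₁ + s₂)))
    (hind : LinearIndependent F ![s₁, s₂]) : Rat F₀ (z₁ • A *ᵥ s₂) := by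
  have hpind : LinearIndependent F ![z₁ • A *ᵥ s₁, z₂ • A *ᵥ s₂] := by
    rw [LinearIndependent.pair_iff]
    intro a b hab
    have h0 : A *ᵥ ((a * z₁) • s₁ + (b * z₂) • s₂) = 0 := by
      rw [Matrix.mulVec_add, Matrix.mulVec_smul, Matrix.mulVec_smul, ← hab, smul_smul, smul_smul]
    have h1 := hA _ h0
    have h2 := (LinearIndependent.pair_iff.1 hind) _ _ h1
    constructor
    · rcases mul_eq_zero.1 h2.1 with h | h
      · exact h
      · exact absurd h hz₁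
    · rcases mul_eq_zero.1 h2.2 with h | h
      · exact h
      · exact absurd h hz₂
  have hsum : ∑ k : Fin 2, ![z₃ / z₁, z₃ / z₂] k • ![z₁ • A *ᵥ s₁, z₂ • A *ᵥ s₂] k =
      z₃ • A *ᵥ (s₁ + s₂) := by
    rw [Fin.sum_univ_two]
    simp only [Matrix.cons_val_zero, Matrix.cons_val_one]
    rw [smul_smul, smul_smul, div_mul_cancel₀ _ hz₁, div_mul_cancel₀ _ hz₂, Matrix.mulVec_add,
      smul_add]
  have hc := RATCOORD.coeff_mem F₀ ![z₁ • A *ᵥ s₁, z₂ • A *ᵥ s₂]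
    (by
      intro k
      fin_cases k
      · exact h₁
      · exact h₂) hpind ![z₃ / z₁, z₃ / z₂] (by rw [hsum]; exact h₃)
  have hc0 : z₃ / z₁ ∈ F₀ := hc 0
  have hc1 : z₃ / z₂ ∈ F₀ := hc 1
  have hq : z₁ / z₂ ∈ F₀ := by
    have e : z₁ / z₂ = (z₃ / z₂) * (z₃ / z₁)⁻¹ := by
      field_simp
    rw [e]
    exact F₀.mul_mem hc1 (F₀.inv_mem hc0)
  have e2 : z₁ • A *ᵥ s₂ = (z₁ / z₂) • (z₂ • A *ᵥ s₂) := by
    rw [smul_smul, div_mul_cancel₀ _ hz₂]
  rw [e2]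
  exact Rat.smul hq h₂

/-- one step of the chain: orthogonal independent rational singular vectors share the scalar -/
theorem step (F₀ : Subfield F) (A : Matrix (Idx m) (Idx m) F)
    (hA : ∀ x : Idx m → F, A *ᵥ x = 0 → x = 0)
    (hall : ∀ s : Idx m → F, Rat F₀ s → s ≠ 0 → QfOdd m F s = 0 → PRat F₀ (A *ᵥ s))
    {z : F} (hz : z ≠ 0) {s₁ s₂ : Idx m → F} (hr₁ : Rat F₀ s₁) (hr₂ : Rat F₀ s₂)
    (hQ₁ : QfOdd m F s₁ = 0) (hQ₂ : QfOdd m F s₂ = 0) (hB : B (QfOdd m F) s₁ s₂ = 0)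
    (hind : LinearIndependent F ![s₁, s₂]) (h₁ : Rat F₀ (z • A *ᵥ s₁)) :
    Rat F₀ (z • A *ᵥ s₂) := by
  have hs₂0 : s₂ ≠ 0 := by
    have := hind.ne_zero 1
    simpa using this
  have hs₃0 : s₁ + s₂ ≠ 0 := by
    intro h
    have h2 := (LinearIndependent.pair_iff.1 hind) 1 1 (by rw [one_smul, one_smul]; exact h)
    exact one_ne_zero h2.1
  have hQ₃ : QfOdd m F (s₁ + s₂) = 0 := by
    rw [Q_add, hQ₁, hQ₂, hB]; ring
  obtain ⟨z₂, hz₂, h₂⟩ := hall s₂ hr₂ hs₂0 hQ₂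
  obtain ⟨z₃, hz₃, h₃⟩ := hall (s₁ + s₂) (Rat.add hr₁ hr₂) hs₃0 hQ₃
  exact transfer F₀ A hA hz hz₂ hz₃ h₁ h₂ h₃ hind

theorem indep_of_B {s₁ s₂ t : Idx m → F} (h1 : B (QfOdd m F) t s₁ = 0)
    (h2 : B (QfOdd m F) t s₂ ≠ 0) (hs₁ : s₁ ≠ 0) : LinearIndependent F ![s₁, s₂] := by
  rw [LinearIndependent.pair_iff]
  intro a b hab
  have h3 : B (QfOdd m F) t (a • s₁ + b • s₂) = 0 := by
    rw [hab]
    exact QuadraticMap.polar_zero_right _ _
  have h4 : B (QfOdd m F) t (a • s₁ + b • s₂) = a * B (QfOdd m F) t s₁ + b * B (QfOdd m F) t s₂ := by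
    show QuadraticMap.polar _ _ _ = _
    rw [QuadraticMap.polar_add_right, QuadraticMap.polar_smul_right, QuadraticMap.polar_smul_right]
    rfl
  rw [h4, h1, mul_zero, zero_add] at h3
  have hb : b = 0 := by
    rcases mul_eq_zero.1 h3 with h | h
    · exact h
    · exact absurd h h2
  rw [hb, zero_smul, add_zero] at hab
  rcases smul_eq_zero.1 hab with h | h
  · exact ⟨h, hb⟩
  · exact absurd h hs₁

end ALLPRATO

/-- ALLPRATO: an injective matrix mapping every rational singular point to a rational point is in `F^* GL(F₀)`. -/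
theorem ALLPRATO.inN_of_singular (h2 : (2 : F) ≠ 0) (hm : 2 ≤ m) (F₀ : Subfield F)
    (A : Matrix (Idx m) (Idx m) F) (hA : ∀ x : Idx m → F, A *ᵥ x = 0 → x = 0)
    (hall : ∀ s : Idx m → F, Rat F₀ s → s ≠ 0 → QfOdd m F s = 0 → PRat F₀ (A *ᵥ s)) :
    InN F₀ A := by
  classical
  set i0 : Fin m := ⟨0, by omega⟩ with hi0
  set i1 : Fin m := ⟨1, by omega⟩ with hi1
  have h01 : i0 ≠ i1 := by
    intro h
    rw [hi0, hi1, Fin.mk.injEq] at h
    omega
  obtain ⟨z, hz, hW0⟩ := hall (ee F i0) (rat_ee i0) (ee_ne_zero i0) (Q_ee i0)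
  -- coordinates of the basis vectors
  have ee_rr : ∀ i j : Fin m, (ee F i : Idx m → F) (Sum.inr (Sum.inr j)) = 0 := by
    intro i j; simp [ee]
  have ee_rl : ∀ i j : Fin m, (ee F i : Idx m → F) (Sum.inr (Sum.inl j)) = if j = i then 1 else 0 := by
    intro i j; simp [ee, Pi.single_apply]
  have ee_l : ∀ i : Fin m, (ee F i : Idx m → F) (Sum.inl ()) = 0 := by
    intro i; simp [ee]
  have ff_rl : ∀ i j : Fin m, (ff F i : Idx m → F) (Sum.inr (Sum.inl j)) = 0 := by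
    intro i j; simp [ff]
  have ff_rr : ∀ i j : Fin m, (ff F i : Idx m → F) (Sum.inr (Sum.inr j)) = if j = i then 1 else 0 := by
    intro i j; simp [ff, Pi.single_apply]
  have ff_l : ∀ i : Fin m, (ff F i : Idx m → F) (Sum.inl ()) = 0 := by
    intro i; simp [ff]
  have dd_l : (dd F m : Idx m → F) (Sum.inl ()) = 1 := by simp [dd]
  have dd_rl : ∀ j : Fin m, (dd F m : Idx m → F) (Sum.inr (Sum.inl j)) = 0 := by
    intro j; simp [dd]
  have dd_rr : ∀ j : Fin m, (dd F m : Idx m → F) (Sum.inr (Sum.inr j)) = 0 := by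
    intro j; simp [dd]
  have ff_ne_zero : ∀ i : Fin m, (ff F i : Idx m → F) ≠ 0 := by
    intro i h
    have := congrFun h (Sum.inr (Sum.inr i))
    rw [ff_rr, if_pos rfl] at this
    exact one_ne_zero this
  -- the `e_j`, `j ≠ i0`
  have hWe : ∀ j : Fin m, Rat F₀ (z • A *ᵥ ee F j) := by
    intro j
    by_cases hj : j = i0
    · rw [hj]; exact hW0
    · refine ALLPRATO.step F₀ A hA hall hz (rat_ee i0) (rat_ee j) (Q_ee i0) (Q_ee j) ?_ ?_ hW0
      · rw [B_ee, ee_rr]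
      · refine ALLPRATO.indep_of_B (t := ff F j) ?_ ?_ (ee_ne_zero i0)
        · rw [B_ff, ee_rl, if_neg hj]
        · rw [B_ff, ee_rl, if_pos rfl]; exact one_ne_zero
  have hWf : ∀ j : Fin m, Rat F₀ (z • A *ᵥ ff F j) := by
    intro j
    by_cases hj : j = i0
    · rw [hj]
      refine ALLPRATO.step F₀ A hA hall hz (rat_ee i1) (rat_ff i0) (Q_ee i1) (Q_ff i0) ?_ ?_ (hWe i1)
      · rw [B_ee, ff_rr, if_neg h01.symm]
      · refine ALLPRATO.indep_of_B (t := ee F i0) ?_ ?_ (ee_ne_zero i1)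
        · rw [B_ee, ee_rr]
        · rw [B_ee, ff_rr, if_pos rfl]; exact one_ne_zero
    · refine ALLPRATO.step F₀ A hA hall hz (rat_ee i0) (rat_ff j) (Q_ee i0) (Q_ff j) ?_ ?_ hW0
      · rw [B_ee, ff_rr, if_neg (Ne.symm hj)]
      · refine ALLPRATO.indep_of_B (t := ee F j) ?_ ?_ (ee_ne_zero i0)
        · rw [B_ee, ee_rr]
        · rw [B_ee, ff_rr, if_pos rfl]; exact one_ne_zero
  -- the singular vector `d + e_0 - f_0`
  have hs0r : Rat F₀ (dd F m + (ee F i0 - ff F i0)) :=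
    Rat.add rat_dd (Rat.sub (rat_ee i0) (rat_ff i0))
  have hQs0 : QfOdd m F (dd F m + (ee F i0 - ff F i0)) = 0 := by
    have e1 : QfOdd m F (ee F i0 - ff F i0) = -1 := by
      rw [sub_eq_add_neg, Q_add, Q_ee, QuadraticMap.map_neg, Q_ff, B_ee, Pi.neg_apply, ff_rr,
        if_pos rfl]
      ring
    rw [Q_add, Q_dd, e1, B_dd, Pi.sub_apply, ee_l, ff_l]
    ring
  have hWs0 : Rat F₀ (z • A *ᵥ (dd F m + (ee F i0 - ff F i0))) := by
    refine ALLPRATO.step F₀ A hA hall hz (rat_ee i1) hs0r (Q_ee i1) hQs0 ?_ ?_ (hWe i1)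
    · rw [B_ee, Pi.add_apply, Pi.sub_apply, dd_rr, ee_rr, ff_rr, if_neg h01.symm]
      ring
    · refine ALLPRATO.indep_of_B (t := dd F m) ?_ ?_ (ee_ne_zero i1)
      · rw [B_dd, ee_l, mul_zero]
      · rw [B_dd, Pi.add_apply, Pi.sub_apply, dd_l, ee_l, ff_l]
        simpa using h2
  have hWd : Rat F₀ (z • A *ᵥ dd F m) := by
    have e : z • A *ᵥ dd F m = z • A *ᵥ (dd F m + (ee F i0 - ff F i0)) - z • A *ᵥ ee F i0 +
        z • A *ᵥ ff F i0 := by
      rw [Matrix.mulVec_add, Matrix.mulVec_sub, smul_add, smul_sub]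
      abel
    rw [e]
    exact Rat.add (Rat.sub hWs0 hW0) (hWf i0)
  refine ⟨z, hz, RatM.of_cols ?_⟩
  intro j
  rw [Matrix.smul_mulVec]
  rcases j with u | j | j
  · exact hWd
  · exact hWe j
  · exact hWf j

end Cfsg.Agent.S5683P
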