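import Cfsg.Agent.Helper12.S5702Defs2
import Cfsg.Agent.Helper12.S5683WEDGE
import Cfsg.Agent.Helper12.S5702PLANE
import Cfsg.Agent.Helper20.S5702TRANSO
import Cfsg.Agent.Helper17.S5702CENTRAT
import Cfsg.Agent.Helper21.S5702PLANERAT

/-! S5702 piece LEMP (driver helper12): an `M`-root line orthogonal to a rational singular point is rational. -/

set_option autoImplicit false
set_option linter.unusedSectionVars false
set_option linter.unusedVariables false

namespace Cfsg.Agent.S5702P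

open Matrix Cfsg.Agent.Helper28.Sg Cfsg.Agent.Helper28.Spin Cfsg.Agent.Helper12.OrthGen
  Cfsg.Agent.S5683P

variable {F : Type*} [Field F] {m : ℕ} {a b : F}

namespace LEMP

section generic

variable {ι : Type} [Fintype ι] [DecidableEq ι] (Q : QuadraticForm F (ι → F))

/-- the pairing on a totally singular plane vanishes -/
theorem B_comb3 {v w s : ι → F} (hv : Q v = 0) (hw : Q w = 0) (hs : Q s = 0)
    (hvw : B Q v w = 0) (hsv : B Q s v = 0) (hsw : B Q s w = 0) (α₁ β₁ γ₁ α₂ β₂ γ₂ : F) :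
    B Q (α₁ • v + β₁ • w + γ₁ • s) (α₂ • v + β₂ • w + γ₂ • s) = 0 := by
  have h1 : QuadraticMap.polarBilin Q v v = 0 := B_self_of_singular Q hv
  have h2 : QuadraticMap.polarBilin Q w w = 0 := B_self_of_singular Q hw
  have h3 : QuadraticMap.polarBilin Q s s = 0 := B_self_of_singular Q hs
  have h4 : QuadraticMap.polarBilin Q v w = 0 := hvw
  have h5 : QuadraticMap.polarBilin Q w v = 0 := by
    have := B_comm Q w v
    rw [hvw] at this
    exact this
  have h6 : QuadraticMap.polarBilin Q s v = 0 := hsv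
  have h7 : QuadraticMap.polarBilin Q v s = 0 := by
    have := B_comm Q v s
    rw [hsv] at this
    exact this
  have h8 : QuadraticMap.polarBilin Q s w = 0 := hsw
  have h9 : QuadraticMap.polarBilin Q w s = 0 := by
    have := B_comm Q w s
    rw [hsw] at this
    exact this
  show QuadraticMap.polarBilin Q (α₁ • v + β₁ • w + γ₁ • s) (α₂ • v + β₂ • w + γ₂ • s) = 0
  simp only [map_add, map_smul, LinearMap.add_apply, LinearMap.smul_apply, smul_eq_mul, h1, h2, h3,
    h4, h5, h6, h7, h8, h9, mul_zero, add_zero]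

/-- the form vanishes on a totally singular plane -/
theorem Q_comb3 {v w s : ι → F} (hv : Q v = 0) (hw : Q w = 0) (hs : Q s = 0)
    (hvw : B Q v w = 0) (hsv : B Q s v = 0) (hsw : B Q s w = 0) (α β γ : F) :
    Q (α • v + β • w + γ • s) = 0 := by
  have h1 := B_comb3 Q hv hw hs hvw hsv hsw α β 0 0 0 γ
  simp only [zero_smul, add_zero, zero_add] at h1
  have h2 := B_comb3 Q hv hw hs hvw hsv hsw α 0 0 0 β 0
  simp only [zero_smul, add_zero, zero_add] at h2
  rw [Q_add, Q_add, Q_smul, Q_smul, Q_smul, hv, hw, hs, h1, h2]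
  ring

/-- `E(v, w)` only depends on `v ∧ w`: membership form -/
theorem rad_wedge (M : Subgroup ↥(Cfsg.isometryGroup F ⇑Q)) {v w : ι → F} (hv : Q v = 0)
    (hw : Q w = 0) (hw' : w ∈ Rad M v hv) (α β γ δ : F) (hdet : α * δ - β * γ = 1)
    (hQ : Q (α • v + β • w) = 0) : γ • v + δ • w ∈ Rad M (α • v + β • w) hQ := by
  obtain ⟨hvw, hmem⟩ := hw'
  have hvw' : B Q (α • v + β • w) (γ • v + δ • w) = 0 := by
    have hs0 : Q (0 : ι → F) = 0 := map_zero _
    have := B_comb3 Q hv hw hs0 hvw (by rw [B_comm]; exact QuadraticMap.polar_zero_right _ _)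
      (by rw [B_comm]; exact QuadraticMap.polar_zero_right _ _) α β 0 γ δ 0
    simp only [smul_zero, add_zero] at this
    exact this
  have h1 : B Q v ((α * δ - β * γ) • w) = 0 := B_smul_right_zero Q _ hvw
  refine ⟨hvw', ?_⟩
  rw [WEDGE.siegO_eq v w hv hw hvw α β γ δ hQ hvw' h1]
  rw [siegO_congr Q hv h1 hv hvw rfl (by rw [hdet, one_smul])]
  exact hmem

end generic

/-- the case where `s` lies on the line -/
theorem ratLine_of_mem (hm : 4 ≤ m) (F₀ : Subfield F) (ha : a ∈ F₀) (hb : b ∈ F₀)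
    (hab : 4 * b - a ^ 2 ≠ 0) (M : Subgroup (OG m F a b)) (hM : HasRatO F₀ M)
    (hR : RootRatO F₀ M) (v w : Idx m → F) (hv : QfMinus m F a b v = 0)
    (hw : QfMinus m F a b w = 0) (hw' : w ∈ Rad M v hv) (s : Idx m → F) (hs : Rat F₀ s) (hs0 : s ≠ 0)
    (hQs : QfMinus m F a b s = 0) (α β : F) (hsαβ : s = α • v + β • w) : RatLine F₀ v w := by
  -- choose `(γ, δ)` with `α δ - β γ = 1`
  obtain ⟨γ, δ, hdet⟩ : ∃ γ δ : F, α * δ - β * γ = 1 := by
    by_cases hα : α = 0
    · have hβ : β ≠ 0 := by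
        intro hβ
        rw [hα, hβ, zero_smul, zero_smul, add_zero] at hsαβ
        exact hs0 hsαβ
      refine ⟨-β⁻¹, 0, ?_⟩
      rw [hα, zero_mul, zero_sub, mul_neg, neg_neg, mul_inv_cancel₀ hβ]
    · refine ⟨0, α⁻¹, ?_⟩
      rw [mul_zero, sub_zero, mul_inv_cancel₀ hα]
  have hQ' : QfMinus m F a b (α • v + β • w) = 0 := by rw [← hsαβ]; exact hQs
  have h1 := rad_wedge (QfMinus m F a b) M hv hw hw' α β γ δ hdet hQ'
  have h2 : γ • v + δ • w ∈ Rad M s hQs := mem_Rad_of_eq hQs h1 hsαβ.symm rfl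
  obtain ⟨t, ht⟩ := CENTRAT.rat_mod hm F₀ ha hb hab M hM hR s (γ • v + δ • w) hs hs0 hQs h2
  refine ⟨α, β, γ - t * α, δ - t * β, ?_, ?_, ?_⟩
  · have e : α * (δ - t * β) - β * (γ - t * α) = α * δ - β * γ := by ring
    rw [e, hdet]
    exact one_ne_zero
  · rw [← hsαβ]; exact hs
  · have e : (γ - t * α) • v + (δ - t * β) • w = γ • v + δ • w - t • s := by
      rw [hsαβ]
      module
    rw [e]
    exact ht

end LEMP

/-- LEMP: an `M`-root line orthogonal to a rational singular point `s ≠ 0` is rational. -/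
theorem LEMP.ratLine (hm : 4 ≤ m) (F₀ : Subfield F) (ha : a ∈ F₀) (hb : b ∈ F₀)
    (hab : 4 * b - a ^ 2 ≠ 0) (M : Subgroup (OG m F a b)) (hM : HasRatO F₀ M)
    (hR : RootRatO F₀ M) (v w : Idx m → F) (hv : QfMinus m F a b v = 0)
    (hw : QfMinus m F a b w = 0) (hvw : B (QfMinus m F a b) v w = 0) (hind : Indep v w)
    (hw' : w ∈ Rad M v hv) (s : Idx m → F) (hs : Rat F₀ s) (hs0 : s ≠ 0)
    (hQs : QfMinus m F a b s = 0) (hsv : B (QfMinus m F a b) s v = 0)
    (hsw : B (QfMinus m F a b) s w = 0) : RatLine F₀ v w := by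
  classical
  by_cases hli : LinearIndependent F ![v, w, s]
  swap
  · -- `s` lies on the line
    rw [Fintype.linearIndependent_iff] at hli
    push Not at hli
    obtain ⟨g, hg, i, hi⟩ := hli
    rw [Fin.sum_univ_three] at hg
    simp only [Matrix.cons_val_zero, Matrix.cons_val_one, Matrix.cons_val_two,
      Matrix.head_cons, Matrix.tail_cons] at hg
    have hg2 : g 2 ≠ 0 := by
      intro h2
      rw [h2, zero_smul, add_zero] at hg
      obtain ⟨h0, h1⟩ := hind _ _ hg
      fin_cases i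
      · exact hi h0
      · exact hi h1
      · exact hi h2
    have hsαβ : s = (-(g 0) / g 2) • v + (-(g 1) / g 2) • w := by
      have e1 : g 2 • s = -(g 0 • v + g 1 • w) := by
        rw [eq_neg_iff_add_eq_zero, add_comm]; exact hg
      have e2 : s = (g 2)⁻¹ • (g 2 • s) := by rw [smul_smul, inv_mul_cancel₀ hg2, one_smul]
      rw [e2, e1, smul_neg, smul_add, smul_smul, smul_smul, neg_add, ← neg_smul, ← neg_smul]
      congr 2 <;> field_simp
    exact LEMP.ratLine_of_mem hm F₀ ha hb hab M hM hR v w hv hw hw' s hs hs0 hQs _ _ hsαβ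
  · -- `⟨v, w, s⟩` is a rational totally singular plane
    obtain ⟨a₁, b₁, t₁, a₂, b₂, t₂, hΔ, hr₁, hr₂⟩ :=
      PLANE.ratPlane hm F₀ ha hb hab M hM hR v w s hv hw hvw hw' hs hQs hsv hsw hli
    set r₁ : Idx m → F := a₁ • v + b₁ • w + t₁ • s with hr₁def
    set r₂ : Idx m → F := a₂ • v + b₂ • w + t₂ • s with hr₂def
    set Δ : F := a₁ * b₂ - a₂ * b₁ with hΔdef
    have hs_eq : s = (0 : F) • v + (0 : F) • w + (1 : F) • s := by
      rw [zero_smul, zero_smul, zero_add, zero_add, one_smul]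
    -- the family `s, r₁, r₂`
    let x : Fin 3 → Idx m → F := ![s, r₁, r₂]
    have hx_eq : ∀ i, ∃ α β γ : F, x i = α • v + β • w + γ • s := by
      intro i
      fin_cases i
      · exact ⟨0, 0, 1, hs_eq⟩
      · exact ⟨a₁, b₁, t₁, rfl⟩
      · exact ⟨a₂, b₂, t₂, rfl⟩
    have hxrat : ∀ i, Rat F₀ (x i) := by
      intro i
      fin_cases i
      · exact hs
      · exact hr₁
      · exact hr₂
    have hxQ : ∀ i, QfMinus m F a b (x i) = 0 := by
      intro i
      obtain ⟨α, β, γ, h⟩ := hx_eq i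
      rw [h]
      exact LEMP.Q_comb3 _ hv hw hQs hvw hsv hsw α β γ
    have hxB : ∀ i j, B (QfMinus m F a b) (x i) (x j) = 0 := by
      intro i j
      obtain ⟨α, β, γ, h⟩ := hx_eq i
      obtain ⟨α', β', γ', h'⟩ := hx_eq j
      rw [h, h']
      exact LEMP.B_comb3 _ hv hw hQs hvw hsv hsw α β γ α' β' γ'
    have hxli : LinearIndependent F x := by
      rw [Fintype.linearIndependent_iff]
      intro g hg
      rw [Fin.sum_univ_three] at hg
      have hg' : (g 1 * a₁ + g 2 * a₂) • v + (g 1 * b₁ + g 2 * b₂) • w +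
          (g 0 + g 1 * t₁ + g 2 * t₂) • s = 0 := by
        rw [← hg]
        show _ = g 0 • s + g 1 • r₁ + g 2 • r₂
        rw [hr₁def, hr₂def]
        module
      have h3 := Fintype.linearIndependent_iff.1 hli
        ![g 1 * a₁ + g 2 * a₂, g 1 * b₁ + g 2 * b₂, g 0 + g 1 * t₁ + g 2 * t₂]
        (by rw [Fin.sum_univ_three]; exact hg')
      have e0 : g 1 * a₁ + g 2 * a₂ = 0 := h3 0
      have e1 : g 1 * b₁ + g 2 * b₂ = 0 := h3 1
      have e2 : g 0 + g 1 * t₁ + g 2 * t₂ = 0 := h3 2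
      have hg1 : g 1 = 0 := by
        have : g 1 * Δ = 0 := by rw [hΔdef]; linear_combination b₂ * e0 - a₂ * e1
        rcases mul_eq_zero.1 this with hh | hh
        · exact hh
        · exact absurd hh hΔ
      have hg2 : g 2 = 0 := by
        have : g 2 * Δ = 0 := by rw [hΔdef]; linear_combination a₁ * e1 - b₁ * e0
        rcases mul_eq_zero.1 this with hh | hh
        · exact hh
        · exact absurd hh hΔ
      have hg0 : g 0 = 0 := by rw [hg1, hg2] at e2; linear_combination e2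
      intro i
      fin_cases i
      · exact hg0
      · exact hg1
      · exact hg2
    -- move the plane to `π`
    let κ : Fin 3 → Fin m := fun k => ⟨k.1, by have := k.2; omega⟩
    have hκ : Function.Injective κ := by
      intro k l hkl
      have := congrArg Fin.val hkl
      exact Fin.ext this
    obtain ⟨g₀, hgS, hgr, hgr', hgx⟩ :=
      TRANSO.exists_move F₀ ha hb hab x hxrat hxli hxQ hxB κ hκ
    have hgM : g₀ ∈ M := hM g₀ hgS hgr
    obtain ⟨c0, -, hc0, hx0⟩ := hgx 0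
    obtain ⟨c1, -, hc1, hx1⟩ := hgx 1
    obtain ⟨c2, -, hc2, hx2⟩ := hgx 2
    have hx0' : mt (QfMinus m F a b) g₀ *ᵥ s = c0 • ee F (κ 0) := hx0
    have hx1' : mt (QfMinus m F a b) g₀ *ᵥ r₁ = c1 • ee F (κ 1) := hx1
    have hx2' : mt (QfMinus m F a b) g₀ *ᵥ r₂ = c2 • ee F (κ 2) := hx2
    -- images of `α s + β r₁ + γ r₂`
    have himg : ∀ α β γ : F, mt (QfMinus m F a b) g₀ *ᵥ (α • s + β • r₁ + γ • r₂) =
        lin3 κ ![α * c0, β * c1, γ * c2] := by
      intro α β γ
      rw [Matrix.mulVec_add, Matrix.mulVec_add, Matrix.mulVec_smul, Matrix.mulVec_smul,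
        Matrix.mulVec_smul, hx0', hx1', hx2']
      unfold lin3
      rw [Fin.sum_univ_three]
      simp only [Matrix.cons_val_zero, Matrix.cons_val_one, Matrix.cons_val_two,
        Matrix.head_cons, Matrix.tail_cons, smul_smul]
    -- `v` and `w` in terms of `s, r₁, r₂`
    have hv_eq : v = (Δ⁻¹ * (b₁ * t₂ - b₂ * t₁)) • s + (Δ⁻¹ * b₂) • r₁ + (Δ⁻¹ * -b₁) • r₂ := by
      have e : Δ • v = (b₁ * t₂ - b₂ * t₁) • s + b₂ • r₁ + (-b₁) • r₂ := by
        rw [hr₁def, hr₂def, hΔdef]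
        module
      have e2 : v = Δ⁻¹ • (Δ • v) := by rw [smul_smul, inv_mul_cancel₀ hΔ, one_smul]
      rw [e2, e, smul_add, smul_add, smul_smul, smul_smul, smul_smul]
    have hw_eq : w = (Δ⁻¹ * (a₂ * t₁ - a₁ * t₂)) • s + (Δ⁻¹ * -a₂) • r₁ + (Δ⁻¹ * a₁) • r₂ := by
      have e : Δ • w = (a₂ * t₁ - a₁ * t₂) • s + (-a₂) • r₁ + a₁ • r₂ := by
        rw [hr₁def, hr₂def, hΔdef]
        module
      have e2 : w = Δ⁻¹ • (Δ • w) := by rw [smul_smul, inv_mul_cancel₀ hΔ, one_smul]
      rw [e2, e, smul_add, smul_add, smul_smul, smul_smul, smul_smul]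
    set X : Fin 3 → F := ![Δ⁻¹ * (b₁ * t₂ - b₂ * t₁) * c0, Δ⁻¹ * b₂ * c1, Δ⁻¹ * -b₁ * c2] with hX
    set Y : Fin 3 → F := ![Δ⁻¹ * (a₂ * t₁ - a₁ * t₂) * c0, Δ⁻¹ * -a₂ * c1, Δ⁻¹ * a₁ * c2] with hY
    have hgv : mt (QfMinus m F a b) g₀ *ᵥ v = lin3 κ X := by
      conv_lhs => rw [hv_eq]
      exact himg _ _ _
    have hgw : mt (QfMinus m F a b) g₀ *ᵥ w = lin3 κ Y := by
      conv_lhs => rw [hw_eq]
      exact himg _ _ _
    have hmem : lin3 κ Y ∈ Rad M (lin3 κ X) (Q_lin3 κ X) :=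
      Rad_conj' hgM hw' (Q_lin3 κ X) hgv hgw
    have hcross := PLANERAT.cross_mem hm F₀ ha hb hab M hM hR κ hκ X Y hmem
    -- `X, Y` are independent
    have hXY : X ⨯₃ Y ≠ 0 := by
      rw [crossProduct_ne_zero_iff_linearIndependent, LinearIndependent.pair_iff]
      intro p q hpq
      have h1 : mt (QfMinus m F a b) g₀ *ᵥ (p • v + q • w) = 0 := by
        rw [Matrix.mulVec_add, Matrix.mulVec_smul, Matrix.mulVec_smul, hgv, hgw, ← lin3_smul,
          ← lin3_smul, ← lin3_add, hpq, lin3_zero]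
      have h2 : p • v + q • w = 0 := by
        have := mt_inv_mulVec (QfMinus m F a b) g₀ (p • v + q • w)
        rw [h1, Matrix.mulVec_zero] at this
        exact this.symm
      exact hind p q h2
    obtain ⟨p, q, p', q', hdet, hrat1, hrat2⟩ :=
      PLANERAT.ratLine_of_cross F₀ κ hκ X Y hXY hcross
    refine ⟨p, q, p', q', hdet, ?_, ?_⟩
    · have h1 := RatM.mulVec hgr' hrat1
      rw [← hgv, ← hgw, ← Matrix.mulVec_smul, ← Matrix.mulVec_smul, ← Matrix.mulVec_add,
        mt_inv_mulVec] at h1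
      exact h1
    · have h1 := RatM.mulVec hgr' hrat2
      rw [← hgv, ← hgw, ← Matrix.mulVec_smul, ← Matrix.mulVec_smul, ← Matrix.mulVec_add,
        mt_inv_mulVec] at h1
      exact h1

end Cfsg.Agent.S5702P
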