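import Cfsg.Agent.Helper12.S5683COMM2
import Cfsg.Agent.Helper16.S5683INTERPT
import Cfsg.Agent.Helper20.S5702RATSIEG
import Cfsg.Agent.Helper17.S5702LEMP

/-! S5702 piece YONE (driver helper12): the point `p = lin3 κ (α ⨯₃ β)` on a rational line of `π` is rational. -/

set_option autoImplicit false
set_option linter.unusedSectionVars false
set_option linter.unusedVariables false

namespace Cfsg.Agent.S5702P

open Matrix Cfsg.Agent.Helper28.Sg Cfsg.Agent.Helper28.Spin Cfsg.Agent.Helper12.OrthGen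
  Cfsg.Agent.S5683P

variable {F : Type*} [Field F] {m : ℕ} {a b : F}

namespace YONE

/-- a rational basis of `t^⊥` -/
theorem exists_basis (F₀ : Subfield F) (t : Fin 3 → F) (ht : ∀ k, t k ∈ F₀) (ht0 : t ≠ 0) :
    ∃ c' c'' : Fin 3 → F, (∀ k, c' k ∈ F₀) ∧ (∀ k, c'' k ∈ F₀) ∧ c' ⨯₃ c'' ≠ 0 ∧
      ∀ γ : Fin 3 → F, t ⬝ᵥ γ = 0 → ∃ x y : F, γ = x • c' + y • c'' := by
  have h3 : t 0 ≠ 0 ∨ t 1 ≠ 0 ∨ t 2 ≠ 0 := by
    by_contra h
    push Not at h
    apply ht0
    ext k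
    fin_cases k
    · exact h.1
    · exact h.2.1
    · exact h.2.2
  have hz : (0 : F) ∈ F₀ := F₀.zero_mem
  rcases h3 with h | h | h
  · refine ⟨![-t 1, t 0, 0], ![-t 2, 0, t 0], ?_, ?_, ?_, ?_⟩
    · intro k
      fin_cases k
      · exact F₀.neg_mem (ht 1)
      · exact ht 0
      · exact hz
    · intro k
      fin_cases k
      · exact F₀.neg_mem (ht 2)
      · exact hz
      · exact ht 0
    · intro h0
      have := congrFun h0 0
      simp [cross_apply] at this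
      exact h this
    · intro γ hγ
      rw [vec3_dotProduct] at hγ
      refine ⟨γ 1 / t 0, γ 2 / t 0, ?_⟩
      ext k
      fin_cases k
      · simp
        field_simp
        linear_combination hγ
      · simp
        field_simp
      · simp
        field_simp
  · refine ⟨![t 1, -t 0, 0], ![0, -t 2, t 1], ?_, ?_, ?_, ?_⟩
    · intro k
      fin_cases k
      · exact ht 1
      · exact F₀.neg_mem (ht 0)
      · exact hz
    · intro k
      fin_cases k
      · exact hz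
      · exact F₀.neg_mem (ht 2)
      · exact ht 1
    · intro h0
      have := congrFun h0 1
      simp [cross_apply] at this
      exact h this
    · intro γ hγ
      rw [vec3_dotProduct] at hγ
      refine ⟨γ 0 / t 1, γ 2 / t 1, ?_⟩
      ext k
      fin_cases k
      · simp
        field_simp
      · simp
        field_simp
        linear_combination hγ
      · simp
        field_simp
  · refine ⟨![t 2, 0, -t 0], ![0, t 2, -t 1], ?_, ?_, ?_, ?_⟩
    · intro k
      fin_cases k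
      · exact ht 2
      · exact hz
      · exact F₀.neg_mem (ht 0)
    · intro k
      fin_cases k
      · exact hz
      · exact ht 2
      · exact F₀.neg_mem (ht 1)
    · intro h0
      have := congrFun h0 2
      simp [cross_apply] at this
      exact h this
    · intro γ hγ
      rw [vec3_dotProduct] at hγ
      refine ⟨γ 0 / t 2, γ 1 / t 2, ?_⟩
      ext k
      fin_cases k
      · simp
        field_simp
      · simp
        field_simp
      · simp
        field_simp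
        linear_combination hγ

/-- the cross product of two combinations -/
theorem cross_comb (c' c'' : Fin 3 → F) (x y γ' δ' : F) :
    (γ' • c' + δ' • c'') ⨯₃ (x • c' + y • c'') = (γ' * y - δ' * x) • (c' ⨯₃ c'') := by
  ext k
  fin_cases k <;> simp [cross_apply] <;> ring

/-- the coordinates of a vector of `π` -/
theorem lin3_apply (κ : Fin 3 → Fin m) (hκ : Function.Injective κ) (c : Fin 3 → F) (k : Fin 3) :
    lin3 κ c (Sum.inl (Sum.inl (κ k))) = c k := by
  simp [lin3, ee, Finset.sum_apply, Pi.single_apply, hκ.eq_iff]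

theorem lin3_eq_zero (κ : Fin 3 → Fin m) (hκ : Function.Injective κ) (c : Fin 3 → F)
    (h : lin3 κ c = 0) : c = 0 := by
  ext k
  rw [← lin3_apply κ hκ c k, h]
  rfl

theorem rat_lin3 (F₀ : Subfield F) (κ : Fin 3 → Fin m) (c : Fin 3 → F) (hc : ∀ k, c k ∈ F₀) :
    Rat F₀ (lin3 κ c) := by
  unfold lin3
  exact Rat.sum _ (fun k _ => Rat.smul (hc k) (rat_ee (κ k)))

end YONE

/-- YONE: `p` on a rational line of `π` (and `γ⃗ ≠ 0`) ⇒ `p` is rational. -/
theorem YONE.prat (hm : 4 ≤ m) (F₀ : Subfield F) (ha : a ∈ F₀) (hb : b ∈ F₀)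
    (hab : 4 * b - a ^ 2 ≠ 0) (M : Subgroup (OG m F a b)) (hM : HasRatO F₀ M)
    (hR : RootRatO F₀ M) (κ : Fin 3 → Fin m) (hκ : Function.Injective κ)
    (v w : Idx m → F) (hv : QfMinus m F a b v = 0) (hw : QfMinus m F a b w = 0)
    (hvw : B (QfMinus m F a b) v w = 0) (hind : Indep v w) (hw' : w ∈ Rad M v hv)
    (t : Fin 3 → F) (ht : ∀ k, t k ∈ F₀) (ht0 : t ≠ 0)
    (hγ0 : xi3 κ v ⨯₃ xi3 κ w ≠ 0) (htγ : t ⬝ᵥ (xi3 κ v ⨯₃ xi3 κ w) = 0) :
    PRat F₀ (lin3 κ (xi3 κ v ⨯₃ xi3 κ w)) := by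
  classical
  obtain ⟨α, hα⟩ : ∃ α, α = xi3 κ v := ⟨_, rfl⟩
  obtain ⟨β, hβ⟩ : ∃ β, β = xi3 κ w := ⟨_, rfl⟩
  rw [← hα, ← hβ] at hγ0 htγ ⊢
  obtain ⟨γ, hγ⟩ : ∃ γ, γ = α ⨯₃ β := ⟨_, rfl⟩
  rw [← hγ] at hγ0 htγ ⊢
  obtain ⟨c', c'', hc', hc'', hcc, hspan⟩ := YONE.exists_basis F₀ t ht ht0
  obtain ⟨x, y, hxy⟩ := hspan γ htγ
  have hP'rat : Rat F₀ (lin3 κ c') := YONE.rat_lin3 F₀ κ c' hc'
  have hP''rat : Rat F₀ (lin3 κ c'') := YONE.rat_lin3 F₀ κ c'' hc''
  have hp : lin3 κ γ = x • lin3 κ c' + y • lin3 κ c'' := by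
    rw [hxy, lin3_add, lin3_smul, lin3_smul]
  have hxy0 : x ≠ 0 ∨ y ≠ 0 := by
    by_contra h
    push Not at h
    apply hγ0
    rw [hxy, h.1, h.2, zero_smul, zero_smul, add_zero]
  obtain ⟨γ', δ', hdet⟩ : ∃ γ' δ' : F, x * δ' - y * γ' = 1 := by
    rcases hxy0 with h | h
    · exact ⟨0, x⁻¹, by rw [mul_zero, sub_zero, mul_inv_cancel₀ h]⟩
    · exact ⟨-y⁻¹, 0, by rw [mul_zero, zero_sub, mul_neg, neg_neg, mul_inv_cancel₀ h]⟩
  obtain ⟨A, hAdef⟩ : ∃ A : Fin 3 → F, A = γ' • c' + δ' • c'' := ⟨_, rfl⟩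
  have hA : lin3 κ A = γ' • lin3 κ c' + δ' • lin3 κ c'' := by
    rw [hAdef, lin3_add, lin3_smul, lin3_smul]
  -- `A ⨯₃ γ = -(c' ⨯₃ c'') ≠ 0`
  have hAγ : A ⨯₃ γ = -(c' ⨯₃ c'') := by
    rw [hAdef, hxy, YONE.cross_comb]
    have e : γ' * y - δ' * x = -1 := by linear_combination -hdet
    rw [e, neg_one_smul]
  have hAγ0 : A ⨯₃ γ ≠ 0 := by
    rw [hAγ]
    exact neg_ne_zero.2 hcc
  -- the rational root line `⟨P', P''⟩` and the root element `E(p, a°)`
  have hrad0 : lin3 κ c'' ∈ Rad M (lin3 κ c') (Q_lin3 κ c') :=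
    RATSIEG.mem_rad F₀ ha hb M hM (lin3 κ c') (lin3 κ c'') hP'rat hP''rat (Q_lin3 κ c')
      (B_lin3_lin3 κ c' c'')
  have hQp : QfMinus m F a b (x • lin3 κ c' + y • lin3 κ c'') = 0 := by
    rw [← hp]; exact Q_lin3 κ γ
  have hrad1 := LEMP.rad_wedge (QfMinus m F a b) M (Q_lin3 κ c') (Q_lin3 κ c'') hrad0 x y γ' δ'
    hdet hQp
  have hrad2 : lin3 κ A ∈ Rad M (lin3 κ γ) (Q_lin3 κ γ) :=
    mem_Rad_of_eq (Q_lin3 κ γ) hrad1 hp.symm hA.symm
  -- `p ⊥ v, w`
  have hpv : B (QfMinus m F a b) (lin3 κ γ) v = 0 := by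
    rw [B_lin3, ← hα, hγ, dotProduct_comm]
    exact dot_self_cross α β
  have hpw : B (QfMinus m F a b) (lin3 κ γ) w = 0 := by
    rw [B_lin3, ← hβ, hγ, dotProduct_comm]
    exact dot_cross_self α β
  have hcomm := COMM2.mem_rad M hv hw (Q_lin3 κ γ) hvw hpv hpw hw' hrad2
  have hBw : B (QfMinus m F a b) w (lin3 κ A) = A ⬝ᵥ β := by
    rw [B_comm, B_lin3, ← hβ]
  have hBv : B (QfMinus m F a b) v (lin3 κ A) = A ⬝ᵥ α := by
    rw [B_comm, B_lin3, ← hα]
  rw [hBw, hBv] at hcomm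
  obtain ⟨y', hy'⟩ : ∃ y' : Idx m → F, y' = (A ⬝ᵥ β) • v - (A ⬝ᵥ α) • w := ⟨_, rfl⟩
  rw [← hy'] at hcomm
  -- not both coefficients vanish
  have hne : A ⬝ᵥ β ≠ 0 ∨ A ⬝ᵥ α ≠ 0 := by
    by_contra h
    push Not at h
    apply hAγ0
    rw [hγ, cross_cross_eq_smul_sub_smul', h.1, dotProduct_comm α A, h.2, zero_smul, zero_smul,
      sub_zero]
  have hαβ : ∀ s r : F, s • α + r • β = 0 → s = 0 ∧ r = 0 := by
    have := crossProduct_ne_zero_iff_linearIndependent.1 (hγ ▸ hγ0)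
    exact LinearIndependent.pair_iff.1 this
  have hAγli : ∀ s r : F, s • A + r • γ = 0 → s = 0 ∧ r = 0 := by
    have := crossProduct_ne_zero_iff_linearIndependent.1 hAγ0
    exact LinearIndependent.pair_iff.1 this
  have hxi_y' : xi3 κ y' = (A ⬝ᵥ β) • α + (-(A ⬝ᵥ α)) • β := by
    rw [hy', hα, hβ, neg_smul, ← sub_eq_add_neg]
    rfl
  -- independence of `p, y', a°`
  have hli3 : ∀ c1 c2 c3 : F, c1 • lin3 κ γ + c2 • y' + c3 • lin3 κ A = 0 →
      c1 = 0 ∧ c2 = 0 ∧ c3 = 0 := by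
    intro c1 c2 c3 h
    have h1 := congrArg (xi3 κ) h
    rw [xi3_add, xi3_add, xi3_smul, xi3_smul, xi3_smul, xi3_lin3, xi3_lin3, smul_zero, smul_zero,
      zero_add, add_zero, hxi_y', smul_add, smul_smul, smul_smul] at h1
    obtain ⟨e1, e2⟩ := hαβ _ _ (by rw [h1]; rfl)
    have hc2 : c2 = 0 := by
      rcases hne with h' | h'
      · exact (mul_eq_zero.1 e1).resolve_right h'
      · exact (mul_eq_zero.1 e2).resolve_right (neg_ne_zero.2 h')
    rw [hc2, zero_smul, add_zero, ← lin3_smul, ← lin3_smul, ← lin3_add] at h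
    have h2 := YONE.lin3_eq_zero κ hκ _ h
    rw [add_comm] at h2
    obtain ⟨e3, e4⟩ := hAγli _ _ h2
    exact ⟨e4, hc2, e3⟩
  have hindep : Indep (lin3 κ γ) y' := by
    intro c1 c2 h
    have := hli3 c1 c2 0 (by rw [zero_smul, add_zero]; exact h)
    exact ⟨this.1, this.2.1⟩
  have hind3 : LinearIndependent F ![lin3 κ γ, y', lin3 κ A] := by
    rw [Fintype.linearIndependent_iff]
    intro g hg
    rw [Fin.sum_univ_three] at hg
    simp only [Matrix.cons_val_zero, Matrix.cons_val_one, Matrix.cons_val_two,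
      Matrix.head_cons, Matrix.tail_cons] at hg
    obtain ⟨e0, e1, e2⟩ := hli3 _ _ _ hg
    intro i
    fin_cases i
    · exact e0
    · exact e1
    · exact e2
  -- `y'` is singular and orthogonal to `p` and to `P'`
  have hQy' : QfMinus m F a b y' = 0 := by
    have h := LEMP.Q_comb3 (QfMinus m F a b) hv hw (map_zero _ : QfMinus m F a b 0 = 0) hvw
      (by rw [B_comm]; exact QuadraticMap.polar_zero_right _ _)
      (by rw [B_comm]; exact QuadraticMap.polar_zero_right _ _) (A ⬝ᵥ β) (-(A ⬝ᵥ α)) 0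
    rw [smul_zero, add_zero, neg_smul, ← sub_eq_add_neg, ← hy'] at h
    exact h
  have hpy' : B (QfMinus m F a b) (lin3 κ γ) y' = 0 := Rad_perp hcomm
  have hP'p : B (QfMinus m F a b) (lin3 κ c') (lin3 κ γ) = 0 := B_lin3_lin3 κ c' γ
  have hP'y' : B (QfMinus m F a b) (lin3 κ c') y' = 0 := by
    rw [B_lin3, hxi_y']
    rw [dotProduct_add, dotProduct_smul, dotProduct_smul, smul_eq_mul, smul_eq_mul]
    have h1 := cross_dot_cross c' A α β
    have h2 : c' ⨯₃ A = δ' • (c' ⨯₃ c'') := by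
      rw [hAdef, map_add, map_smul, map_smul, cross_self, smul_zero, zero_add]
    have h3 : (c' ⨯₃ c'') ⬝ᵥ γ = 0 := by
      rw [hxy, dotProduct_add, dotProduct_smul, dotProduct_smul, dotProduct_comm _ c',
        dotProduct_comm _ c'', dot_self_cross, dot_cross_self, smul_zero, smul_zero, add_zero]
    rw [h2, ← hγ, smul_dotProduct, h3, smul_zero] at h1
    linear_combination -h1
  have hP'0 : lin3 κ c' ≠ 0 := by
    intro h
    have := YONE.lin3_eq_zero κ hκ c' h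
    apply hcc
    rw [this, LinearMap.map_zero, LinearMap.zero_apply]
  -- the two rational lines through `p`
  have hline1 : RatLine F₀ (lin3 κ γ) y' :=
    LEMP.ratLine hm F₀ ha hb hab M hM hR (lin3 κ γ) y' (Q_lin3 κ γ) hQy' hpy' hindep hcomm
      (lin3 κ c') hP'rat hP'0 (Q_lin3 κ c') hP'p hP'y'
  have hline2 : RatLine F₀ (lin3 κ γ) (lin3 κ A) := by
    refine ⟨δ', -y, -γ', x, ?_, ?_, ?_⟩
    · have e : δ' * x - -y * -γ' = 1 := by linear_combination hdet
      rw [e]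
      exact one_ne_zero
    · have e : δ' • lin3 κ γ + -y • lin3 κ A = lin3 κ c' := by
        rw [hp, hA]
        have e1 : δ' • (x • lin3 κ c' + y • lin3 κ c'') + -y • (γ' • lin3 κ c' + δ' • lin3 κ c'') =
            (x * δ' - y * γ') • lin3 κ c' := by module
        rw [e1, hdet, one_smul]
      rw [e]
      exact hP'rat
    · have e : -γ' • lin3 κ γ + x • lin3 κ A = lin3 κ c'' := by
        rw [hp, hA]
        have e1 : -γ' • (x • lin3 κ c' + y • lin3 κ c'') + x • (γ' • lin3 κ c' + δ' • lin3 κ c'') =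
            (x * δ' - y * γ') • lin3 κ c'' := by module
        rw [e1, hdet, one_smul]
      rw [e]
      exact hP''rat
  exact INTERPT.prat_of_two_lines F₀ (lin3 κ γ) y' (lin3 κ A) hind3 hline1 hline2

end Cfsg.Agent.S5702P
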