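import Mathlib
import Cfsg.Agent.Helper13.PGDefs

set_option autoImplicit false

/-!
# S2490 piece NO11: no normal subgroup of order 11
-/

open Cfsg.Agent.Helper13.PG

namespace Cfsg.Agent.Helper17.PG

variable {G : Type*} [Group G]

/-- computing a factorization exponent from divisibility -/
theorem fact_eq_of_dvd (n p k : ℕ) (hp : p.Prime) (hn : n ≠ 0) (h1 : p ^ k ∣ n)
    (h2 : ¬ p ^ (k + 1) ∣ n) : n.factorization p = k := by
  have a1 : k ≤ n.factorization p := (hp.pow_dvd_iff_le_factorization hn).1 h1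
  have a2 : ¬ k + 1 ≤ n.factorization p := fun h => h2 ((hp.pow_dvd_iff_le_factorization hn).2 h)
  omega

/-- order of a Sylow subgroup of a group of order 7920 -/
theorem card_sylow_of_card [Finite G] (hord : Nat.card G = 7920) (p k : ℕ) [Fact p.Prime]
    (h1 : p ^ k ∣ 7920) (h2 : ¬ p ^ (k + 1) ∣ 7920) (P : Sylow p G) :
    Nat.card ↥(P : Subgroup G) = p ^ k := by
  rw [Sylow.card_eq_multiplicity, hord, fact_eq_of_dvd 7920 p k Fact.out (by norm_num) h1 h2]

/-- NO11 -/
theorem no_normal_eleven [Finite G] {S : Set ℕ} (hD : Disc G S) (h1 : L1 G) (h2 : L2 G)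
    (X : Subgroup G) (hXn : X.Normal) (hX : Nat.card ↥X = 11) : False := by
  have hp2 : Nat.Prime 2 := by norm_num
  have hp3 : Nat.Prime 3 := by norm_num
  have hp5 : Nat.Prime 5 := by norm_num
  have hp11 : Nat.Prime 11 := by norm_num
  have : Fact (Nat.Prime 2) := ⟨hp2⟩
  have : Fact (Nat.Prime 3) := ⟨hp3⟩
  have : Fact (Nat.Prime 5) := ⟨hp5⟩
  have : Fact (Nat.Prime 11) := ⟨hp11⟩
  have hord := hD.card
  have hXp : IsPGroup 11 ↥X := IsPGroup.of_card (n := 1) (by rw [hX]; norm_num)
  have hXtop : ∀ R : Subgroup G, R ≤ Subgroup.normalizer (X : Set G) := by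
    intro R
    rw [Subgroup.normalizer_eq_top]
    exact le_top
  -- every `q ∈ {2,3,5}` outside `S` is `5`
  have hB : ∀ q : ℕ, (q = 2 ∨ q = 3 ∨ q = 5) → q ∉ S → q = 5 := by
    intro q hq hqS
    rcases hq with rfl | rfl | rfl
    · exfalso
      obtain ⟨Q⟩ : Nonempty (Sylow 2 G) := inferInstance
      have hQ : Nat.card ↥(Q : Subgroup G) = 2 ^ 4 :=
        card_sylow_of_card hord 2 4 (by norm_num) (by norm_num) Q
      have := h1 2 11 hp2 hp11 (by norm_num) Q X Q.2 hXp (hXtop _)
        (fun g => by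
          have := hD.noedge 11 2 (by norm_num) (by norm_num) hD.mem11 hqS g
          rwa [mul_comm] at this)
      rw [hQ, hX] at this
      norm_num at this
    · exfalso
      obtain ⟨Q⟩ : Nonempty (Sylow 3 G) := inferInstance
      have hQ : Nat.card ↥(Q : Subgroup G) = 3 ^ 2 :=
        card_sylow_of_card hord 3 2 (by norm_num) (by norm_num) Q
      have := h1 3 11 hp3 hp11 (by norm_num) Q X Q.2 hXp (hXtop _)
        (fun g => by
          have := hD.noedge 11 3 (by norm_num) (by norm_num) hD.mem11 hqS g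
          rwa [mul_comm] at this)
      rw [hQ, hX] at this
      norm_num at this
    · rfl
  have h5S : (5 : ℕ) ∉ S := by
    obtain ⟨q, hq, hqS⟩ := hD.exB
    have := hB q hq hqS
    rwa [this] at hqS
  have h3S : (3 : ℕ) ∈ S := by
    by_contra h
    have := hB 3 (by norm_num) h
    norm_num at this
  -- the kernel of the conjugation action on `X`
  let f : G →* MulAut ↥X := MulAut.conjNormal
  set K : Subgroup G := f.ker with hK
  have hKn : K.Normal := f.normal_ker
  have hKcomm : ∀ k ∈ K, ∀ x ∈ X, k * x = x * k := by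
    intro k hk x hx
    have h : f k = 1 := hk
    have h' : (f k) ⟨x, hx⟩ = ⟨x, hx⟩ := by rw [h]; rfl
    have h'' := congrArg Subtype.val h'
    rw [MulAut.conjNormal_apply] at h''
    exact mul_inv_eq_iff_eq_mul.1 h''
  -- the index of `K` divides 10
  have hcyc : IsCyclic ↥X := isCyclic_of_prime_card hX
  have hidx : K.index ∣ 10 := by
    rw [hK, Subgroup.index_ker]
    have h10 : Nat.card (MulAut ↥X) = 10 := by
      rw [IsCyclic.card_mulAut, hX]
      decide
    rw [← h10]
    exact Subgroup.card_subgroup_dvd_card _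
  have hKcard : Nat.card ↥K * K.index = 7920 := by
    rw [Subgroup.card_mul_index, hord]
  have hK0 : Nat.card ↥K ≠ 0 := Nat.card_pos.ne'
  have h9K : 3 ^ 2 ∣ Nat.card ↥K := by
    have hcop : Nat.Coprime (3 ^ 2) K.index :=
      Nat.Coprime.coprime_dvd_right hidx (by norm_num)
    have : 3 ^ 2 ∣ Nat.card ↥K * K.index := by rw [hKcard]; norm_num
    exact hcop.dvd_of_dvd_mul_right this
  have h27K : ¬ 3 ^ (2 + 1) ∣ Nat.card ↥K := by
    intro h
    have : 3 ^ (2 + 1) ∣ Nat.card ↥K * K.index := Dvd.dvd.mul_right h _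
    rw [hKcard] at this
    norm_num at this
  have hfac : (Nat.card ↥K).factorization 3 = 2 := fact_eq_of_dvd _ 3 2 hp3 hK0 h9K h27K
  -- `5 ∤ |K|`
  have h5K : ¬ 5 ∣ Nat.card ↥K := by
    intro h5
    obtain ⟨k, hk⟩ := exists_prime_orderOf_dvd_card' 5 h5
    obtain ⟨x, hx⟩ := exists_prime_orderOf_dvd_card' 11 (by rw [hX] : 11 ∣ Nat.card ↥X)
    rw [Subgroup.orderOf_mk] at hk hx  
    have hc : Commute (k : G) (x : G) := hKcomm k k.2 x x.2
    have := hc.orderOf_mul_eq_mul_orderOf_of_coprime (by rw [hk, hx]; norm_num)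
    rw [hk, hx] at this
    exact hD.noedge 11 5 (by norm_num) (by norm_num) hD.mem11 h5S _ (by rw [this])
  -- a Sylow 5-subgroup normalizes a Sylow 3-subgroup of `K`
  obtain ⟨F⟩ : Nonempty (Sylow 5 G) := inferInstance
  have hF : Nat.card ↥(F : Subgroup G) = 5 ^ 1 :=
    card_sylow_of_card hord 5 1 (by norm_num) (by norm_num) F
  obtain ⟨Q, hQK, hQcard, hFQ⟩ := h2 5 3 hp5 hp3 K hKn F F.2 h5K
  rw [hfac] at hQcard
  have hQp : IsPGroup 3 ↥Q := IsPGroup.of_card hQcard
  have := h1 5 3 hp5 hp3 (by norm_num) F Q F.2 hQp hFQ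
    (fun g => by
      have := hD.noedge 3 5 (by norm_num) (by norm_num) h3S h5S g
      rwa [mul_comm] at this)
  rw [hF, hQcard] at this
  norm_num at this

end Cfsg.Agent.Helper17.PG
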