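import Mathlib
import Cfsg.Agent.Helper13.S2276Defs

set_option autoImplicit false
set_option linter.unusedSectionVars false
set_option linter.unusedVariables false

/-! # S2276 piece DISTINCT -/

namespace Cfsg.Agent.S2276P

open Equiv Equiv.Perm

theorem DISTINCT.geom {p : ℕ} (hp3 : 3 ≤ p) (a : ℕ) (ha : 1 ≤ a) :
    2 * (∑ k ∈ Finset.Ico 1 a, p ^ k) + p ≤ p ^ a := by
  induction a, ha using Nat.le_induction with
  | base => simp
  | succ a ha ih =>
    rw [Finset.sum_Ico_succ_top ha, pow_succ]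
    nlinarith [Nat.one_le_pow a p (by omega)]

/-- DISTINCT [S-M]: distinct powers of `p` below `p ^ a` have a small sum. -/
theorem DISTINCT.main {p : ℕ} (hp : p.Prime) (hp3 : 3 ≤ p) (a : ℕ) (ha : 1 ≤ a) (μ : Multiset ℕ)
    (hμ : ∀ y ∈ μ, ∃ k, 1 ≤ k ∧ k < a ∧ y = p ^ k) (hnd : μ.Nodup) : μ.sum + 2 ≤ p ^ a := by
  classical
  let S : Finset ℕ := ⟨μ, hnd⟩
  have hsum : μ.sum = ∑ x ∈ S, x := by
    have := Finset.sum_map_val S (fun x => x)
    simp only [Multiset.map_id'] at this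
    exact this
  have hsub : S ⊆ (Finset.Ico 1 a).image (fun k => p ^ k) := by
    intro y hy
    have hy' : y ∈ μ := hy
    obtain ⟨k, hk1, hka, rfl⟩ := hμ y hy'
    exact Finset.mem_image.2 ⟨k, Finset.mem_Ico.2 ⟨hk1, hka⟩, rfl⟩
  have hinj : Function.Injective (fun k => p ^ k) := Nat.pow_right_injective (by omega)
  have h1 : ∑ x ∈ S, x ≤ ∑ k ∈ Finset.Ico 1 a, p ^ k := by
    calc ∑ x ∈ S, x ≤ ∑ x ∈ (Finset.Ico 1 a).image (fun k => p ^ k), x :=
          Finset.sum_le_sum_of_subset hsub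
      _ = ∑ k ∈ Finset.Ico 1 a, p ^ k := Finset.sum_image (fun x _ y _ hxy => hinj hxy)
  have h2 := DISTINCT.geom hp3 a ha
  have h3 : p ≤ p ^ a := Nat.le_self_pow (by omega) p
  omega

end Cfsg.Agent.S2276P
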