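import Mathlib
import Cfsg.Agent.Helper29.S2264Defs
import Cfsg.Agent.Helper7.S2264FACS
import Cfsg.Agent.Helper14.S2264PARTITION

/-! S2264 piece EXC: the exceptional configuration `q = 3`, `deg μ ≤ 4`, `Emax = 4`, `Lexp = 2`, only
unipotent-type factors forces `μ = (X + 1)^4`. -/

set_option autoImplicit false

namespace Cfsg.Agent.S2264P

open Polynomial
open scoped Classical

noncomputable section

variable {F : Type*} [Field F]

/-- EXC -/
theorem eq_of_exception [Fintype F] {μ : F[X]} (hμ : Good μ) (hq : Fintype.card F = 3)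
    (hdeg : μ.natDegree ≤ 4) (hE : Emax μ = 4) (hL : Lexp μ = 2) (ht : Sm μ ∪ Sp μ = ∅) :
    μ = (X + 1) ^ 4 := by
  have hμ0 : μ ≠ 0 := hμ.monic.ne_zero
  have hne : (facs μ).Nonempty := by
    by_contra h
    rw [Finset.not_nonempty_iff_eq_empty] at h
    unfold Emax at hE
    rw [h, Finset.sup_empty] at hE
    simp at hE
  obtain ⟨f, hf, hfE⟩ := Finset.exists_mem_eq_sup (facs μ) hne (mult μ)
  have hm4 : mult μ f = 4 := by rw [← hfE]; exact hE
  have hirr := ((mem_facs hμ0).mp hf).1
  have hdegf : 1 ≤ f.natDegree := hirr.natDegree_pos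
  have hsum := natDegree_eq_sum hμ.monic
  rw [← Finset.add_sum_erase _ _ hf, hm4] at hsum
  have hrest : ∑ g ∈ (facs μ).erase f, mult μ g * g.natDegree = 0 := by omega
  have herase : (facs μ).erase f = ∅ := by
    by_contra h
    obtain ⟨g, hg⟩ := Finset.nonempty_iff_ne_empty.mpr h
    have hg' := Finset.mem_of_mem_erase hg
    have h0 := Finset.sum_eq_zero_iff.mp hrest g hg
    have h1 := mult_pos hg'
    have h2 := ((mem_facs hμ0).mp hg').1.natDegree_pos
    have : 0 < mult μ g * g.natDegree := Nat.mul_pos h1 h2
    omega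
  have hfacs : facs μ = {f} := by
    ext g
    constructor
    · intro hg
      by_contra hne'
      have : g ∈ (facs μ).erase f :=
        Finset.mem_erase.mpr ⟨by simpa using hne', hg⟩
      rw [herase] at this
      simp at this
    · intro hg
      rw [Finset.mem_singleton] at hg
      rw [hg]; exact hf
  have hprod := prod_facs hμ.monic
  rw [hfacs, Finset.prod_singleton, hm4] at hprod
  have hunip : IsUnip f := by
    have h1 := facs_eq_union μ
    rw [ht, Finset.union_empty] at h1
    have hfu : f ∈ Su μ := by rw [← h1]; exact hf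
    unfold Su at hfu
    exact (Finset.mem_filter.mp hfu).2
  rcases hunip with h1 | h1
  · exfalso
    unfold Lexp at hL
    rw [hfacs, Finset.lcm_singleton] at hL
    have : expo f = 1 := by unfold expo; rw [if_pos h1]
    rw [this] at hL
    simp at hL
  · rw [← hprod, h1]

end

end Cfsg.Agent.S2264P
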