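import Mathlib

/-! S2264 pieces NUMT and NUMU (pure arithmetic): bounds for `p ^ clog p E`. -/

set_option autoImplicit false

namespace Cfsg.Agent.S2264P

namespace NUMT

theorem two_mul_le_two_pow (k : ℕ) : 2 * k ≤ 2 ^ k := by
  induction k with
  | zero => simp
  | succ n ih =>
    rcases Nat.eq_zero_or_pos n with rfl | hn
    · simp
    · have : 2 ≤ 2 ^ n := by
        calc 2 = 2 ^ 1 := rfl
          _ ≤ 2 ^ n := Nat.pow_le_pow_right (by norm_num) hn
      rw [pow_succ]; omega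

theorem two_mul_add_one_le_three_pow (k : ℕ) : 2 * k + 1 ≤ 3 ^ k := by
  induction k with
  | zero => simp
  | succ n ih => rw [pow_succ]; omega

theorem succ_le_two_pow (k : ℕ) : k + 1 ≤ 2 ^ k := by
  induction k with
  | zero => simp
  | succ n ih => rw [pow_succ]; omega

/-- `2m + 1 ≤ 3^(m-1)` for `m ≥ 3` -/
theorem two_mul_add_one_le_three_pow_pred (m : ℕ) (hm : 3 ≤ m) : 2 * m + 1 ≤ 3 ^ (m - 1) := by
  obtain ⟨j, rfl⟩ : ∃ j, m = j + 3 := ⟨m - 3, by omega⟩
  have e : j + 3 - 1 = j + 2 := by omega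
  rw [e]
  induction j with
  | zero => norm_num
  | succ n ih =>
    have ih' := ih (by omega) (by omega)
    have e2 : n + 1 + 2 = (n + 2) + 1 := by omega
    rw [e2, pow_succ]; omega

theorem pow_clog_le {p E j : ℕ} (h : E ≤ p ^ j) (hp : 1 ≤ p) : p ^ Nat.clog p E ≤ p ^ j :=
  Nat.pow_le_pow_right hp (Nat.clog_le_of_le_pow h)

end NUMT

/-- NUMT -/
theorem numt (p q k E : ℕ) (hp : p.Prime) (hpq : p ≤ q) (hE1 : 1 ≤ E)
    (hE : E ≤ 2 * k ∨ (E ≤ 2 * k + 1 ∧ p ≠ 2) ∨ E ≤ k + 1) :
    p ^ Nat.clog p E ≤ q ^ k := by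
  have hp2 := hp.two_le
  have hEp : E ≤ p ^ k := by
    rcases hE with h | ⟨h, hp2'⟩ | h
    · calc E ≤ 2 * k := h
        _ ≤ 2 ^ k := NUMT.two_mul_le_two_pow k
        _ ≤ p ^ k := Nat.pow_le_pow_left hp2 k
    · have hp3 : 3 ≤ p := by omega
      calc E ≤ 2 * k + 1 := h
        _ ≤ 3 ^ k := NUMT.two_mul_add_one_le_three_pow k
        _ ≤ p ^ k := Nat.pow_le_pow_left hp3 k
    · calc E ≤ k + 1 := h
        _ ≤ 2 ^ k := NUMT.succ_le_two_pow k
        _ ≤ p ^ k := Nat.pow_le_pow_left hp2 k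
  calc p ^ Nat.clog p E ≤ p ^ k := NUMT.pow_clog_le hEp (by omega)
    _ ≤ q ^ k := Nat.pow_le_pow_left hpq k

/-- NUMU -/
theorem numu (p f q m E L : ℕ) (hp : p.Prime) (hq : q = p ^ f) (hf : 1 ≤ f) (hm : 2 ≤ m)
    (hE1 : 1 ≤ E) (hE : E ≤ 2 * m ∨ (E ≤ 2 * m + 1 ∧ 3 ≤ m ∧ p ≠ 2)) (hL : L ∣ 2)
    (hL2 : p = 2 → L = 1) (hexc : ¬ (q = 3 ∧ m = 2 ∧ E = 4 ∧ L = 2)) :
    (q - 1) * (p ^ Nat.clog p E * L) ≤ q ^ (m + 1) := by
  have hp2 := hp.two_le
  have hpq : p ≤ q := by
    rw [hq]
    calc p = p ^ 1 := (pow_one p).symm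
      _ ≤ p ^ f := Nat.pow_le_pow_right (by omega) hf
  have hq2 : 2 ≤ q := le_trans hp2 hpq
  have hLle : L ≤ 2 := Nat.le_of_dvd (by norm_num) hL
  have hL1 : 1 ≤ L := Nat.pos_of_dvd_of_pos hL (by norm_num)
  -- general closing lemma: if `p ^ clog ≤ q ^ (m - 1)` then done
  have close1 : p ^ Nat.clog p E ≤ q ^ (m - 1) → (q - 1) * (p ^ Nat.clog p E * L) ≤ q ^ (m + 1) := by
    intro h1
    have e : m + 1 = (m - 1) + 2 := by omega
    rw [e, pow_add]
    have h2 : (q - 1) * 2 ≤ q ^ 2 := by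
      obtain ⟨t, rfl⟩ : ∃ t, q = t + 2 := ⟨q - 2, by omega⟩
      have : t + 2 - 1 = t + 1 := by omega
      rw [this]; nlinarith
    calc (q - 1) * (p ^ Nat.clog p E * L) ≤ (q - 1) * (q ^ (m - 1) * 2) :=
          Nat.mul_le_mul_left _ (Nat.mul_le_mul h1 hLle)
      _ = q ^ (m - 1) * ((q - 1) * 2) := by ring
      _ ≤ q ^ (m - 1) * q ^ 2 := Nat.mul_le_mul_left _ h2
  have close2 : E ≤ p ^ (m - 1) → (q - 1) * (p ^ Nat.clog p E * L) ≤ q ^ (m + 1) := by
    intro h1
    apply close1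
    calc p ^ Nat.clog p E ≤ p ^ (m - 1) := NUMT.pow_clog_le h1 (by omega)
      _ ≤ q ^ (m - 1) := Nat.pow_le_pow_left hpq _
  by_cases hp2' : p = 2
  · -- `p = 2`, `L = 1`
    have hL1' := hL2 hp2'
    have hE' : E ≤ 2 * m := by
      rcases hE with h | ⟨_, _, h⟩
      · exact h
      · exact absurd hp2' h
    have h1 : p ^ Nat.clog p E ≤ q ^ m := by
      calc p ^ Nat.clog p E ≤ p ^ m := by
            apply NUMT.pow_clog_le _ (by omega)
            rw [hp2']
            exact le_trans hE' (NUMT.two_mul_le_two_pow m)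
        _ ≤ q ^ m := Nat.pow_le_pow_left hpq _
    rw [hL1', mul_one, pow_succ]
    calc (q - 1) * p ^ Nat.clog p E ≤ q * q ^ m := Nat.mul_le_mul (by omega) h1
      _ = q ^ m * q := by ring
  · have hp3 : 3 ≤ p := by omega
    by_cases hm3 : 3 ≤ m
    · apply close2
      have hE' : E ≤ 2 * m + 1 := by
        rcases hE with h | ⟨h, _, _⟩
        · omega
        · exact h
      calc E ≤ 2 * m + 1 := hE'
        _ ≤ 3 ^ (m - 1) := NUMT.two_mul_add_one_le_three_pow_pred m hm3
        _ ≤ p ^ (m - 1) := Nat.pow_le_pow_left hp3 _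
    · have hm2 : m = 2 := by omega
      subst hm2
      have hE' : E ≤ 4 := by
        rcases hE with h | ⟨_, h, _⟩
        · omega
        · omega
      by_cases hE3 : E ≤ p
      · apply close2
        simpa using hE3
      · -- `p = 3`, `E = 4`
        have hp3' : p = 3 := by omega
        have hE4 : E = 4 := by omega
        subst hp3' hE4
        have hc : Nat.clog 3 4 = 2 := by
          apply le_antisymm
          · exact Nat.clog_le_of_le_pow (by norm_num)
          · by_contra hlt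
            have h1 : Nat.clog 3 4 ≤ 1 := by omega
            have := (Nat.clog_le_iff_le_pow (by norm_num : 1 < 3)).mp h1
            norm_num at this
        rw [hc]
        by_cases hf1 : f = 1
        · subst hf1
          have hq3 : q = 3 := by rw [hq]; norm_num
          have hL1'' : L = 1 := by
            by_contra hne
            have : L = 2 := by omega
            exact hexc ⟨hq3, rfl, rfl, this⟩
          rw [hq3, hL1'']
          norm_num
        · have hf2 : 2 ≤ f := by omega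
          have hq9 : 9 ≤ q := by
            rw [hq]
            calc 9 = 3 ^ 2 := by norm_num
              _ ≤ 3 ^ f := Nat.pow_le_pow_right (by norm_num) hf2
          have h1 : (q - 1) * (3 ^ 2 * L) ≤ q * (9 * 2) := by
            apply Nat.mul_le_mul (by omega)
            apply Nat.mul_le_mul (by norm_num) hLle
          have h2 : q * (9 * 2) ≤ q ^ (2 + 1) := by
            have : q ^ (2 + 1) = q * (q * q) := by ring
            rw [this]
            apply Nat.mul_le_mul_left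
            nlinarith
          exact le_trans h1 h2

end Cfsg.Agent.S2264P
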