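import Mathlib
import Cfsg.Agent.Helper14.S2264TELE

/-! S2264 piece LCMMINUS (pure arithmetic): `(q - 1) * lcm_{a ∈ D} (q^a + 1) ≤ q^(ΣD + 1)`. -/

set_option autoImplicit false

namespace Cfsg.Agent.S2264P

namespace LCMMINUS

/-- the 2-adic valuation -/
def v2 (a : ℕ) : ℕ := a.factorization 2

/-- the cofactor `(q^a + 1) / (q^(2^v2 a) + 1)` -/
def cof (q a : ℕ) : ℕ := (q ^ a + 1) / (q ^ 2 ^ v2 a + 1)

theorem two_pow_v2_le {a : ℕ} (ha : 1 ≤ a) : 2 ^ v2 a ≤ a :=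
  Nat.ordProj_le 2 (by omega)

/-- for odd `b` and `x ≥ 1`: `x^b + 1 = (x + 1) c` with `c ≤ x^(b-1)` -/
theorem odd_factor (x b : ℕ) (hx : 1 ≤ x) (hb : Odd b) :
    (x + 1) * ((x ^ b + 1) / (x + 1)) = x ^ b + 1 ∧ (x ^ b + 1) / (x + 1) ≤ x ^ (b - 1) := by
  have hdvd : x + 1 ∣ x ^ b + 1 := by
    simpa only [one_pow] using hb.nat_add_dvd_pow_add_pow x 1
  have h1 := Nat.mul_div_cancel' hdvd
  refine ⟨h1, ?_⟩
  have hb1 : 1 ≤ b := hb.pos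
  have hpos : 1 ≤ x ^ (b - 1) := Nat.one_le_pow _ _ hx
  have e : x ^ b = x ^ (b - 1) * x := by
    rw [← pow_succ]; congr 1; omega
  have h2 : (x + 1) * ((x ^ b + 1) / (x + 1)) ≤ (x + 1) * x ^ (b - 1) := by
    rw [h1, e]; nlinarith
  exact Nat.le_of_mul_le_mul_left h2 (by omega)

theorem cof_spec (q a : ℕ) (hq : 2 ≤ q) (ha : 1 ≤ a) :
    (q ^ 2 ^ v2 a + 1) * cof q a = q ^ a + 1 ∧ cof q a ≤ q ^ (a - 2 ^ v2 a) := by
  have hmul : 2 ^ v2 a * (a / 2 ^ v2 a) = a := Nat.ordProj_mul_ordCompl_eq_self a 2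
  have hodd : Odd (a / 2 ^ v2 a) := by
    rw [← Nat.not_even_iff_odd, even_iff_two_dvd]
    exact Nat.not_dvd_ordCompl Nat.prime_two (by omega)
  have hx : 1 ≤ q ^ 2 ^ v2 a := Nat.one_le_pow _ _ (by omega)
  obtain ⟨h1, h2⟩ := odd_factor (q ^ 2 ^ v2 a) (a / 2 ^ v2 a) hx hodd
  have e1 : (q ^ 2 ^ v2 a) ^ (a / 2 ^ v2 a) = q ^ a := by
    rw [← pow_mul, hmul]
  have e2 : (q ^ 2 ^ v2 a) ^ (a / 2 ^ v2 a - 1) = q ^ (a - 2 ^ v2 a) := by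
    rw [← pow_mul, Nat.mul_sub, mul_one, hmul]
  rw [e1] at h1 h2
  rw [e2] at h2
  exact ⟨h1, h2⟩

end LCMMINUS

open LCMMINUS in
/-- LCMMINUS -/
theorem lcm_minus_bound (q : ℕ) (hq : 2 ≤ q) (D : Finset ℕ) (hD : ∀ a ∈ D, 1 ≤ a) :
    (q - 1) * D.lcm (fun a => q ^ a + 1) ≤ q ^ (D.sum id + 1) := by
  classical
  set I : Finset ℕ := D.image v2 with hI
  set P : ℕ := (∏ i ∈ I, (q ^ 2 ^ i + 1)) * ∏ a ∈ D, cof q a with hP
  have hcpos : ∀ a ∈ D, 0 < cof q a := by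
    intro a ha
    have h1 := (cof_spec q a hq (hD a ha)).1
    rcases Nat.eq_zero_or_pos (cof q a) with h0 | h0
    · rw [h0, mul_zero] at h1; omega
    · exact h0
  have hPpos : 0 < P := by
    apply Nat.mul_pos
    · exact Finset.prod_pos (fun i _ => by positivity)
    · exact Finset.prod_pos hcpos
  have hdvd : D.lcm (fun a => q ^ a + 1) ∣ P := by
    apply Finset.lcm_dvd
    intro a ha
    rw [← (cof_spec q a hq (hD a ha)).1]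
    exact mul_dvd_mul (Finset.dvd_prod_of_mem (fun i => q ^ 2 ^ i + 1) (Finset.mem_image_of_mem v2 ha))
      (Finset.dvd_prod_of_mem (fun a => cof q a) ha)
  have hle : D.lcm (fun a => q ^ a + 1) ≤ P := Nat.le_of_dvd hPpos hdvd
  have hprodc : ∏ a ∈ D, cof q a ≤ q ^ (∑ a ∈ D, (a - 2 ^ v2 a)) := by
    rw [← Finset.prod_pow_eq_pow_sum]
    exact Finset.prod_le_prod' (fun a ha => (cof_spec q a hq (hD a ha)).2)
  have hsumI : ∑ i ∈ I, 2 ^ i ≤ ∑ a ∈ D, 2 ^ v2 a :=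
    Finset.sum_image_le_of_nonneg (f := fun i => 2 ^ i) (fun _ _ => Nat.zero_le _)
  have hsum : ∑ a ∈ D, (a - 2 ^ v2 a) + ∑ a ∈ D, 2 ^ v2 a = D.sum id := by
    rw [← Finset.sum_add_distrib]
    apply Finset.sum_congr rfl
    intro a ha
    exact Nat.sub_add_cancel (two_pow_v2_le (hD a ha))
  calc (q - 1) * D.lcm (fun a => q ^ a + 1) ≤ (q - 1) * P := Nat.mul_le_mul_left _ hle
    _ = ((q - 1) * ∏ i ∈ I, (q ^ 2 ^ i + 1)) * ∏ a ∈ D, cof q a := by rw [hP, mul_assoc]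
    _ ≤ q ^ (1 + ∑ i ∈ I, 2 ^ i) * q ^ (∑ a ∈ D, (a - 2 ^ v2 a)) :=
        Nat.mul_le_mul (tele_bound q hq I) hprodc
    _ = q ^ (1 + ∑ i ∈ I, 2 ^ i + ∑ a ∈ D, (a - 2 ^ v2 a)) := by rw [← pow_add]
    _ ≤ q ^ (D.sum id + 1) := by
        apply Nat.pow_le_pow_right (by omega)
        omega

end Cfsg.Agent.S2264P
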