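import Mathlib
import Cfsg.Prelude.Def_Characters
import Cfsg.Prelude.Def_Blocks
import Cfsg.Agent.Helper24.Abelian
import Cfsg.Agent.Helper24.Linear

set_option autoImplicit false
set_option linter.all false

namespace Cfsg.Agent.S4501P

open Cfsg Cfsg.Agent.Helper24
open scoped ComplexConjugate

universe u

variable {G : Type u} [Group G] [Finite G]

/-- an involution in the centre of a Sylow 2-subgroup: its centraliser contains the Sylow
2-subgroup. -/
theorem exists_central_involution (h2 : 2 ∣ Nat.card G) :
    ∃ z : G, orderOf z = 2 ∧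
      2 ^ (Nat.card G).factorization 2 ∣ Nat.card (Subgroup.centralizer ({z} : Set G)) := by
  haveI : Fact (Nat.Prime 2) := ⟨Nat.prime_two⟩
  obtain ⟨P⟩ : Nonempty (Sylow 2 G) := inferInstance
  have hcard : Nat.card P = 2 ^ (Nat.card G).factorization 2 := Sylow.card_eq_multiplicity P
  have hk : 0 < (Nat.card G).factorization 2 :=
    Nat.prime_two.factorization_pos_of_dvd Nat.card_pos.ne' h2
  haveI : Nontrivial P := by
    rw [← Finite.one_lt_card_iff_nontrivial, hcard]
    exact Nat.one_lt_two_pow hk.ne'
  have hP : IsPGroup 2 P := P.isPGroup'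
  haveI := hP.center_nontrivial
  have h2c : 2 ∣ Nat.card (Subgroup.center P) := by
    obtain ⟨n, hn⟩ := IsPGroup.iff_card.mp (hP.to_subgroup (Subgroup.center P))
    have h1 : 1 < Nat.card (Subgroup.center P) := Finite.one_lt_card
    rw [hn] at h1 ⊢
    have : n ≠ 0 := by
      rintro rfl
      simp at h1
    exact dvd_pow_self 2 this
  obtain ⟨z, hz⟩ := exists_prime_orderOf_dvd_card' 2 h2c
  refine ⟨((z : P) : G), ?_, ?_⟩
  · rw [Subgroup.orderOf_coe, Subgroup.orderOf_coe, hz]
  · rw [← hcard]
    apply Subgroup.card_dvd_of_le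
    intro x hx
    rw [Subgroup.mem_centralizer_iff]
    intro h hh
    rw [Set.mem_singleton_iff] at hh
    subst hh
    have := (Subgroup.mem_center_iff.mp z.2) ⟨x, hx⟩
    exact (congrArg Subtype.val this).symm

end Cfsg.Agent.S4501P
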