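import Mathlib
import Cfsg.Prelude.Def_Characters
import Cfsg.Prelude.Def_Blocks
import Cfsg.Agent.Helper24.Abelian
import Cfsg.Agent.Helper24.Linear
import Cfsg.Agent.Helper1.W2pDefs

set_option autoImplicit false
set_option linter.all false

namespace Cfsg.Agent.Helper17.S4501INV

universe u

variable {G : Type u} [Group G]

/-- a conjugate of an involution squares to one. -/
theorem sq_of_isConj {z s : G} (hz : z * z = 1) (h : IsConj z s) : s * s = 1 := by
  obtain ⟨c, rfl⟩ := isConj_iff.mp h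
  calc c * z * c⁻¹ * (c * z * c⁻¹) = c * (z * z) * c⁻¹ := by group
    _ = 1 := by rw [hz]; group

/-- the three involutions `s, sσ, sσ²` of a dihedral group of order 6. -/
theorem dihedral_words {s σ : G} (hs : s * s = 1) (hσ : σ * σ * σ = 1)
    (hinv : s⁻¹ * σ * (s⁻¹ * σ) = 1) :
    s⁻¹ = s ∧ σ * s * σ⁻¹ = s * σ ∧ σ⁻¹ * s * σ = s * σ * σ ∧
      (s * σ)⁻¹ * σ = s * σ * σ ∧ (s * σ * σ)⁻¹ * σ = s ∧ σ * s = s * (σ * σ) := by
  have h1 : s⁻¹ = s := by rw [inv_eq_iff_mul_eq_one]; exact hs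
  rw [h1] at hinv
  have h2 : σ⁻¹ = σ * σ := by
    rw [inv_eq_iff_mul_eq_one, ← mul_assoc]; exact hσ
  have h3 : σ * s = s * (σ * σ) := by
    have : σ * s * σ = s := by
      calc σ * s * σ = s * (s * σ * (s * σ)) := by rw [← mul_assoc s, ← mul_assoc s, hs]; group
        _ = s := by rw [hinv, mul_one]
    calc σ * s = σ * s * σ * σ⁻¹ := by group
      _ = s * (σ * σ) := by rw [this, h2]
  refine ⟨h1, ?_, ?_, ?_, ?_, h3⟩
  · rw [h2, h3]
    calc s * (σ * σ) * (σ * σ) = s * σ * (σ * σ * σ) := by group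
      _ = s * σ := by rw [hσ, mul_one]
  · rw [h2, mul_assoc σ σ s, h3, ← mul_assoc σ s, h3]
    calc s * (σ * σ) * (σ * σ) * σ = s * σ * σ * (σ * σ * σ) := by group
      _ = s * σ * σ := by rw [hσ, mul_one]
  · rw [mul_inv_rev, h1, h2, mul_assoc σ σ s, h3, ← mul_assoc σ s, h3]
    calc s * (σ * σ) * (σ * σ) * σ = s * σ * σ * (σ * σ * σ) := by group
      _ = s * σ * σ := by rw [hσ, mul_one]
  · rw [mul_inv_rev, mul_inv_rev, h1, h2, mul_assoc σ σ (σ * σ * s), mul_assoc σ σ s, h3,
      ← mul_assoc σ s, h3]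
    calc σ * (σ * (s * (σ * σ) * (σ * σ))) * σ
        = σ * (σ * s) * (σ * σ * σ) * (σ * σ) := by group
      _ = σ * (s * (σ * σ)) * (σ * σ) := by rw [hσ, mul_one, h3]
      _ = σ * s * (σ * σ * σ) * σ := by group
      _ = s * (σ * σ) * σ := by rw [hσ, mul_one, h3]
      _ = s * (σ * σ * σ) := by group
      _ = s := by rw [hσ, mul_one]

end Cfsg.Agent.Helper17.S4501INV

namespace Cfsg.Agent.S4501P

open Cfsg Cfsg.Agent.Helper24 Cfsg.Agent.Helper17.S4501INV
open scoped ComplexConjugate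

universe u

variable {G : Type u} [Group G] [Finite G]

theorem invol_count (P : Sylow 3 G) (hP : Nat.card P = 3)
    (hC : Subgroup.centralizer ((P : Subgroup G) : Set G) = (P : Subgroup G))
    (heN : Cfsg.Agent.Helper1.W2p.eN (P : Subgroup G) = 2)
    (σ : G) (hσP : σ ∈ (P : Subgroup G)) (hσ1 : σ ≠ 1) (z : G) (hz : orderOf z = 2) :
    Nat.card {s : G // IsConj z s ∧ IsConj z (s⁻¹ * σ)} = 0 ∨
    Nat.card {s : G // IsConj z s ∧ IsConj z (s⁻¹ * σ)} = 3 := by
  classical
  have hzz : z * z = 1 := by rw [← pow_two, ← hz]; exact pow_orderOf_eq_one z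
  -- the order of σ
  have hσo : orderOf σ = 3 := by
    have hd : orderOf σ ∣ 3 := by
      have := Subgroup.orderOf_dvd_natCard (P : Subgroup G) hσP
      rwa [hP] at this
    rcases (Nat.dvd_prime Nat.prime_three).mp hd with h | h
    · exact absurd (orderOf_eq_one_iff.mp h) hσ1
    · exact h
  have hσ3 : σ * σ * σ = 1 := by
    have := pow_orderOf_eq_one σ
    rw [hσo, pow_succ, pow_two] at this
    exact this
  have hPz : Subgroup.zpowers σ = (P : Subgroup G) := by
    apply Subgroup.eq_of_le_of_card_ge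
    · rw [Subgroup.zpowers_le]; exact hσP
    · rw [Nat.card_zpowers, hσo]; exact hP.le
  -- elements commuting with σ
  have hcent : ∀ x : G, x * σ = σ * x → x = 1 ∨ x = σ ∨ x = σ * σ := by
    intro x hx
    have hxC : x ∈ Subgroup.centralizer ((P : Subgroup G) : Set G) := by
      rw [Subgroup.mem_centralizer_iff]
      intro h hh
      rw [SetLike.mem_coe, ← hPz, Subgroup.mem_zpowers_iff] at hh
      obtain ⟨k, rfl⟩ := hh
      exact ((Commute.zpow_right (show Commute x σ from hx) k).eq).symm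
    rw [hC, ← hPz, mem_zpowers_iff_mem_range_orderOf, hσo] at hxC
    simp only [Finset.mem_image, Finset.mem_range] at hxC
    obtain ⟨k, hk, rfl⟩ := hxC
    interval_cases k
    · left; simp
    · right; left; simp
    · right; right; rw [pow_two]
  by_cases hne : Nonempty {s : G // IsConj z s ∧ IsConj z (s⁻¹ * σ)}
  · right
    obtain ⟨⟨s₀, hs₀1, hs₀2⟩⟩ := hne
    have hs₀ : s₀ * s₀ = 1 := sq_of_isConj hzz hs₀1
    have hi₀ : s₀⁻¹ * σ * (s₀⁻¹ * σ) = 1 := sq_of_isConj hzz hs₀2
    obtain ⟨w1, w2, w3, w4, w5, w6⟩ := dihedral_words hs₀ hσ3 hi₀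
    have c1 : IsConj z (s₀ * σ) := by
      rw [← w2]; exact hs₀1.trans (isConj_iff.mpr ⟨σ, rfl⟩)
    have c2 : IsConj z (s₀ * σ * σ) := by
      rw [← w3]; exact hs₀1.trans (isConj_iff.mpr ⟨σ⁻¹, by rw [inv_inv]⟩)
    have hset : {s : G | IsConj z s ∧ IsConj z (s⁻¹ * σ)} = {s₀, s₀ * σ, s₀ * σ * σ} := by
      ext s
      simp only [Set.mem_setOf_eq, Set.mem_insert_iff, Set.mem_singleton_iff]
      constructor
      · rintro ⟨hs1, hs2⟩
        have hs : s * s = 1 := sq_of_isConj hzz hs1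
        have hi : s⁻¹ * σ * (s⁻¹ * σ) = 1 := sq_of_isConj hzz hs2
        obtain ⟨v1, v2, v3, v4, v5, v6⟩ := dihedral_words hs hσ3 hi
        have hx : (s₀ * s) * σ = σ * (s₀ * s) := by
          symm
          calc σ * (s₀ * s) = (σ * s₀) * s := by group
            _ = s₀ * (σ * σ) * s := by rw [w6]
            _ = s₀ * σ * (σ * s) := by group
            _ = s₀ * σ * (s * (σ * σ)) := by rw [v6]
            _ = s₀ * (σ * s) * (σ * σ) := by group
            _ = s₀ * (s * (σ * σ)) * (σ * σ) := by rw [v6]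
            _ = s₀ * s * σ * (σ * σ * σ) := by group
            _ = s₀ * s * σ := by rw [hσ3, mul_one]
        have hss : s = s₀ * (s₀ * s) := by rw [← mul_assoc, hs₀, one_mul]
        rcases hcent _ hx with h | h | h
        · left; rw [hss, h, mul_one]
        · right; left; rw [hss, h]
        · right; right; rw [hss, h, mul_assoc]
      · rintro (rfl | rfl | rfl)
        · exact ⟨hs₀1, by rw [w1]; exact c1⟩
        · exact ⟨c1, by rw [w4]; exact c2⟩
        · exact ⟨c2, by rw [w5]; exact hs₀1⟩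
    have hcard : Nat.card {s : G // IsConj z s ∧ IsConj z (s⁻¹ * σ)} =
        Set.ncard {s : G | IsConj z s ∧ IsConj z (s⁻¹ * σ)} := Nat.card_coe_set_eq _
    rw [hcard, hset, Set.ncard_eq_three]
    refine ⟨s₀, s₀ * σ, s₀ * σ * σ, ?_, ?_, ?_, rfl⟩
    · intro h
      exact hσ1 (by simpa using h.symm)
    · intro h
      have h2 : σ * σ = 1 := by
        have := h.symm
        rw [mul_assoc] at this
        simpa using this
      apply hσ1
      calc σ = σ * σ * σ * σ⁻¹ * σ⁻¹ := by group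
        _ = 1 := by rw [hσ3, one_mul, ← mul_inv_rev, h2, inv_one]
    · intro h
      apply hσ1
      have := h.symm
      rw [mul_assoc] at this
      have h3 := mul_left_cancel this
      calc σ = (σ * σ) * σ⁻¹ := by group
        _ = 1 := by rw [h3, mul_inv_cancel]
  · left
    rw [not_nonempty_iff] at hne
    exact Nat.card_of_isEmpty

end Cfsg.Agent.S4501P
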