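import Mathlib
import Cfsg.Prelude.Def_Characters
import Cfsg.Prelude.Def_Blocks
import Cfsg.Agent.Helper24.Abelian
import Cfsg.Agent.Helper24.Linear

set_option autoImplicit false
set_option linter.all false

namespace Cfsg.Agent.S4501P

open Cfsg Cfsg.Agent.Helper24
open scoped ComplexConjugate

universe u

variable {G : Type u} [Group G] [Finite G]

/-- with a self-centralising Sylow 3-subgroup of order 3, no involution commutes with an element
of order 3. -/
theorem no_order_six (P : Sylow 3 G) (hP : Nat.card P = 3)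
    (hC : Subgroup.centralizer ((P : Subgroup G) : Set G) = (P : Subgroup G))
    (z : G) (hz : orderOf z = 2) :
    ¬ 3 ∣ Nat.card (Subgroup.centralizer ({z} : Set G)) := by
  haveI : Fact (Nat.Prime 3) := ⟨Nat.prime_three⟩
  intro h3
  obtain ⟨y, hy⟩ := exists_prime_orderOf_dvd_card' 3 h3
  have hyG : orderOf (y : G) = 3 := by rw [Subgroup.orderOf_coe, hy]
  have hcomm : z * (y : G) = (y : G) * z := by
    have := Subgroup.mem_centralizer_iff.mp y.2 z (Set.mem_singleton z)
    exact this
  -- the Sylow subgroup containing `y`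
  have hpg : IsPGroup 3 (Subgroup.zpowers (y : G)) :=
    IsPGroup.of_card (n := 1) (by rw [Nat.card_zpowers, hyG]; norm_num)
  obtain ⟨Q, hQ⟩ := hpg.exists_le_sylow
  obtain ⟨g, hg⟩ := MulAction.exists_smul_eq G Q P
  have hyQ : (y : G) ∈ Q := hQ (Subgroup.mem_zpowers _)
  have hyP : g * (y : G) * g⁻¹ ∈ (P : Subgroup G) := by
    rw [← hg, Sylow.smul_def, Sylow.pointwise_smul_def]
    have := Subgroup.smul_mem_pointwise_smul (y : G) (MulAut.conj g) (Q : Subgroup G) hyQ
    simpa [MulAut.smul_def, MulAut.conj_apply] using this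
  set y' : G := g * (y : G) * g⁻¹ with hy'
  set z' : G := g * z * g⁻¹ with hz'
  have hy'o : orderOf y' = 3 := by
    have : y' = MulAut.conj g (y : G) := by simp [hy', MulAut.conj_apply]
    rw [this, MulEquiv.orderOf_eq, hyG]
  have hz'o : orderOf z' = 2 := by
    have : z' = MulAut.conj g z := by simp [hz', MulAut.conj_apply]
    rw [this, MulEquiv.orderOf_eq, hz]
  have hPz : Subgroup.zpowers y' = (P : Subgroup G) := by
    apply Subgroup.eq_of_le_of_card_ge
    · rw [Subgroup.zpowers_le]; exact hyP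
    · rw [Nat.card_zpowers, hy'o]; exact hP.le
  have hcomm' : Commute z' y' := by
    show z' * y' = y' * z'
    rw [hz', hy']
    calc g * z * g⁻¹ * (g * ↑y * g⁻¹) = g * (z * ↑y) * g⁻¹ := by group
      _ = g * (↑y * z) * g⁻¹ := by rw [hcomm]
      _ = g * ↑y * g⁻¹ * (g * z * g⁻¹) := by group
  have hz'C : z' ∈ Subgroup.centralizer ((P : Subgroup G) : Set G) := by
    rw [Subgroup.mem_centralizer_iff]
    intro h hh
    rw [SetLike.mem_coe, ← hPz, Subgroup.mem_zpowers_iff] at hh
    obtain ⟨k, rfl⟩ := hh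
    exact ((hcomm'.zpow_right k).eq).symm
  rw [hC] at hz'C
  have hdvd : orderOf z' ∣ 3 := by
    have := Subgroup.orderOf_dvd_natCard (P : Subgroup G) hz'C
    rwa [hP] at this
  rw [hz'o] at hdvd
  norm_num at hdvd

end Cfsg.Agent.S4501P
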