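import Mathlib
import Cfsg.Prelude.Def_Transfer
import Cfsg.Prelude.Def_Solvable
import Cfsg.Agent.Helper11.S4409Defs
import Cfsg.Agent.Helper9.S4415Defs
import Cfsg.Agent.Helper17.S4415MOD6S
import Cfsg.Agent.Helper19.S4415MOD2

/-! Board `s4415pieces`, row MOD6 (`faithful_comE`): the core `MOD6_aux_core` plus MOD2 (`ce_comE_compl`). -/

set_option autoImplicit false
set_option linter.unusedVariables false
set_option linter.unusedSectionVars false

namespace Cfsg.Agent.S4415P

open Subgroup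
open Cfsg.Agent.S4409P (Zc Fr Der IsV4 IsQ8 SpecialInt IsAb)

variable {S : Type*} [Group S] [Finite S] {E : Type*} [AddCommGroup E] [Module (ZMod 3) E] [Finite E]

/-- MOD6 : if `H` is trivial on `C_E(Y)` then `H` acts faithfully on `[E,Y]`. -/
theorem faithful_comE (ρ : Representation (ZMod 3) S E) (hf : Function.Injective ρ) (Y : Subgroup S)
    (hY : (Nat.card ↥Y).Coprime 3) (H : Subgroup S) (hH : TrivOn ρ H (CE ρ Y)) (h : S) (hh : h ∈ H)
    (ht : ∀ v ∈ ComE ρ Y, ρ h v = v) : h = 1 :=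
  MOD6_aux_core ρ hf Y (ce_comE_compl ρ Y hY).2 H hH h hh ht

end Cfsg.Agent.S4415P
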