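import Cfsg.Agent.Helper29.OC2K.Main
import Cfsg.Agent.Helper17.OC2KC2Defs
import Cfsg.Agent.Helper17.OC2KC2PM
import Cfsg.Agent.Helper26.OC2KC2A
import Cfsg.Agent.Helper26.OC2KC2LOCA
import Cfsg.Agent.Helper4.OC2KC2LOCB1
import Cfsg.Agent.Helper4.OC2KC2LOCB2Q4
import Cfsg.Agent.Helper19.OC2KC2LOCB2K5
import Cfsg.Agent.Helper11.OC2KC2LOCB2FIN
import Cfsg.Agent.Helper11.OC2KC2FIN

set_option autoImplicit false
set_option linter.unusedSectionVars false
set_option linter.unusedVariables false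

/-! # OC2K chapter CHAR2 (helper17): assembly of chapter C3 in characteristic 2 (`NPV → G1`) and the
dichotomy for overgroups of the decomposition stabiliser (`k ≥ 4`, `t ≥ 3`, `2 = 0`). -/

namespace Cfsg.Agent.OC2K

open Matrix Cfsg.Agent.Helper28.Sg Cfsg.Agent.Helper28.Spin Cfsg.Agent.Helper12.OrthGen
  Cfsg.Agent.S2614 Cfsg.Agent.S5683P Cfsg.Agent.Helper28.NDM

variable {F : Type*} [Field F] [Fintype F] {t k : ℕ} {ι : Type} [Fintype ι] [DecidableEq ι] {Q : QuadraticForm F (ι → F)} [QHyp Q] {D : Fin t → Submodule F (ι → F)}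
  {M : Subgroup (OGq Q)}

/-- localisation: every `y ∈ Rad M v` has all its components proportional to those of `v` -/
theorem C2.CORE.loc (h2 : (2 : F) = 0) (hD : HD Q k D) (hk : 4 ≤ k) (hHM : HS D ≤ M)
    (hG1 : ¬ G1 M D)
    (hsp : Fintype.card F = 2 → k = 4 → C2.Special M D)
    {v : ι → F} (hv : NPV M D v) {y : ι → F} (hy : y ∈ Rad M v hv.Qv) (c : Fin t) :
    ∃ s : F, cmp D c y = s • cmp D c v := by
  by_cases hvc : cmp D c v = 0
  · refine ⟨0, ?_⟩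
    rw [zero_smul]
    exact C2.LOCA.loc hD hk hHM hG1 hv hvc hy
  by_cases hQ : Q (cmp D c v) = 0
  · exact C2.LOCB1.loc hD hk hHM hG1 hv hvc hQ hy
  by_cases hq : Fintype.card F = 2
  · by_cases hk5 : 5 ≤ k
    · exact C2.LOCB2FIN.main h2 hD hk hHM hG1 hv hQ hy
        (fun x hx hx0 hQx hxa => C2.LOCB2K5.main hD hk5 hHM hG1 hv hy hx hx0 hQx hxa)
    · have hk4 : k = 4 := by omega
      exact hsp hq hk4 v hv c hQ y hy
  · exact C2.LOCB2FIN.main h2 hD hk hHM hG1 hv hQ hy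
      (fun x hx hx0 hQx hxa => C2.LOCB2Q4.main h2 hD hq hHM hG1 hv hQ hy hx hx0 hQx hxa)

/-- **C3 in characteristic 2**: a non-pure image of a pure singular vector forces a long root element
leaving a block -/
theorem C2.CORE.g1 (h2 : (2 : F) = 0) (hD : HD Q k D) (hk : 4 ≤ k) (hHM : HS D ≤ M)
    (hsp : Fintype.card F = 2 → k = 4 → ¬ G1 M D → C2.Special M D)
    {v : ι → F} (hv : NPV M D v) : G1 M D := by
  by_contra hG1
  exact C2.FIN.false h2 hD hk hHM hG1 hv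
    (fun y hy c => C2.CORE.loc h2 hD hk hHM hG1 (fun hq hk4 => hsp hq hk4 hG1) hv hy c)

/-- an overgroup not stabilising the decomposition has a long root element leaving a block -/
theorem C2.MAIN.g1 (h2 : (2 : F) = 0) (hD : HD Q k D) (hk : 4 ≤ k) (hHM : HS D ≤ M)
    (hsp : Fintype.card F = 2 → k = 4 → ¬ G1 M D → C2.Special M D)
    (h : ¬ M ≤ StabO D) : G1 M D := by
  obtain ⟨g, hgM, hgS⟩ := SetLike.not_le_iff_exists.mp h
  obtain ⟨c, u, hu, hu0, hQu, hnp⟩ := STEP0B.exists_nonpure hD hgS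
  have hv : NPV M D (mt (Q) g *ᵥ u) :=
    ⟨by rw [Q_isom, hQu], hnp, g, hgM, c, u, hu, hu0, hQu, rfl⟩
  exact C2.CORE.g1 h2 hD hk hHM hsp hv

/-- the dichotomy for overgroups, characteristic 2, from `G1` -/
theorem C2.MAIN.dichotomy' (h2 : (2 : F) = 0) (hD : HD Q k D) (hk : 4 ≤ k) (hHM : HS D ≤ M)
    (hg1 : ¬ M ≤ StabO D → G1 M D) :
    M ≤ StabO D ∨ S (Q) ≤ M := by
  by_cases h : M ≤ StabO D
  · exact Or.inl h
  · exact Or.inr (C2.FULL.S_le h2 trivial hD hHM (hg1 h))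

/-- the dichotomy for overgroups, characteristic 2; `hg1` handles the case `q = 2`, `k = 4` -/
theorem C2.MAIN.dichotomy (h2 : (2 : F) = 0) (hD : HD Q k D) (hk : 4 ≤ k) (hHM : HS D ≤ M)
    (hg1 : Fintype.card F = 2 → k = 4 → ¬ M ≤ StabO D → G1 M D) :
    M ≤ StabO D ∨ S (Q) ≤ M := by
  refine C2.MAIN.dichotomy' h2 hD hk hHM (fun h => ?_)
  by_cases hq : Fintype.card F = 2 ∧ k = 4
  · exact hg1 hq.1 hq.2 h
  · exact C2.MAIN.g1 h2 hD hk hHM (fun h1 h2' _ => absurd ⟨h1, h2'⟩ hq) h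

end Cfsg.Agent.OC2K
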