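import Cfsg.Agent.Helper29.OC2K.Main
import Cfsg.Agent.Helper17.OC2KC2Defs
import Cfsg.Agent.Helper17.OC2KC2PM
import Cfsg.Agent.Helper26.OC2KC2LOCA
import Cfsg.Agent.Helper11.OC2KC2LOCB2FIN
import Cfsg.Agent.Helper11.OC2KC2Q2SECOND
import Cfsg.Agent.Helper12.OC2KC2Q2STAR
import Cfsg.Agent.Helper22.OC2KQ2REFL
import Cfsg.Agent.Helper5.OC2KC2Q2SING

set_option autoImplicit false
set_option linter.unusedSectionVars false
set_option linter.unusedVariables false

/-! # OC2K chapter CHAR2 (helper17): the case `q = 2`, `k = 4`, blocks of Witt index 1 — assembly of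
`C2.Q2.special` (localisation at a block where the component of `v` is nonsingular). -/

namespace Cfsg.Agent.OC2K

open Matrix Cfsg.Agent.Helper28.Sg Cfsg.Agent.Helper28.Spin Cfsg.Agent.Helper12.OrthGen
  Cfsg.Agent.S2614 Cfsg.Agent.S5683P Cfsg.Agent.Helper28.NDM

variable {F : Type*} [Field F] [Fintype F] {t k : ℕ} {ι : Type} [Fintype ι] [DecidableEq ι] {Q : QuadraticForm F (ι → F)} [QHyp Q] {D : Fin t → Submodule F (ι → F)}
  {M : Subgroup (OGq Q)}

/-- in the field with two elements every scalar is `0` or `1` -/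
theorem C2.Q2.aux_two (hq : Fintype.card F = 2) (s : F) : s = 0 ∨ s = 1 := by
  classical
  by_contra h
  rw [not_or] at h
  have h3 : 3 ≤ Fintype.card F := by
    have : ({0, 1, s} : Finset F).card = 3 := by
      rw [Finset.card_insert_of_notMem, Finset.card_insert_of_notMem, Finset.card_singleton]
      · simp only [Finset.mem_singleton]; exact fun e => h.2 e.symm
      · simp only [Finset.mem_insert, Finset.mem_singleton, not_or]
        exact ⟨zero_ne_one, fun e => h.1 e.symm⟩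
    rw [← this]
    exact Finset.card_le_univ _
  omega

/-- step 4' : under the hypotheses, every singular `x ⊥ a` pairs to `1` with `y` once `B a y = 1` -/
theorem C2.Q2.aux_all (hq : Fintype.card F = 2) (hD : HD Q k D) (hHM : HS D ≤ M) (hG1 : ¬ G1 M D)
    {v : ι → F} (hv : NPV M D v) {b : Fin t} {y : ι → F} (hy : y ∈ Rad M v hv.Qv)
    (hav : B (Q) (cmp D b v) v = 0) (hay : B (Q) (cmp D b v) y = 1) :
    ∀ x ∈ D b, x ≠ 0 → Q x = 0 → B (Q) x (cmp D b v) = 0 → B (Q) x (cmp D b y) = 1 := by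
  intro x hx hx0 hQx hxa
  rw [CMP2.B_left hD hx]
  rcases C2.Q2.aux_two hq (B (Q) x y) with h | h
  · exfalso
    have hxv : B (Q) x v = 0 := by rw [← CMP2.B_left hD hx, hxa]
    have := C2.PM.step1 hD hHM hG1 hv hx (CMP1.mem hD b v) hx0 hQx hxa hxv hav hy h
    rw [hay] at this
    exact one_ne_zero this
  · exact h

/-- **the case `q = 2`, `k = 4`** -/
theorem C2.Q2.special (h2 : (2 : F) = 0) (hD : HD Q k D) (hk4 : k = 4) (hq : Fintype.card F = 2)
    (hW : C2.Witt1 Q D) (hHM : HS D ≤ M) (hG1 : ¬ G1 M D) : C2.Special M D := by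
  classical
  have hk : 4 ≤ k := by omega
  intro v hv b hQ y hy
  have hadd : ∀ z : ι → F, z + z = 0 := fun z => by rw [← two_smul F z, h2, zero_smul]
  have hBself : ∀ z : ι → F, B (Q) z z = 0 := fun z => by rw [B_self, h2, zero_mul]
  have ha : cmp D b v ∈ D b := CMP1.mem hD b v
  have hav : B (Q) (cmp D b v) v = 0 := by
    rw [← CMP2.B_left hD ha, hBself]
  have hQa1 : Q (cmp D b v) = 1 := (C2.Q2.aux_two hq _).resolve_left hQ
  have hvy : B (Q) v y = 0 := Rad_perp hy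
  refine C2.LOCB2FIN.main h2 hD hk hHM hG1 hv hQ hy ?_
  intro x₀ hx₀ hx₀0 hQx₀ hx₀a
  by_contra hne
  have hx₀y : B (Q) x₀ y = 1 := (C2.Q2.aux_two hq _).resolve_left hne
  have hx₀v : B (Q) x₀ v = 0 := by rw [← CMP2.B_left hD hx₀, hx₀a]
  -- the vector `p`
  obtain ⟨p, hp, hQp, hpv, hpy, hpcase⟩ : ∃ p ∈ D b, Q p = 1 ∧ B (Q) p v = 0 ∧ B (Q) p y = 1 ∧
      (p = cmp D b v ∨ p = cmp D b v + x₀) := by
    rcases C2.Q2.aux_two hq (B (Q) (cmp D b v) y) with h | h
    · refine ⟨cmp D b v + x₀, (D b).add_mem ha hx₀, ?_, ?_, ?_, Or.inr rfl⟩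
      · have : Q (cmp D b v + x₀) = Q (cmp D b v) + Q x₀ + B (Q) (cmp D b v) x₀ := by
          show (Q) (cmp D b v + x₀) = (Q) (cmp D b v) + (Q) x₀ + QuadraticMap.polar (⇑Q) (cmp D b v) x₀
          unfold QuadraticMap.polar
          ring
        rw [this, hQa1, hQx₀, B_comm, hx₀a]
        ring
      · rw [B_comm, CMP2.B_add_right', B_comm, hav, B_comm, hx₀v, add_zero]
      · rw [B_comm, CMP2.B_add_right', B_comm, h, B_comm, hx₀y, zero_add]
    · exact ⟨cmp D b v, ha, hQa1, hav, h, Or.inl rfl⟩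
  obtain ⟨b', hb'b, hQ', p', hp', hQp', hp'v, hp'y⟩ :=
    C2.Q2SECOND.main h2 hD hk hq hHM hG1 hv hQ hy
  have hQp0 : Q p ≠ 0 := by rw [hQp]; exact one_ne_zero
  have hpR : p ∈ Rad M v hv.Qv := by
    have h := C2.Q2REFL.main h2 hD hk hHM hv.Qv (Ne.symm hb'b) hp hp' hQp0 hQp' hpv hp'v hy
    rw [hpy, hp'y, hQp, inv_one, one_mul, one_smul, mul_zero, zero_smul, add_zero] at h
    exact h
  -- STAR
  have hcmpb' : cmp D b' (p + v) = cmp D b' v := by
    rw [map_add, CMP1.of_mem_ne hD (Ne.symm hb'b) hp, zero_add]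
  have hmem : p + v ∈ D b' := by
    by_contra hnd
    exact hG1 (C2.Q2STAR.main h2 hD hk hHM hv.Qv hp hQp hpR (by rw [hcmpb']; exact hQ') hnd)
  -- consequences: `p = a`, `v = a + a'`
  have hcmpb : cmp D b (p + v) = 0 := CMP1.of_mem_ne hD hb'b hmem
  have hpa : p + cmp D b v = 0 := by
    rw [map_add, CMP1.of_mem hD hp] at hcmpb
    exact hcmpb
  have hpeq : p = cmp D b v := by
    rcases hpcase with h | h
    · exact h
    · exfalso
      rw [h] at hpa
      have : x₀ = 0 := by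
        have e : cmp D b v + x₀ + cmp D b v = x₀ + (cmp D b v + cmp D b v) := by abel
        rw [e, hadd, add_zero] at hpa
        exact hpa
      exact hx₀0 this
  have hay : B (Q) (cmp D b v) y = 1 := by rw [← hpeq]; exact hpy
  have hvc : ∀ c, c ≠ b → c ≠ b' → cmp D c v = 0 := by
    intro c hcb hcb'
    have h1 : cmp D c (p + v) = 0 := CMP1.of_mem_ne hD (Ne.symm hcb') hmem
    rw [map_add, CMP1.of_mem_ne hD (Ne.symm hcb) hp, zero_add] at h1
    exact h1
  -- `Q (cmp D b y) = 0`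
  have hsb := C2.Q2.aux_all hq hD hHM hG1 hv hy hav hay
  have hQyb : Q (cmp D b y) = 0 :=
    C2.Q2SING.main h2 hD hk4 hq hW ha hQ (CMP1.mem hD b y)
      (by rw [CMP2.B_left hD ha]; exact hay) hsb
  -- the block `b'`
  have ha' : cmp D b' v ∈ D b' := CMP1.mem hD b' v
  have hav' : B (Q) (cmp D b' v) v = 0 := by
    rw [← CMP2.B_left hD ha', hBself]
  have hay' : B (Q) (cmp D b' v) y = 1 := by
    have h1 : B (Q) v y = ∑ c, B (Q) (cmp D c v) (cmp D c y) := CMP2.B_sum hD v y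
    rw [Fintype.sum_eq_add b b' (Ne.symm hb'b)] at h1
    · rw [hvy, CMP2.B_left hD ha, CMP2.B_left hD ha', hay] at h1
      have : B (Q) (cmp D b' v) y = B (Q) (cmp D b' v) y + (1 + 1) := by
        have e : (1 : F) + 1 = 0 := by rw [one_add_one_eq_two, h2]
        rw [e, add_zero]
      rw [this, ← add_assoc, add_comm (B (Q) (cmp D b' v) y) 1, ← h1, zero_add]
    · intro c hc
      rw [hvc c hc.1 hc.2]
      show QuadraticMap.polar (⇑Q) 0 _ = 0
      exact QuadraticMap.polar_zero_left _ _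
  have hsb' := C2.Q2.aux_all hq hD hHM hG1 hv hy hav' hay'
  have hQyb' : Q (cmp D b' y) = 0 :=
    C2.Q2SING.main h2 hD hk4 hq hW ha' hQ' (CMP1.mem hD b' y)
      (by rw [CMP2.B_left hD ha']; exact hay') hsb'
  -- `Q y = 0`
  have hQy : Q y = 0 := by
    rw [CMP2.Q_sum hD y, Fintype.sum_eq_add b b' (Ne.symm hb'b), hQyb, hQyb', add_zero]
    intro c hc
    rw [C2.LOCA.loc hD hk hHM hG1 hv (hvc c hc.1 hc.2) hy]
    exact map_zero _
  -- step 7
  obtain ⟨g, hgM, c₀, u₀, hu₀, hu₀0, hQu₀, hgu⟩ := hv.img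
  subst hgu
  obtain ⟨w, hw, rfl⟩ := (RADV.iff hD hHM hG1 hgM hu₀ hu₀0 hQu₀ hv.Qv).1 hy
  have hQw : Q w = 0 := by rw [← Q_isom g w]; exact hQy
  obtain ⟨s, rfl⟩ := hW c₀ u₀ hu₀ w hw.1 hQu₀ hQw hw.2 hu₀0
  have : B (Q) (cmp D b (mt (Q) g *ᵥ u₀)) (mt (Q) g *ᵥ (s • u₀)) = 0 := by
    rw [Matrix.mulVec_smul]
    show QuadraticMap.polar (⇑Q) _ (s • _) = 0
    rw [QuadraticMap.polar_smul_right]
    have := hav
    simp only [B] at this
    rw [this, smul_zero]
  rw [hay] at this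
  exact one_ne_zero this

end Cfsg.Agent.OC2K
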