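import Cfsg.Agent.Helper29.OC2K.Final
import Cfsg.Agent.Helper17.OC2KC2Core
import Cfsg.Agent.Helper17.OC2KC2Q2
import Cfsg.Agent.Helper9.OC2KC2WITT

set_option autoImplicit false
set_option linter.unusedSectionVars false
set_option linter.unusedVariables false

/-! # OC2K chapter CHAR2 (helper17): from the dichotomy to the maximality statement
(general quadratic form, `2 = 0`, blocks of dimension `k ≥ 4`, `t ≥ 3` blocks, no block of plus type). -/

namespace Cfsg.Agent.OC2K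

open Matrix Cfsg.Agent.Helper28.Sg Cfsg.Agent.Helper28.Spin Cfsg.Agent.Helper12.OrthGen
  Cfsg.Agent.Helper28.NDM

namespace C2.FINAL

section std

variable {F : Type*} [Field F] {t k : ℕ} {ι : Type} [Fintype ι] [DecidableEq ι]
  {Q : QuadraticForm F (ι → F)} [QHyp Q] {D : Fin t → Submodule F (ι → F)}

/-- maximality, under the class hypothesis `QHyp Q`; `hg1` handles the case `q = 2`, `k = 4` -/
theorem maximal_std' [Fintype F] (h2 : (2 : F) = 0) (hD : HD Q k D) (hk : 4 ≤ k)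
    (hg1 : Fintype.card F = 2 → k = 4 → ∀ M' : Subgroup (OGq Q), HS D ≤ M' → ¬ M' ≤ StabO D →
      G1 M' D) :
    Cfsg.Geo.IsMaximalIn (Cfsg.Geo.omegaGL ⇑Q)
      (Cfsg.Geo.decompositionStabilizer D ⊓ Cfsg.Geo.omegaGL ⇑Q) := by
  classical
  refine ⟨lt_of_le_of_ne inf_le_right ?_, ?_⟩
  · intro heq
    obtain ⟨g, hgS, hgN⟩ := C2.PROPER.exists h2 hD
    apply hgN
    have hgΩ : ((g : OGq Q) : Matrix.GeneralLinearGroup ι F) ∈
        Cfsg.Geo.omegaGL ⇑Q := by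
      rw [Cfsg.Agent.Helper28.NM.mem_omegaGL_iff]
      exact ⟨g, by rw [QHyp.om (Q := Q)]; exact hgS, rfl⟩
    rw [← heq] at hgΩ
    exact hgΩ.1
  · intro M hHM hMS
    set M' : Subgroup (OGq Q) := M.comap (Cfsg.isometryGroup F ⇑Q).subtype with hM'
    have hHM' : HS D ≤ M' := by
      intro g hg
      rw [mem_HS] at hg
      show ((g : OGq Q) : Matrix.GeneralLinearGroup ι F) ∈ M
      apply hHM
      refine Subgroup.mem_inf.2 ⟨hg.1, ?_⟩
      rw [Cfsg.Agent.Helper28.NM.mem_omegaGL_iff]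
      exact ⟨g, by rw [QHyp.om (Q := Q)]; exact hg.2, rfl⟩
    rcases C2.MAIN.dichotomy h2 hD hk hHM' (fun hq hk4 => hg1 hq hk4 M' hHM') with hall | hall
    · left
      apply le_antisymm _ hHM
      intro g hg
      refine Subgroup.mem_inf.2 ⟨?_, hMS hg⟩
      obtain ⟨h, hhΩ, rfl⟩ := (Cfsg.Agent.Helper28.NM.mem_omegaGL_iff Q g).mp (hMS hg)
      exact hall (show h ∈ M' from hg)
    · right
      apply le_antisymm hMS
      intro g hg
      obtain ⟨h, hhΩ, rfl⟩ := (Cfsg.Agent.Helper28.NM.mem_omegaGL_iff Q g).mp hg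
      rw [QHyp.om (Q := Q)] at hhΩ
      exact hall hhΩ

/-- maximality, under the class hypothesis `QHyp Q`, no block of plus type (route 1 for `q = 2`, `k = 4`) -/
theorem maximal_std [Fintype F] (h2 : (2 : F) = 0) (hD : HD Q k D) (hk : 4 ≤ k)
    (hminus : ∀ i, ¬ Cfsg.Geo.IsPlusTypeOn (⇑Q) (D i)) :
    Cfsg.Geo.IsMaximalIn (Cfsg.Geo.omegaGL ⇑Q)
      (Cfsg.Geo.decompositionStabilizer D ⊓ Cfsg.Geo.omegaGL ⇑Q) :=
  maximal_std' h2 hD hk (fun hq hk4 M' hHM' hn =>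
    C2.MAIN.g1 h2 hD hk hHM'
      (fun _ _ hG1 => C2.Q2.special h2 hD hk4 hq (C2.WITT.of_minus hD hk4 hminus) hHM' hG1) hn)

end std

variable {F : Type*} [Field F] [Fintype F] {t k : ℕ} {ι : Type} [Fintype ι] [DecidableEq ι]

/-- **the decomposition stabilisers `O_k(q) ≀ S_t`, `q` even, `k ≥ 4`, `t ≥ 3`, no block of plus type,
are maximal in `Ω(Q)`** (`Q` any nondegenerate quadratic form in dimension `≥ 8`) -/
theorem maximal (Q : QuadraticForm F (ι → F)) (hQ : (QuadraticMap.polarBilin Q).Nondegenerate)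
    (h2 : (2 : F) = 0) (hn : 8 ≤ Fintype.card ι) (hk : 4 ≤ k) (ht : 3 ≤ t)
    {D : Fin t → Submodule F (ι → F)}
    (hD : Cfsg.Geo.IsOrthogonalMDecomposition (⇑Q) k D)
    (hminus : ∀ i, ¬ Cfsg.Geo.IsPlusTypeOn (⇑Q) (D i)) :
    Cfsg.Geo.IsMaximalIn (Cfsg.Geo.omegaGL ⇑Q)
      (Cfsg.Geo.decompositionStabilizer D ⊓ Cfsg.Geo.omegaGL ⇑Q) := by
  classical
  obtain ⟨fr⟩ := Cfsg.Agent.Helper28.OM.exists_frame3 hQ hn
  have : QHyp Q :=
    ⟨hQ, Omega_eq_S hQ fr (Cfsg.Agent.Helper28.OM.hgen_all hQ (by omega))⟩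
  exact maximal_std h2 (BRIDGEHD.hd (by omega) ht hD) hk hminus

/-- the same for a function-valued nondegenerate quadratic form -/
theorem maximal_fun (Q₀ : (ι → F) → F) (hQ₀ : Cfsg.Geo.IsNondegenerateQuadraticForm Q₀)
    (h2 : (2 : F) = 0) (hn : 8 ≤ Fintype.card ι) (hk : 4 ≤ k) (ht : 3 ≤ t)
    {D : Fin t → Submodule F (ι → F)}
    (hD : Cfsg.Geo.IsOrthogonalMDecomposition Q₀ k D)
    (hminus : ∀ i, ¬ Cfsg.Geo.IsPlusTypeOn Q₀ (D i)) :
    Cfsg.Geo.IsMaximalIn (Cfsg.Geo.omegaGL Q₀)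
      (Cfsg.Geo.decompositionStabilizer D ⊓ Cfsg.Geo.omegaGL Q₀) :=
  maximal (Cfsg.Agent.Helper28.NM.ofFun Q₀ hQ₀) (Cfsg.Agent.Helper28.NM.ofFun_nondeg Q₀ hQ₀)
    h2 hn hk ht hD hminus

end C2.FINAL

end Cfsg.Agent.OC2K
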