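import Mathlib
import Cfsg.Agent.Helper17.AffSL

/-!
# A family of groups `(F²)^k ⋊ SL(2,F)` with the same spectrum, as fibre products
-/

set_option autoImplicit false

namespace Cfsg.Agent.Helper17

open Matrix

section AffSLFam

variable {F : Type*} [Field F]

/-- The top-left `2 × 2` block, as a monoid homomorphism on the affine subgroup. -/
def affBlock (F : Type*) [Field F] : affSub F →* Matrix (Fin 2) (Fin 2) F where
  toFun M := ((M : SpecialLinearGroup (Fin 3) F) : Matrix (Fin 3) (Fin 3) F).submatrix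
    Fin.castSucc Fin.castSucc
  map_one' := by
    ext a b
    fin_cases a <;> fin_cases b <;> simp
  map_mul' := by
    rintro ⟨M, hM⟩ ⟨N, hN1, hN2, hN3⟩
    ext a b
    have hmul : ((M * N : SpecialLinearGroup (Fin 3) F) : Matrix (Fin 3) (Fin 3) F) =
      (M : Matrix (Fin 3) (Fin 3) F) * (N : Matrix (Fin 3) (Fin 3) F) :=
      Matrix.SpecialLinearGroup.coe_mul M N
    show ((M * N : SpecialLinearGroup (Fin 3) F) : Matrix (Fin 3) (Fin 3) F) _ _ = _
    rw [hmul]
    fin_cases a <;> fin_cases b <;>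
      simp [Matrix.mul_apply, Fin.sum_univ_three, Fin.sum_univ_two, hN1, hN2]

theorem affBlock_trace (M : affSub F) :
    ((M : SpecialLinearGroup (Fin 3) F) : Matrix (Fin 3) (Fin 3) F) 0 0 +
      ((M : SpecialLinearGroup (Fin 3) F) : Matrix (Fin 3) (Fin 3) F) 1 1 =
    affBlock F M 0 0 + affBlock F M 1 1 := rfl

/-- The fibre product of `k + 1` copies of the affine group over the linear part. -/
def affFam (F : Type*) [Field F] (k : ℕ) : Subgroup (Fin (k + 1) → affSub F) :=
  ⨅ i : Fin (k + 1), MonoidHom.eqLocus ((affBlock F).comp (Pi.evalMonoidHom _ i))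
    ((affBlock F).comp (Pi.evalMonoidHom _ 0))

theorem mem_affFam {k : ℕ} {m : Fin (k + 1) → affSub F} :
    m ∈ affFam F k ↔ ∀ i, affBlock F (m i) = affBlock F (m 0) := by
  rw [affFam, Subgroup.mem_iInf]
  exact Iff.rfl

theorem affFam_pow_eq_one [CharP F 2] [Fintype F] (hF : Fintype.card F = 4) {k : ℕ}
    {m : Fin (k + 1) → affSub F} (hm : m ∈ affFam F k) :
    m ^ 4 = 1 ∨ m ^ 3 = 1 ∨ m ^ 5 = 1 := by
  rw [mem_affFam] at hm
  have htr : ∀ i, ((m i : SpecialLinearGroup (Fin 3) F) : Matrix (Fin 3) (Fin 3) F) 0 0 +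
      ((m i : SpecialLinearGroup (Fin 3) F) : Matrix (Fin 3) (Fin 3) F) 1 1 =
      affBlock F (m 0) 0 0 + affBlock F (m 0) 1 1 := by
    intro i
    rw [affBlock_trace, hm i]
  have hpow : ∀ n : ℕ, (∀ i, (m i : SpecialLinearGroup (Fin 3) F) ^ n = 1) → m ^ n = 1 := by
    intro n hn
    funext i
    apply Subtype.ext
    rw [Pi.pow_apply, Subgroup.coe_pow, hn i]
    rfl
  rcases trace_cases hF (affBlock F (m 0) 0 0 + affBlock F (m 0) 1 1) with h | h | h
  · left
    exact hpow 4 fun i => (affSub_pow_cases (m i).2).1 (by rw [htr, h])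
  · right; left
    exact hpow 3 fun i => (affSub_pow_cases (m i).2).2.1 (by rw [htr, h])
  · right; right
    exact hpow 5 fun i => (affSub_pow_cases (m i).2).2.2 (by rw [htr, h])

theorem affFam_orderOf_mem [Fintype F] (hF : Fintype.card F = 4) {k : ℕ}
    (m : affFam F k) : orderOf m ∈ ({1, 2, 3, 4, 5} : Set ℕ) := by
  have := charP_two_of_card_four hF
  rw [← Subgroup.orderOf_coe m]
  rcases affFam_pow_eq_one hF m.2 with h | h | h
  · have hd : orderOf (m : Fin (k + 1) → affSub F) ∣ 4 := orderOf_dvd_of_pow_eq_one h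
    have hmem : orderOf (m : Fin (k + 1) → affSub F) ∈ Nat.divisors 4 :=
      Nat.mem_divisors.mpr ⟨hd, by norm_num⟩
    have h4 : Nat.divisors 4 = {1, 2, 4} := by decide
    rw [h4] at hmem
    simp only [Finset.mem_insert, Finset.mem_singleton] at hmem
    rcases hmem with h | h | h <;> rw [h] <;> simp
  · have hd : orderOf (m : Fin (k + 1) → affSub F) ∣ 3 := orderOf_dvd_of_pow_eq_one h
    rcases (Nat.dvd_prime Nat.prime_three).mp hd with h | h <;> rw [h] <;> simp
  · have hd : orderOf (m : Fin (k + 1) → affSub F) ∣ 5 := orderOf_dvd_of_pow_eq_one h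
    rcases (Nat.dvd_prime Nat.prime_five).mp hd with h | h <;> rw [h] <;> simp

/-- The diagonal embedding. -/
def affDiag (F : Type*) [Field F] (k : ℕ) : affSub F →* affFam F k where
  toFun M := ⟨fun _ => M, mem_affFam.mpr fun _ => rfl⟩
  map_one' := rfl
  map_mul' _ _ := rfl

theorem affDiag_injective (k : ℕ) : Function.Injective (affDiag F k) := by
  intro M N h
  have := congrArg (fun x : affFam F k => (x : Fin (k + 1) → affSub F) 0) h
  exact this

theorem affFam_spectrum [Fintype F] (hF : Fintype.card F = 4) (k : ℕ) :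
    Set.range (orderOf : affFam F k → ℕ) = ({1, 2, 3, 4, 5} : Set ℕ) := by
  apply Set.Subset.antisymm
  · rintro _ ⟨m, rfl⟩
    exact affFam_orderOf_mem hF m
  · rw [← affSub_spectrum hF]
    rintro _ ⟨M, rfl⟩
    exact ⟨affDiag F k M, orderOf_injective (affDiag F k) (affDiag_injective k) M⟩

/-- A non-trivial translation. -/
def affTrans (F : Type*) [Field F] [CharP F 2] : affSub F :=
  ⟨affMat 1 0 0 1 1 0 (by ring), affMat_mem _ _ _ _ _ _ _⟩

theorem affTrans_ne_one [CharP F 2] : affTrans F ≠ 1 := by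
  intro h
  have := congrArg (fun X : affSub F =>
    ((X : SpecialLinearGroup (Fin 3) F) : Matrix (Fin 3) (Fin 3) F) 0 2) h
  simp [affTrans, affMat] at this

theorem affBlock_affTrans [CharP F 2] : affBlock F (affTrans F) = 1 := by
  ext a b
  fin_cases a <;> fin_cases b <;> simp [affBlock, affTrans, affMat]

theorem mulSingle_mem_affFam [CharP F 2] (k : ℕ) (j : Fin (k + 1)) :
    Pi.mulSingle j (affTrans F) ∈ affFam F k := by
  rw [mem_affFam]
  have h1 : ∀ i, affBlock F (Pi.mulSingle (M := fun _ : Fin (k + 1) => affSub F) j (affTrans F) i)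
      = 1 := by
    intro i
    rw [Pi.mulSingle_apply]
    split_ifs
    · exact affBlock_affTrans
    · exact map_one _
  intro i
  rw [h1 i, h1 0]

theorem card_affFam_gt [CharP F 2] [Finite F] (k : ℕ) : k < Nat.card (affFam F k) := by
  have hinj : Function.Injective (fun j : Fin (k + 1) =>
      (⟨Pi.mulSingle j (affTrans F), mulSingle_mem_affFam k j⟩ : affFam F k)) := by
    intro j j' h
    have h1 := congrArg (fun x : affFam F k => (x : Fin (k + 1) → affSub F) j) h
    simp only [Pi.mulSingle_eq_same] at h1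
    by_contra hne
    rw [Pi.mulSingle_eq_of_ne hne] at h1
    exact affTrans_ne_one h1
  have := Nat.card_le_card_of_injective _ hinj
  rw [Nat.card_eq_fintype_card, Fintype.card_fin] at this
  omega

end AffSLFam

end Cfsg.Agent.Helper17
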