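import Mathlib
import Cfsg.Agent.Helper7.S2481Defs
import Cfsg.Agent.Helper7.S2481PDUAL

/-! # S2481 chapter (R), piece RFACTOR (helper17): a monic self-dual polynomial of positive degree splits off
a self-dual irreducible factor or a dual pair of irreducible factors. -/

set_option autoImplicit false

namespace Cfsg.Agent.S2481P

open Polynomial

namespace RFACTOR

variable {F : Type*} [Field F]

theorem pdual_eq_zero_of_coeff_zero (σ : F →+* F) (f : F[X]) (h : f.coeff 0 = 0) :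
    pdual σ f = 0 := by
  unfold pdual
  rw [h, map_zero, inv_zero, map_zero, zero_mul]

theorem coeff_zero_ne_zero_of_selfdual (σ : F →+* F) (f : F[X]) (hf : f.Monic)
    (hsd : pdual σ f = f) : f.coeff 0 ≠ 0 := by
  intro h
  rw [pdual_eq_zero_of_coeff_zero σ f h] at hsd
  exact hf.ne_zero hsd.symm

theorem exists_factor (σ : F →+* F) (hσσ : ∀ x, σ (σ x) = x) (f : F[X])
    (hf : f.Monic) (hsd : pdual σ f = f) (hdeg : 0 < f.natDegree) :
    ∃ p f' : F[X], p.Monic ∧ Irreducible p ∧ p.coeff 0 ≠ 0 ∧ f'.Monic ∧ pdual σ f' = f' ∧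
      ((pdual σ p = p ∧ f = p * f') ∨ (pdual σ p ≠ p ∧ f = p * pdual σ p * f')) := by
  have hf0 : f.coeff 0 ≠ 0 := coeff_zero_ne_zero_of_selfdual σ f hf hsd
  have hnu : ¬ IsUnit f := Polynomial.not_isUnit_of_natDegree_pos f hdeg
  obtain ⟨p, hp, hirr, hpf⟩ := Polynomial.exists_monic_irreducible_factor f hnu
  obtain ⟨r, hr⟩ := hpf
  have hp0 : p.coeff 0 ≠ 0 := by
    intro h
    apply hf0
    rw [hr, Polynomial.mul_coeff_zero, h, zero_mul]
  by_cases hpsd : pdual σ p = p
  · have hrm : r.Monic := hp.of_mul_monic_left (hr ▸ hf)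
    refine ⟨p, r, hp, hirr, hp0, hrm, ?_, Or.inl ⟨hpsd, hr⟩⟩
    have h1 : pdual σ p * pdual σ r = p * r := by
      rw [← PDUAL.pdual_mul, ← hr, hsd]
    rw [hpsd] at h1
    exact mul_left_cancel₀ hp.ne_zero h1
  · have hpd : (pdual σ p).Monic := PDUAL.pdual_monic σ p hp hp0
    have hpdirr : Irreducible (pdual σ p) := PDUAL.pdual_irreducible σ hσσ p hp hp0 hirr
    have hpdf : pdual σ p ∣ f := by
      refine ⟨pdual σ r, ?_⟩
      rw [← PDUAL.pdual_mul, ← hr, hsd]
    have hcop : IsCoprime p (pdual σ p) := by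
      rw [hirr.coprime_iff_not_dvd]
      intro hdvd
      apply hpsd
      exact (eq_of_monic_of_associated hp hpd (hirr.associated_of_dvd hpdirr hdvd)).symm
    obtain ⟨f', hf'⟩ := hcop.mul_dvd ⟨r, hr⟩ hpdf
    have hfm' : f'.Monic := (hp.mul hpd).of_mul_monic_left (hf' ▸ hf)
    refine ⟨p, f', hp, hirr, hp0, hfm', ?_, Or.inr ⟨hpsd, hf'⟩⟩
    have h1 : pdual σ p * p * pdual σ f' = p * pdual σ p * f' := by
      have h2 : pdual σ f = pdual σ p * pdual σ (pdual σ p) * pdual σ f' := by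
        rw [hf', PDUAL.pdual_mul, PDUAL.pdual_mul]
      rw [PDUAL.pdual_pdual σ hσσ p hp hp0, hsd] at h2
      rw [← h2, ← hf']
    rw [mul_comm (pdual σ p) p] at h1
    exact mul_left_cancel₀ (hp.mul hpd).ne_zero h1

end RFACTOR

end Cfsg.Agent.S2481P
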