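import Mathlib
import Cfsg.Prelude.Def_LieClassical
import Cfsg.Agent.Helper7.S2481Defs
import Cfsg.Agent.Helper13.S2263Defs
import Cfsg.Agent.Helper9.S2263BASIS
import Cfsg.Agent.Helper6.S2263REAL
import Cfsg.Agent.Helper28.GU

/-! # S2481, chapter (R) "lower-bound realisations" (driver helper17): shared library.

* `RLIB.sigma_sigma`      : `σ x = x^q`, `|F| = q²` ⇒ `σ (σ x) = x`.
* `RLIB.exists_frob`      : such a `σ` is `frob F p f` (`Cfsg.Agent.S2496P.frob`) with `q = p^f`.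
* `RLIB.exists_GU_of_isometry` (TRANSPORT): an isometry `X` of an abstract nondegenerate Hermitian space
  `(V, H)` (`Cfsg.Agent.S2263P.IsHerm σ H`) of dimension `d` gives `g ∈ GU d F q` with the same
  characteristic polynomial.
-/

set_option autoImplicit false

namespace Cfsg.Agent.S2481P

open Polynomial Cfsg.Agent.S2263P Cfsg.Agent.S2496P
open scoped Matrix

namespace RLIB

variable {F : Type*} [Field F] [Fintype F] {q : ℕ}

theorem sigma_sigma (σ : F →+* F) (hσ : ∀ x, σ x = x ^ q) (hF : Fintype.card F = q ^ 2) (x : F) :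
    σ (σ x) = x := by
  rw [hσ, hσ, ← pow_mul, ← pow_two, ← hF, FiniteField.pow_card]

/-- `σ` is an iterated Frobenius `frob F p f` with `q = p ^ f` -/
theorem exists_frob (σ : F →+* F) (hσ : ∀ x, σ x = x ^ q) (hF : Fintype.card F = q ^ 2) :
    ∃ (p f : ℕ) (_ : Fact p.Prime) (_ : CharP F p), q = p ^ f ∧ σ = frob F p f := by
  obtain ⟨p, f, hp, hchar, hq⟩ := Cfsg.Agent.Helper2.Herm.exists_char_pow hF
  have := Fact.mk hp
  refine ⟨p, f, this, hchar, hq, ?_⟩
  ext x
  rw [hσ, frob_apply, hq]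

/-- TRANSPORT -/
theorem exists_GU_of_isometry (σ : F →+* F) (hσ : ∀ x, σ x = x ^ q)
    (hF : Fintype.card F = q ^ 2) {V : Type*} [AddCommGroup V] [Module F V]
    [FiniteDimensional F V] {d : ℕ} (hd : Module.finrank F V = d) {H : V → V → F}
    (hH : IsHerm σ H) (X : V →ₗ[F] V) (hX : ∀ u v, H (X u) (X v) = H u v) :
    ∃ g : ↥(Cfsg.GU d F q),
      ((g : Matrix.GeneralLinearGroup (Fin d) F) : Matrix (Fin d) (Fin d) F).charpoly =
        X.charpoly := by
  classical
  obtain ⟨p, f, hp, hchar, hq, rfl⟩ := exists_frob σ hσ hF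
  obtain ⟨b, hb⟩ := exists_herm_basis hq hF hd hH
  set M : Matrix (Fin d) (Fin d) F := LinearMap.toMatrix b b X with hM
  have hMu : Mᵀ * M.map (frob F p f) = 1 :=
    (Cfsg.Agent.Helper28.GUlib.preserves_iff (frob F p f) hσ M).mp
      (REAL.herm_toMatrix b hb X hX)
  refine ⟨Cfsg.Agent.Helper28.GUlib.mkGU (frob F p f) hσ M hMu, ?_⟩
  rw [Cfsg.Agent.Helper28.GUlib.mkGU_coe, hM, LinearMap.charpoly_toMatrix]

end RLIB

end Cfsg.Agent.S2481P
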