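import Mathlib
import Cfsg.Prelude.Def_LieClassical
import Cfsg.Agent.Helper7.S2481Defs
import Cfsg.Agent.Helper7.S2481PDUAL
import Cfsg.Agent.Helper13.S2263Defs
import Cfsg.Agent.Helper4.S2496MFORM
import Cfsg.Agent.Helper4.S2496TORUS
import Cfsg.Agent.Helper16.S2496FROB
import Cfsg.Agent.Helper17.S2481RLib
import Cfsg.Agent.Helper8.S2481RCHAR
import Cfsg.Agent.Helper23.S2481RDUALROOT

/-! # S2481 chapter (R), piece RPAIR (helper17): the hyperbolic block of a pair `P, pdual P`: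
an element of `GU_(2 deg P)(q)` with characteristic polynomial `P * pdual P`.
Model: `K × K`, `K = F[X]/(P)`, with helper13's S2496 form `mform` and torus `tor`. -/

set_option autoImplicit false

namespace Cfsg.Agent.S2481P

open Polynomial Cfsg.Agent.S2263P Cfsg.Agent.S2496P

namespace RPAIR

theorem exists_GU_pair {F : Type*} [Field F] [Fintype F] {q : ℕ} (σ : F →+* F)
    (hσ : ∀ x, σ x = x ^ q) (hF : Fintype.card F = q ^ 2) (P : F[X]) (hP : P.Monic)
    (hirr : Irreducible P) (h0 : P.coeff 0 ≠ 0) :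
    ∃ g : ↥(Cfsg.GU (P.natDegree + P.natDegree) F q),
      ((g : Matrix.GeneralLinearGroup (Fin (P.natDegree + P.natDegree)) F) :
        Matrix (Fin (P.natDegree + P.natDegree)) (Fin (P.natDegree + P.natDegree)) F).charpoly =
        P * pdual σ P := by
  classical
  have hσσ := RLIB.sigma_sigma σ hσ hF
  obtain ⟨p₀, f₀, hp₀, hchar, hq, rfl⟩ := RLIB.exists_frob σ hσ hF
  have := Fact.mk hirr
  have : Module.Finite F (AdjoinRoot P) := (AdjoinRoot.powerBasis hP.ne_zero).finite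
  have : Finite (AdjoinRoot P) := Module.finite_of_finite F
  have : CharP (AdjoinRoot P) p₀ :=
    charP_of_injective_algebraMap (algebraMap F (AdjoinRoot P)).injective p₀
  have hs : aeval (AdjoinRoot.root P) P = 0 := by
    rw [AdjoinRoot.aeval_eq, AdjoinRoot.mk_self]
  have hs0 : AdjoinRoot.root P ≠ 0 := by
    intro h
    rw [h, Polynomial.aeval_def, Polynomial.eval₂_at_zero] at hs
    exact h0 ((map_eq_zero _).mp hs)
  have hK : Module.finrank F (AdjoinRoot P) = P.natDegree := by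
    rw [(AdjoinRoot.powerBasis hP.ne_zero).finrank, AdjoinRoot.powerBasis_dim]
  have hH : IsHerm (frob F p₀ f₀) (mform F (AdjoinRoot P) p₀ f₀) :=
    ⟨mform_add_left, mform_smul_left hq hF, fun u v => mform_symm hq hF u v, mform_nondeg⟩
  have hX : ∀ u v, mform F (AdjoinRoot P) p₀ f₀ (tor F (AdjoinRoot P) p₀ f₀ (AdjoinRoot.root P) u)
      (tor F (AdjoinRoot P) p₀ f₀ (AdjoinRoot.root P) v) = mform F (AdjoinRoot P) p₀ f₀ u v :=
    mform_tor (AdjoinRoot.root P) hs0
  have hd : Module.finrank F (AdjoinRoot P × AdjoinRoot P) = P.natDegree + P.natDegree := by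
    rw [Module.finrank_prod, hK]
  obtain ⟨g, hg⟩ := RLIB.exists_GU_of_isometry (frob F p₀ f₀) hσ hF hd hH
    (tor F (AdjoinRoot P) p₀ f₀ (AdjoinRoot.root P)) hX
  refine ⟨g, ?_⟩
  rw [hg]
  have hpd : (pdual (frob F p₀ f₀) P).Monic := PDUAL.pdual_monic _ P hP h0
  have hpdirr : Irreducible (pdual (frob F p₀ f₀) P) :=
    PDUAL.pdual_irreducible _ hσσ P hP h0 hirr
  have hpdd : (pdual (frob F p₀ f₀) P).natDegree = P.natDegree := PDUAL.pdual_natDegree _ P h0
  have h1 : (LinearMap.mulLeft F (AdjoinRoot.root P)).charpoly = P :=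
    RCHAR.charpoly_mulLeft (AdjoinRoot.root P) P hP hirr hK.symm hs
  have h2 : (LinearMap.mulLeft F (frob (AdjoinRoot P) p₀ f₀ (AdjoinRoot.root P))⁻¹).charpoly =
      pdual (frob F p₀ f₀) P :=
    RCHAR.charpoly_mulLeft _ _ hpd hpdirr (by rw [hpdd, hK])
      (RDUALROOT.aeval_pdual (frob F p₀ f₀) (frob (AdjoinRoot P) p₀ f₀)
        (fun c => frob_algebraMap c) P (AdjoinRoot.root P) hs0 hs)
  show ((LinearMap.mulLeft F (frob (AdjoinRoot P) p₀ f₀ (AdjoinRoot.root P))⁻¹).prodMap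
    (LinearMap.mulLeft F (AdjoinRoot.root P))).charpoly = _
  rw [LinearMap.charpoly_prodMap, h1, h2, mul_comm]

end RPAIR

end Cfsg.Agent.S2481P
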