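import Mathlib
import Cfsg.Prelude.Def_LieClassical
import Cfsg.Agent.Helper7.S2481Defs
import Cfsg.Agent.Helper13.S2263Defs
import Cfsg.Agent.Helper17.S2481RLib
import Cfsg.Agent.Helper8.S2481RCHAR
import Cfsg.Agent.Helper23.S2481RDUALROOT
import Cfsg.Agent.Helper23.S2481RSDFORM

/-! # S2481 chapter (R), piece RSDBLOCK (helper17): the block of a self-dual irreducible polynomial `P`:
an element of `GU_(deg P)(q)` with characteristic polynomial `P`.
Model: `K = F[X]/(P)` with the form `Tr(x τ(y))`, `τ` the involution `root ↦ root⁻¹` extending `σ`,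
and the isometry "multiplication by `root`". -/

set_option autoImplicit false

namespace Cfsg.Agent.S2481P

open Polynomial Cfsg.Agent.S2263P

namespace RSDBLOCK

theorem exists_GU_selfdual {F : Type*} [Field F] [Fintype F] {q : ℕ} (σ : F →+* F)
    (hσ : ∀ x, σ x = x ^ q) (hF : Fintype.card F = q ^ 2) (P : F[X]) (hP : P.Monic)
    (hirr : Irreducible P) (hsd : pdual σ P = P) :
    ∃ g : ↥(Cfsg.GU P.natDegree F q),
      ((g : Matrix.GeneralLinearGroup (Fin P.natDegree) F) :
        Matrix (Fin P.natDegree) (Fin P.natDegree) F).charpoly = P := by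
  classical
  have hσσ := RLIB.sigma_sigma σ hσ hF
  have := Fact.mk hirr
  have : Module.Finite F (AdjoinRoot P) := (AdjoinRoot.powerBasis hP.ne_zero).finite
  have : Finite (AdjoinRoot P) := Module.finite_of_finite F
  have hs : aeval (AdjoinRoot.root P) P = 0 := by
    rw [AdjoinRoot.aeval_eq, AdjoinRoot.mk_self]
  obtain ⟨hs0, hev⟩ := RDUALROOT.eval₂_inv σ hσσ P hP hsd (AdjoinRoot.root P) hs
  set τ : AdjoinRoot P →+* AdjoinRoot P :=
    AdjoinRoot.lift ((algebraMap F (AdjoinRoot P)).comp σ) (AdjoinRoot.root P)⁻¹ hev with hτ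
  have hτF : ∀ c : F, τ (algebraMap F (AdjoinRoot P) c) = algebraMap F (AdjoinRoot P) (σ c) := by
    intro c
    rw [AdjoinRoot.algebraMap_eq, hτ, AdjoinRoot.lift_of hev]
    rfl
  have hτs : τ (AdjoinRoot.root P) = (AdjoinRoot.root P)⁻¹ := AdjoinRoot.lift_root hev
  have hcomm : ∀ c : F, (τ.comp τ) (algebraMap F (AdjoinRoot P) c) =
      algebraMap F (AdjoinRoot P) c := by
    intro c
    rw [RingHom.comp_apply, hτF, hτF, hσσ]
  have hττ : ∀ x, τ (τ x) = x := by
    have h1 : ({ τ.comp τ with commutes' := hcomm } : AdjoinRoot P →ₐ[F] AdjoinRoot P) =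
        AlgHom.id F (AdjoinRoot P) := by
      apply AdjoinRoot.algHom_ext
      show τ (τ (AdjoinRoot.root P)) = AdjoinRoot.root P
      rw [hτs, map_inv₀, hτs, inv_inv]
    intro x
    exact DFunLike.congr_fun h1 x
  have hH := RSDFORM.isHerm_trace σ τ hτF hττ
  have hX : ∀ u v : AdjoinRoot P,
      (fun x y : AdjoinRoot P => Algebra.trace F (AdjoinRoot P) (x * τ y))
        (LinearMap.mulLeft F (AdjoinRoot.root P) u) (LinearMap.mulLeft F (AdjoinRoot.root P) v) =
      (fun x y : AdjoinRoot P => Algebra.trace F (AdjoinRoot P) (x * τ y)) u v := by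
    intro u v
    show Algebra.trace F (AdjoinRoot P) (AdjoinRoot.root P * u * τ (AdjoinRoot.root P * v)) =
      Algebra.trace F (AdjoinRoot P) (u * τ v)
    rw [map_mul τ, hτs]
    congr 1
    field_simp
  have hK : Module.finrank F (AdjoinRoot P) = P.natDegree := by
    rw [(AdjoinRoot.powerBasis hP.ne_zero).finrank, AdjoinRoot.powerBasis_dim]
  obtain ⟨g, hg⟩ := RLIB.exists_GU_of_isometry σ hσ hF hK hH
    (LinearMap.mulLeft F (AdjoinRoot.root P)) hX
  exact ⟨g, hg.trans (RCHAR.charpoly_mulLeft (AdjoinRoot.root P) P hP hirr hK.symm hs)⟩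

end RSDBLOCK

end Cfsg.Agent.S2481P
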