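import Mathlib
import Cfsg.Prelude.Def_LieClassical
import Cfsg.Agent.Helper7.S2481Defs
import Cfsg.Agent.Helper17.S2481RLib
import Cfsg.Agent.Helper7.S2481PDUAL
import Cfsg.Agent.Helper8.S2481RCONJ
import Cfsg.Agent.Helper8.S2481RSUM
import Cfsg.Agent.Helper17.S2481RFACTOR
import Cfsg.Agent.Helper17.S2481RPAIR
import Cfsg.Agent.Helper17.S2481RSDBLOCK

/-! # S2481, chapter (R): every monic self-dual polynomial of degree `n` over `F_{q²}` is the
characteristic polynomial of an element of `GU_n(q)`; hence `k(GU_n(q)) ≥ #{self-dual monic of degree n}`.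
(assembly, helper17) -/

set_option autoImplicit false

namespace Cfsg.Agent.S2481P

open Polynomial

namespace RREAL

variable {F : Type*} [Field F] [Fintype F] {q : ℕ}

theorem exists_GU_charpoly_aux (σ : F →+* F) (hσ : ∀ x, σ x = x ^ q)
    (hF : Fintype.card F = q ^ 2) :
    ∀ (n : ℕ) (f : F[X]), f.Monic → f.natDegree = n → pdual σ f = f →
      ∃ g : ↥(Cfsg.GU n F q),
        ((g : Matrix.GeneralLinearGroup (Fin n) F) : Matrix (Fin n) (Fin n) F).charpoly = f := by
  intro n
  induction n using Nat.strong_induction_on with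
  | _ n ih =>
    intro f hf hn hsd
    rcases Nat.eq_zero_or_pos n with h0 | hpos
    · subst h0
      have h1 : f = 1 := (Polynomial.Monic.natDegree_eq_zero hf).mp hn
      subst h1
      refine ⟨1, ?_⟩
      rw [Matrix.charpoly, Matrix.det_isEmpty]
    · have hσσ := RLIB.sigma_sigma σ hσ hF
      obtain ⟨p, f', hp, hirr, hp0, hf', hsd', hcase⟩ :=
        RFACTOR.exists_factor σ hσσ f hf hsd (hn ▸ hpos)
      have hppos : 0 < p.natDegree := hirr.natDegree_pos
      rcases hcase with ⟨hpsd, rfl⟩ | ⟨hpne, rfl⟩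
      · have hdeg : (p * f').natDegree = p.natDegree + f'.natDegree := hp.natDegree_mul hf'
        have hlt : f'.natDegree < n := by omega
        obtain ⟨g₂, hg₂⟩ := ih _ hlt f' hf' rfl hsd'
        obtain ⟨g₁, hg₁⟩ := RSDBLOCK.exists_GU_selfdual σ hσ hF p hp hirr hpsd
        obtain ⟨g, hg⟩ := RSUM.exists_blockSum σ hσ hF g₁ g₂
        have hn' : n = p.natDegree + f'.natDegree := by omega
        subst hn'
        exact ⟨g, by rw [hg, hg₁, hg₂]⟩
      · have hpd : (pdual σ p).Monic := PDUAL.pdual_monic σ p hp hp0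
        have hpdd : (pdual σ p).natDegree = p.natDegree := PDUAL.pdual_natDegree σ p hp0
        have hdeg : (p * pdual σ p * f').natDegree = p.natDegree + p.natDegree + f'.natDegree := by
          rw [(hp.mul hpd).natDegree_mul hf', hp.natDegree_mul hpd, hpdd]
        have hlt : f'.natDegree < n := by omega
        obtain ⟨g₂, hg₂⟩ := ih _ hlt f' hf' rfl hsd'
        obtain ⟨g₁, hg₁⟩ := RPAIR.exists_GU_pair σ hσ hF p hp hirr hp0
        obtain ⟨g, hg⟩ := RSUM.exists_blockSum σ hσ hF g₁ g₂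
        have hn' : n = p.natDegree + p.natDegree + f'.natDegree := by omega
        subst hn'
        exact ⟨g, by rw [hg, hg₁, hg₂]⟩

end RREAL

/-- (R) every monic self-dual polynomial of degree `n` is the characteristic polynomial of an element of
`GU_n(q)` -/
theorem exists_GU_charpoly {F : Type*} [Field F] [Fintype F] {q : ℕ} (σ : F →+* F)
    (hσ : ∀ x, σ x = x ^ q) (hF : Fintype.card F = q ^ 2) (n : ℕ) (f : F[X]) (hf : f.Monic)
    (hn : f.natDegree = n) (hsd : pdual σ f = f) :
    ∃ g : ↥(Cfsg.GU n F q),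
      ((g : Matrix.GeneralLinearGroup (Fin n) F) : Matrix (Fin n) (Fin n) F).charpoly = f :=
  RREAL.exists_GU_charpoly_aux σ hσ hF n f hf hn hsd

/-- (R) lower bound: `#{monic self-dual polynomials of degree n} ≤ k(GU_n(q))` -/
theorem card_selfdual_le_card_conjClasses_GU {F : Type*} [Field F] [Fintype F] {q : ℕ}
    (σ : F →+* F) (hσ : ∀ x, σ x = x ^ q) (hF : Fintype.card F = q ^ 2) (n : ℕ) :
    Nat.card {f : F[X] // f.Monic ∧ f.natDegree = n ∧ pdual σ f = f} ≤
      Nat.card (ConjClasses ↥(Cfsg.GU n F q)) := by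
  classical
  have key : ∀ f : {f : F[X] // f.Monic ∧ f.natDegree = n ∧ pdual σ f = f},
      ∃ g : ↥(Cfsg.GU n F q),
        ((g : Matrix.GeneralLinearGroup (Fin n) F) : Matrix (Fin n) (Fin n) F).charpoly = f.1 :=
    fun f => exists_GU_charpoly σ hσ hF n f.1 f.2.1 f.2.2.1 f.2.2.2
  choose φ hφ using key
  apply Nat.card_le_card_of_injective (fun f => ConjClasses.mk (φ f))
  intro f f' h
  have h' : IsConj (φ f) (φ f') := ConjClasses.mk_eq_mk_iff_isConj.mp h
  have := RCONJ.charpoly_eq_of_isConj _ _ h'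
  rw [hφ, hφ] at this
  exact Subtype.ext this

/-- the same with `σ = cj hF` (`Cfsg.Agent.Helper2.Herm.cj`) -/
theorem card_selfdual_le_card_conjClasses_GU_cj {F : Type*} [Field F] [Fintype F] {q : ℕ}
    (hF : Fintype.card F = q ^ 2) (n : ℕ) :
    Nat.card {f : F[X] // f.Monic ∧ f.natDegree = n ∧
        pdual (Cfsg.Agent.Helper2.Herm.cj hF) f = f} ≤
      Nat.card (ConjClasses ↥(Cfsg.GU n F q)) :=
  card_selfdual_le_card_conjClasses_GU (Cfsg.Agent.Helper2.Herm.cj hF)
    (Cfsg.Agent.Helper2.Herm.cj_apply hF) hF n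

end Cfsg.Agent.S2481P
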