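import Mathlib
import Cfsg.Agent.Helper14.S5559Defs
import Cfsg.Agent.Helper25.S5559INV3

set_option autoImplicit false

namespace Cfsg.Agent.S5559P

/-- PHI: properties of `φ q = q y q⁻¹ y⁻¹` (`y ∈ Q` inverted by `t`, with central commutators). -/
theorem PHI {G : Type*} [Group G] [Finite G] {W : Type*} [CommGroup W]
    (C : Ctx G W)
    (hZt : ∀ g ∈ C.Q, (∀ q ∈ C.Q, g * q = q * g) → C.t * g * C.t = g)
    (y : G) (hy : y ∈ C.Q) (hyt : C.t * y * C.t = y⁻¹)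
    (hy2 : ∀ q ∈ C.Q, ∀ q' ∈ C.Q, (q * y * q⁻¹ * y⁻¹) * q' = q' * (q * y * q⁻¹ * y⁻¹)) :
    (∀ q ∈ C.Q, ∀ q' ∈ C.Q,
        (q * q') * y * (q * q')⁻¹ * y⁻¹ = (q * y * q⁻¹ * y⁻¹) * (q' * y * q'⁻¹ * y⁻¹)) ∧
    (∀ q ∈ C.Q, ∀ g : G, (q * y * q⁻¹ * y⁻¹) * g = g * (q * y * q⁻¹ * y⁻¹)) ∧
    (∀ q ∈ C.Q, (q * y * q⁻¹ * y⁻¹) ^ 3 = 1) ∧
    (∀ q ∈ C.Q, q⁻¹ * C.t * q * C.t ∈ C.Q ∧
        C.t * (q⁻¹ * C.t * q * C.t) * C.t = (q⁻¹ * C.t * q * C.t)⁻¹ ∧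
        (q⁻¹ * C.t * q * C.t) * y * (q⁻¹ * C.t * q * C.t)⁻¹ * y⁻¹ = q * y * q⁻¹ * y⁻¹) := by
  have hQn := C.hQn
  have ht2 := C.ht2
  have htinv : C.t⁻¹ = C.t := inv_eq_of_mul_eq_one_left ht2
  have hφQ : ∀ q ∈ C.Q, q * y * q⁻¹ * y⁻¹ ∈ C.Q := fun q hq =>
    C.Q.mul_mem (C.Q.mul_mem (C.Q.mul_mem hq hy) (C.Q.inv_mem hq)) (C.Q.inv_mem hy)
  have htQt : ∀ q ∈ C.Q, C.t * q * C.t ∈ C.Q := by
    intro q hq
    have := hQn.conj_mem q hq C.t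
    rwa [htinv] at this
  -- (1) hom
  have h1 : ∀ q ∈ C.Q, ∀ q' ∈ C.Q,
      (q * q') * y * (q * q')⁻¹ * y⁻¹ = (q * y * q⁻¹ * y⁻¹) * (q' * y * q'⁻¹ * y⁻¹) := by
    intro q hq q' hq'
    have e1 := hy2 q' hq' q hq
    have e2 := hy2 q hq _ (hφQ q' hq')
    calc (q * q') * y * (q * q')⁻¹ * y⁻¹
        = q * (q' * y * q'⁻¹ * y⁻¹) * (y * q⁻¹ * y⁻¹) := by group
      _ = (q' * y * q'⁻¹ * y⁻¹) * q * (y * q⁻¹ * y⁻¹) := by rw [← e1]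
      _ = (q' * y * q'⁻¹ * y⁻¹) * (q * y * q⁻¹ * y⁻¹) := by group
      _ = _ := e2.symm
  -- fixed by t
  have hfix : ∀ q ∈ C.Q, C.t * (q * y * q⁻¹ * y⁻¹) * C.t = q * y * q⁻¹ * y⁻¹ := fun q hq =>
    hZt _ (hφQ q hq) (fun r hr => hy2 q hq r hr)
  -- (2) central
  have h2 : ∀ q ∈ C.Q, ∀ g : G, (q * y * q⁻¹ * y⁻¹) * g = g * (q * y * q⁻¹ * y⁻¹) := by
    intro q hq g
    obtain ⟨z, hz⟩ : ∃ z, z = q * y * q⁻¹ * y⁻¹ := ⟨_, rfl⟩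
    have hc := hy2 q hq
    have ht := hfix q hq
    rw [← hz] at hc ht ⊢
    have ht' : z * C.t = C.t * z := by
      calc z * C.t = (C.t * z * C.t) * C.t := by rw [ht]
        _ = C.t * z * (C.t * C.t) := by group
        _ = _ := by rw [ht2, mul_one]
    rcases C.hidx g with hg | hg
    · exact hc g hg
    · have h := hc _ hg
      calc z * g = z * (C.t * C.t) * g := by rw [ht2, mul_one]
        _ = (z * C.t) * (C.t * g) := by group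
        _ = C.t * (z * (C.t * g)) := by rw [ht']; group
        _ = C.t * ((C.t * g) * z) := by rw [h]
        _ = (C.t * C.t) * g * z := by group
        _ = _ := by rw [ht2, one_mul]
  -- (3) cube
  have hy3 : y ^ 3 = 1 := INV3 C y hy hyt
  have h3 : ∀ q ∈ C.Q, (q * y * q⁻¹ * y⁻¹) ^ 3 = 1 := by
    intro q hq
    have hc : Commute (q * y * q⁻¹ * y⁻¹) y := hy2 q hq y hy
    have e : (q * y * q⁻¹ * y⁻¹) * y = q * y * q⁻¹ := by group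
    have e3 : ((q * y * q⁻¹ * y⁻¹) * y) ^ 3 = 1 := by
      rw [e, conj_pow, hy3, mul_one, mul_inv_cancel]
    rw [hc.mul_pow, hy3, mul_one] at e3
    exact e3
  refine ⟨h1, h2, h3, ?_⟩
  intro q hq
  have hrQ : C.t * q * C.t ∈ C.Q := htQt q hq
  have hu : q⁻¹ * C.t * q * C.t = q⁻¹ * (C.t * q * C.t) := by group
  refine ⟨?_, ?_, ?_⟩
  · rw [hu]; exact C.Q.mul_mem (C.Q.inv_mem hq) hrQ
  · calc C.t * (q⁻¹ * C.t * q * C.t) * C.t = C.t * q⁻¹ * C.t * q * (C.t * C.t) := by group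
      _ = C.t * q⁻¹ * C.t * q := by rw [ht2, mul_one]
      _ = C.t⁻¹ * q⁻¹ * C.t⁻¹ * q := by rw [htinv]
      _ = (q⁻¹ * C.t * q * C.t)⁻¹ := by group
  · rw [hu]
    obtain ⟨r, hr⟩ : ∃ r, r = C.t * q * C.t := ⟨_, rfl⟩
    obtain ⟨z, hz⟩ : ∃ z, z = q * y * q⁻¹ * y⁻¹ := ⟨_, rfl⟩
    rw [← hr] at hrQ ⊢
    have hz3 : z ^ 3 = 1 := by rw [hz]; exact h3 q hq
    have hzt : C.t * z * C.t = z := by rw [hz]; exact hfix q hq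
    -- φ(q⁻¹) = z⁻¹
    have hqi : q⁻¹ * y * q⁻¹⁻¹ * y⁻¹ = z⁻¹ := by
      have h := h1 q hq q⁻¹ (C.Q.inv_mem hq)
      rw [mul_inv_cancel] at h
      have h0 : (1 : G) * y * 1⁻¹ * y⁻¹ = 1 := by group
      rw [h0, ← hz] at h
      exact eq_inv_of_mul_eq_one_right h.symm
    -- z = r y⁻¹ r⁻¹ y
    have e1 : z = r * y⁻¹ * r⁻¹ * y := by
      have h : C.t * z * C.t⁻¹ =
          (C.t * q * C.t⁻¹) * (C.t * y * C.t⁻¹) * (C.t * q * C.t⁻¹)⁻¹ * (C.t * y * C.t⁻¹)⁻¹ := by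
        rw [hz]; group
      rw [htinv, hzt, hyt, ← hr, inv_inv] at h
      exact h
    have e2 : r * y * r⁻¹ * y⁻¹ = y⁻¹ * r * y * r⁻¹ := by
      have hc := hy2 r hrQ y hy
      calc r * y * r⁻¹ * y⁻¹ = y⁻¹ * (y * (r * y * r⁻¹ * y⁻¹)) := by group
        _ = y⁻¹ * ((r * y * r⁻¹ * y⁻¹) * y) := by rw [hc]
        _ = y⁻¹ * r * y * r⁻¹ := by group
    have hφr : r * y * r⁻¹ * y⁻¹ = z⁻¹ := by
      apply eq_inv_of_mul_eq_one_right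
      rw [e2, e1]; group
    rw [h1 q⁻¹ (C.Q.inv_mem hq) r hrQ, hqi, hφr, ← hz]
    rw [pow_succ, pow_two] at hz3
    calc z⁻¹ * z⁻¹ = z⁻¹ * z⁻¹ * (z * z * z) := by rw [hz3, mul_one]
      _ = z := by group

end Cfsg.Agent.S5559P
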