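import Mathlib
import Cfsg.Agent.Helper14.S5559Defs

set_option autoImplicit false

namespace Cfsg.Agent.S5559P

/-- The abelianization of `O₂(H)` has no 3-torsion. -/
theorem BRIDGE.P1 (H : Type*) [Group H] [Finite H] :
    ∀ w : Abelianization ↥(Cfsg.pCore 2 H), w ^ 3 = 1 → w = 1 := by
  intro w hw
  have hV : IsPGroup 2 ↥(Cfsg.pCore 2 H) :=
    Sylow.sSup_of_normal _ (fun _ h => h.2) (fun _ h => h.1)
  have hA : IsPGroup 2 (Abelianization ↥(Cfsg.pCore 2 H)) :=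
    hV.to_quotient (commutator ↥(Cfsg.pCore 2 H))
  obtain ⟨k, hk⟩ := hA w
  have h1 : orderOf w ∣ 3 := orderOf_dvd_of_pow_eq_one hw
  have h2 : orderOf w ∣ 2 ^ k := orderOf_dvd_of_pow_eq_one hk
  have h3 : orderOf w ∣ Nat.gcd 3 (2 ^ k) := Nat.dvd_gcd h1 h2
  have h4 : Nat.gcd 3 (2 ^ k) = 1 := by
    apply Nat.Coprime.pow_right
    decide
  rw [h4, Nat.dvd_one, orderOf_eq_one_iff] at h3
  exact h3

end Cfsg.Agent.S5559P
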