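import Mathlib
import Cfsg.Agent.Helper15.S1983Defs

set_option autoImplicit false

namespace Cfsg.Agent.S1983P

open Subgroup Cfsg Cfsg.Agent.Helper10 Cfsg.Agent.Helper26
open scoped commutatorElement

universe u

/-- elementwise quadratic action gives the subgroup form with `zpowers` -/
theorem DLOUT.aux_quad {H : Type*} [Group H] (Q : Subgroup H) (n : H)
    (h' : ∀ a ∈ Q, ⁅⁅a, n⁆, n⁆ = 1) : ⁅⁅Q, zpowers n⁆, zpowers n⁆ = ⊥ := by
  rw [commutator_eq_bot_iff_le_centralizer, commutator_le]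
  intro a ha z hz
  obtain ⟨i, rfl⟩ := mem_zpowers_iff.mp hz
  have hcomm : Commute ⁅a, n⁆ n := by
    have := h' a ha
    rw [commutatorElement_eq_one_iff_commute] at this
    exact this
  have ht : Commute (a * n * a⁻¹) n := by
    have h2 : a * n * a⁻¹ = ⁅a, n⁆ * n := by
      rw [commutatorElement_def]; group
    rw [h2]
    exact hcomm.mul_left (Commute.refl _)
  have h3 : ⁅a, n ^ i⁆ = ⁅a, n⁆ ^ i := by
    have h4 : ⁅a, n⁆ = (a * n * a⁻¹) * n⁻¹ := by
      rw [commutatorElement_def]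
    rw [h4, (ht.inv_right).mul_zpow, commutatorElement_def, conj_zpow, inv_zpow]
  rw [h3]
  apply zpow_mem
  rw [mem_centralizer_iff]
  intro y hy
  obtain ⟨j, rfl⟩ := mem_zpowers_iff.mp hy
  exact ((hcomm.zpow_right j).eq).symm

section Chief

variable {G : Type u} [Group G] [Finite G] {p : ℕ} [Fact p.Prime] (X Y : Subgroup G)
  [hXn : X.Normal] [hYn : Y.Normal]

omit [Finite G] in
theorem DLOUT.aux_dl (b : G) (m : ↥(Ub X Y)) :
    ((dl (rhoZ X Y) b m : ↥(Ub X Y)) : G ⧸ Y) =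
      (QuotientGroup.mk' Y b) * m * (QuotientGroup.mk' Y b)⁻¹ * (m : G ⧸ Y)⁻¹ := by
  unfold dl
  rw [Subgroup.coe_mul, Subgroup.coe_inv, rhoZ_apply]

/-! ## DLOUT (M): `dl`-quadratic on the whole chief factor + stability of `G ⧸ Y` gives trivial action. -/
theorem DLOUT.main (hXY : Cfsg.IsChiefFactor X Y) (hXT : X ≤ Cfsg.pCore p G)
    (hst : StabHyp p (G ⧸ Y)) (b : G)
    (h : ∀ w : ↥(Ub X Y), dl (rhoZ X Y) b (dl (rhoZ X Y) b w) = 1) :
    ⁅X, zpowers b⁆ ≤ Y := by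
  have hp : p.Prime := Fact.out
  have hPp : IsPGroup p ↥(Ub X Y) := ub_isPGroup (p := p) (V := Y) hXT
  obtain ⟨L, hLn, hCL, hLpow, hLq⟩ := hst (Ub X Y) inferInstance hPp
  have := hLn
  -- the image of `b` lies in `L`
  have haL : QuotientGroup.mk' Y b ∈ L := by
    apply hLq
    apply DLOUT.aux_quad
    intro w hw
    have h1 := congrArg Subtype.val (h ⟨w, hw⟩)
    rw [DLOUT.aux_dl, DLOUT.aux_dl, Subgroup.coe_one] at h1
    rw [commutatorElement_eq_one_iff_commute]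
    have hc : Commute (QuotientGroup.mk' Y b)
        ((QuotientGroup.mk' Y b) * w * (QuotientGroup.mk' Y b)⁻¹ * w⁻¹) := by
      have := mul_inv_eq_one.1 h1
      exact (mul_inv_eq_iff_eq_mul.1 this)
    have e : ⁅w, QuotientGroup.mk' Y b⁆ =
        ((QuotientGroup.mk' Y b) * w * (QuotientGroup.mk' Y b)⁻¹ * w⁻¹)⁻¹ := by
      rw [commutatorElement_def]; group
    rw [e]
    exact hc.symm.inv_left
  -- fixed points of `L` on the chief factor
  have hFn : (Ub X Y ⊓ centralizer (L : Set (G ⧸ Y))).Normal := inferInstance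
  have hfix : ∃ m : ↥(Ub X Y), m ≠ 1 ∧ (m : G ⧸ Y) ∈ centralizer (L : Set (G ⧸ Y)) := by
    let ψ : (G ⧸ Y) →* MulAut ↥(Ub X Y) := MulAut.conjNormal
    have hΛ : IsPGroup p ↥(L.map ψ) := by
      rintro ⟨_, x, hx, rfl⟩
      obtain ⟨k, hk⟩ := hLpow x hx
      refine ⟨k, ?_⟩
      apply Subtype.ext
      rw [Subgroup.coe_pow, Subgroup.coe_one]
      show (ψ x) ^ (p ^ k) = 1
      rw [← map_pow]
      ext m
      rw [MulAut.conjNormal_apply, MulAut.one_apply]
      have h2 := (mem_centralizer_iff.1 hk) (m : G ⧸ Y) m.2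
      rw [← h2, mul_inv_cancel_right]
    have hdvd : p ∣ Nat.card ↥(Ub X Y) := by
      obtain ⟨k, hk⟩ := IsPGroup.iff_card.mp hPp
      have hk0 : k ≠ 0 := by
        rintro rfl
        rw [pow_zero, Subgroup.card_eq_one] at hk
        exact ub_ne_bot hXY hk
      rw [hk]
      exact dvd_pow_self p hk0
    have h1 : (1 : ↥(Ub X Y)) ∈ MulAction.fixedPoints ↥(L.map ψ) ↥(Ub X Y) := by
      intro l
      show (l : MulAut ↥(Ub X Y)) • (1 : ↥(Ub X Y)) = 1
      rw [MulAut.smul_def, map_one]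
    obtain ⟨m, hm, hne⟩ :=
      hΛ.exists_fixed_point_of_prime_dvd_card_of_fixed_point ↥(Ub X Y) hdvd h1
    refine ⟨m, fun h0 => hne h0.symm, ?_⟩
    rw [mem_centralizer_iff]
    intro x hx
    have h2 : (⟨ψ x, x, hx, rfl⟩ : ↥(L.map ψ)) • m = m := hm ⟨ψ x, x, hx, rfl⟩
    have h3 : ψ x m = m := h2
    have h4 := congrArg Subtype.val h3
    rw [MulAut.conjNormal_apply] at h4
    calc x * (m : G ⧸ Y) = (x * (m : G ⧸ Y) * x⁻¹) * x := by group
      _ = (m : G ⧸ Y) * x := by rw [h4]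
  obtain ⟨m, hm1, hmC⟩ := hfix
  rcases chief_dichotomy hXY _ hFn inf_le_left with h1 | h1
  · exfalso
    apply hm1
    have h2 : (m : G ⧸ Y) ∈ Ub X Y ⊓ centralizer (L : Set (G ⧸ Y)) := ⟨m.2, hmC⟩
    rw [h1, Subgroup.mem_bot] at h2
    exact Subtype.ext h2
  · apply commutator_le_of_rhoZ_eq_one
    ext w
    have hw : (w : G ⧸ Y) ∈ Ub X Y ⊓ centralizer (L : Set (G ⧸ Y)) := by rw [h1]; exact w.2
    have h2 := (mem_centralizer_iff.1 hw.2) _ haL
    rw [rhoZ_apply, MulAut.one_apply, h2, mul_inv_cancel_right]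

end Chief

end Cfsg.Agent.S1983P
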