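import Mathlib
import Cfsg.Prelude.Def_JComponents
import Cfsg.Prelude.Def_Involutions
import Cfsg.Agent.Helper5.S2951Defs

/-! # S2951 board, piece MZERO (blueprint §1 P5) -/

set_option autoImplicit false

universe u

namespace Cfsg.Agent.S2951P

open Cfsg Subgroup Cfsg.Agent.Helper15.JComp Cfsg.Agent.S2951P

variable {G : Type u} [Group G] [Finite G] {M T K K' L L' : Subgroup G}

/-- conjugation invariance of `a(·)` -/
theorem MZERO_aux_a_conj (P : Subgroup G) (n : G) :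
    maxElemAbelianOrder (P.map (MulAut.conj n).toMonoidHom) = maxElemAbelianOrder P := by
  obtain ⟨A, hA⟩ := maxEA_nonempty 2 P
  have hinj : Function.Injective (MulAut.conj n).toMonoidHom := (MulAut.conj n).injective
  rw [maxElemAbelianOrder_eq hA, maxElemAbelianOrder_eq (map_mem_maxEA hinj hA)]
  exact Cfsg.Agent.Helper7.card_map_conj A n

/-- MZERO (M) = P5: a Sylow 2-subgroup in `𝒯(M')` is in `𝒯*(M')`. -/
theorem MZERO_max (S : Sylow 2 G) {M' : Subgroup G}
    (h : (S : Subgroup G) ∈ straddlingTwoSubgroups M') :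
    (S : Subgroup G) ∈ maxStraddlingTwoSubgroups M' := by
  refine ⟨h, ?_⟩
  intro T hT
  obtain ⟨hT2, -, -, -⟩ := hT
  obtain ⟨S₁, hS₁, hTS₁⟩ := exists_isSylowTwoIn_ge hT2 (le_top : T ≤ ⊤)
  obtain ⟨n, -, hn⟩ := isSylowTwoIn_conj (isSylowTwoIn_of_sylow_le S le_top) hS₁
  have hinj : Function.Injective (MulAut.conj n).toMonoidHom := (MulAut.conj n).injective
  have hJT : thompsonSubgroupOf 2 T ≤ S₁ :=
    (Cfsg.Agent.S2941.thompsonSubgroupOf_le 2 T).trans hTS₁
  have ha : maxElemAbelianOrder S₁ = maxElemAbelianOrder (S : Subgroup G) := by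
    rw [hn]; exact MZERO_aux_a_conj _ n
  have hJc : Nat.card ↥(thompsonSubgroupOf 2 S₁) =
      Nat.card ↥(thompsonSubgroupOf 2 (S : Subgroup G)) := by
    rw [hn, thompsonSubgroupOf_map hinj]
    exact Cfsg.Agent.Helper7.card_map_conj _ n
  have hc : Nat.card ↥S₁ = Nat.card ↥(S : Subgroup G) := by
    rw [hn]; exact Cfsg.Agent.Helper7.card_map_conj _ n
  refine ⟨?_, ?_⟩
  · rw [← ha]
    exact maxElemAbelianOrder_le_of_thompson_le hJT
  · intro heq
    rw [← ha] at heq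
    refine ⟨?_, fun _ => ?_⟩
    · rw [← hJc]
      apply Subgroup.card_le_of_le
      apply thompson_eq_of_le_of_card_eq hJT
      intro A hA E hE
      rw [← maxElemAbelianOrder_eq hA, ← maxElemAbelianOrder_eq hE, heq]
    · rw [← hc]
      exact Subgroup.card_le_of_le hTS₁

/-- MZERO = P5: the context `(N_G(J(S)), S)`. -/
theorem MZERO_ctx (g : Glob G) (S : Sylow 2 G)
    (hex : ∃ L : Subgroup G, IsTwoLocal L ∧ (S : Subgroup G) ≤ L ∧
      ¬ L ≤ normalizer ((thompsonSubgroupOf 2 (S : Subgroup G) : Subgroup G) : Set G)) :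
    StraddleCtx (normalizer ((thompsonSubgroupOf 2 (S : Subgroup G) : Subgroup G) : Set G))
      (S : Subgroup G) := by
  apply straddleCtx_mk g.hL g.hN g.hZ S le_rfl
  apply MZERO_max
  obtain ⟨L, hL2, hSL, hLN⟩ := hex
  refine ⟨S.isPGroup', ?_, le_normalizer.trans (normalizer_le_normalizer_thompsonSubgroupOf 2 _),
    L, hL2, hSL, hLN⟩
  intro hbot
  obtain ⟨Q, hQ2, hQ1, -⟩ := hL2
  obtain ⟨S₁, hS₁, hQS₁⟩ := exists_isSylowTwoIn_ge hQ2 (le_top : Q ≤ ⊤)
  obtain ⟨n, -, hn⟩ := isSylowTwoIn_conj (isSylowTwoIn_of_sylow_le S le_top) hS₁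
  rw [hbot, Subgroup.map_bot] at hn
  rw [hn] at hQS₁
  exact hQ1 (le_bot_iff.mp hQS₁)

/-- MZERO = P5: every `J(S)`-component is outside `N_G(J(S))`. -/
theorem MZERO_out {S K : Subgroup G} (hS : IsPGroup 2 ↥S) (hK : IsJComponent S K) :
    ¬ K ≤ normalizer ((thompsonSubgroupOf 2 S : Subgroup G) : Set G) := by
  intro hle
  obtain ⟨hgen, hcomm, hidx, -⟩ := hK
  have hKJ : K ≤ thompsonSubgroupOf 2 S := by
    conv_lhs => rw [← hcomm]
    rw [Subgroup.commutator_le]
    intro k hk j hj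
    have hkn := hle hk
    have h1 : k * j * k⁻¹ ∈ thompsonSubgroupOf 2 S := (mem_normalizer_iff.mp hkn j).mp hj
    rw [commutatorElement_def]
    exact mul_mem h1 (inv_mem hj)
  have hKS : K ≤ S := hKJ.trans (Cfsg.Agent.S2941.thompsonSubgroupOf_le 2 S)
  have hKbot : K = ⊥ := by
    rw [eq_bot_iff, ← hgen, Subgroup.closure_le]
    rintro x ⟨hxK, hodd⟩
    obtain ⟨k, hk⟩ := hS ⟨x, hKS hxK⟩
    have hx : x ^ 2 ^ k = 1 := by
      have := congrArg Subtype.val hk
      simpa using this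
    have hdvd : orderOf x ∣ 2 ^ k := orderOf_dvd_of_pow_eq_one hx
    have hco : Nat.Coprime (orderOf x) (2 ^ k) :=
      Nat.Coprime.pow_right k (Nat.coprime_two_right.mpr hodd)
    have h1 : orderOf x = 1 := Nat.Coprime.eq_one_of_dvd hco hdvd
    rw [orderOf_eq_one_iff] at h1
    rw [h1]
    exact Subgroup.one_mem _
  rw [hKbot, Subgroup.relIndex_bot_right] at hidx
  omega

end Cfsg.Agent.S2951P
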