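import Mathlib
import Cfsg.Prelude.Def_Transfer
import Cfsg.Agent.Helper8.S1904Defs

/-! Board `s1904pieces`, row B3 (core): `C_X(B) = B` for a maximal invariant normal abelian subgroup `B`,
with the needed facts of rows B1, B2, PN, INV as hypotheses. -/

set_option autoImplicit false
set_option linter.unusedVariables false
set_option linter.unusedSectionVars false

namespace Cfsg.Agent.S1904P

variable {X : Type*} [Group X] [Finite X] {A : Subgroup (MulAut X)} {B : Subgroup X}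

/-- the elements `n` of `C_X(B)` with `n B ∈ Ω₁(Z(X/B))`. -/
def B3_aux_N1 (B : Subgroup X) : Subgroup X where
  carrier := {n | (∀ b ∈ B, n * b = b * n) ∧ n * n ∈ B ∧ ∀ x : X, n * x * n⁻¹ * x⁻¹ ∈ B}
  one_mem' := ⟨fun b _ => by simp, by simp [one_mem], fun x => by simp [one_mem]⟩
  mul_mem' := by
    rintro n m ⟨hn1, hn2, hn3⟩ ⟨hm1, hm2, hm3⟩
    refine ⟨?_, ?_, ?_⟩
    · intro b hb
      calc n * m * b = n * (m * b) := by group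
        _ = n * (b * m) := by rw [hm1 b hb]
        _ = (n * b) * m := by group
        _ = (b * n) * m := by rw [hn1 b hb]
        _ = b * (n * m) := by group
    · have hc := hm3 n
      have e : n * m * (n * m) = (n * (m * n * m⁻¹ * n⁻¹)) * n * m * m := by group
      rw [e, hn1 _ hc]
      have e2 : m * n * m⁻¹ * n⁻¹ * n * n * m * m = (m * n * m⁻¹ * n⁻¹) * (n * n) * (m * m) := by group
      rw [e2]
      exact B.mul_mem (B.mul_mem hc hn2) hm2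
    · intro x
      have e : n * m * x * (n * m)⁻¹ * x⁻¹ =
          (n * (m * x * m⁻¹ * x⁻¹)) * n⁻¹ * (n * x * n⁻¹ * x⁻¹) := by group
      rw [e, hn1 _ (hm3 x)]
      have e2 : m * x * m⁻¹ * x⁻¹ * n * n⁻¹ * (n * x * n⁻¹ * x⁻¹) =
          (m * x * m⁻¹ * x⁻¹) * (n * x * n⁻¹ * x⁻¹) := by group
      rw [e2]; exact B.mul_mem (hm3 x) (hn3 x)
  inv_mem' := by
    rintro n ⟨hn1, hn2, hn3⟩
    refine ⟨?_, ?_, ?_⟩
    · intro b hb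
      have := hn1 b hb
      calc n⁻¹ * b = n⁻¹ * (b * n) * n⁻¹ := by group
        _ = n⁻¹ * (n * b) * n⁻¹ := by rw [this]
        _ = b * n⁻¹ := by group
    · have : n⁻¹ * n⁻¹ = (n * n)⁻¹ := by group
      rw [this]; exact B.inv_mem hn2
    · intro x
      have h := hn3 (n⁻¹ * x * n)
      have e : n * (n⁻¹ * x * n) * n⁻¹ * (n⁻¹ * x * n)⁻¹ = x * n⁻¹ * x⁻¹ * n := by group
      rw [e] at h
      have e2 : n⁻¹ * x * n⁻¹⁻¹ * x⁻¹ = (x * n⁻¹ * x⁻¹ * n)⁻¹ := by group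
      rw [e2]; exact B.inv_mem h

theorem B3_aux_mem_N1 {B : Subgroup X} {n : X} : n ∈ B3_aux_N1 B ↔
    (∀ b ∈ B, n * b = b * n) ∧ n * n ∈ B ∧ ∀ x : X, n * x * n⁻¹ * x⁻¹ ∈ B := Iff.rfl

/-- `B ≤ N₁` for `B` normal abelian. -/
theorem B3_aux_le_N1 (hn : B.Normal) (hc : ∀ a ∈ B, ∀ b ∈ B, a * b = b * a) : B ≤ B3_aux_N1 B := by
  intro b hb
  refine ⟨fun b' hb' => hc b hb b' hb', B.mul_mem hb hb, fun x => ?_⟩
  have : b * x * b⁻¹ * x⁻¹ = b * (x * b⁻¹ * x⁻¹) := by group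
  rw [this]
  exact B.mul_mem hb (hn.conj_mem _ (B.inv_mem hb) x)

/-- `N₁` is normal. -/
theorem B3_aux_N1_normal (hn : B.Normal) (hc : ∀ a ∈ B, ∀ b ∈ B, a * b = b * a) : (B3_aux_N1 B).Normal := by
  constructor
  intro n hN g
  have h1 : n * g * n⁻¹ * g⁻¹ ∈ B := hN.2.2 g
  have h2 : g * n * g⁻¹ * n⁻¹ ∈ B := by
    have : g * n * g⁻¹ * n⁻¹ = (n * g * n⁻¹ * g⁻¹)⁻¹ := by group
    rw [this]; exact B.inv_mem h1
  have : g * n * g⁻¹ = (g * n * g⁻¹ * n⁻¹) * n := by group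
  rw [this]
  exact (B3_aux_N1 B).mul_mem (B3_aux_le_N1 hn hc h2) hN

/-- `N₁` is `A`-invariant. -/
theorem B3_aux_N1_inv (hI : Inv A B) : Inv A (B3_aux_N1 B) := by
  intro φ hφ n hN
  have hφi : φ⁻¹ ∈ A := A.inv_mem hφ
  refine ⟨?_, ?_, ?_⟩
  · intro b hb
    have hb' : φ⁻¹ b ∈ B := hI _ hφi b hb
    have e : b = φ (φ⁻¹ b) := (MulAut.apply_inv_self X φ b).symm
    rw [e, ← map_mul, ← map_mul, hN.1 _ hb']
  · rw [← map_mul]; exact hI φ hφ _ hN.2.1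
  · intro x
    have e : φ n * x * (φ n)⁻¹ * x⁻¹ = φ (n * (φ⁻¹ x) * n⁻¹ * (φ⁻¹ x)⁻¹) := by
      simp only [map_mul, map_inv, MulAut.apply_inv_self]
    rw [e]; exact hI φ hφ _ (hN.2.2 _)

/-- commutators of `N₁` lie in `W` (given `Ω₁(B) ≤ W`). -/
theorem B3_aux_comm_mem_W (hΩ : ∀ b ∈ B, b * b = 1 → b ∈ WW X) {n m : X}
    (hn : n ∈ B3_aux_N1 B) (hm : m ∈ B3_aux_N1 B) : n * m * n⁻¹ * m⁻¹ ∈ WW X := by
  have hcB : n * m * n⁻¹ * m⁻¹ ∈ B := hn.2.2 m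
  apply hΩ _ hcB
  have e1 : (n * n) * m * (n * n)⁻¹ * m⁻¹ = n * (n * m * n⁻¹ * m⁻¹) * n⁻¹ * (n * m * n⁻¹ * m⁻¹) := by group
  have e2 : (n * n) * m * (n * n)⁻¹ * m⁻¹ = 1 := by
    rw [← hm.1 _ hn.2.1]; group
  rw [e2, hn.1 _ hcB] at e1
  have e3 : n * m * n⁻¹ * m⁻¹ * n * n⁻¹ * (n * m * n⁻¹ * m⁻¹) =
      (n * m * n⁻¹ * m⁻¹) * (n * m * n⁻¹ * m⁻¹) := by group
  rw [e3] at e1
  exact e1.symm

/-- the square of a product in `N₁`. -/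
theorem B3_aux_sq_mul {n m : X} (hn : n ∈ B3_aux_N1 B) (hm : m ∈ B3_aux_N1 B) :
    (n * m) * (n * m) = (m * n * m⁻¹ * n⁻¹) * (n * n) * (m * m) := by
  have hc := hm.2.2 n
  have e : n * m * (n * m) = (n * (m * n * m⁻¹ * n⁻¹)) * n * m * m := by group
  rw [e, hn.1 _ hc]
  group

/-- the kernel of squaring mod `B²` on `N₁` is `B`. -/
theorem B3_aux_ker (hn : B.Normal) (hc : ∀ a ∈ B, ∀ b ∈ B, a * b = b * a)
    (hWB : WW X ≤ B) (hΩ : ∀ b ∈ B, b * b = 1 → b ∈ WW X)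
    (hsqB : ∀ c ∈ Sq B, ∃ b ∈ B, c = b * b)
    (hINV : ∀ t : X, t * t = 1 → (∀ x : X, t * x * t⁻¹ * x⁻¹ ∈ WW X) → t ∈ WW X)
    {n : X} (hN : n ∈ B3_aux_N1 B) (hsq : n * n ∈ Sq B) : n ∈ B := by
  obtain ⟨b, hb, hbb⟩ := hsqB _ hsq
  have hbi : b⁻¹ ∈ B := B.inv_mem hb
  have ht : n * b⁻¹ ∈ B3_aux_N1 B := (B3_aux_N1 B).mul_mem hN (B3_aux_le_N1 hn hc hbi)
  have htt : (n * b⁻¹) * (n * b⁻¹) = 1 := by
    have e : (n * b⁻¹) * (n * b⁻¹) = n * (b⁻¹ * n) * b⁻¹ := by group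
    rw [e, ← hN.1 _ hbi]
    have e2 : n * (n * b⁻¹) * b⁻¹ = (n * n) * (b⁻¹ * b⁻¹) := by group
    rw [e2, hbb]; group
  have htW : n * b⁻¹ ∈ WW X := by
    apply hINV _ htt
    intro x
    obtain ⟨t, htdef⟩ : ∃ t, t = n * b⁻¹ := ⟨_, rfl⟩
    rw [← htdef] at ht htt ⊢
    have hcB : t * x * t⁻¹ * x⁻¹ ∈ B := ht.2.2 x
    apply hΩ _ hcB
    obtain ⟨c, hcdef⟩ : ∃ c, c = t * x * t⁻¹ * x⁻¹ := ⟨_, rfl⟩
    rw [← hcdef] at hcB ⊢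
    have hci : c⁻¹ ∈ B := B.inv_mem hcB
    have e1 : x * t * x⁻¹ = c⁻¹ * t := by rw [hcdef]; group
    have e2 : (x * t * x⁻¹) * (x * t * x⁻¹) = 1 := by
      have : (x * t * x⁻¹) * (x * t * x⁻¹) = x * (t * t) * x⁻¹ := by group
      rw [this, htt]; group
    rw [e1] at e2
    have e3 : c⁻¹ * t * (c⁻¹ * t) = c⁻¹ * (t * c⁻¹) * t := by group
    rw [e3, ht.1 _ hci] at e2
    have e4 : c⁻¹ * (c⁻¹ * t) * t = c⁻¹ * c⁻¹ * (t * t) := by group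
    rw [e4, htt, mul_one] at e2
    have : c * c = (c⁻¹ * c⁻¹)⁻¹ := by rw [mul_inv_rev, inv_inv]
    rw [this, e2, inv_one]
  have : n = (n * b⁻¹) * b := by group
  rw [this]
  exact B.mul_mem (hWB htW) hb

/-- no nontrivial `A`-fixed coset of `B` in `N₁`. -/
theorem B3_aux_nofix (hn : B.Normal) (hc : ∀ a ∈ B, ∀ b ∈ B, a * b = b * a)
    (hWB : WW X ≤ B) (hΩ : ∀ b ∈ B, b * b = 1 → b ∈ WW X)
    (hsqB : ∀ c ∈ Sq B, ∃ b ∈ B, c = b * b)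
    (hnfSq : ∀ b ∈ B, (∀ φ ∈ A, b⁻¹ * φ b ∈ Sq B) → b ∈ Sq B)
    (hINV : ∀ t : X, t * t = 1 → (∀ x : X, t * x * t⁻¹ * x⁻¹ ∈ WW X) → t ∈ WW X)
    {n : X} (hN : n ∈ B3_aux_N1 B) (hfixc : ∀ φ ∈ A, n⁻¹ * φ n ∈ B) : n ∈ B := by
  apply B3_aux_ker hn hc hWB hΩ hsqB hINV hN
  apply hnfSq _ hN.2.1
  intro φ hφ
  obtain ⟨β, hβdef⟩ : ∃ β, β = n⁻¹ * φ n := ⟨_, rfl⟩
  have hβ : β ∈ B := by rw [hβdef]; exact hfixc φ hφ
  have e1 : φ n = n * β := by rw [hβdef]; group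
  have e2 : (n * n)⁻¹ * φ (n * n) = β * β := by
    rw [map_mul, e1]
    have : (n * n)⁻¹ * (n * β * (n * β)) = (n * n)⁻¹ * (n * (β * n) * β) := by group
    rw [this, ← hN.1 _ hβ]; group
  rw [e2]
  exact Subgroup.subset_closure ⟨β, hβ, rfl⟩

/-- squaring `N₁ → B/B²` is injective modulo `B`. -/
theorem B3_aux_inj (hn : B.Normal) (hc : ∀ a ∈ B, ∀ b ∈ B, a * b = b * a)
    (hWB : WW X ≤ B) (hΩ : ∀ b ∈ B, b * b = 1 → b ∈ WW X)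
    (hWsq : ∀ w ∈ WW X, ∃ u ∈ B, u * u = w)
    (hsqB : ∀ c ∈ Sq B, ∃ b ∈ B, c = b * b)
    (hINV : ∀ t : X, t * t = 1 → (∀ x : X, t * x * t⁻¹ * x⁻¹ ∈ WW X) → t ∈ WW X)
    {a b : X} (ha : a ∈ B3_aux_N1 B) (hb : b ∈ B3_aux_N1 B) (h : (a * a)⁻¹ * (b * b) ∈ Sq B) :
    a⁻¹ * b ∈ B := by
  have hai : a⁻¹ ∈ B3_aux_N1 B := (B3_aux_N1 B).inv_mem ha
  apply B3_aux_ker hn hc hWB hΩ hsqB hINV ((B3_aux_N1 B).mul_mem hai hb)
  rw [B3_aux_sq_mul hai hb]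
  have h1 : b * a⁻¹ * b⁻¹ * a⁻¹⁻¹ ∈ Sq B := by
    obtain ⟨u, hu, huu⟩ := hWsq _ (B3_aux_comm_mem_W hΩ hb hai)
    rw [← huu]
    exact Subgroup.subset_closure ⟨u, hu, rfl⟩
  have e : b * a⁻¹ * b⁻¹ * a⁻¹⁻¹ * (a⁻¹ * a⁻¹) * (b * b) =
      (b * a⁻¹ * b⁻¹ * a⁻¹⁻¹) * ((a * a)⁻¹ * (b * b)) := by group
  rw [e]
  exact (Sq B).mul_mem h1 h

omit [Finite X] in
theorem B3_aux_Sq_le : Sq B ≤ B := by
  unfold Sq
  rw [Subgroup.closure_le]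
  rintro _ ⟨b, hb, rfl⟩
  exact B.mul_mem hb hb

theorem B3_aux_cardQ (hcardSq : Nat.card (Sq B) * 4 = Nat.card B) :
    Nat.card (↥B ⧸ (Sq B).subgroupOf B) = 4 := by
  have h1 := Subgroup.card_eq_card_quotient_mul_card_subgroup ((Sq B).subgroupOf B)
  have h2 : Nat.card ↥((Sq B).subgroupOf B) = Nat.card (Sq B) :=
    Nat.card_congr (Subgroup.subgroupOfEquivOfLe (B3_aux_Sq_le (B := B))).toEquiv
  rw [h2, ← hcardSq] at h1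
  have hpos : 0 < Nat.card (Sq B) := Nat.card_pos
  have h3 : Nat.card (Sq B) * 4 = Nat.card (Sq B) * Nat.card (↥B ⧸ (Sq B).subgroupOf B) := by
    rw [h1]; ring
  exact (Nat.eq_of_mul_eq_mul_left hpos h3).symm

/-- `N₁` is covered by the four cosets of `B` spanned by an independent pair. -/
theorem B3_aux_cover (hn : B.Normal) (hc : ∀ a ∈ B, ∀ b ∈ B, a * b = b * a)
    (hWB : WW X ≤ B) (hΩ : ∀ b ∈ B, b * b = 1 → b ∈ WW X)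
    (hWsq : ∀ w ∈ WW X, ∃ u ∈ B, u * u = w)
    (hsqB : ∀ c ∈ Sq B, ∃ b ∈ B, c = b * b)
    (hcardSq : Nat.card (Sq B) * 4 = Nat.card B)
    (hINV : ∀ t : X, t * t = 1 → (∀ x : X, t * x * t⁻¹ * x⁻¹ ∈ WW X) → t ∈ WW X)
    {u v : X} (hu : u ∈ B3_aux_N1 B) (hv : v ∈ B3_aux_N1 B) (hu' : u ∉ B) (hv' : v ∉ B)
    (huv : u⁻¹ * v ∉ B) :
    ∀ y ∈ B3_aux_N1 B, y ∈ B ∨ u⁻¹ * y ∈ B ∨ v⁻¹ * y ∈ B ∨ (u * v)⁻¹ * y ∈ B := by
  intro y hy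
  classical
  by_contra hcon
  push_neg at hcon
  obtain ⟨n0, n1, n2, n3⟩ := hcon
  have key : ∀ (a b : X) (ha : a ∈ B3_aux_N1 B) (hb : b ∈ B3_aux_N1 B), a⁻¹ * b ∉ B →
      (QuotientGroup.mk (⟨a * a, ha.2.1⟩ : ↥B) : ↥B ⧸ (Sq B).subgroupOf B) ≠
        QuotientGroup.mk (⟨b * b, hb.2.1⟩ : ↥B) := by
    intro a b ha hb hab heq
    apply hab
    apply B3_aux_inj hn hc hWB hΩ hWsq hsqB hINV ha hb
    rw [QuotientGroup.eq] at heq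
    exact heq
  have h1N : (1 : X) ∈ B3_aux_N1 B := one_mem _
  have huvN : u * v ∈ B3_aux_N1 B := mul_mem hu hv
  have d01 : (1 : X)⁻¹ * u ∉ B := by simpa using hu'
  have d02 : (1 : X)⁻¹ * v ∉ B := by simpa using hv'
  have d03 : (1 : X)⁻¹ * (u * v) ∉ B := by
    intro h
    apply huv
    have e : u⁻¹ * v = (u * u)⁻¹ * ((1 : X)⁻¹ * (u * v)) := by group
    rw [e]; exact B.mul_mem (B.inv_mem hu.2.1) h
  have d04 : (1 : X)⁻¹ * y ∉ B := by simpa using n0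
  have d13 : u⁻¹ * (u * v) ∉ B := by simpa using hv'
  have d23 : v⁻¹ * (u * v) ∉ B := by
    intro h
    apply hu'
    have e : u = v * (v⁻¹ * (u * v)) * v⁻¹ := by group
    rw [e]; exact hn.conj_mem _ h v
  have e01 := key _ _ h1N hu d01
  have e02 := key _ _ h1N hv d02
  have e03 := key _ _ h1N huvN d03
  have e04 := key _ _ h1N hy d04
  have e12 := key _ _ hu hv huv
  have e13 := key _ _ hu huvN d13
  have e14 := key _ _ hu hy n1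
  have e23 := key _ _ hv huvN d23
  have e24 := key _ _ hv hy n2
  have e34 := key _ _ huvN hy n3
  have : Fintype (↥B ⧸ (Sq B).subgroupOf B) := Fintype.ofFinite _
  generalize (QuotientGroup.mk (⟨(1 : X) * 1, h1N.2.1⟩ : ↥B) : ↥B ⧸ (Sq B).subgroupOf B) = q0 at *
  generalize (QuotientGroup.mk (⟨u * u, hu.2.1⟩ : ↥B) : ↥B ⧸ (Sq B).subgroupOf B) = q1 at *
  generalize (QuotientGroup.mk (⟨v * v, hv.2.1⟩ : ↥B) : ↥B ⧸ (Sq B).subgroupOf B) = q2 at *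
  generalize (QuotientGroup.mk (⟨u * v * (u * v), huvN.2.1⟩ : ↥B) : ↥B ⧸ (Sq B).subgroupOf B) = q3 at *
  generalize (QuotientGroup.mk (⟨y * y, hy.2.1⟩ : ↥B) : ↥B ⧸ (Sq B).subgroupOf B) = q4 at *
  have c2 : ({q3, q4} : Finset (↥B ⧸ (Sq B).subgroupOf B)).card = 2 := Finset.card_pair e34
  have c3 : ({q2, q3, q4} : Finset (↥B ⧸ (Sq B).subgroupOf B)).card = 3 := by
    rw [Finset.card_insert_of_notMem (by simp [e23, e24]), c2]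
  have c4 : ({q1, q2, q3, q4} : Finset (↥B ⧸ (Sq B).subgroupOf B)).card = 4 := by
    rw [Finset.card_insert_of_notMem (by simp [e12, e13, e14]), c3]
  have c5 : ({q0, q1, q2, q3, q4} : Finset (↥B ⧸ (Sq B).subgroupOf B)).card = 5 := by
    rw [Finset.card_insert_of_notMem (by simp [e01, e02, e03, e04]), c4]
  have hle := Finset.card_le_univ ({q0, q1, q2, q3, q4} : Finset (↥B ⧸ (Sq B).subgroupOf B))
  rw [c5, ← Nat.card_eq_fintype_card, B3_aux_cardQ hcardSq] at hle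
  omega

/-- commutators only depend on the cosets of `B`. -/
theorem B3_aux_comm_coset (hc : ∀ a ∈ B, ∀ b ∈ B, a * b = b * a)
    {t t' a b : X} (ht : t ∈ B3_aux_N1 B) (ht' : t' ∈ B3_aux_N1 B) (ha : t⁻¹ * a ∈ B) (hb : t'⁻¹ * b ∈ B) :
    a * b * a⁻¹ * b⁻¹ = t * t' * t⁻¹ * t'⁻¹ := by
  obtain ⟨β, hβdef⟩ : ∃ β, β = t⁻¹ * a := ⟨_, rfl⟩
  obtain ⟨β', hβ'def⟩ : ∃ β', β' = t'⁻¹ * b := ⟨_, rfl⟩
  rw [← hβdef] at ha
  rw [← hβ'def] at hb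
  have ea : a = t * β := by rw [hβdef]; group
  have eb : b = t' * β' := by rw [hβ'def]; group
  have hti : t⁻¹ ∈ B3_aux_N1 B := (B3_aux_N1 B).inv_mem ht
  rw [ea, eb]
  calc t * β * (t' * β') * (t * β)⁻¹ * (t' * β')⁻¹
      = t * (β * t') * β' * β⁻¹ * t⁻¹ * β'⁻¹ * t'⁻¹ := by group
    _ = t * (t' * β) * β' * β⁻¹ * t⁻¹ * β'⁻¹ * t'⁻¹ := by rw [ht'.1 β ha]
    _ = t * t' * (β * β') * β⁻¹ * t⁻¹ * β'⁻¹ * t'⁻¹ := by group
    _ = t * t' * (β' * β) * β⁻¹ * t⁻¹ * β'⁻¹ * t'⁻¹ := by rw [hc β ha β' hb]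
    _ = t * t' * (β' * t⁻¹) * β'⁻¹ * t'⁻¹ := by group
    _ = t * t' * (t⁻¹ * β') * β'⁻¹ * t'⁻¹ := by rw [hti.1 β' hb]
    _ = t * t' * t⁻¹ * t'⁻¹ := by group

/-- B3 (core): `C_X(B) = B`, from the facts of rows B1, B2, PN, INV. -/
theorem B3_aux_core (H : Hyp A) (hB : MaxAb A B)
    (hWB : WW X ≤ B) (hΩ : ∀ b ∈ B, b * b = 1 → b ∈ WW X)
    (hfix : ∀ b ∈ B, (∀ φ ∈ A, φ b = b) → b = 1)
    (hWsq : ∀ w ∈ WW X, ∃ u ∈ B, u * u = w)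
    (hsqB : ∀ c ∈ Sq B, ∃ b ∈ B, c = b * b)
    (hnfSq : ∀ b ∈ B, (∀ φ ∈ A, b⁻¹ * φ b ∈ Sq B) → b ∈ Sq B)
    (hcardSq : Nat.card (Sq B) * 4 = Nat.card B)
    (hPN : ∀ M N : Subgroup X, M.Normal → N.Normal → M < N →
      ∃ n ∈ N, n ∉ M ∧ n * n ∈ M ∧ ∀ x : X, n * x * n⁻¹ * x⁻¹ ∈ M)
    (hINV : ∀ t : X, t * t = 1 → (∀ x : X, t * x * t⁻¹ * x⁻¹ ∈ WW X) → t ∈ WW X) :
    ∀ x : X, (∀ b ∈ B, x * b = b * x) → x ∈ B := by
  intro x hx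
  by_contra hxB
  have hn := hB.normal
  have hc := hB.comm
  have hBn : B.Normal := hn
  have hlt : B < Subgroup.centralizer (B : Set X) := by
    refine lt_of_le_of_ne ?_ ?_
    · intro b hb
      rw [Subgroup.mem_centralizer_iff]
      intro b' hb'
      exact hc b' hb' b hb
    · intro h
      apply hxB
      rw [h, Subgroup.mem_centralizer_iff]
      intro b hb
      exact (hx b hb).symm
  obtain ⟨n₀, hn₀D, hn₀B, hn₀sq, hn₀c⟩ := hPN B (Subgroup.centralizer (B : Set X)) hn inferInstance hlt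
  have hn₀N : n₀ ∈ B3_aux_N1 B :=
    ⟨fun b hb => ((Subgroup.mem_centralizer_iff.mp hn₀D) b hb).symm, hn₀sq, hn₀c⟩
  have hmove : ∃ φ ∈ A, n₀⁻¹ * φ n₀ ∉ B := by
    by_contra h
    push_neg at h
    exact hn₀B (B3_aux_nofix hn hc hWB hΩ hsqB hnfSq hINV hn₀N h)
  obtain ⟨φ, hφ, hφn⟩ := hmove
  have hNinv : Inv A (B3_aux_N1 B) := B3_aux_N1_inv hB.inv
  obtain ⟨m₀, hm₀def⟩ : ∃ m, m = φ n₀ := ⟨_, rfl⟩
  have hm₀N : m₀ ∈ B3_aux_N1 B := by rw [hm₀def]; exact hNinv φ hφ _ hn₀N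
  have hm₀B : m₀ ∉ B := by
    intro h
    apply hn₀B
    have := hB.inv φ⁻¹ (A.inv_mem hφ) _ h
    rw [hm₀def, MulAut.inv_apply_self] at this
    exact this
  rw [← hm₀def] at hφn
  have hcov := B3_aux_cover hn hc hWB hΩ hWsq hsqB hcardSq hINV hn₀N hm₀N hn₀B hm₀B hφn
  have hnmN : n₀ * m₀ ∈ B3_aux_N1 B := mul_mem hn₀N hm₀N
  have h1N : (1 : X) ∈ B3_aux_N1 B := one_mem _
  obtain ⟨c, hcdef⟩ : ∃ c, c = n₀ * m₀ * n₀⁻¹ * m₀⁻¹ := ⟨_, rfl⟩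
  have hcW : c ∈ WW X := by rw [hcdef]; exact B3_aux_comm_mem_W hΩ hn₀N hm₀N
  have hcB : c ∈ B := hWB hcW
  have hcc : c * c = 1 := hcW.2
  have hci : c⁻¹ = c := by
    have : c⁻¹ = c⁻¹ * (c * c) := by rw [hcc, mul_one]
    rw [this]; group
  -- the table of commutators of the coset representatives
  have t_nm : n₀ * m₀ * n₀⁻¹ * m₀⁻¹ = c := hcdef.symm
  have t_mn : m₀ * n₀ * m₀⁻¹ * n₀⁻¹ = c := by
    have : m₀ * n₀ * m₀⁻¹ * n₀⁻¹ = (n₀ * m₀ * n₀⁻¹ * m₀⁻¹)⁻¹ := by group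
    rw [this, t_nm, hci]
  have t_n_nm : n₀ * (n₀ * m₀) * n₀⁻¹ * (n₀ * m₀)⁻¹ = c := by
    have : n₀ * (n₀ * m₀) * n₀⁻¹ * (n₀ * m₀)⁻¹ = n₀ * (n₀ * m₀ * n₀⁻¹ * m₀⁻¹) * n₀⁻¹ := by group
    rw [this, t_nm, hn₀N.1 c hcB]; group
  have t_nm_n : (n₀ * m₀) * n₀ * (n₀ * m₀)⁻¹ * n₀⁻¹ = c := by
    have : (n₀ * m₀) * n₀ * (n₀ * m₀)⁻¹ * n₀⁻¹ = (n₀ * (n₀ * m₀) * n₀⁻¹ * (n₀ * m₀)⁻¹)⁻¹ := by group
    rw [this, t_n_nm, hci]
  have t_m_nm : m₀ * (n₀ * m₀) * m₀⁻¹ * (n₀ * m₀)⁻¹ = c := by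
    have : m₀ * (n₀ * m₀) * m₀⁻¹ * (n₀ * m₀)⁻¹ = m₀ * n₀ * m₀⁻¹ * n₀⁻¹ := by group
    rw [this, t_mn]
  have t_nm_m : (n₀ * m₀) * m₀ * (n₀ * m₀)⁻¹ * m₀⁻¹ = c := by
    have : (n₀ * m₀) * m₀ * (n₀ * m₀)⁻¹ * m₀⁻¹ = n₀ * m₀ * n₀⁻¹ * m₀⁻¹ := by group
    rw [this, t_nm]
  have hcomm : ∀ a ∈ B3_aux_N1 B, ∀ b ∈ B3_aux_N1 B,
      a * b * a⁻¹ * b⁻¹ = 1 ∨ a * b * a⁻¹ * b⁻¹ = c := by
    intro a ha b hb
    have hA' : (1 : X)⁻¹ * a ∈ B ∨ n₀⁻¹ * a ∈ B ∨ m₀⁻¹ * a ∈ B ∨ (n₀ * m₀)⁻¹ * a ∈ B := by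
      rcases hcov a ha with h | h | h | h
      · left; simpa using h
      · exact Or.inr (Or.inl h)
      · exact Or.inr (Or.inr (Or.inl h))
      · exact Or.inr (Or.inr (Or.inr h))
    have hB' : (1 : X)⁻¹ * b ∈ B ∨ n₀⁻¹ * b ∈ B ∨ m₀⁻¹ * b ∈ B ∨ (n₀ * m₀)⁻¹ * b ∈ B := by
      rcases hcov b hb with h | h | h | h
      · left; simpa using h
      · exact Or.inr (Or.inl h)
      · exact Or.inr (Or.inr (Or.inl h))
      · exact Or.inr (Or.inr (Or.inr h))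
    rcases hA' with h | h | h | h <;> rcases hB' with h' | h' | h' | h'
    · left; rw [B3_aux_comm_coset hc h1N h1N h h']; group
    · left; rw [B3_aux_comm_coset hc h1N hn₀N h h']; group
    · left; rw [B3_aux_comm_coset hc h1N hm₀N h h']; group
    · left; rw [B3_aux_comm_coset hc h1N hnmN h h']; group
    · left; rw [B3_aux_comm_coset hc hn₀N h1N h h']; group
    · left; rw [B3_aux_comm_coset hc hn₀N hn₀N h h']; group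
    · right; rw [B3_aux_comm_coset hc hn₀N hm₀N h h']; exact t_nm
    · right; rw [B3_aux_comm_coset hc hn₀N hnmN h h']; exact t_n_nm
    · left; rw [B3_aux_comm_coset hc hm₀N h1N h h']; group
    · right; rw [B3_aux_comm_coset hc hm₀N hn₀N h h']; exact t_mn
    · left; rw [B3_aux_comm_coset hc hm₀N hm₀N h h']; group
    · right; rw [B3_aux_comm_coset hc hm₀N hnmN h h']; exact t_m_nm
    · left; rw [B3_aux_comm_coset hc hnmN h1N h h']; group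
    · right; rw [B3_aux_comm_coset hc hnmN hn₀N h h']; exact t_nm_n
    · right; rw [B3_aux_comm_coset hc hnmN hm₀N h h']; exact t_nm_m
    · left; rw [B3_aux_comm_coset hc hnmN hnmN h h']; group
  -- `c` is fixed by `A`, hence trivial
  have hcfix : ∀ ψ ∈ A, ψ c = c := by
    intro ψ hψ
    have e : ψ c = ψ n₀ * ψ m₀ * (ψ n₀)⁻¹ * (ψ m₀)⁻¹ := by
      rw [hcdef]; simp only [map_mul, map_inv]
    rcases hcomm _ (hNinv ψ hψ _ hn₀N) _ (hNinv ψ hψ _ hm₀N) with h | h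
    · rw [← e] at h
      have hc1 : c = 1 := (MulEquiv.map_eq_one_iff ψ).mp h
      rw [hc1, map_one]
    · rw [e, h]
  have hc1 : c = 1 := hfix c hcB hcfix
  -- so `N₁` is abelian, contradicting the maximality of `B`
  have hab : ∀ a ∈ B3_aux_N1 B, ∀ b ∈ B3_aux_N1 B, a * b = b * a := by
    intro a ha b hb
    have h1 : a * b * a⁻¹ * b⁻¹ = 1 := by
      rcases hcomm a ha b hb with h | h
      · exact h
      · rw [h, hc1]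
    calc a * b = (a * b * a⁻¹ * b⁻¹) * (b * a) := by group
      _ = b * a := by rw [h1, one_mul]
  have hmax := hB.max (B3_aux_N1 B) (B3_aux_N1_normal hn hc) hNinv hab (B3_aux_le_N1 hn hc)
  rw [hmax] at hn₀N
  exact hn₀B hn₀N

end Cfsg.Agent.S1904P
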