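import Mathlib
import Cfsg.Prelude.Def_Transfer
import Cfsg.Agent.Helper8.S1904Defs
import Cfsg.Agent.Helper17.S1904B3core
import Cfsg.Agent.Helper6.S1904PN
import Cfsg.Agent.Helper15.S1904WCARD
import Cfsg.Agent.Helper24.S1904B1
import Cfsg.Agent.Helper1.S1904B2

/-! Board `s1904pieces`, row B3: `C_X(B) = B` (wrapper around `B3_aux_core`). -/

set_option autoImplicit false

namespace Cfsg.Agent.S1904P

variable {X : Type*} [Group X] [Finite X] {A : Subgroup (MulAut X)} {B : Subgroup X}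

/-- B3: `B` is self-centralizing. -/
theorem B3 (H : Hyp A) (hB : MaxAb A B) : ∀ x : X, (∀ b ∈ B, x * b = b * x) → x ∈ B := by
  obtain ⟨h4, hWB, hΩ, hfix, -⟩ := B1 H hB
  obtain ⟨hWsq, -, -, hsqB, hnfSq, hcardSq⟩ := B2 H hB
  exact B3_aux_core H hB hWB hΩ hfix hWsq hsqB hnfSq hcardSq
    (fun M N hM hN h => PN H.pX M N hM hN h) (fun t ht hc => INV H h4 t ht hc)

end Cfsg.Agent.S1904P
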