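import Mathlib

/-!
# Suzuki 2-groups, part B: a regular commutative group of automorphisms of a finite additive
group makes it a field
-/

set_option autoImplicit false
set_option linter.style.haveILetI false

namespace Cfsg.Agent.Helper17.Suz2

universe u v w

section line

variable {K : Type v} {A : Type u} [Group K] [AddCommGroup A] [DistribMulAction K A]

/-- `K` is commutative and acts regularly on the nonzero elements of `A`. -/
structure IsLine (K : Type v) (A : Type u) [Group K] [AddCommGroup A] [DistribMulAction K A] :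
    Prop where
  comm : ∀ a b : K, a * b = b * a
  reg : ∀ a b : A, a ≠ 0 → b ≠ 0 → ∃! k : K, k • a = b

theorem IsLine.smul_ne_zero (_hL : IsLine K A) (k : K) {a : A} (ha : a ≠ 0) : k • a ≠ 0 := by
  intro h
  apply ha
  have := congrArg (fun t => k⁻¹ • t) h
  simpa using this

theorem IsLine.smul_left_inj (hL : IsLine K A) {k l : K} {a : A} (ha : a ≠ 0)
    (h : k • a = l • a) : k = l := by
  obtain ⟨m, -, hm⟩ := hL.reg a (l • a) ha (hL.smul_ne_zero l ha)
  rw [hm k h, hm l rfl]

open Classical in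
/-- the element of `K` taking `a₀` to `a` (or `1` if `a = 0`). -/
noncomputable def kap (hL : IsLine K A) (a₀ : A) (ha₀ : a₀ ≠ 0) (a : A) : K :=
  if h : a = 0 then 1 else (hL.reg a₀ a ha₀ h).exists.choose

theorem kap_smul (hL : IsLine K A) (a₀ : A) (ha₀ : a₀ ≠ 0) {a : A} (ha : a ≠ 0) :
    kap hL a₀ ha₀ a • a₀ = a := by
  unfold kap
  rw [dif_neg ha]
  exact (hL.reg a₀ a ha₀ ha).exists.choose_spec

theorem kap_smul' (hL : IsLine K A) (a₀ : A) (ha₀ : a₀ ≠ 0) (k : K) :
    kap hL a₀ ha₀ (k • a₀) = k :=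
  hL.smul_left_inj ha₀ (kap_smul hL a₀ ha₀ (hL.smul_ne_zero k ha₀))

open Classical in
/-- multiplication on a line -/
noncomputable def lmul (hL : IsLine K A) (a₀ : A) (ha₀ : a₀ ≠ 0) (a b : A) : A :=
  if a = 0 then 0 else kap hL a₀ ha₀ a • b

open Classical in
/-- inverse on a line -/
noncomputable def linv (hL : IsLine K A) (a₀ : A) (ha₀ : a₀ ≠ 0) (a : A) : A :=
  if a = 0 then 0 else (kap hL a₀ ha₀ a)⁻¹ • a₀

theorem lmul_smul (hL : IsLine K A) (a₀ : A) (ha₀ : a₀ ≠ 0) (k : K) (b : A) :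
    lmul hL a₀ ha₀ (k • a₀) b = k • b := by
  unfold lmul
  rw [if_neg (hL.smul_ne_zero k ha₀), kap_smul']

theorem lmul_zero_left (hL : IsLine K A) (a₀ : A) (ha₀ : a₀ ≠ 0) (b : A) :
    lmul hL a₀ ha₀ 0 b = 0 := by
  unfold lmul; rw [if_pos rfl]

theorem lmul_zero_right (hL : IsLine K A) (a₀ : A) (ha₀ : a₀ ≠ 0) (a : A) :
    lmul hL a₀ ha₀ a 0 = 0 := by
  unfold lmul; split_ifs <;> simp

theorem exists_smul_eq (hL : IsLine K A) (a₀ : A) (ha₀ : a₀ ≠ 0) {a : A} (ha : a ≠ 0) :
    ∃ k : K, a = k • a₀ := ⟨kap hL a₀ ha₀ a, (kap_smul hL a₀ ha₀ ha).symm⟩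

theorem lmul_comm (hL : IsLine K A) (a₀ : A) (ha₀ : a₀ ≠ 0) (a b : A) :
    lmul hL a₀ ha₀ a b = lmul hL a₀ ha₀ b a := by
  by_cases ha : a = 0
  · rw [ha, lmul_zero_left, lmul_zero_right]
  by_cases hb : b = 0
  · rw [hb, lmul_zero_left, lmul_zero_right]
  obtain ⟨k, rfl⟩ := exists_smul_eq hL a₀ ha₀ ha
  obtain ⟨l, rfl⟩ := exists_smul_eq hL a₀ ha₀ hb
  rw [lmul_smul, lmul_smul, ← mul_smul, ← mul_smul, hL.comm]

theorem lmul_assoc (hL : IsLine K A) (a₀ : A) (ha₀ : a₀ ≠ 0) (a b c : A) :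
    lmul hL a₀ ha₀ (lmul hL a₀ ha₀ a b) c = lmul hL a₀ ha₀ a (lmul hL a₀ ha₀ b c) := by
  by_cases ha : a = 0
  · rw [ha, lmul_zero_left, lmul_zero_left, lmul_zero_left]
  by_cases hb : b = 0
  · rw [hb, lmul_zero_right, lmul_zero_left]; exact (lmul_zero_right hL a₀ ha₀ a).symm
  obtain ⟨k, rfl⟩ := exists_smul_eq hL a₀ ha₀ ha
  obtain ⟨l, rfl⟩ := exists_smul_eq hL a₀ ha₀ hb
  rw [lmul_smul, lmul_smul, lmul_smul, ← mul_smul, lmul_smul, mul_smul]

theorem lmul_one (hL : IsLine K A) (a₀ : A) (ha₀ : a₀ ≠ 0) (b : A) :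
    lmul hL a₀ ha₀ a₀ b = b := by
  have := lmul_smul hL a₀ ha₀ 1 b
  rwa [one_smul, one_smul] at this

theorem lmul_linv (hL : IsLine K A) (a₀ : A) (ha₀ : a₀ ≠ 0) {a : A} (ha : a ≠ 0) :
    lmul hL a₀ ha₀ a (linv hL a₀ ha₀ a) = a₀ := by
  unfold lmul linv
  rw [if_neg ha, if_neg ha, smul_inv_smul]

theorem lmul_add (hL : IsLine K A) (a₀ : A) (ha₀ : a₀ ≠ 0) (a b c : A) :
    lmul hL a₀ ha₀ a (b + c) = lmul hL a₀ ha₀ a b + lmul hL a₀ ha₀ a c := by
  unfold lmul
  split_ifs
  · simp
  · rw [smul_add]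

end line

section model

variable {K : Type v} {A : Type u} [Group K] [AddCommGroup A] [DistribMulAction K A]

theorem exists_field_model [Finite A] (hL : IsLine K A) (a₀ : A) (ha₀ : a₀ ≠ 0)
    (F : Type w) [Field F] [Fintype F] (hF : Fintype.card F = Nat.card A) :
    ∃ (θ : A ≃+ F) (lam : K → Fˣ), θ a₀ = 1 ∧ Function.Bijective lam ∧
      (∀ k l, lam (k * l) = lam k * lam l) ∧
      ∀ (k : K) (a : A), θ (k • a) = (lam k : F) * θ a := by
  classical
  letI iM : Mul A := ⟨lmul hL a₀ ha₀⟩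
  letI iO : One A := ⟨a₀⟩
  letI iI : Inv A := ⟨linv hL a₀ ha₀⟩
  letI fld : Field A := Field.ofMinimalAxioms A add_assoc zero_add neg_add_cancel
    (lmul_assoc hL a₀ ha₀) (lmul_comm hL a₀ ha₀) (lmul_one hL a₀ ha₀)
    (fun a ha => lmul_linv hL a₀ ha₀ ha) (by show linv hL a₀ ha₀ 0 = 0; unfold linv; rw [if_pos rfl])
    (lmul_add hL a₀ ha₀) ⟨0, a₀, ha₀.symm⟩
  letI : Fintype A := Fintype.ofFinite A
  have hc : Fintype.card A = Fintype.card F := by rw [hF, Nat.card_eq_fintype_card]
  let e : A ≃+* F := FiniteField.ringEquivOfCardEq hc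
  have hmul : ∀ (k : K) (a : A), k • a = (k • a₀) * a := fun k a => (lmul_smul hL a₀ ha₀ k a).symm
  have hne : ∀ k : K, e (k • a₀) ≠ 0 := by
    intro k h
    have : k • a₀ = 0 := by
      have h0 : e (k • a₀) = e 0 := by rw [h, map_zero]
      exact e.injective h0
    exact hL.smul_ne_zero k ha₀ this
  refine ⟨AddEquiv.mk' e.toEquiv (fun x y => e.map_add x y), fun k => Units.mk0 (e (k • a₀)) (hne k),
    ?_, ⟨?_, ?_⟩, ?_, ?_⟩
  · show e a₀ = 1
    exact e.map_one
  · intro k l hkl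
    have h1 : e (k • a₀) = e (l • a₀) := congrArg Units.val hkl
    exact hL.smul_left_inj ha₀ (e.injective h1)
  · intro u
    have hu : e.symm (u : F) ≠ 0 := by
      intro h
      have : (u : F) = 0 := by
        have := congrArg e h
        rwa [e.apply_symm_apply, map_zero] at this
      exact u.ne_zero this
    obtain ⟨k, hk⟩ := exists_smul_eq hL a₀ ha₀ hu
    refine ⟨k, Units.ext ?_⟩
    show e (k • a₀) = u
    rw [← hk, e.apply_symm_apply]
  · intro k l
    apply Units.ext
    show e ((k * l) • a₀) = e (k • a₀) * e (l • a₀)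
    rw [mul_smul, hmul k (l • a₀), map_mul]
  · intro k a
    show e (k • a) = e (k • a₀) * e a
    rw [hmul k a, map_mul]

end model

section mulversion

variable {K : Type v} {G : Type u} [Group K] [Group G] [MulDistribMulAction K G]

/-- Multiplicative version of `exists_field_model`. -/
theorem exists_field_model_mul [Finite G] (hab : ∀ a b : G, a * b = b * a)
    (hK : ∀ a b : K, a * b = b * a)
    (hreg : ∀ a b : G, a ≠ 1 → b ≠ 1 → ∃! k : K, k • a = b) (g₀ : G) (hg₀ : g₀ ≠ 1)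
    (F : Type w) [Field F] [Fintype F] (hF : Fintype.card F = Nat.card G) :
    ∃ (θ : G → F) (lam : K → Fˣ), Function.Bijective θ ∧ (∀ a b, θ (a * b) = θ a + θ b) ∧
      θ g₀ = 1 ∧ Function.Bijective lam ∧ (∀ k l, lam (k * l) = lam k * lam l) ∧
      ∀ (k : K) (a : G), θ (k • a) = (lam k : F) * θ a := by
  letI : CommGroup G := { (inferInstance : Group G) with mul_comm := hab }
  letI act : DistribMulAction K (Additive G) :=
    { smul := fun k a => Additive.ofMul (k • a.toMul)
      one_smul := fun a => by show Additive.ofMul ((1 : K) • a.toMul) = a; rw [one_smul]; rfl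
      mul_smul := fun k l a => by
        show Additive.ofMul ((k * l) • a.toMul) = Additive.ofMul (k • (l • a.toMul))
        rw [mul_smul]
      smul_zero := fun k => by
        show Additive.ofMul (k • (1 : G)) = 0
        rw [smul_one]; rfl
      smul_add := fun k a b => by
        show Additive.ofMul (k • (a.toMul * b.toMul)) =
          Additive.ofMul (k • a.toMul) + Additive.ofMul (k • b.toMul)
        rw [smul_mul']; rfl }
  have hsm : ∀ (k : K) (a : Additive G), k • a = Additive.ofMul (k • a.toMul) := fun _ _ => rfl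
  have hL : IsLine K (Additive G) := by
    refine ⟨hK, ?_⟩
    intro a b ha hb
    have ha' : a.toMul ≠ 1 := fun h => ha (by rw [← ofMul_toMul a, h]; rfl)
    have hb' : b.toMul ≠ 1 := fun h => hb (by rw [← ofMul_toMul b, h]; rfl)
    obtain ⟨k, hk, hu⟩ := hreg a.toMul b.toMul ha' hb'
    refine ⟨k, ?_, ?_⟩
    · show k • a = b
      rw [hsm, hk]; rfl
    · intro l hl
      apply hu
      have hl' : l • a = b := hl
      rw [hsm] at hl'
      have := congrArg Additive.toMul hl'
      simpa using this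
  have hfin : Finite (Additive G) := inferInstanceAs (Finite G)
  have hcard : Fintype.card F = Nat.card (Additive G) := hF
  have h0 : Additive.ofMul g₀ ≠ 0 := fun h => hg₀ (by
    have := congrArg Additive.toMul h
    simpa using this)
  obtain ⟨θ, lam, h1, hbij, hmul, hact⟩ := exists_field_model hL (Additive.ofMul g₀) h0 F hcard
  refine ⟨fun g => θ (Additive.ofMul g), lam, ?_, ?_, h1, hbij, hmul, ?_⟩
  · exact θ.bijective.comp Additive.ofMul.bijective
  · intro a b
    show θ (Additive.ofMul (a * b)) = _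
    rw [ofMul_mul, map_add]
  · intro k a
    have := hact k (Additive.ofMul a)
    rw [hsm] at this
    exact this

end mulversion

end Cfsg.Agent.Helper17.Suz2
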