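import Mathlib

/-!
# Field automorphisms of a finite field of characteristic 2 as a basis of additive endomorphisms
-/

set_option autoImplicit false
set_option linter.unusedSectionVars false

namespace Cfsg.Agent.Helper17

section FieldAut

variable {F : Type*} [Field F] [Fintype F] [CharP F 2]

/-- Dedekind: automorphisms are linearly independent as functions. -/
theorem aut_linearIndependent_fun :
    LinearIndependent F (fun σ : F ≃+* F => ((σ : F →+* F) : F → F)) := by
  have h := linearIndependent_monoidHom F F
  have hinj : Function.Injective (fun σ : F ≃+* F => ((σ : F →+* F) : F →* F)) := by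
    intro σ τ hστ
    ext x
    exact DFunLike.congr_fun hστ x
  exact h.comp _ hinj

/-- The automorphism `σ` as a `ZMod 2`-linear map. -/
noncomputable def autLin [Algebra (ZMod 2) F] (σ : F ≃+* F) : F →ₗ[ZMod 2] F :=
  ((σ : F →+* F) : F →+ F).toZModLinearMap 2

theorem autLin_apply [Algebra (ZMod 2) F] (σ : F ≃+* F) (x : F) : autLin σ x = σ x := rfl

theorem autLin_linearIndependent [Algebra (ZMod 2) F] :
    LinearIndependent F (fun σ : F ≃+* F => autLin σ) := by
  let e : (F →ₗ[ZMod 2] F) →ₗ[F] (F → F) :=
    { toFun := fun f => (f : F → F)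
      map_add' := fun f g => rfl
      map_smul' := fun c f => rfl }
  have h : LinearIndependent F (e ∘ fun σ : F ≃+* F => autLin σ) :=
    aut_linearIndependent_fun (F := F)
  exact LinearIndependent.of_comp e h

noncomputable instance : Fintype (F ≃+* F) :=
  @Fintype.ofFinite _ (Finite.of_injective (fun σ : F ≃+* F => (σ : F → F)) DFunLike.coe_injective)

theorem card_aut_eq_finrank [Algebra (ZMod 2) F] :
    Fintype.card (F ≃+* F) = Module.finrank (ZMod 2) F := by
  rw [← IsGalois.card_aut_eq_finrank (ZMod 2) F, ← Nat.card_eq_fintype_card]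
  refine Nat.card_congr ?_
  refine
    { toFun := fun σ => AlgEquiv.ofRingEquiv (f := σ) ?_
      invFun := fun σ => σ.toRingEquiv
      left_inv := fun σ => by ext x; rfl
      right_inv := fun σ => by ext x; rfl }
  intro r
  have := RingHom.ext_zmod ((σ : F →+* F).comp (algebraMap (ZMod 2) F)) (algebraMap (ZMod 2) F)
  exact DFunLike.congr_fun this r

/-- The automorphisms form a basis of the additive endomorphisms. -/
noncomputable def autBasis [Algebra (ZMod 2) F] :
    Module.Basis (F ≃+* F) F (F →ₗ[ZMod 2] F) :=
  basisOfLinearIndependentOfCardEqFinrank autLin_linearIndependent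
    (by rw [card_aut_eq_finrank, Module.finrank_linearMap_self])

theorem autBasis_apply [Algebra (ZMod 2) F] (σ : F ≃+* F) : autBasis σ = autLin σ := by
  rw [autBasis, coe_basisOfLinearIndependentOfCardEqFinrank]

theorem autBasis_expand [Algebra (ZMod 2) F] (f : F →ₗ[ZMod 2] F) (x : F) :
    f x = ∑ σ : F ≃+* F, autBasis.repr f σ * σ x := by
  have h := autBasis.sum_repr f
  have h2 := congrArg (fun g : F →ₗ[ZMod 2] F => g x) h
  simp only [LinearMap.sum_apply, LinearMap.smul_apply, autBasis_apply,
    autLin_apply, smul_eq_mul] at h2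
  exact h2.symm

end FieldAut

end Cfsg.Agent.Helper17
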