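import Mathlib
import Cfsg.Agent.Helper17.FieldAut

/-!
# Quadratic maps on a finite field of characteristic 2 are combinations of `σ(x) τ(x)`
-/

set_option autoImplicit false
set_option linter.unusedSectionVars false

namespace Cfsg.Agent.Helper17

section QuadSpan

variable {F : Type*} [Field F] [Fintype F] [CharP F 2]

/-- The span of the functions `x ↦ σ x * τ x`. -/
noncomputable def quadSpan : Submodule F (F → F) :=
  Submodule.span F (Set.range fun p : (F ≃+* F) × (F ≃+* F) => fun x => p.1 x * p.2 x)

theorem add_expand (f : F → F) (hf : ∀ a b, f (a + b) = f a + f b) :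
    ∃ c : (F ≃+* F) → F, ∀ x, f x = ∑ σ, c σ * σ x := by
  letI : Algebra (ZMod 2) F := ZMod.algebra F 2
  refine ⟨fun σ => autBasis.repr ((AddMonoidHom.mk' f hf).toZModLinearMap 2) σ, fun x => ?_⟩
  exact autBasis_expand ((AddMonoidHom.mk' f hf).toZModLinearMap 2) x

theorem mul_mem_quadSpan (f g : F → F) (hf : ∀ a b, f (a + b) = f a + f b)
    (hg : ∀ a b, g (a + b) = g a + g b) :
    (fun x => f x * g x) ∈ quadSpan (F := F) := by
  obtain ⟨a, ha⟩ := add_expand f hf
  obtain ⟨b, hb⟩ := add_expand g hg
  have : (fun x => f x * g x) =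
      ∑ σ : F ≃+* F, ∑ τ : F ≃+* F, (a σ * b τ) • (fun x => σ x * τ x) := by
    funext x
    simp only [Finset.sum_apply, Pi.smul_apply, smul_eq_mul, ha x, hb x, Finset.sum_mul_sum]
    refine Finset.sum_congr rfl fun σ _ => Finset.sum_congr rfl fun τ _ => by ring
  rw [this]
  exact Submodule.sum_mem _ fun σ _ => Submodule.sum_mem _ fun τ _ =>
    Submodule.smul_mem _ _ (Submodule.subset_span ⟨(σ, τ), rfl⟩)

theorem quad_mem_quadSpan (q : F → F)
    (hq : ∀ x y z : F,
      q (x + y + z) + q (x + y) + q (x + z) + q (y + z) + q x + q y + q z = 0) :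
    q ∈ quadSpan (F := F) := by
  classical
  letI : Algebra (ZMod 2) F := ZMod.algebra F 2
  have h2 : ∀ a : F, a + a = 0 := CharTwo.add_self_eq_zero
  have hq0 : q 0 = 0 := by
    have := hq 0 0 0
    simp only [add_zero] at this
    have e : q 0 + q 0 + q 0 + q 0 + q 0 + q 0 + q 0 = q 0 := by
      rw [h2 (q 0), zero_add, h2, zero_add, h2, zero_add]
    rw [e] at this; exact this
  obtain ⟨B, hB⟩ : ∃ B : F → F → F, ∀ x y, B x y = q (x + y) + q x + q y := ⟨_, fun _ _ => rfl⟩
  have hBadd : ∀ x y z, B (x + y) z = B x z + B y z := by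
    intro x y z
    have := hq x y z
    rw [hB, hB, hB, ← sub_eq_zero, CharTwo.sub_eq_add]
    have e : (q (x + y + z) + q (x + y) + q z) +
        (q (x + z) + q x + q z + (q (y + z) + q y + q z)) =
        (q (x + y + z) + q (x + y) + q (x + z) + q (y + z) + q x + q y + q z) +
          (q z + q z) := by ring
    rw [e, this, h2, add_zero]
  let b := Module.finBasis (ZMod 2) F
  obtain ⟨xc, hxc⟩ : ∃ xc : Fin (Module.finrank (ZMod 2) F) → F → F,
      ∀ i x, xc i x = algebraMap (ZMod 2) F (b.repr x i) := ⟨_, fun _ _ => rfl⟩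
  have hxadd : ∀ i x y, xc i (x + y) = xc i x + xc i y := by
    intro i x y
    rw [hxc, hxc, hxc, map_add, Finsupp.add_apply, map_add]
  have hx01 : ∀ i x, xc i x = 0 ∨ xc i x = 1 := by
    intro i x
    have : ∀ t : ZMod 2, t = 0 ∨ t = 1 := by decide
    rcases this (b.repr x i) with h | h
    · left; rw [hxc, h, map_zero]
    · right; rw [hxc, h, map_one]
  have hxsum : ∀ x, ∑ i, xc i x * b i = x := by
    intro x
    conv_rhs => rw [← b.sum_repr x]
    refine Finset.sum_congr rfl fun i _ => ?_
    rw [hxc, Algebra.smul_def]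
  obtain ⟨S, hS⟩ : ∃ S : Finset (Fin (Module.finrank (ZMod 2) F)) → F → F,
      ∀ s x, S s x = ∑ i ∈ s, xc i x * b i := ⟨_, fun _ _ => rfl⟩
  have hSadd : ∀ s x y, S s (x + y) = S s x + S s y := by
    intro s x y
    rw [hS, hS, hS, ← Finset.sum_add_distrib]
    refine Finset.sum_congr rfl fun i _ => ?_
    rw [hxadd, add_mul]
  have key : ∀ s : Finset (Fin (Module.finrank (ZMod 2) F)),
      (fun x => q (S s x)) ∈ quadSpan (F := F) := by
    intro s
    induction s using Finset.induction_on with
    | empty =>
      have : (fun x => q (S ∅ x)) = 0 := by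
        funext x
        rw [hS, Finset.sum_empty, hq0]; rfl
      rw [this]; exact Submodule.zero_mem _
    | insert k s hk ih =>
      have : (fun x => q (S (insert k s) x)) =
          (fun x => q (S s x)) + (q (b k)) • (fun x => xc k x * xc k x) +
            (fun x => xc k x * B (S s x) (b k)) := by
        funext x
        have e1 : S (insert k s) x = xc k x * b k + S s x := by
          rw [hS, hS, Finset.sum_insert hk]
        simp only [Pi.add_apply, Pi.smul_apply, smul_eq_mul]
        rw [e1]
        rcases hx01 k x with h | h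
        · rw [h]; simp
        · rw [h, hB]
          simp only [one_mul, mul_one]
          have e2 : q (S s x) + q (b k) + (q (S s x + b k) + q (S s x) + q (b k)) =
              q (S s x + b k) + (q (S s x) + q (S s x)) + (q (b k) + q (b k)) := by ring
          rw [e2, h2, h2, add_zero, add_zero, add_comm]
      rw [this]
      refine Submodule.add_mem _ (Submodule.add_mem _ ih (Submodule.smul_mem _ _
        (mul_mem_quadSpan (xc k) (xc k) (hxadd k) (hxadd k)))) ?_
      refine mul_mem_quadSpan (xc k) (fun x => B (S s x) (b k)) (hxadd k) ?_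
      intro x y
      rw [hSadd, hBadd]
  have hfin := key Finset.univ
  have : (fun x => q (S Finset.univ x)) = q := by
    funext x
    rw [hS, hxsum]
  rwa [this] at hfin

end QuadSpan

end Cfsg.Agent.Helper17
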