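import Mathlib

set_option autoImplicit false

namespace Cfsg.Agent.Helper17

set_option maxRecDepth 1000000 in
/-- Every even permutation of six points has order dividing 3, 4 or 5. -/
theorem a6_pow_cases : ∀ g : Equiv.Perm (Fin 6), Equiv.Perm.sign g = 1 →
    g ^ 4 = 1 ∨ g ^ 3 = 1 ∨ g ^ 5 = 1 := by
  decide +kernel

theorem a6_orderOf_mem (g : alternatingGroup (Fin 6)) :
    orderOf g ∈ ({1, 2, 3, 4, 5} : Set ℕ) := by
  have hs : Equiv.Perm.sign (g : Equiv.Perm (Fin 6)) = 1 := Equiv.Perm.mem_alternatingGroup.mp g.2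
  have hsub : orderOf g = orderOf (g : Equiv.Perm (Fin 6)) := (Subgroup.orderOf_coe g).symm
  rw [hsub]
  rcases a6_pow_cases _ hs with h | h | h
  · have hd : orderOf (g : Equiv.Perm (Fin 6)) ∣ 4 := orderOf_dvd_of_pow_eq_one h
    have hmem : orderOf (g : Equiv.Perm (Fin 6)) ∈ Nat.divisors 4 :=
      Nat.mem_divisors.mpr ⟨hd, by norm_num⟩
    have h4 : Nat.divisors 4 = {1, 2, 4} := by decide
    rw [h4] at hmem
    simp only [Finset.mem_insert, Finset.mem_singleton] at hmem
    rcases hmem with h | h | h <;> rw [h] <;> simp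
  · have hd : orderOf (g : Equiv.Perm (Fin 6)) ∣ 3 := orderOf_dvd_of_pow_eq_one h
    rcases (Nat.dvd_prime Nat.prime_three).mp hd with h | h <;> rw [h] <;> simp
  · have hd : orderOf (g : Equiv.Perm (Fin 6)) ∣ 5 := orderOf_dvd_of_pow_eq_one h
    rcases (Nat.dvd_prime Nat.prime_five).mp hd with h | h <;> rw [h] <;> simp

def a6two : alternatingGroup (Fin 6) :=
  ⟨Equiv.swap 0 1 * Equiv.swap 2 3, by rw [Equiv.Perm.mem_alternatingGroup]; decide⟩

def a6three : alternatingGroup (Fin 6) :=
  ⟨Equiv.swap 0 1 * Equiv.swap 1 2, by rw [Equiv.Perm.mem_alternatingGroup]; decide⟩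

def a6four : alternatingGroup (Fin 6) :=
  ⟨Equiv.swap 0 1 * Equiv.swap 1 2 * Equiv.swap 2 3 * Equiv.swap 4 5,
    by rw [Equiv.Perm.mem_alternatingGroup]; decide⟩

def a6five : alternatingGroup (Fin 6) :=
  ⟨Equiv.swap 0 1 * Equiv.swap 1 2 * Equiv.swap 2 3 * Equiv.swap 3 4,
    by rw [Equiv.Perm.mem_alternatingGroup]; decide⟩

theorem orderOf_a6two : orderOf a6two = 2 := by
  have : Fact (Nat.Prime 2) := ⟨Nat.prime_two⟩
  apply orderOf_eq_prime
  · apply Subtype.ext; simp only [a6two, Subgroup.coe_pow, Subgroup.coe_one]; decide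
  · intro h
    have := congrArg Subtype.val h
    simp only [a6two, Subgroup.coe_one] at this
    revert this; decide

theorem orderOf_a6three : orderOf a6three = 3 := by
  have : Fact (Nat.Prime 3) := ⟨Nat.prime_three⟩
  apply orderOf_eq_prime
  · apply Subtype.ext; simp only [a6three, Subgroup.coe_pow, Subgroup.coe_one]; decide
  · intro h
    have := congrArg Subtype.val h
    simp only [a6three, Subgroup.coe_one] at this
    revert this; decide

theorem orderOf_a6four : orderOf a6four = 4 := by
  have : Fact (Nat.Prime 2) := ⟨Nat.prime_two⟩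
  have := orderOf_eq_prime_pow (x := a6four) (p := 2) (n := 1) ?_ ?_
  · simpa using this
  · intro h
    have := congrArg Subtype.val h
    simp only [a6four, Subgroup.coe_pow, Subgroup.coe_one] at this
    revert this; decide
  · apply Subtype.ext; simp only [a6four, Subgroup.coe_pow, Subgroup.coe_one]; decide

theorem orderOf_a6five : orderOf a6five = 5 := by
  have : Fact (Nat.Prime 5) := ⟨Nat.prime_five⟩
  apply orderOf_eq_prime
  · apply Subtype.ext; simp only [a6five, Subgroup.coe_pow, Subgroup.coe_one]; decide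
  · intro h
    have := congrArg Subtype.val h
    simp only [a6five, Subgroup.coe_one] at this
    revert this; decide

theorem a6_spectrum :
    Set.range (orderOf : alternatingGroup (Fin 6) → ℕ) = ({1, 2, 3, 4, 5} : Set ℕ) := by
  apply Set.Subset.antisymm
  · rintro _ ⟨g, rfl⟩
    exact a6_orderOf_mem g
  · intro n hn
    simp only [Set.mem_insert_iff, Set.mem_singleton_iff] at hn
    rcases hn with rfl | rfl | rfl | rfl | rfl
    · exact ⟨1, orderOf_one⟩
    · exact ⟨a6two, orderOf_a6two⟩
    · exact ⟨a6three, orderOf_a6three⟩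
    · exact ⟨a6four, orderOf_a6four⟩
    · exact ⟨a6five, orderOf_a6five⟩

end Cfsg.Agent.Helper17
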