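import Mathlib

/-!
# A permutation of `F_p^d` (p odd) agreeing on each triple with an affine map is affine
-/

set_option autoImplicit false

namespace Cfsg.Agent.Helper17

theorem zmod_two_ne_zero (p : ℕ) [Fact p.Prime] (hp : p ≠ 2) : (2 : ZMod p) ≠ 0 := by
  intro h
  have h' : ((2 : ℕ) : ZMod p) = 0 := by exact_mod_cast h
  rw [ZMod.natCast_eq_zero_iff] at h'
  exact hp ((Nat.prime_dvd_prime_iff_eq Fact.out Nat.prime_two).mp h')

/-- If a permutation of `F_p^d`, `p` odd, agrees on every triple of points with an affine map,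
then it is affine. -/
theorem affine_of_triples (p : ℕ) [Fact p.Prime] (hp : p ≠ 2) (d : ℕ)
    (σ : Equiv.Perm (Fin d → ZMod p))
    (h : ∀ t : Fin 3 → (Fin d → ZMod p),
      ∃ (A : (Fin d → ZMod p) ≃ₗ[ZMod p] (Fin d → ZMod p)) (b : Fin d → ZMod p),
        ∀ i, σ (t i) = A (t i) + b) :
    ∃ (A : (Fin d → ZMod p) ≃ₗ[ZMod p] (Fin d → ZMod p)) (b : Fin d → ZMod p),
      ∀ x, σ x = A x + b := by
  have h2 : (2 : ZMod p) ≠ 0 := zmod_two_ne_zero p hp
  obtain ⟨f, hf⟩ : ∃ f : (Fin d → ZMod p) → (Fin d → ZMod p), ∀ x, f x = σ x - σ 0 :=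
    ⟨_, fun _ => rfl⟩
  have hsmul : ∀ (c : ZMod p) (y : Fin d → ZMod p), f (c • y) = c • f y := by
    intro c y
    obtain ⟨A, b, hgt⟩ := h ![0, y, c • y]
    have e0 : σ 0 = A 0 + b := hgt 0
    have e1 : σ y = A y + b := hgt 1
    have e2 : σ (c • y) = A (c • y) + b := hgt 2
    rw [hf, hf, e0, e1, e2, map_zero, map_smul, zero_add, add_sub_cancel_right,
      add_sub_cancel_right]
  have hmid : ∀ x y : Fin d → ZMod p, f ((2 : ZMod p)⁻¹ • (x + y)) =
      (2 : ZMod p)⁻¹ • (f x + f y) := by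
    intro x y
    obtain ⟨A, b, hgt⟩ := h ![x, y, (2 : ZMod p)⁻¹ • (x + y)]
    have e0 : σ x = A x + b := hgt 0
    have e1 : σ y = A y + b := hgt 1
    have e2 : σ ((2 : ZMod p)⁻¹ • (x + y)) = A ((2 : ZMod p)⁻¹ • (x + y)) + b := hgt 2
    have hxy : f x + f y = A x + A y + (2 : ZMod p) • (b - σ 0) := by
      rw [hf, hf, e0, e1, two_smul]; abel
    rw [hf, e2, hxy, map_smul, map_add,
      smul_add (2⁻¹ : ZMod p) (A x + A y) ((2 : ZMod p) • (b - σ 0)), smul_smul,
      inv_mul_cancel₀ h2, one_smul]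
    abel
  have hadd : ∀ x y : Fin d → ZMod p, f (x + y) = f x + f y := by
    intro x y
    have e : x + y = (2 : ZMod p) • ((2 : ZMod p)⁻¹ • (x + y)) := by
      rw [smul_smul, mul_inv_cancel₀ h2, one_smul]
    rw [e, hsmul, hmid, smul_smul, mul_inv_cancel₀ h2, one_smul]
  let L : (Fin d → ZMod p) →ₗ[ZMod p] (Fin d → ZMod p) :=
    { toFun := f
      map_add' := hadd
      map_smul' := fun c y => by simpa using hsmul c y }
  have hbij : Function.Bijective L := by
    constructor
    · intro x y hxy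
      have h1 : f x = f y := hxy
      rw [hf, hf, sub_left_inj] at h1
      exact σ.injective h1
    · intro y
      obtain ⟨x, hx⟩ := σ.surjective (y + σ 0)
      refine ⟨x, ?_⟩
      show f x = y
      rw [hf, hx, add_sub_cancel_right]
  refine ⟨LinearEquiv.ofBijective L hbij, σ 0, fun x => ?_⟩
  show σ x = f x + σ 0
  rw [hf, sub_add_cancel]

/-- Two permutations agreeing off a single point agree. -/
theorem perm_eq_of_agree_off_point {α : Type*} (σ g : Equiv.Perm α) (v : α)
    (h : ∀ x, x ≠ v → σ x = g x) : σ = g := by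
  have hv : σ v = g v := by
    by_contra hne
    -- let w = g⁻¹ (σ v); then w ≠ v
    obtain ⟨w, hw⟩ := g.surjective (σ v)
    have hwv : w ≠ v := by
      rintro rfl
      exact hne hw.symm
    have := h w hwv
    rw [hw] at this
    exact hwv (σ.injective this)
  ext x
  by_cases hx : x = v
  · rw [hx, hv]
  · exact h x hx

theorem zmod2_plane_cases :
    ∀ x : Fin 2 → ZMod 2, x = 0 ∨ x = ![1, 0] ∨ x = ![0, 1] ∨ x = ![1, 1] := by
  decide

end Cfsg.Agent.Helper17
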