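import Mathlib
import Cfsg.Agent.Helper1.MinNormal

/-!
# Tools for groups with the order and the spectrum of an alternating group
-/

set_option autoImplicit false
set_option linter.style.haveILetI false

namespace Cfsg.Agent.Helper17.AltSpec

open Equiv

/-- A prime dividing the lcm of a multiset of naturals whose lcm is `p * q`... we only need:
if `s.lcm = p * q` with `p` prime, some member of `s` is divisible by `p`. -/
theorem exists_dvd_of_lcm_eq {s : Multiset ℕ} {p q : ℕ} (hp : p.Prime) (hq : q.Prime) (_hpq : p ≠ q)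
    (h : s.lcm = p * q) : ∃ a ∈ s, p ∣ a := by
  by_contra hcon
  push Not at hcon
  have hall : ∀ a ∈ s, a ∣ q := by
    intro a ha
    have h1 : a ∣ p * q := h ▸ Multiset.dvd_lcm ha
    have hcop : Nat.Coprime a p := by
      rw [Nat.coprime_comm]
      exact (Nat.Prime.coprime_iff_not_dvd hp).mpr (hcon a ha)
    exact hcop.dvd_of_dvd_mul_left h1
  have h2 : s.lcm ∣ q := Multiset.lcm_dvd.mpr hall
  rw [h] at h2
  have h3 : p * q ≤ q := Nat.le_of_dvd hq.pos h2
  have := hp.two_le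
  have := hq.pos
  nlinarith

theorem no_orderOf_eq_mul {n : ℕ} (σ : Perm (Fin n)) {p q : ℕ} (hp : p.Prime) (hq : q.Prime)
    (hpq : p ≠ q) (hn : n < p + q) : orderOf σ ≠ p * q := by
  intro h
  rw [← Equiv.Perm.lcm_cycleType] at h
  obtain ⟨a, ha, hpa⟩ := exists_dvd_of_lcm_eq hp hq hpq h
  obtain ⟨b, hb, hqb⟩ := exists_dvd_of_lcm_eq hq hp hpq.symm (by rw [h, mul_comm])
  have hsum : σ.cycleType.sum ≤ n := by
    rw [Equiv.Perm.sum_cycleType]
    calc σ.support.card ≤ Fintype.card (Fin n) := Finset.card_le_univ _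
      _ = n := Fintype.card_fin n
  have hapos : 0 < a := by
    have := Equiv.Perm.two_le_of_mem_cycleType ha
    omega
  have hbpos : 0 < b := by
    have := Equiv.Perm.two_le_of_mem_cycleType hb
    omega
  by_cases hab : a = b
  · subst hab
    have hcop : Nat.Coprime p q := (Nat.coprime_primes hp hq).mpr hpq
    have hdvd : p * q ∣ a := hcop.mul_dvd_of_dvd_of_dvd hpa hqb
    have h1 : p * q ≤ a := Nat.le_of_dvd hapos hdvd
    have h2 : a ≤ σ.cycleType.sum := Multiset.single_le_sum (fun _ _ => Nat.zero_le _) a ha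
    have := hp.two_le
    have := hq.two_le
    nlinarith
  · have hb' : b ∈ σ.cycleType.erase a := (Multiset.mem_erase_of_ne (Ne.symm hab)).mpr hb
    have h1 : σ.cycleType.sum = a + (σ.cycleType.erase a).sum := by
      rw [← Multiset.sum_cons, Multiset.cons_erase ha]
    have h2 : b ≤ (σ.cycleType.erase a).sum :=
      Multiset.single_le_sum (fun _ _ => Nat.zero_le _) b hb'
    have h3 : p ≤ a := Nat.le_of_dvd hapos hpa
    have h4 : q ≤ b := Nat.le_of_dvd hbpos hqb
    omega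

/-- Lemma V: a normal `r`-subgroup `B ≠ 1` and a prime `s ∣ |G|` with `s ∤ |B| - 1` give an
element of order `r * s`. -/
theorem exists_orderOf_eq_mul_of_normal_pgroup {G : Type*} [Group G] [Finite G]
    (B : Subgroup G) [B.Normal] {r s : ℕ} [hr : Fact r.Prime] [hs : Fact s.Prime]
    (hB : IsPGroup r B) (hrs : r ≠ s) (hsG : s ∣ Nat.card G) (hnd : ¬ s ∣ Nat.card B - 1) :
    ∃ g : G, orderOf g = r * s := by
  obtain ⟨x, hx⟩ := exists_prime_orderOf_dvd_card' s hsG
  let K : Subgroup (ConjAct G) := Subgroup.zpowers (ConjAct.toConjAct x)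
  have hKcard : Nat.card K = s ^ 1 := by
    rw [Nat.card_zpowers, pow_one, ← hx]
    exact (ConjAct.toConjAct (G := G)).orderOf_eq x
  have hK : IsPGroup s K := IsPGroup.of_card hKcard
  have hmod := hK.card_modEq_card_fixedPoints (↥B)
  have hex : ∃ b : ↥B, b ∈ MulAction.fixedPoints K ↥B ∧ b ≠ 1 := by
    by_contra hcon
    push Not at hcon
    have hfix : MulAction.fixedPoints K ↥B = {1} := by
      ext b
      constructor
      · intro hb
        exact hcon b hb
      · intro hb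
        rw [Set.mem_singleton_iff] at hb
        subst hb
        intro k
        exact smul_one k
    have hone : Nat.card (({1} : Set ↥B)) = 1 := by simp
    rw [hfix, hone] at hmod
    have hpos : 1 ≤ Nat.card B := Nat.one_le_iff_ne_zero.mpr Nat.card_pos.ne'
    exact hnd ((Nat.modEq_iff_dvd' hpos).mp hmod.symm)
  obtain ⟨b, hbfix, hb1⟩ := hex
  have hcomm : x * (b : G) * x⁻¹ = b := by
    have := hbfix ⟨ConjAct.toConjAct x, Subgroup.mem_zpowers _⟩
    have h2 := congrArg (Subtype.val) this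
    simpa [ConjAct.Subgroup.val_conj_smul, ConjAct.toConjAct_smul] using h2
  have hcomm' : Commute x (b : G) := by
    have : x * (b : G) = b * x := by
      calc x * (b : G) = x * b * x⁻¹ * x := by group
        _ = b * x := by rw [hcomm]
    exact this
  -- an element of order r in zpowers b
  have hrdvd : r ∣ orderOf (b : G) := by
    rw [Subgroup.orderOf_coe]
    exact hB.dvd_orderOf hb1
  have hord : orderOf ((b : G) ^ (orderOf (b : G) / r)) = r :=
    orderOf_pow_orderOf_div (orderOf_pos (b : G)).ne' hrdvd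
  refine ⟨(b : G) ^ (orderOf (b : G) / r) * x, ?_⟩
  have hc2 : Commute ((b : G) ^ (orderOf (b : G) / r)) x := (hcomm'.symm).pow_left _
  rw [hc2.orderOf_mul_eq_mul_orderOf_of_coprime, hord, hx]
  rw [hord, hx]
  exact (Nat.coprime_primes hr.out hs.out).mpr hrs


universe u

/-- Lemma W': in a finite solvable group with `q ∥ |G|`, `p^a` the largest possible power of `p`,
`q ∤ p^i - 1` for `1 ≤ i ≤ a` and `p ∤ q - 1`, there is an element of order `p * q`. -/
theorem exists_orderOf_eq_mul_of_solvable {p q a : ℕ} (hp : p.Prime) (hq : q.Prime) (hpq : p ≠ q)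
    (hqp : ∀ i, 1 ≤ i → i ≤ a → ¬ q ∣ p ^ i - 1) (hpq1 : ¬ p ∣ q - 1) :
    ∀ (m : ℕ) {G : Type u} [Group G] [Finite G] [Group.IsSolvable G], Nat.card G = m →
      q ∣ m → ¬ q ^ 2 ∣ m → p ∣ m → ¬ p ^ (a + 1) ∣ m → ∃ g : G, orderOf g = p * q := by
  intro m
  induction m using Nat.strong_induction_on with
  | _ m ih =>
  intro G _ _ _ hcard hq1 hq2 hp1 hpa
  haveI : Fact p.Prime := ⟨hp⟩
  haveI : Fact q.Prime := ⟨hq⟩
  have hmpos : 0 < m := hcard ▸ Nat.card_pos
  haveI : Nontrivial G := by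
    rw [← Finite.one_lt_card_iff_nontrivial, hcard]
    have := Nat.le_of_dvd hmpos hq1
    have := hq.two_le
    omega
  obtain ⟨r, N, hr, hNn, hN1, hNp, -, -⟩ :=
    Cfsg.Agent.Helper1.exists_normal_pgroup_of_solvable (G := G)
  haveI := hNn
  haveI : Fact r.Prime := ⟨hr⟩
  obtain ⟨k, hk⟩ := (IsPGroup.iff_card).mp hNp
  have hk0 : k ≠ 0 := by
    intro h0
    rw [h0, pow_zero] at hk
    exact hN1 ((Subgroup.card_eq_one).mp hk)
  have hNdvd : r ^ k ∣ m := by
    rw [← hk, ← hcard]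
    exact Subgroup.card_subgroup_dvd_card N
  by_cases hrq : r = q
  · subst hrq
    have hk1 : k = 1 := by
      by_contra hne
      have h2 : 2 ≤ k := by omega
      exact hq2 ((pow_dvd_pow r h2).trans hNdvd)
    have hNc : Nat.card N = r := by rw [hk, hk1, pow_one]
    obtain ⟨g, hg⟩ := exists_orderOf_eq_mul_of_normal_pgroup N (r := r) (s := p) hNp hpq.symm
      (hcard ▸ hp1) (by rw [hNc]; exact hpq1)
    exact ⟨g, by rw [hg, mul_comm]⟩
  by_cases hrp : r = p
  · subst hrp
    have hka : k ≤ a := by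
      by_contra hne
      have h2 : a + 1 ≤ k := by omega
      exact hpa ((pow_dvd_pow r h2).trans hNdvd)
    exact exists_orderOf_eq_mul_of_normal_pgroup N (r := r) (s := q) hNp hpq
      (hcard ▸ hq1) (by rw [hk]; exact hqp k (by omega) hka)
  · -- pass to the quotient
    have hfac : m = Nat.card (G ⧸ N) * r ^ k := by
      rw [← hcard, ← hk]
      exact Subgroup.card_eq_card_quotient_mul_card_subgroup N
    have hrk2 : 2 ≤ r ^ k := by
      calc 2 ≤ r := hr.two_le
        _ = r ^ 1 := (pow_one r).symm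
        _ ≤ r ^ k := Nat.pow_le_pow_right hr.pos (by omega)
    have hm'pos : 0 < Nat.card (G ⧸ N) := Nat.card_pos
    have hlt : Nat.card (G ⧸ N) < m := by
      rw [hfac]
      nlinarith
    have hcopq : Nat.Coprime q (r ^ k) :=
      Nat.Coprime.pow_right k ((Nat.coprime_primes hq hr).mpr (Ne.symm hrq))
    have hcopp : Nat.Coprime p (r ^ k) :=
      Nat.Coprime.pow_right k ((Nat.coprime_primes hp hr).mpr (Ne.symm hrp))
    have hq1' : q ∣ Nat.card (G ⧸ N) := hcopq.dvd_of_dvd_mul_right (hfac ▸ hq1)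
    have hp1' : p ∣ Nat.card (G ⧸ N) := hcopp.dvd_of_dvd_mul_right (hfac ▸ hp1)
    have hq2' : ¬ q ^ 2 ∣ Nat.card (G ⧸ N) := fun h => hq2 (hfac ▸ Dvd.dvd.mul_right h _)
    have hpa' : ¬ p ^ (a + 1) ∣ Nat.card (G ⧸ N) := fun h => hpa (hfac ▸ Dvd.dvd.mul_right h _)
    obtain ⟨gbar, hgbar⟩ := ih (Nat.card (G ⧸ N)) hlt (G := G ⧸ N) rfl hq1' hq2' hp1' hpa'
    obtain ⟨g, rfl⟩ := QuotientGroup.mk_surjective gbar
    have hdvd : p * q ∣ orderOf g := by
      rw [← hgbar]
      exact orderOf_map_dvd (QuotientGroup.mk' N) g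
    exact ⟨g ^ (orderOf g / (p * q)), orderOf_pow_orderOf_div (orderOf_pos g).ne' hdvd⟩


open Nat in
theorem not_sq_dvd_factorial {p n : ℕ} (hp : p.Prime) (h1 : p ≤ n) (h2 : n < 2 * p) :
    ¬ p ^ 2 ∣ n ! := by
  haveI : Fact p.Prime := ⟨hp⟩
  have hn : n = p * 1 + (n - p) := by omega
  have hv : padicValNat p n ! = 1 := by
    rw [hn, padicValNat_factorial_mul_add 1 (by omega), padicValNat_factorial_mul]
    simp
  rw [padicValNat_dvd_iff_le (Nat.factorial_ne_zero n), hv]
  omega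

theorem two_mul_card_alt (n : ℕ) (hn : 2 ≤ n) :
    2 * Nat.card ↥(alternatingGroup (Fin n)) = n.factorial := by
  haveI : Nontrivial (Fin n) := Fin.nontrivial_iff_two_le.mpr hn
  rw [two_mul_nat_card_alternatingGroup, Nat.card_perm, Nat.card_eq_fintype_card, Fintype.card_fin]

theorem odd_prime_pow_dvd_iff {p k m : ℕ} (hp : p.Prime) (hp2 : p ≠ 2) :
    p ^ k ∣ 2 * m ↔ p ^ k ∣ m := by
  constructor
  · intro h
    have hcop : Nat.Coprime (p ^ k) 2 :=
      Nat.Coprime.pow_left k ((Nat.coprime_primes hp Nat.prime_two).mpr hp2)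
    exact hcop.dvd_of_dvd_mul_left h
  · intro h
    exact Dvd.dvd.mul_left h 2

/-- Core of S3419. -/
theorem not_solvable_of_params {G : Type*} [Group G] [Finite G] (n : ℕ) (hn : 2 ≤ n)
    (hcard : Nat.card G = Nat.card ↥(alternatingGroup (Fin n)))
    (hspec : Set.range (orderOf : G → ℕ) =
      Set.range (orderOf : ↥(alternatingGroup (Fin n)) → ℕ))
    {p q a : ℕ} (hp : p.Prime) (hq : q.Prime) (hp2 : p ≠ 2) (hq2 : q ≠ 2) (hpq : p ≠ q)
    (hsum : n < p + q)
    (hqf : q ∣ n.factorial) (hqf2 : ¬ q ^ 2 ∣ n.factorial) (hpf : p ∣ n.factorial)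
    (hpfa : ¬ p ^ (a + 1) ∣ n.factorial)
    (hqp : ∀ i, 1 ≤ i → i ≤ a → ¬ q ∣ p ^ i - 1) (hpq1 : ¬ p ∣ q - 1) :
    ¬ Group.IsSolvable G := by
  intro hsolv
  have h2m : 2 * Nat.card G = n.factorial := by rw [hcard, two_mul_card_alt n hn]
  have e1 : q ∣ Nat.card G := by
    have := (odd_prime_pow_dvd_iff (k := 1) (m := Nat.card G) hq hq2).mp (by rw [pow_one, h2m]; exact hqf)
    simpa using this
  have e2 : ¬ q ^ 2 ∣ Nat.card G := fun h =>
    hqf2 (h2m ▸ (odd_prime_pow_dvd_iff (k := 2) (m := Nat.card G) hq hq2).mpr h)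
  have e3 : p ∣ Nat.card G := by
    have := (odd_prime_pow_dvd_iff (k := 1) (m := Nat.card G) hp hp2).mp (by rw [pow_one, h2m]; exact hpf)
    simpa using this
  have e4 : ¬ p ^ (a + 1) ∣ Nat.card G := fun h =>
    hpfa (h2m ▸ (odd_prime_pow_dvd_iff (k := a + 1) (m := Nat.card G) hp hp2).mpr h)
  obtain ⟨g, hg⟩ := exists_orderOf_eq_mul_of_solvable hp hq hpq hqp hpq1 (Nat.card G) (G := G) rfl
    e1 e2 e3 e4
  have hmem : p * q ∈ Set.range (orderOf : G → ℕ) := ⟨g, hg⟩
  rw [hspec] at hmem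
  obtain ⟨σ, hσ⟩ := hmem
  have h3 : orderOf (σ : Equiv.Perm (Fin n)) = p * q := by rw [Subgroup.orderOf_coe, hσ]
  exact no_orderOf_eq_mul (σ : Equiv.Perm (Fin n)) hp hq hpq hsum h3

end Cfsg.Agent.Helper17.AltSpec
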