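import Mathlib
import Cfsg.Agent.Helper17.AltSpec

/-!
# More tools: Frattini-type element of order `r * s`, and a simplicity criterion
-/

set_option autoImplicit false
set_option linter.style.haveILetI false

namespace Cfsg.Agent.Helper17.AltSpec

/-- Lemma U: `A ⊴ G`, `r ∥ |A|`, `s ∣ |G|`, `s ∤ |A|`, `s ∤ r - 1` give an element of order
`r * s`. -/
theorem exists_orderOf_eq_mul_of_normal {G : Type*} [Group G] [Finite G] (A : Subgroup G)
    [A.Normal] {r s : ℕ} [hr : Fact r.Prime] [hs : Fact s.Prime] (hrs : r ≠ s)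
    (hrA : r ∣ Nat.card A) (hrA2 : ¬ r ^ 2 ∣ Nat.card A) (hsG : s ∣ Nat.card G)
    (hsA : ¬ s ∣ Nat.card A) (hsr : ¬ s ∣ r - 1) : ∃ g : G, orderOf g = r * s := by
  classical
  let P : Sylow r A := default
  have hcA : Nat.card A ≠ 0 := Nat.card_pos.ne'
  have hfac : (Nat.card A).factorization r = 1 := by
    have h1 : 1 ≤ (Nat.card A).factorization r :=
      (hr.out.dvd_iff_one_le_factorization hcA).mp hrA
    have h2 : ¬ 2 ≤ (Nat.card A).factorization r := fun h =>
      hrA2 ((hr.out.pow_dvd_iff_le_factorization hcA).mpr h)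
    omega
  have hPcard : Nat.card (P : Subgroup A) = r := by
    rw [Sylow.card_eq_multiplicity, hfac, pow_one]
  set Y : Subgroup G := (P : Subgroup A).map A.subtype with hY
  have hYcard : Nat.card Y = r := by
    rw [hY, Subgroup.card_map_of_injective A.subtype_injective]
    exact hPcard
  have hfrat : (Subgroup.normalizer (Y : Set G)) ⊔ A = ⊤ := Sylow.normalizer_sup_eq_top P
  -- s divides the order of the normalizer
  have hsQ : s ∣ Nat.card (G ⧸ A) := by
    have h1 : Nat.card G = Nat.card (G ⧸ A) * Nat.card A :=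
      Subgroup.card_eq_card_quotient_mul_card_subgroup A
    have hcop : Nat.Coprime s (Nat.card A) := (Nat.Prime.coprime_iff_not_dvd hs.out).mpr hsA
    exact hcop.dvd_of_dvd_mul_right (h1 ▸ hsG)
  have hsurj : Function.Surjective ((QuotientGroup.mk' A).comp (Subgroup.normalizer (Y : Set G)).subtype) := by
    intro xbar
    obtain ⟨x, rfl⟩ := QuotientGroup.mk_surjective xbar
    have hx : x ∈ (Subgroup.normalizer (Y : Set G)) ⊔ A := by rw [hfrat]; exact Subgroup.mem_top x
    rw [← SetLike.mem_coe, Subgroup.mul_normal] at hx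
    obtain ⟨m, hm, a, ha, rfl⟩ := hx
    refine ⟨⟨m, hm⟩, ?_⟩
    simp only [MonoidHom.coe_comp, Function.comp_apply, Subgroup.coe_subtype,
      QuotientGroup.mk'_apply]
    rw [QuotientGroup.eq]
    simpa using ha
  have hsM : s ∣ Nat.card (Subgroup.normalizer (Y : Set G)) :=
    hsQ.trans (Subgroup.card_dvd_of_surjective _ hsurj)
  -- Y is a normal r-subgroup of its normalizer
  have hY'card : Nat.card (Y.subgroupOf (Subgroup.normalizer (Y : Set G))) = r := by
    rw [Nat.card_congr (Subgroup.subgroupOfEquivOfLe Subgroup.le_normalizer).toEquiv, hYcard]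
  have hY'p : IsPGroup r (Y.subgroupOf (Subgroup.normalizer (Y : Set G))) :=
    IsPGroup.of_card (n := 1) (by rw [hY'card, pow_one])
  obtain ⟨g, hg⟩ := exists_orderOf_eq_mul_of_normal_pgroup (Y.subgroupOf (Subgroup.normalizer (Y : Set G)))
    (r := r) (s := s) hY'p hrs hsM (by rw [hY'card]; exact hsr)
  exact ⟨(g : G), by rw [Subgroup.orderOf_coe, hg]⟩


open scoped Pointwise

theorem index_smul_mulAut {H : Type*} [Group H] [Finite H] (a : MulAut H) (T : Subgroup H) :
    (a • T).index = T.index := by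
  have h1 := Subgroup.card_mul_index (a • T)
  have h2 := Subgroup.card_mul_index T
  have h3 : Nat.card (a • T : Subgroup H) = Nat.card T :=
    Nat.card_congr (Subgroup.equivSMul a T).symm.toEquiv
  rw [h3] at h1
  exact Nat.eq_of_mul_eq_mul_left Nat.card_pos (h1.trans h2.symm)

theorem normal_smul_mulAut {H : Type*} [Group H] (a : MulAut H) (T : Subgroup H) (hT : T.Normal) :
    (a • T).Normal := by
  rw [Subgroup.pointwise_smul_def]
  exact hT.map _ (MulAction.surjective a)

/-- A Sylow `p`-subgroup lies in every normal subgroup of index prime to `p`. -/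
theorem sylow_le_of_normal_of_not_dvd_index {H : Type*} [Group H] [Finite H] {p : ℕ}
    [Fact p.Prime] (Q : Sylow p H) (T : Subgroup H) [T.Normal] (hnd : ¬ p ∣ T.index) :
    (Q : Subgroup H) ≤ T := by
  have hp : IsPGroup p ((Q : Subgroup H).map (QuotientGroup.mk' T)) := Q.2.map _
  rcases hp.card_eq_or_dvd with h1 | h1
  · have hbot := (Subgroup.card_eq_one).mp h1
    have := (Subgroup.map_eq_bot_iff _).mp hbot
    rwa [QuotientGroup.ker_mk'] at this
  · exfalso
    apply hnd
    rw [Subgroup.index_eq_card]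
    exact h1.trans (Subgroup.card_subgroup_dvd_card _)

/-- Lemma S: an abstract simplicity criterion. -/
theorem normal_eq_or_eq_top {H Γ : Type*} [Group H] [Finite H] [Group Γ] (α : Γ →* MulAut H)
    (N' : Subgroup H) (p₀ : ℕ) [hp₀ : Fact p₀.Prime]
    (hpN : ¬ p₀ ∣ Nat.card N') (hpH : p₀ ∣ Nat.card H) (hpH2 : ¬ p₀ ^ 2 ∣ Nat.card H)
    (hmin : ∀ M : Subgroup H, (∀ γ, α γ • M = M) → N' ≤ M → M = N' ∨ M = ⊤)
    (hNinv : ∀ γ, α γ • N' = N') :
    ∀ S : Subgroup H, S.Normal → N' ≤ S → S = N' ∨ S = ⊤ := by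
  intro S hSn hNS
  by_cases hStop : S = ⊤
  · exact Or.inr hStop
  left
  let 𝒯 : Set (Subgroup H) := {T | T.Normal ∧ S ≤ T ∧ T ≠ ⊤}
  have h𝒯 : 𝒯.Nonempty := ⟨S, hSn, le_rfl, hStop⟩
  obtain ⟨T, ⟨hTn, hST, hTtop⟩, hTmax⟩ := wellFounded_gt.has_min 𝒯 h𝒯
  haveI := hTn
  have hNT : N' ≤ T := hNS.trans hST
  -- (1) p₀ divides the index of T
  have hidx : p₀ ∣ T.index := by
    by_contra hnd
    let C : Subgroup H := ⨅ γ : Γ, α γ • T
    have hmemC : ∀ x, x ∈ C ↔ ∀ γ : Γ, (α γ)⁻¹ • x ∈ T := by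
      intro x
      simp only [C, Subgroup.mem_iInf, Subgroup.mem_pointwise_smul_iff_inv_smul_mem]
    have hCinv : ∀ δ, α δ • C = C := by
      intro δ
      ext x
      rw [Subgroup.mem_pointwise_smul_iff_inv_smul_mem, hmemC, hmemC]
      constructor
      · intro h γ
        have := h (δ⁻¹ * γ)
        rw [← mul_smul, ← mul_inv_rev, ← map_mul] at this
        simpa using this
      · intro h γ
        have := h (δ * γ)
        rw [← mul_smul, ← mul_inv_rev, ← map_mul]
        exact this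
    have hNC : N' ≤ C := by
      apply le_iInf
      intro γ
      calc N' = α γ • N' := (hNinv γ).symm
        _ ≤ α γ • T := Subgroup.pointwise_smul_le_pointwise_smul_iff.mpr hNT
    have hCT : C ≤ T := by
      have := iInf_le (fun γ : Γ => α γ • T) 1
      simpa using this
    have hCN : C = N' := by
      rcases hmin C hCinv hNC with h | h
      · exact h
      · exfalso
        apply hTtop
        rw [eq_top_iff, ← h]
        exact hCT
    let P : Sylow p₀ H := default
    have hPC : (P : Subgroup H) ≤ C := by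
      apply le_iInf
      intro γ
      rw [Subgroup.subset_pointwise_smul_iff, ← Sylow.pointwise_smul_def]
      exact sylow_le_of_normal_of_not_dvd_index _ T hnd
    have h1 : p₀ ∣ Nat.card (P : Subgroup H) := P.dvd_card_of_dvd_card hpH
    exact hpN (h1.trans (Subgroup.card_dvd_of_le (hCN ▸ hPC)))
  -- (2) T = N'
  have hTN : T = N' := by
    by_contra hne
    have hex : ∃ γ, α γ • T ≠ T := by
      by_contra hcon
      push Not at hcon
      rcases hmin T hcon hNT with h | h
      · exact hne h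
      · exact hTtop h
    obtain ⟨γ, hγ⟩ := hex
    set T' : Subgroup H := α γ • T with hT'
    haveI hT'n : T'.Normal := normal_smul_mulAut (α γ) T hTn
    have hcard : Nat.card T' = Nat.card T :=
      Nat.card_congr (Subgroup.equivSMul (α γ) T).symm.toEquiv
    have hnle : ¬ T' ≤ T := by
      intro hle
      exact hγ (Subgroup.eq_of_le_of_card_ge hle hcard.ge)
    have hsup : T ⊔ T' = ⊤ := by
      by_contra hnt
      have hmem : T ⊔ T' ∈ 𝒯 := ⟨inferInstance, hST.trans le_sup_left, hnt⟩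
      apply hTmax (T ⊔ T') hmem
      refine lt_of_le_of_ne le_sup_left ?_
      intro heq
      apply hnle
      rw [heq]
      exact le_sup_right
    have hidx' : T'.index = T.index := index_smul_mulAut (α γ) T
    have hdvd : T'.index ∣ Nat.card T := by
      have h1 : T'.relIndex (T ⊔ T') = T'.relIndex T := Subgroup.relIndex_sup_right T T'
      rw [hsup, Subgroup.relIndex_top_right] at h1
      rw [h1]
      exact Subgroup.relIndex_dvd_card T' T
    have h2 : p₀ ∣ Nat.card T := (hidx' ▸ hidx).trans hdvd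
    apply hpH2
    rw [← Subgroup.card_mul_index T, pow_two]
    exact Nat.mul_dvd_mul h2 hidx
  rw [← hTN] at hNS
  rw [← hTN]
  exact le_antisymm hST hNS


/-- Main abstract theorem for S3420. -/
theorem exists_simple_section {G : Type*} [Group G] [Finite G] (Pr : Set ℕ)
    (hprime : ∀ p ∈ Pr, p.Prime) (hdiv : ∀ p ∈ Pr, p ∣ Nat.card G)
    (hdiv2 : ∀ p ∈ Pr, ¬ p ^ 2 ∣ Nat.card G)
    (hnoelt : ∀ p ∈ Pr, ∀ q ∈ Pr, p ≠ q → ∀ g : G, orderOf g ≠ p * q)
    (hsub : ∀ p ∈ Pr, ∀ q ∈ Pr, p ≠ q → ¬ p ∣ q - 1)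
    {p₀ p₁ : ℕ} (h₀ : p₀ ∈ Pr) (h₁ : p₁ ∈ Pr) (h01 : p₀ ≠ p₁) :
    ∃ (N H : Subgroup G) (_ : N.Normal), H.Normal ∧ N < H ∧
      IsSimpleGroup (↥H ⧸ N.subgroupOf H) ∧ ¬ IsMulCommutative (↥H ⧸ N.subgroupOf H) ∧
      ∀ p ∈ Pr, p ∣ Nat.card (↥H ⧸ N.subgroupOf H) := by
  classical
  haveI hp₀ : Fact p₀.Prime := ⟨hprime p₀ h₀⟩
  -- Step 1: N
  let 𝒩 : Set (Subgroup G) := {N | N.Normal ∧ ¬ p₀ ∣ Nat.card N}
  have h𝒩 : 𝒩.Nonempty := by
    refine ⟨⊥, inferInstance, ?_⟩
    rw [Subgroup.card_bot]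
    exact hp₀.out.one_lt.ne' ∘ Nat.dvd_one.mp
  obtain ⟨N, ⟨hNn, hNp⟩, hNmax⟩ := wellFounded_gt.has_min 𝒩 h𝒩
  haveI := hNn
  -- Step 2: H
  let ℋ : Set (Subgroup G) := {M | M.Normal ∧ N < M}
  have hℋ : ℋ.Nonempty := by
    refine ⟨⊤, inferInstance, lt_top_iff_ne_top.mpr ?_⟩
    intro h
    apply hNp
    rw [h, Subgroup.card_top]
    exact hdiv p₀ h₀
  obtain ⟨H, ⟨hHn, hNH⟩, hHmin⟩ := wellFounded_lt.has_min ℋ hℋ
  haveI := hHn
  have hNleH : N ≤ H := hNH.le
  -- Step 3
  have hpH : p₀ ∣ Nat.card H := by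
    by_contra hnd
    exact hNmax H ⟨hHn, hnd⟩ hNH
  have hHG : Nat.card H ∣ Nat.card G := Subgroup.card_subgroup_dvd_card H
  have hNG : Nat.card N ∣ Nat.card G := Subgroup.card_subgroup_dvd_card N
  have hpH2 : ¬ p₀ ^ 2 ∣ Nat.card H := fun h => hdiv2 p₀ h₀ (h.trans hHG)
  -- notation
  set N' : Subgroup H := N.subgroupOf H with hN'
  have hN'card : Nat.card N' = Nat.card N :=
    Nat.card_congr (Subgroup.subgroupOfEquivOfLe hNleH).toEquiv
  have hcardQ : Nat.card H = Nat.card (↥H ⧸ N') * Nat.card N :=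
    hN'card ▸ Subgroup.card_eq_card_quotient_mul_card_subgroup N'
  -- Step 4: simplicity
  have hNinv : ∀ g : G, (MulAut.conjNormal (H := H) g) • N' = N' := by
    intro g
    ext y
    rw [Subgroup.mem_pointwise_smul_iff_inv_smul_mem, ← map_inv, MulAut.smul_def, hN',
      Subgroup.mem_subgroupOf, Subgroup.mem_subgroupOf, MulAut.conjNormal_apply]
    constructor
    · intro h
      have := hNn.conj_mem _ h g
      simpa [mul_assoc] using this
    · intro h
      exact hNn.conj_mem _ h g⁻¹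
  have hmin : ∀ M : Subgroup H, (∀ g : G, (MulAut.conjNormal (H := H) g) • M = M) → N' ≤ M →
      M = N' ∨ M = ⊤ := by
    intro M hMinv hNM
    have hMGn : (M.map H.subtype).Normal := by
      refine ⟨fun x hx g => ?_⟩
      obtain ⟨y, hy, rfl⟩ := hx
      refine ⟨MulAut.conjNormal (H := H) g y, ?_, ?_⟩
      · have := Subgroup.smul_mem_pointwise_smul y (MulAut.conjNormal (H := H) g) M hy
        rw [hMinv g, MulAut.smul_def] at this
        exact this
      · simp [MulAut.conjNormal_apply]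
    have hNMG : N ≤ M.map H.subtype := by
      intro x hx
      refine ⟨⟨x, hNleH hx⟩, hNM ?_, rfl⟩
      rw [hN', Subgroup.mem_subgroupOf]
      exact hx
    have hMGH : M.map H.subtype ≤ H := Subgroup.map_subtype_le M
    have hMeq : M = (M.map H.subtype).subgroupOf H :=
      (Subgroup.comap_map_eq_self_of_injective H.subtype_injective M).symm
    by_cases heq : N = M.map H.subtype
    · left
      rw [hMeq, ← heq]
    · right
      have hlt : N < M.map H.subtype := lt_of_le_of_ne hNMG heq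
      have hnlt : ¬ M.map H.subtype < H := hHmin _ ⟨hMGn, hlt⟩
      have hMH : M.map H.subtype = H := by
        by_contra hne
        exact hnlt (lt_of_le_of_ne hMGH hne)
      rw [hMeq, hMH, Subgroup.subgroupOf_self]
  have hpN' : ¬ p₀ ∣ Nat.card N' := by rw [hN'card]; exact hNp
  have hS := normal_eq_or_eq_top (MulAut.conjNormal (H := H)) N' p₀ hpN' hpH hpH2 hmin hNinv
  have hN'top : N' ≠ ⊤ := by
    intro h
    apply hpN'
    rw [h, Subgroup.card_top]
    exact hpH
  have hsimple : IsSimpleGroup (↥H ⧸ N') := by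
    haveI : Nontrivial (↥H ⧸ N') := QuotientGroup.nontrivial_iff.mpr hN'top
    refine ⟨fun T hT => ?_⟩
    have hsurj : Function.Surjective (QuotientGroup.mk' N') := QuotientGroup.mk'_surjective N'
    rcases hS (T.comap (QuotientGroup.mk' N')) (hT.comap _) (QuotientGroup.le_comap_mk' N' T)
      with h | h
    · left
      rw [← Subgroup.map_comap_eq_self_of_surjective hsurj T, h, QuotientGroup.map_mk'_self]
    · right
      rw [← Subgroup.map_comap_eq_self_of_surjective hsurj T, h,
        Subgroup.map_top_of_surjective _ hsurj]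
  -- Step 5: all primes divide
  have hall : ∀ p ∈ Pr, p ∣ Nat.card (↥H ⧸ N') := by
    intro p hp
    haveI hpF : Fact p.Prime := ⟨hprime p hp⟩
    by_cases hpp : p = p₀
    · subst hpp
      have hcop : Nat.Coprime p (Nat.card N) := (Nat.Prime.coprime_iff_not_dvd hpF.out).mpr hNp
      exact hcop.dvd_of_dvd_mul_right (hcardQ ▸ hpH)
    · by_contra hnd
      have hG : Nat.card G = H.index * (Nat.card (↥H ⧸ N') * Nat.card N) := by
        rw [← hcardQ, Subgroup.index_mul_card]
      have hpG : p ∣ H.index * (Nat.card (↥H ⧸ N') * Nat.card N) := hG ▸ hdiv p hp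
      rcases (Nat.Prime.dvd_mul hpF.out).mp hpG with hc | hc
      · -- p ∣ index H
        have hpnH : ¬ p ∣ Nat.card H := by
          intro h
          apply hdiv2 p hp
          rw [← Subgroup.index_mul_card H, pow_two]
          exact Nat.mul_dvd_mul hc h
        obtain ⟨g, hg⟩ := exists_orderOf_eq_mul_of_normal H (r := p₀) (s := p) (Ne.symm hpp)
          hpH hpH2 (hdiv p hp) hpnH (hsub p hp p₀ h₀ hpp)
        exact hnoelt p₀ h₀ p hp (Ne.symm hpp) g hg
      · rcases (Nat.Prime.dvd_mul hpF.out).mp hc with hc' | hc'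
        · exact hnd hc'
        · -- p ∣ |N|
          obtain ⟨g, hg⟩ := exists_orderOf_eq_mul_of_normal N (r := p) (s := p₀) hpp
            hc' (fun h => hdiv2 p hp (h.trans hNG)) (hdiv p₀ h₀) hNp (hsub p₀ h₀ p hp (Ne.symm hpp))
          exact hnoelt p hp p₀ h₀ hpp g hg
  refine ⟨N, H, hNn, hHn, hNH, hsimple, ?_, hall⟩
  -- Step 6: nonabelian
  intro hcomm
  letI : CommGroup (↥H ⧸ N') :=
    { (inferInstance : Group (↥H ⧸ N')) with mul_comm := fun a b => hcomm.is_comm.comm a b }
  have hprimecard : (Nat.card (↥H ⧸ N')).Prime := IsSimpleGroup.prime_card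
  have e0 := (Nat.prime_dvd_prime_iff_eq (hprime p₀ h₀) hprimecard).mp (hall p₀ h₀)
  have e1 := (Nat.prime_dvd_prime_iff_eq (hprime p₁ h₁) hprimecard).mp (hall p₁ h₁)
  exact h01 (e0.trans e1.symm)

end Cfsg.Agent.Helper17.AltSpec
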