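import Mathlib
import Cfsg.Agent.Helper3.CPDefs
import Cfsg.Agent.Helper3.CPBasic

set_option autoImplicit false

/-!
# S4016 piece SIM0 (`Ctx.sylow_facts`) and the Burnside step shared with piece BURN
-/

namespace Cfsg.Agent.Helper17.CPSIM0

open Subgroup

universe u

variable {G : Type u} [Group G] [Finite G]

/-- Burnside's transfer theorem in a non-abelian simple group: a non-trivial abelian Sylow
subgroup is not central in its normalizer. -/
theorem not_normalizer_le_centralizer {r : ℕ} [Fact r.Prime] (hs : IsSimpleGroup G)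
    (hna : ¬ ∀ a b : G, a * b = b * a) (R : Sylow r G) (hR : (R : Subgroup G) ≠ ⊥)
    (hRab : ∀ a ∈ (R : Subgroup G), ∀ b ∈ (R : Subgroup G), a * b = b * a) :
    ¬ normalizer ((R : Subgroup G) : Set G) ≤ centralizer ((R : Subgroup G) : Set G) := by
  intro hNC
  have hcompl := MonoidHom.ker_transferSylow_isComplement' R hNC
  rcases (MonoidHom.transferSylow R hNC).normal_ker.eq_bot_or_eq_top with hb | ht
  · rw [hb, Subgroup.isComplement'_bot_left] at hcompl
    apply hna
    intro a b
    exact hRab a (by rw [hcompl]; trivial) b (by rw [hcompl]; trivial)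
  · rw [ht, Subgroup.isComplement'_top_left] at hcompl
    exact hR hcompl

end Cfsg.Agent.Helper17.CPSIM0

namespace Cfsg.Agent.Helper3.CP

open Subgroup

universe u

variable {G : Type u} [Group G] [Finite G] {p : ℕ} [Fact p.Prime]

/-- SIM0 -/
theorem Ctx.sylow_facts (h : Ctx p G) (P : Sylow p G) :
    (P : Subgroup G) ≠ ⊥ ∧
    ¬ normalizer ((P : Subgroup G) : Set G) ≤ centralizer ((P : Subgroup G) : Set G) := by
  have hP : (P : Subgroup G) ≠ ⊥ := by
    intro hbot
    have hnd : ¬ p ∣ Nat.card G := fun hd => P.ne_bot_of_dvd_card hd hbot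
    apply h.nonab
    intro a b
    have hnd' : ¬ p ∣ Nat.card ↥(⊤ : Subgroup G) := by rwa [Subgroup.card_top]
    exact h.hyp.2 ⊤ hnd' a (mem_top a) b (mem_top b)
  refine ⟨hP, ?_⟩
  have hcyc : IsCyclic ↥(P : Subgroup G) := h.hyp.1 P
  have hab : ∀ a ∈ (P : Subgroup G), ∀ b ∈ (P : Subgroup G), a * b = b * a := by
    intro a ha b hb
    have hc : IsMulCommutative ↥(P : Subgroup G) := hcyc.isMulCommutative
    have := hc.is_comm.comm (⟨a, ha⟩ : ↥(P : Subgroup G)) ⟨b, hb⟩
    exact congrArg Subtype.val this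
  exact Cfsg.Agent.Helper17.CPSIM0.not_normalizer_le_centralizer h.simple h.nonab P hP hab

end Cfsg.Agent.Helper3.CP
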