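import Mathlib
import Cfsg.Agent.Helper3.CPDefs
import Cfsg.Agent.Helper3.CPBasic
import Cfsg.Agent.Helper17.CPSIM0

set_option autoImplicit false

/-!
# S4016 piece BURN (`Ctx.exists_pelement`)
-/

namespace Cfsg.Agent.Helper3.CP

open Subgroup

universe u

variable {G : Type u} [Group G] [Finite G] {p : ℕ} [Fact p.Prime]

/-- BURN -/
theorem Ctx.exists_pelement (h : Ctx p G) (r : ℕ) [Fact r.Prime] (hrp : r ≠ p) (R : Sylow r G)
    (hR : (R : Subgroup G) ≠ ⊥) :
    ∃ u : G, u ∈ normalizer ((R : Subgroup G) : Set G) ∧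
      u ∉ centralizer ((R : Subgroup G) : Set G) ∧ ∃ k : ℕ, orderOf u = p ^ k := by
  have hp : p.Prime := Fact.out
  have hr : r.Prime := Fact.out
  -- `R` is a `p'`-group
  have hRp : ¬ p ∣ Nat.card ↥(R : Subgroup G) := by
    obtain ⟨n, hn⟩ := IsPGroup.iff_card.1 R.2
    rw [hn]
    intro hd
    have := hp.dvd_of_dvd_pow hd
    exact hrp ((Nat.prime_dvd_prime_iff_eq hp hr).1 this).symm
  have hRab : ∀ a ∈ (R : Subgroup G), ∀ b ∈ (R : Subgroup G), a * b = b * a :=
    h.hyp.2 _ hRp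
  have hNC := Cfsg.Agent.Helper17.CPSIM0.not_normalizer_le_centralizer h.simple h.nonab R hR hRab
  rw [SetLike.not_le_iff_exists] at hNC
  obtain ⟨w, hwN, hwC⟩ := hNC
  obtain ⟨a, b, hab, hao, hbo⟩ := exists_pow_decomp hp w
  have hbN : w ^ b ∈ normalizer ((R : Subgroup G) : Set G) := pow_mem hwN b
  have hbC : w ^ b ∈ centralizer ((R : Subgroup G) : Set G) := by
    rw [mem_centralizer_iff]
    intro m hm
    exact (h.hyp.commute_of_pprime (R : Subgroup G) hRp (w ^ b) hbo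
      (fun m hm => (mem_normalizer_iff.1 hbN m).1 hm) m hm).symm
  refine ⟨w ^ a, pow_mem hwN a, ?_, hao⟩
  intro haC
  apply hwC
  rw [hab]
  exact mul_mem haC hbC

end Cfsg.Agent.Helper3.CP
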