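import Mathlib
import Cfsg.Agent.Helper3.CPDefs
import Cfsg.Agent.Helper3.CPBasic

set_option autoImplicit false

/-!
# S4016 piece LOCc (`Ctx.cent_L`): `C(g) = N(P)` for `g ∈ L ∖ 1`
-/

namespace Cfsg.Agent.Helper17.CPLOCc

open Subgroup Cfsg.Agent.Helper3.CP

universe u

variable {G : Type u} [Group G] [Finite G] {p : ℕ} [Fact p.Prime]

/-- `N(P)` centralizes `L` -/
theorem normalizer_commute (h : Hyp p G) (P : Sylow p G) (L : Subgroup G) (hLA : LocA p P L)
    (w : G) (hw : w ∈ normalizer ((P : Subgroup G) : Set G)) (g : G) (hg : g ∈ L) :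
    w * g = g * w := by
  have hp : p.Prime := Fact.out
  obtain ⟨a, b, hab, hao, hbo⟩ := exists_pow_decomp hp w
  have haN : w ^ a ∈ normalizer ((P : Subgroup G) : Set G) := pow_mem hw a
  have hbN : w ^ b ∈ normalizer ((P : Subgroup G) : Set G) := pow_mem hw b
  have haP : w ^ a ∈ (P : Subgroup G) := mem_sylow_of_mem_normalizer P _ haN hao
  have h1 : w ^ a * g = g * w ^ a := (hLA.LP_comm g hg _ haP).symm
  have h2 : w ^ b * g = g * w ^ b :=
    h.commute_of_pprime L hLA.L_card (w ^ b) hbo (fun m hm => hLA.L_norm _ hbN m hm) g hg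
  rw [hab, mul_assoc, h2, ← mul_assoc, h1, mul_assoc]

/-- a `p'`-element of a group with a normal `p`-complement lies in the complement -/
theorem mem_of_isComplement' {T : Type u} [Group T] [Finite T] (Q : Sylow p T) (M : Subgroup T)
    [M.Normal] (hc : M.IsComplement' (Q : Subgroup T)) (x : T) (hx : ¬ p ∣ orderOf x) : x ∈ M := by
  have hp : p.Prime := Fact.out
  have hidx : M.index = Nat.card ↥(Q : Subgroup T) := hc.symm.index_eq_card
  obtain ⟨n, hn⟩ := IsPGroup.iff_card.1 Q.2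
  have h1 : orderOf (QuotientGroup.mk' M x) ∣ p ^ n := by
    rw [← hn, ← hidx, Subgroup.index_eq_card]
    exact orderOf_dvd_natCard _
  have h2 : orderOf (QuotientGroup.mk' M x) ∣ orderOf x := orderOf_map_dvd _ x
  have hcop : Nat.Coprime (p ^ n) (orderOf x) :=
    ((Nat.Prime.coprime_iff_not_dvd hp).2 hx).pow_left n
  have h3 : orderOf (QuotientGroup.mk' M x) = 1 :=
    Nat.eq_one_of_dvd_coprimes hcop h1 h2
  rw [orderOf_eq_one_iff] at h3
  exact (QuotientGroup.eq_one_iff x).1 h3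

end Cfsg.Agent.Helper17.CPLOCc

namespace Cfsg.Agent.Helper3.CP

open Subgroup

universe u

variable {G : Type u} [Group G] [Finite G] {p : ℕ} [Fact p.Prime]

/-- LOCc -/
theorem Ctx.cent_L (h : Ctx p G) (P : Sylow p G) (L : Subgroup G) (hLA : LocA p P L)
    (hNC : ¬ normalizer ((P : Subgroup G) : Set G) ≤ centralizer ((P : Subgroup G) : Set G)) :
    ∀ g ∈ L, g ≠ 1 →
      centralizer ({g} : Set G) = normalizer ((P : Subgroup G) : Set G) := by
  intro g hgL hg1
  have hp : p.Prime := Fact.out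
  have hcyc : IsCyclic ↥(P : Subgroup G) := h.hyp.1 P
  have hab : ∀ a ∈ (P : Subgroup G), ∀ b ∈ (P : Subgroup G), a * b = b * a := by
    intro a ha b hb
    have hc : IsMulCommutative ↥(P : Subgroup G) := hcyc.isMulCommutative
    have := hc.is_comm.comm (⟨a, ha⟩ : ↥(P : Subgroup G)) ⟨b, hb⟩
    exact congrArg Subtype.val this
  set T : Subgroup G := centralizer ({g} : Set G) with hT
  -- `N(P) ≤ C(g)`
  have hNT : normalizer ((P : Subgroup G) : Set G) ≤ T := by
    intro w hw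
    rw [hT, mem_centralizer_singleton_iff]
    exact Cfsg.Agent.Helper17.CPLOCc.normalizer_commute h.hyp P L hLA w hw g hgL
  have hPT : (P : Subgroup G) ≤ T := le_trans le_normalizer hNT
  -- `C(g) ≠ ⊤`
  have hTtop : T ≠ ⊤ := by
    intro htop
    have hgc : g ∈ center G := by
      rw [mem_center_iff]
      intro x
      have hx : x ∈ T := by rw [htop]; trivial
      rw [hT, mem_centralizer_singleton_iff] at hx
      exact hx
    have := h.simple
    rcases (inferInstance : (center G).Normal).eq_bot_or_eq_top with hb | ht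
    · rw [hb, mem_bot] at hgc
      exact hg1 hgc
    · apply h.nonab
      intro a b
      have ha : a ∈ center G := by rw [ht]; trivial
      rw [mem_center_iff] at ha
      exact (ha b).symm
  apply le_antisymm _ hNT
  rcases h.ih T hTtop with ⟨Q₀, M₀, hM₀n, hcompl⟩ | hnorm
  · -- normal `p`-complement: contradiction
    exfalso
    obtain ⟨x₀, hx₀N, hx₀o, hx₀C⟩ := exists_pprime_not_mem_centralizer P hab hNC
    have hx₀T : x₀ ∈ T := hNT hx₀N
    set M : Subgroup G := M₀.map T.subtype with hM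
    have hMcard : Nat.card ↥M = Nat.card ↥M₀ :=
      Subgroup.card_map_of_injective T.subtype_injective
    have hMp : ¬ p ∣ Nat.card ↥M := by
      rw [hMcard, ← hcompl.index_eq_card]
      exact Q₀.not_dvd_index
    have hMnorm : ∀ c ∈ T, ∀ m ∈ M, c * m * c⁻¹ ∈ M := by
      intro c hc m hm
      obtain ⟨m₀, hm₀, rfl⟩ := mem_map.1 hm
      refine mem_map.2 ⟨(⟨c, hc⟩ : ↥T) * m₀ * (⟨c, hc⟩ : ↥T)⁻¹, hM₀n.conj_mem m₀ hm₀ _, ?_⟩
      simp
    have hx₀M : x₀ ∈ M := by
      have hord : ¬ p ∣ orderOf (⟨x₀, hx₀T⟩ : ↥T) := by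
        rw [← Subgroup.orderOf_coe]
        exact hx₀o
      have := Cfsg.Agent.Helper17.CPLOCc.mem_of_isComplement' Q₀ M₀ hcompl ⟨x₀, hx₀T⟩ hord
      exact mem_map.2 ⟨⟨x₀, hx₀T⟩, this, rfl⟩
    have hx₀cM : ∀ m ∈ M, x₀ * m = m * x₀ :=
      h.hyp.commute_of_pprime M hMp x₀ hx₀o (hMnorm x₀ hx₀T)
    have hPM : ∀ u ∈ (P : Subgroup G), ∀ m ∈ M, u * m = m * u :=
      centralizes_of_pprime P hcyc M (fun u hu => hMnorm u (hPT hu)) x₀ hx₀N hx₀C hx₀cM
    apply hx₀C
    rw [mem_centralizer_iff]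
    intro u hu
    exact hPM u hu x₀ hx₀M
  · -- normal Sylow: `C(g) ≤ N(P)`
    have hn : ((P.subtype hPT : Sylow p ↥T) : Subgroup ↥T).Normal := hnorm _
    intro c hc
    apply mem_normalizer_of_conj_mem
    intro u hu
    have hu' : (⟨u, hPT hu⟩ : ↥T) ∈ ((P.subtype hPT : Sylow p ↥T) : Subgroup ↥T) := by
      rw [Sylow.coe_subtype, mem_subgroupOf]
      exact hu
    have := hn.conj_mem _ hu' ⟨c, hc⟩
    rw [Sylow.coe_subtype, mem_subgroupOf] at this
    simpa using this

end Cfsg.Agent.Helper3.CP
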