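import Mathlib
import Cfsg.Agent.Helper23.PGroup

set_option autoImplicit false

namespace Cfsg.Agent.Helper17

open Subgroup

section ConstStab

variable {P E : Type*} [Group P] [AddCommGroup E] [DistribMulAction P E]

/-- trace of `a` along the powers `u^0, …, u^(p-1)`, as an additive map. -/
def trNHom (p : ℕ) (u : P) : E →+ E :=
  ∑ i ∈ Finset.range p, DistribSMul.toAddMonoidHom E (u ^ i)

lemma trNHom_apply (p : ℕ) (u : P) (a : E) :
    trNHom p u a = ∑ i ∈ Finset.range p, u ^ i • a := by
  simp [trNHom]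

lemma smul_trN {p : ℕ} {u : P} (hu : u ^ p = 1) (a : E) :
    u • trNHom p u a = trNHom p u a := by
  rw [trNHom_apply, Finset.smul_sum]
  have h1 : ∑ i ∈ Finset.range p, u • u ^ i • a = ∑ i ∈ Finset.range p, u ^ (i + 1) • a := by
    refine Finset.sum_congr rfl fun i _ => ?_
    rw [pow_succ', mul_smul]
  rw [h1]
  have h2 := Finset.sum_range_succ (fun i => u ^ i • a) p
  have h3 := Finset.sum_range_succ' (fun i => u ^ i • a) p
  rw [h2] at h3
  simp only [hu, pow_zero, one_smul] at h3
  exact (add_right_cancel h3).symm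

lemma trN_of_fixed {p : ℕ} {u : P} {a : E} (h : u • a = a) : trNHom p u a = p • a := by
  rw [trNHom_apply]
  have : ∀ i : ℕ, u ^ i • a = a := by
    intro i
    induction i with
    | zero => simp
    | succ n ih => rw [pow_succ, mul_smul, h, ih]
  simp [this]

lemma smul_trN_of_commute {p : ℕ} {u v : P} (huv : Commute v u) (b : E) :
    v • trNHom p u b = trNHom p u (v • b) := by
  rw [trNHom_apply, trNHom_apply, Finset.smul_sum]
  refine Finset.sum_congr rfl fun i _ => ?_
  rw [← mul_smul, ← mul_smul, (huv.pow_right i).eq]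

lemma stab_eq_of_split [Finite P]
    (hconst : ∀ a b : E, a ≠ 0 → b ≠ 0 →
      Nat.card (MulAction.stabilizer P a) = Nat.card (MulAction.stabilizer P b))
    {a c : E} (ha0 : a ≠ 0) (hc0 : c ≠ 0) (hac : a + c ≠ 0)
    (h : ∀ g : P, g • (a + c) = a + c → g • a = a ∧ g • c = c) :
    MulAction.stabilizer P a = MulAction.stabilizer P c := by
  have h1 : MulAction.stabilizer P (a + c) ≤ MulAction.stabilizer P a := fun g hg => (h g hg).1
  have h2 : MulAction.stabilizer P (a + c) ≤ MulAction.stabilizer P c := fun g hg => (h g hg).2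
  have e1 := Subgroup.eq_of_le_of_card_ge h1 (hconst _ _ ha0 hac).le
  have e2 := Subgroup.eq_of_le_of_card_ge h2 (hconst _ _ hc0 hac).le
  rw [← e1, e2]

lemma central_fpf [Finite P] [FaithfulSMul P E] {p : ℕ}
    (hpE : ∀ e : E, p • e = 0 → e = 0)
    (hconst : ∀ a b : E, a ≠ 0 → b ≠ 0 →
      Nat.card (MulAction.stabilizer P a) = Nat.card (MulAction.stabilizer P b))
    {z : P} (hz : z ∈ Subgroup.center P) (hzp : z ^ p = 1) (hz1 : z ≠ 1) :
    ∀ a : E, z • a = a → a = 0 := by
  intro a ha
  by_contra ha0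
  obtain ⟨e, he⟩ : ∃ e : E, z • e ≠ e := by
    by_contra hcon
    push Not at hcon
    exact hz1 (FaithfulSMul.eq_of_smul_eq_smul (α := E) (fun e => by rw [hcon e, one_smul]))
  set c : E := p • e - trNHom p z e with hc
  have hzc : ∀ g : P, Commute g z := fun g => (Subgroup.mem_center_iff.mp hz g)
  have htc : trNHom p z c = 0 := by
    rw [hc, map_sub, map_nsmul, trN_of_fixed (smul_trN hzp e), sub_self]
  have hc0 : c ≠ 0 := by
    intro h0
    rw [hc, sub_eq_zero] at h0
    apply he
    have h1 : z • (p • e) = p • e := by rw [h0]; exact smul_trN hzp e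
    have h2 : p • (z • e - e) = 0 := by rw [smul_sub, ← smul_comm z p e, h1, sub_self]
    exact sub_eq_zero.mp (hpE _ h2)
  have hzc' : z • c ≠ c := by
    intro h
    apply hc0
    apply hpE
    rw [← trN_of_fixed h, htc]
  have hac : a + c ≠ 0 := by
    intro h
    have hca : c = -a := by rw [eq_neg_iff_add_eq_zero, add_comm]; exact h
    apply hzc'; rw [hca, smul_neg, ha]
  have key := stab_eq_of_split hconst ha0 hc0 hac (fun g hg => ?_)
  · have hmem : z ∈ MulAction.stabilizer P a := ha
    rw [key] at hmem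
    exact hzc' hmem
  · have hd : g • a - a = c - g • c := by
      rw [smul_add] at hg
      rw [sub_eq_sub_iff_add_eq_add, add_comm c]; exact hg
    have hzd : z • (g • a - a) = g • a - a := by
      rw [smul_sub, ha, ← mul_smul, ← (hzc g).eq, mul_smul, ha]
    have htd : trNHom p z (g • a - a) = 0 := by
      rw [hd, map_sub, htc, ← smul_trN_of_commute (hzc g), htc, smul_zero, sub_zero]
    have hd0 : g • a - a = 0 := by
      apply hpE; rw [← trN_of_fixed hzd, htd]
    refine ⟨sub_eq_zero.mp hd0, ?_⟩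
    have : c - g • c = 0 := by rw [← hd, hd0]
    exact (sub_eq_zero.mp this).symm

lemma sum_zpowers_eq_zero {z : P}
    (hfpf : ∀ a : E, z • a = a → a = 0) [Fintype (zpowers z)] (a : E) :
    ∑ w : zpowers z, (w : P) • a = 0 := by
  apply hfpf
  rw [Finset.smul_sum]
  let zz : zpowers z := ⟨z, mem_zpowers z⟩
  exact Fintype.sum_equiv (Equiv.mulLeft zz) _ _ (fun w => by simp [zz, mul_smul])

lemma sum_trN_coset {p : ℕ} [Fact p.Prime] {z x : P} (hz : z ∈ center P)
    (hzo : orderOf z = p)
    (hfpf : ∀ a : E, z • a = a → a = 0) [Fintype (zpowers z)] (a : E) :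
    ∑ w : zpowers z, trNHom p (x * (w : P)) a = p • a := by
  have hp : p.Prime := Fact.out
  simp only [trNHom_apply]
  rw [Finset.sum_comm]
  have hw : ∀ (w : zpowers z) (i : ℕ),
      (x * (w : P)) ^ i • a = x ^ i • ((w : P) ^ i • a) := by
    intro w i
    have hc : Commute x (w : P) := (Subgroup.mem_center_iff.mp (zpowers_le.mpr hz w.2) x)
    rw [hc.mul_pow, mul_smul]
  simp only [hw, ← Finset.smul_sum]
  rw [Finset.sum_eq_single 0]
  · have hcard : Fintype.card (zpowers z) = p := by
      rw [← Nat.card_eq_fintype_card, Nat.card_zpowers, hzo]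
    simp [hcard]
  · intro i hi hi0
    have hcop : (Nat.card (zpowers z)).Coprime i := by
      rw [Nat.card_zpowers, hzo]
      exact Nat.coprime_of_lt_prime hi0 (Finset.mem_range.mp hi) hp
    have : ∑ w : zpowers z, ((w : P) ^ i) • a = ∑ w : zpowers z, (w : P) • a :=
      Fintype.sum_equiv (powCoprime hcop) _ _ (fun w => by simp)
    rw [this, sum_zpowers_eq_zero hfpf, smul_zero]
  · intro h
    exact absurd (Finset.mem_range.mpr hp.pos) h

lemma trN_eq_zero_of_ne {p : ℕ} {u u' : P} (hu : u ^ p = 1) (hcomm : Commute u' u)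
    (hfpf : ∀ a : E, (u⁻¹ * u') • a = a → a = 0) {e : E} (he : u' • e = e) :
    trNHom p u e = 0 := by
  apply hfpf
  rw [mul_smul, smul_trN_of_commute hcomm, he, inv_smul_eq_iff]
  exact (smul_trN hu e).symm

lemma exists_second_center_elem [Finite P] {p : ℕ} [Fact p.Prime] (hP : IsPGroup p P)
    {z : P} (hz : z ∈ center P) (A : Subgroup P) [hAn : A.Normal] (hA : ¬ A ≤ zpowers z) :
    ∃ x ∈ A, x ∉ zpowers z ∧ ∀ h : P, x⁻¹ * (h * x * h⁻¹) ∈ zpowers z := by
  haveI : (zpowers z).Normal := by
    refine ⟨fun n hn g => ?_⟩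
    have hnc : n ∈ center P := zpowers_le.mpr hz hn
    have : g * n * g⁻¹ = n := by
      rw [(Subgroup.mem_center_iff.mp hnc g), mul_inv_cancel_right]
    rw [this]; exact hn
  have hAn' : (A.map (QuotientGroup.mk' (zpowers z))).Normal :=
    Subgroup.Normal.map hAn _ (QuotientGroup.mk'_surjective _)
  have hne : A.map (QuotientGroup.mk' (zpowers z)) ≠ ⊥ := by
    intro h
    apply hA
    intro a ha
    have : QuotientGroup.mk' (zpowers z) a ∈ A.map (QuotientGroup.mk' (zpowers z)) :=
      Subgroup.mem_map_of_mem _ ha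
    rw [h, Subgroup.mem_bot] at this
    exact (QuotientGroup.eq_one_iff a).mp this
  obtain ⟨b, hbA, hbc, hb1⟩ := Helper23.exists_mem_inf_center_ne_one
    (hP.to_quotient (zpowers z)) (A.map (QuotientGroup.mk' (zpowers z))) hne
  obtain ⟨x, hxA, rfl⟩ := hbA
  refine ⟨x, hxA, fun hx => hb1 ((QuotientGroup.eq_one_iff x).mpr hx), fun h => ?_⟩
  have hcm := Subgroup.mem_center_iff.mp hbc (QuotientGroup.mk' (zpowers z) h)
  have : QuotientGroup.mk' (zpowers z) (x⁻¹ * (h * x * h⁻¹)) = 1 := by
    rw [map_mul, map_mul, map_mul, map_inv, map_inv, hcm, mul_inv_cancel_right, inv_mul_cancel]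
  exact (QuotientGroup.eq_one_iff _).mp this

lemma noncyclic_contra [Finite P] [FaithfulSMul P E] {p : ℕ} [Fact p.Prime] (hp2 : p ≠ 2)
    (hpE : ∀ e : E, p • e = 0 → e = 0)
    (hconst : ∀ a b : E, a ≠ 0 → b ≠ 0 →
      Nat.card (MulAction.stabilizer P a) = Nat.card (MulAction.stabilizer P b))
    {z x : P} (hz : z ∈ center P) (hzo : orderOf z = p)
    (hfpf : ∀ w ∈ zpowers z, w ≠ 1 → ∀ a : E, w • a = a → a = 0)
    (hxp : x ^ p = 1) (hxZ : x ∉ zpowers z)
    (hcomm : ∀ h : P, x⁻¹ * (h * x * h⁻¹) ∈ zpowers z) : False := by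
  classical
  haveI : Fintype (zpowers z) := Fintype.ofFinite _
  have hp : p.Prime := Fact.out
  have hz1 : z ≠ 1 := by
    rintro rfl
    rw [orderOf_one] at hzo
    exact hp.one_lt.ne hzo
  have hcen : ∀ w ∈ zpowers z, w ∈ center P := fun w hw => zpowers_le.mpr hz hw
  have cw : ∀ w ∈ zpowers z, ∀ g : P, Commute g w :=
    fun w hw g => Subgroup.mem_center_iff.mp (hcen w hw) g
  have hwp : ∀ w ∈ zpowers z, w ^ p = 1 := by
    intro w hw
    obtain ⟨k, rfl⟩ := hw
    rw [← zpow_natCast, ← zpow_mul, mul_comm, zpow_mul, zpow_natCast, ← hzo, pow_orderOf_eq_one,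
      one_zpow]
  have hyp : ∀ w ∈ zpowers z, (x * w) ^ p = 1 := by
    intro w hw
    rw [(cw w hw x).mul_pow, hxp, hwp w hw, one_mul]
  have hycomm : ∀ w ∈ zpowers z, ∀ w' ∈ zpowers z, Commute (x * w') (x * w) := by
    intro w hw w' hw'
    exact ((Commute.refl x).mul_right (cw w hw x)).mul_left
      ((cw w' hw' x).symm.mul_right (cw w hw w'))
  have hortho : ∀ w ∈ zpowers z, ∀ w' ∈ zpowers z, w ≠ w' → ∀ e : E, (x * w') • e = e →
      trNHom p (x * w) e = 0 := by
    intro w hw w' hw' hne e he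
    refine trN_eq_zero_of_ne (hyp w hw) (hycomm w hw w' hw') ?_ he
    have : (x * w)⁻¹ * (x * w') = w⁻¹ * w' := by group
    rw [this]
    refine hfpf _ ((zpowers z).mul_mem ((zpowers z).inv_mem hw) hw') ?_
    intro h; apply hne; rw [inv_mul_eq_one] at h; exact h
  have hdec : ∀ e : E, ∑ w : zpowers z, trNHom p (x * (w : P)) e = p • e :=
    fun e => sum_trN_coset hz hzo (hfpf z (mem_zpowers z) hz1) e
  have hfix : ∀ w ∈ zpowers z, ∀ e : E,
      (x * w) • trNHom p (x * w) e = trNHom p (x * w) e := fun w hw e => smul_trN (hyp w hw) e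
  have claimA : ∀ w ∈ zpowers z, ∀ w' ∈ zpowers z, w ≠ w' → ∀ a b : E, (x * w) • a = a → a ≠ 0 →
      (x * w') • b = b → b ≠ 0 → MulAction.stabilizer P a = MulAction.stabilizer P b := by
    intro w hw w' hw' hne a b ha ha0 hb hb0
    have hab : a + b ≠ 0 := by
      intro h
      have hb' : b = -a := by rw [eq_neg_iff_add_eq_zero, add_comm]; exact h
      have hfa : (x * w') • a = a := by
        have := hb; rw [hb', smul_neg, neg_inj] at this; exact this
      have h0 := hortho w hw w' hw' hne a hfa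
      rw [trN_of_fixed ha] at h0
      exact ha0 (hpE _ h0)
    refine stab_eq_of_split hconst ha0 hb0 hab (fun g hg => ?_)
    set c := x⁻¹ * (g * x * g⁻¹) with hc
    have hcZ : c ∈ zpowers z := hcomm g
    have hconj : ∀ v ∈ zpowers z, g * (x * v) * g⁻¹ = x * (c * v) := by
      intro v hv
      rw [hc]
      calc g * (x * v) * g⁻¹ = g * x * (v * g⁻¹) := by group
        _ = g * x * (g⁻¹ * v) := by rw [(cw v hv g⁻¹).eq]
        _ = x * (x⁻¹ * (g * x * g⁻¹) * v) := by group
    have hga : (x * (c * w)) • g • a = g • a := by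
      rw [← hconj w hw, ← mul_smul, inv_mul_cancel_right, mul_smul, ha]
    have hgb : (x * (c * w')) • g • b = g • b := by
      rw [← hconj w' hw', ← mul_smul, inv_mul_cancel_right, mul_smul, hb]
    have hsum : g • a + g • b = a + b := by rw [← smul_add]; exact hg
    have hcw : c * w ∈ zpowers z := mul_mem hcZ hw
    have hcw' : c * w' ∈ zpowers z := mul_mem hcZ hw'
    have hne' : c * w ≠ c * w' := fun h => hne (mul_left_cancel h)
    have hga0 : g • a ≠ 0 := fun h => ha0 ((smul_eq_zero_iff_eq g).mp h)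
    have hgb0 : g • b ≠ 0 := fun h => hb0 ((smul_eq_zero_iff_eq g).mp h)
    have hc1 : c = 1 := by
      by_contra hc1
      have hcw_ne : c * w ≠ w := fun h => hc1 (mul_eq_right.mp h)
      have hcw'_ne : c * w' ≠ w' := fun h => hc1 (mul_eq_right.mp h)
      have h1 := congrArg (trNHom p (x * (c * w))) hsum
      rw [map_add, map_add, trN_of_fixed hga, hortho _ hcw _ hcw' hne' _ hgb, add_zero,
        hortho _ hcw _ hw hcw_ne _ ha, zero_add] at h1
      have e1 : c * w = w' := by
        by_contra hh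
        rw [hortho _ hcw _ hw' hh _ hb] at h1
        exact hga0 (hpE _ h1)
      have h2 := congrArg (trNHom p (x * (c * w'))) hsum
      rw [map_add, map_add, trN_of_fixed hgb, hortho _ hcw' _ hcw hne'.symm _ hga, zero_add,
        hortho _ hcw' _ hw' hcw'_ne _ hb, add_zero] at h2
      have e2 : c * w' = w := by
        by_contra hh
        rw [hortho _ hcw' _ hw hh _ ha] at h2
        exact hgb0 (hpE _ h2)
      have hc2 : c ^ 2 = 1 := by
        have : c * (c * w) = w := by rw [e1, e2]
        rw [← mul_assoc, mul_eq_right] at this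
        rw [sq]; exact this
      have hcp : c ^ p = 1 := hwp c hcZ
      have hd : orderOf c ∣ Nat.gcd 2 p :=
        Nat.dvd_gcd (orderOf_dvd_of_pow_eq_one hc2) (orderOf_dvd_of_pow_eq_one hcp)
      have hg2 : Nat.gcd 2 p = 1 := (Nat.coprime_primes Nat.prime_two hp).mpr (Ne.symm hp2)
      rw [hg2, Nat.dvd_one, orderOf_eq_one_iff] at hd
      exact hc1 hd
    rw [hc1, one_mul] at hga hgb
    have h1 := congrArg (trNHom p (x * w)) hsum
    rw [map_add, map_add, trN_of_fixed hga, hortho _ hw _ hw' hne _ hgb, add_zero,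
      trN_of_fixed ha, hortho _ hw _ hw' hne _ hb, add_zero] at h1
    have h2 : g • a = a := by
      have : p • (g • a - a) = 0 := by rw [smul_sub, h1, sub_self]
      exact sub_eq_zero.mp (hpE _ this)
    refine ⟨h2, ?_⟩
    rw [h2] at hsum; exact add_left_cancel hsum
  have hx1 : x ≠ 1 := fun h => hxZ (h ▸ one_mem _)
  obtain ⟨e, he⟩ : ∃ e : E, x • e ≠ e := by
    by_contra hcon
    push Not at hcon
    exact hx1 (FaithfulSMul.eq_of_smul_eq_smul (α := E) (fun e => by rw [hcon e, one_smul]))
  have hpe : p • e ≠ 0 := fun h => he (by rw [hpE e h]; exact smul_zero x)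
  obtain ⟨w0, -, hw0⟩ : ∃ w0 ∈ (Finset.univ : Finset (zpowers z)),
      trNHom p (x * (w0 : P)) e ≠ 0 := by
    apply Finset.exists_ne_zero_of_sum_ne_zero; rw [hdec]; exact hpe
  have ha0fix : (x * (w0 : P)) • trNHom p (x * (w0 : P)) e = trNHom p (x * (w0 : P)) e :=
    hfix _ w0.2 e
  have hall : ∀ e' : E, (x * (w0 : P)) • e' = e' := by
    intro e'
    have h1 : (x * (w0 : P)) • (p • e') = p • e' := by
      rw [← hdec e', Finset.smul_sum]
      refine Finset.sum_congr rfl fun w _ => ?_
      by_cases hww : (w : P) = w0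
      · rw [hww]; exact hfix _ w0.2 e'
      · by_cases hb0 : trNHom p (x * (w : P)) e' = 0
        · rw [hb0, smul_zero]
        · have hst := claimA w0 w0.2 w w.2 (Ne.symm hww) _ _ ha0fix hw0 (hfix _ w.2 e') hb0
          have hmem : x * (w0 : P) ∈ MulAction.stabilizer P (trNHom p (x * (w0 : P)) e) :=
            ha0fix
          rw [hst] at hmem
          exact hmem
    have : p • ((x * (w0 : P)) • e' - e') = 0 := by
      rw [smul_sub, ← smul_comm (x * (w0 : P)) p e', h1, sub_self]
    exact sub_eq_zero.mp (hpE _ this)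
  have h1 : x * (w0 : P) = 1 :=
    FaithfulSMul.eq_of_smul_eq_smul (α := E) (fun e' => by rw [hall, one_smul])
  apply hxZ
  have : x = (w0 : P)⁻¹ := eq_inv_of_mul_eq_one_left h1
  rw [this]; exact inv_mem w0.2

/-- In a finite cyclic group, any element killed by `p` lies in the subgroup generated by an
element of order `p`. -/
lemma mem_zpowers_of_orderOf_eq_of_pow {Z : Type*} [Group Z] [Finite Z] [IsCyclic Z] {p : ℕ}
    (hp : 0 < p) (a b : Z) (ha : orderOf a = p) (hb : b ^ p = 1) : b ∈ Subgroup.zpowers a := by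
  classical
  haveI := Fintype.ofFinite Z
  have h1 := IsCyclic.card_pow_eq_one_le (α := Z) hp
  have h2 : (Finset.univ.filter (fun x : Z => x ∈ Subgroup.zpowers a)) ⊆
      Finset.univ.filter (fun x : Z => x ^ p = 1) := by
    intro x hx
    simp only [Finset.mem_filter, Finset.mem_univ, true_and] at hx ⊢
    obtain ⟨k, rfl⟩ := hx
    rw [← zpow_natCast, ← zpow_mul, mul_comm, zpow_mul, zpow_natCast, ← ha, pow_orderOf_eq_one,
      one_zpow]
  have h3 : (Finset.univ.filter (fun x : Z => x ∈ Subgroup.zpowers a)).card = p := by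
    rw [← ha, ← Nat.card_zpowers, Nat.card_eq_fintype_card, Fintype.card_subtype]
  have h4 := Finset.eq_of_subset_of_card_le h2 (by rw [h3]; exact h1)
  have : b ∈ Finset.univ.filter (fun x : Z => x ^ p = 1) := by simp [hb]
  rw [← h4] at this
  simpa using this

end ConstStab

end Cfsg.Agent.Helper17
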