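import Mathlib

set_option autoImplicit false

namespace Cfsg.Agent.Helper17.ES

variable {G : Type*} [Group G]

/-- `E ≤ G` behaves like an extraspecial 2-group with centre `{1, z}`: commutators lie in `{1, z}`
and the centre of `E` is `{1, z}`. -/
structure IsES (E : Subgroup G) (z : G) : Prop where
  zE : z ∈ E
  z1 : z ≠ 1
  zz : z * z = 1
  zc : ∀ x ∈ E, x * z = z * x
  comm : ∀ x ∈ E, ∀ y ∈ E, x * y = y * x ∨ x * y = z * (y * x)
  cen : ∀ x ∈ E, (∀ y ∈ E, x * y = y * x) → x = 1 ∨ x = z

variable {E : Subgroup G} {z : G}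

lemma IsES.nc (h : IsES E z) {x y : G} (hx : x ∈ E) (hy : y ∈ E) (hxy : x * y ≠ y * x) :
    x * y = z * (y * x) := by
  rcases h.comm x hx y hy with h1 | h1
  · exact absurd h1 hxy
  · exact h1

lemma IsES.zinv (h : IsES E z) : z⁻¹ = z := inv_eq_of_mul_eq_one_right h.zz

lemma IsES.z_ne (h : IsES E z) (w : G) : z * w ≠ w := by
  intro h'
  exact h.z1 (mul_eq_right.mp h')

/-- bilinearity of commutation in the first variable -/
lemma IsES.comm_mul_left (h : IsES E z) {x x' y : G} (hx : x ∈ E) (hx' : x' ∈ E) (hy : y ∈ E) :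
    ((x * x') * y = y * (x * x')) ↔ ((x * y = y * x) ↔ (x' * y = y * x')) := by
  by_cases h1 : x * y = y * x <;> by_cases h2 : x' * y = y * x'
  · simp only [h1, h2, iff_true]
    rw [mul_assoc, h2, ← mul_assoc, h1, mul_assoc]
  · refine iff_of_false ?_ (by simp [h1, h2])
    have h2' := h.nc hx' hy h2
    intro h3
    rw [mul_assoc, h2', ← mul_assoc, h.zc x hx, mul_assoc, ← mul_assoc x, h1, mul_assoc] at h3
    exact h.z_ne _ h3
  · refine iff_of_false ?_ (by simp [h1, h2])
    have h1' := h.nc hx hy h1
    intro h3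
    rw [mul_assoc, h2, ← mul_assoc, h1', mul_assoc, mul_assoc] at h3
    exact h.z_ne _ h3
  · simp only [h1, h2, iff_true]
    have h1' := h.nc hx hy h1
    have h2' := h.nc hx' hy h2
    rw [mul_assoc, h2', ← mul_assoc, h.zc x hx, mul_assoc, ← mul_assoc x, h1', mul_assoc, mul_assoc,
      ← mul_assoc z, h.zz, one_mul]

lemma IsES.comm_mul_right (h : IsES E z) {x y y' : G} (hx : x ∈ E) (hy : y ∈ E) (hy' : y' ∈ E) :
    (x * (y * y') = (y * y') * x) ↔ ((x * y = y * x) ↔ (x * y' = y' * x)) := by
  have := h.comm_mul_left hy hy' hx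
  rw [eq_comm, this, eq_comm, @eq_comm _ (y' * x)]

lemma comm_inv_left {x y : G} :
    (x⁻¹ * y = y * x⁻¹) ↔ (x * y = y * x) := by
  constructor
  · intro h1
    have : x * (x⁻¹ * y) * x = x * (y * x⁻¹) * x := by rw [h1]
    simp only [mul_inv_cancel_left, mul_assoc, inv_mul_cancel, mul_one] at this
    exact this.symm
  · intro h1
    have : x⁻¹ * (x * y) * x⁻¹ = x⁻¹ * (y * x) * x⁻¹ := by rw [h1]
    simp only [inv_mul_cancel_left, mul_assoc, mul_inv_cancel, mul_one] at this
    exact this.symm

/-- squares are central, hence in `{1, z}` -/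
lemma IsES.sq (h : IsES E z) {x : G} (hx : x ∈ E) : x * x = 1 ∨ x * x = z := by
  apply h.cen _ (E.mul_mem hx hx)
  intro y hy
  rw [h.comm_mul_left hx hx hy]


/-- a set covered by `x^a t^b z^c` has at most 8 elements -/
lemma card_le_eight (E : Subgroup G) (x t z : G)
    (hsub : ∀ e ∈ E, ∃ a b c : Bool, e = (if a then x else 1) * (if b then t else 1) * (if c then z else 1)) :
    Nat.card E ≤ 8 := by
  classical
  let f : Bool × Bool × Bool → G := fun p =>
    (if p.1 then x else 1) * (if p.2.1 then t else 1) * (if p.2.2 then z else 1)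
  have h1 : (E : Set G) ⊆ f '' Set.univ := by
    intro e he
    obtain ⟨a, b, c, habc⟩ := hsub e he
    exact ⟨(a, b, c), Set.mem_univ _, habc.symm⟩
  have h2 : (E : Set G).ncard ≤ (f '' Set.univ).ncard := Set.ncard_le_ncard h1 (Set.toFinite _)
  have h3 : (f '' Set.univ).ncard ≤ (Set.univ : Set (Bool × Bool × Bool)).ncard :=
    Set.ncard_image_le (Set.toFinite _)
  have h4 : (Set.univ : Set (Bool × Bool × Bool)).ncard = 8 := by
    rw [Set.ncard_univ, Nat.card_eq_fintype_card]; rfl
  have h5 : Nat.card E = (E : Set G).ncard := rfl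
  omega

/-- an abelian "index two" piece forces `|E| ≤ 8`. -/
lemma IsES.card_le_eight_of_abelian (h : IsES E z) (P : Subgroup G) (x : G) (hx : x ∈ E)
    (hidx : ∀ e ∈ E, e ∈ P ∨ x⁻¹ * e ∈ P)
    (hab : ∀ y1 ∈ E, y1 ∈ P → ∀ y2 ∈ E, y2 ∈ P → y1 * y2 = y2 * y1) :
    Nat.card E ≤ 8 := by
  classical
  -- a noncentral element of E ⊓ P does not commute with x
  have hnc : ∀ y ∈ E, y ∈ P → (y * x = x * y) → ∀ e ∈ E, y * e = e * y := by
    intro y hy hyP hyx e he
    rcases hidx e he with heP | heP
    · exact hab y hy hyP e he heP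
    · have h1 : y * (x⁻¹ * e) = (x⁻¹ * e) * y :=
        hab y hy hyP _ (E.mul_mem (E.inv_mem hx) he) heP
      calc y * e = (y * x) * (x⁻¹ * e) := by group
        _ = (x * y) * (x⁻¹ * e) := by rw [hyx]
        _ = x * (y * (x⁻¹ * e)) := by group
        _ = x * ((x⁻¹ * e) * y) := by rw [h1]
        _ = e * y := by group
  -- pick t
  by_cases hex : ∃ t ∈ E, t ∈ P ∧ t * x ≠ x * t
  · obtain ⟨t, ht, htP, htx⟩ := hex
    apply card_le_eight E x t⁻¹ z
    -- every element of E ⊓ P is in {1, z, t⁻¹, t⁻¹ z}
    have hP4 : ∀ y ∈ E, y ∈ P → ∃ b c : Bool, y = (if b then t⁻¹ else 1) * (if c then z else 1) := by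
      intro y hy hyP
      by_cases hyx : y * x = x * y
      · rcases h.cen y hy (hnc y hy hyP hyx) with h1 | h1
        · exact ⟨false, false, by simp [h1]⟩
        · exact ⟨false, true, by simp [h1]⟩
      · -- t * y is central
        have hty : (t * y) * x = x * (t * y) := by
          rw [h.comm_mul_left ht hy hx]
          exact iff_of_false htx hyx
        have htyP : t * y ∈ P := P.mul_mem htP hyP
        rcases h.cen (t * y) (E.mul_mem ht hy) (hnc _ (E.mul_mem ht hy) htyP hty) with h1 | h1
        · refine ⟨true, false, ?_⟩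
          have : y = t⁻¹ * (t * y) := by group
          rw [this, h1]; simp
        · refine ⟨true, true, ?_⟩
          have : y = t⁻¹ * (t * y) := by group
          rw [this, h1]; simp
    intro e he
    rcases hidx e he with heP | heP
    · obtain ⟨b, c, hbc⟩ := hP4 e he heP
      exact ⟨false, b, c, by simp [hbc]⟩
    · obtain ⟨b, c, hbc⟩ := hP4 _ (E.mul_mem (E.inv_mem hx) he) heP
      refine ⟨true, b, c, ?_⟩
      have : e = x * (x⁻¹ * e) := by group
      rw [this, hbc]; simp [mul_assoc]
  · push Not at hex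
    apply card_le_eight E x 1 z
    have hP4 : ∀ y ∈ E, y ∈ P → ∃ c : Bool, y = (if c then z else 1) := by
      intro y hy hyP
      rcases h.cen y hy (hnc y hy hyP (hex y hy hyP)) with h1 | h1
      · exact ⟨false, by simp [h1]⟩
      · exact ⟨true, by simp [h1]⟩
    intro e he
    rcases hidx e he with heP | heP
    · obtain ⟨c, hc⟩ := hP4 e he heP
      exact ⟨false, false, c, by simp [hc]⟩
    · obtain ⟨c, hc⟩ := hP4 _ (E.mul_mem (E.inv_mem hx) he) heP
      refine ⟨true, false, c, ?_⟩
      have : e = x * (x⁻¹ * e) := by group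
      rw [this, hc]; simp


lemma IsES.exists_nc (h : IsES E z) {u : G} (hu : u ∈ E) (hu1 : u ≠ 1) (huz : u ≠ z) :
    ∃ x ∈ E, x * u ≠ u * x := by
  by_contra hno
  push Not at hno
  rcases h.cen u hu (fun y hy => (hno y hy).symm) with h1 | h1
  · exact hu1 h1
  · exact huz h1

/-- the centralizer of `u` has index at most two in `E` -/
lemma IsES.idx_centralizer (h : IsES E z) {u x e : G} (hu : u ∈ E) (hx : x ∈ E) (he : e ∈ E)
    (hxu : x * u ≠ u * x) : e * u = u * e ∨ (x⁻¹ * e) * u = u * (x⁻¹ * e) := by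
  by_cases heu : e * u = u * e
  · exact Or.inl heu
  · right
    rw [h.comm_mul_left (E.inv_mem hx) he hu, comm_inv_left]
    exact iff_of_false hxu heu

/-- if `|E| > 8`, the centralizer in `E` of a noncentral `u` is nonabelian -/
lemma IsES.exists_nc_in_centralizer (h : IsES E z) (hcard : 8 < Nat.card E) {u : G} (hu : u ∈ E)
    (hu1 : u ≠ 1) (huz : u ≠ z) :
    ∃ y1 ∈ E, ∃ y2 ∈ E, y1 * u = u * y1 ∧ y2 * u = u * y2 ∧ y1 * y2 ≠ y2 * y1 := by
  by_contra hno
  push Not at hno
  obtain ⟨x, hx, hxu⟩ := h.exists_nc hu hu1 huz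
  have := h.card_le_eight_of_abelian (Subgroup.centralizer {u}) x hx
    (fun e he => by
      simp only [Subgroup.mem_centralizer_singleton_iff]
      exact h.idx_centralizer hu hx he hxu)
    (fun y1 hy1 hy1P y2 hy2 hy2P => by
      rw [Subgroup.mem_centralizer_singleton_iff] at hy1P hy2P
      exact hno y1 hy1 y2 hy2 hy1P hy2P)
  omega

/-- double centralizer of a noncentral involution -/
lemma IsES.double_centralizer (h : IsES E z) {u w : G} (hu : u ∈ E) (huu : u * u = 1) (hw : w ∈ E)
    (hwc : ∀ y ∈ E, y * u = u * y → w * y = y * w) :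
    w = 1 ∨ w = z ∨ w = u ∨ w = u * z := by
  by_cases hcen : ∀ y ∈ E, w * y = y * w
  · rcases h.cen w hw hcen with h1 | h1
    · exact Or.inl h1
    · exact Or.inr (Or.inl h1)
  · push Not at hcen
    obtain ⟨y0, hy0, hwy0⟩ := hcen
    have hy0u : y0 * u ≠ u * y0 := fun h' => hwy0 (hwc y0 hy0 h')
    -- u * w is central
    have hc : ∀ y ∈ E, (u * w) * y = y * (u * w) := by
      intro y hy
      rw [h.comm_mul_left hu hw hy]
      by_cases hyu : y * u = u * y
      · exact iff_of_true hyu.symm (hwc y hy hyu)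
      · refine iff_of_false (fun h' => hyu h'.symm) ?_
        intro hwy
        -- then w commutes with y0 = y * (y⁻¹ * y0)
        have h1 : (y⁻¹ * y0) * u = u * (y⁻¹ * y0) := by
          rw [h.comm_mul_left (E.inv_mem hy) hy0 hu, comm_inv_left]
          exact iff_of_false hyu hy0u
        have h2 : w * (y⁻¹ * y0) = (y⁻¹ * y0) * w := hwc _ (E.mul_mem (E.inv_mem hy) hy0) h1
        apply hwy0
        calc w * y0 = (w * y) * (y⁻¹ * y0) := by group
          _ = (y * w) * (y⁻¹ * y0) := by rw [hwy]
          _ = y * (w * (y⁻¹ * y0)) := by group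
          _ = y * ((y⁻¹ * y0) * w) := by rw [h2]
          _ = y0 * w := by group
    have huinv : u⁻¹ = u := inv_eq_of_mul_eq_one_right huu
    rcases h.cen (u * w) (E.mul_mem hu hw) hc with h1 | h1
    · right; right; left
      have : w = u⁻¹ * (u * w) := by group
      rw [this, h1, huinv, mul_one]
    · right; right; right
      have : w = u⁻¹ * (u * w) := by group
      rw [this, h1, huinv]


/-- if `|E| > 8`, every "index two" subgroup misses an involution of `E` -/
lemma IsES.exists_involution_not_mem (h : IsES E z) (hcard : 8 < Nat.card E) (K : Subgroup G)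
    (hidx : ∀ x ∈ E, ∀ x' ∈ E, x ∉ K → x' ∉ K → x⁻¹ * x' ∈ K) (hne : ∃ x ∈ E, x ∉ K) :
    ∃ u ∈ E, u * u = 1 ∧ u ∉ K := by
  by_contra hno
  push Not at hno
  obtain ⟨x, hx, hxK⟩ := hne
  have hxx : x * x = z := by
    rcases h.sq hx with h1 | h1
    · exact absurd (hno x hx h1) hxK
    · exact h1
  have hxy : ∀ y ∈ E, y ∈ K → (x * y) * (x * y) = z := by
    intro y hy hyK
    have hnot : x * y ∉ K := by
      intro h'
      apply hxK
      have : x = (x * y) * y⁻¹ := by group
      rw [this]
      exact K.mul_mem h' (K.inv_mem hyK)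
    rcases h.sq (E.mul_mem hx hy) with h1 | h1
    · exact absurd (hno _ (E.mul_mem hx hy) h1) hnot
    · exact h1
  have hs : ∀ y ∈ E, y ∈ K → (y * y = 1 ↔ y * x = x * y) := by
    intro y hy hyK
    have h0 := hxy y hy hyK
    constructor
    · intro hyy
      by_contra hnc
      have h1 := h.nc hy hx hnc
      have : (x * y) * (x * y) = y * y := by
        calc (x * y) * (x * y) = x * (y * x) * y := by group
          _ = x * (z * (x * y)) * y := by rw [h1]
          _ = (x * z) * (x * y) * y := by group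
          _ = (z * x) * (x * y) * y := by rw [h.zc x hx]
          _ = z * (x * x) * (y * y) := by group
          _ = z * z * (y * y) := by rw [hxx]
          _ = y * y := by rw [h.zz, one_mul]
      rw [this, hyy] at h0
      exact h.z1 h0.symm
    · intro hc
      have : (x * y) * (x * y) = z * (y * y) := by
        calc (x * y) * (x * y) = x * (y * x) * y := by group
          _ = x * (x * y) * y := by rw [hc]
          _ = (x * x) * (y * y) := by group
          _ = z * (y * y) := by rw [hxx]
      rw [this] at h0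
      exact mul_eq_left.mp h0
  have hab : ∀ y1 ∈ E, y1 ∈ K → ∀ y2 ∈ E, y2 ∈ K → y1 * y2 = y2 * y1 := by
    intro y1 hy1 hy1K y2 hy2 hy2K
    by_contra hnc
    have h1 := h.nc hy1 hy2 hnc
    have h21 : y2 * y1 = z * (y1 * y2) := by
      rw [h1, ← mul_assoc, h.zz, one_mul]
    have hsq : (y1 * y2) * (y1 * y2) = z * ((y1 * y1) * (y2 * y2)) := by
      calc (y1 * y2) * (y1 * y2) = y1 * (y2 * y1) * y2 := by group
        _ = y1 * (z * (y1 * y2)) * y2 := by rw [h21]
        _ = (y1 * z) * (y1 * y2) * y2 := by group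
        _ = (z * y1) * (y1 * y2) * y2 := by rw [h.zc y1 hy1]
        _ = z * ((y1 * y1) * (y2 * y2)) := by group
    have hiff : ((y1 * y2) * (y1 * y2) = 1) ↔ ((y1 * y1 = 1) ↔ (y2 * y2 = 1)) := by
      rw [hs _ (E.mul_mem hy1 hy2) (K.mul_mem hy1K hy2K), h.comm_mul_left hy1 hy2 hx,
        hs y1 hy1 hy1K, hs y2 hy2 hy2K]
    have hz1 := h.z1
    have hzz := h.zz
    rcases h.sq hy1 with a1 | a1 <;> rcases h.sq hy2 with a2 | a2
    · rw [hsq, a1, a2] at hiff
      simp only [mul_one, iff_true] at hiff
      exact hz1 hiff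
    · rw [hsq, a1, a2] at hiff
      simp only [one_mul, hzz, true_iff] at hiff
      exact hz1 (by simpa using hiff)
    · rw [hsq, a1, a2] at hiff
      simp only [mul_one, hzz, iff_true] at hiff
      exact hz1 (by simpa using hiff)
    · rw [hsq, a1, a2, hzz, mul_one] at hiff
      have : (z = 1 ↔ z = 1) := Iff.rfl
      exact hz1 (hiff.mpr this)
  have := h.card_le_eight_of_abelian K x hx
    (fun e he => by
      by_cases heK : e ∈ K
      · exact Or.inl heK
      · exact Or.inr (hidx x hx e he hxK heK))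
    hab
  omega

/-- an element of `G` normalizing `E`, centralizing `z` and `C_E(u)` lies in `⟨u, z⟩`. -/
lemma IsES.centralizer_analysis (h : IsES E z) (hcent : ∀ c : G, (∀ e ∈ E, c * e = e * c) → c ∈ E)
    {u b : G} (hu : u ∈ E) (huu : u * u = 1) (hu1 : u ≠ 1) (huz : u ≠ z)
    (hbE : ∀ e ∈ E, b⁻¹ * e * b ∈ E) (hbz : b * z = z * b)
    (hbR : ∀ y ∈ E, y * u = u * y → b * y = y * b) :
    b = 1 ∨ b = z ∨ b = u ∨ b = u * z := by
  obtain ⟨x, hx, hxu⟩ := h.exists_nc hu hu1 huz
  have huinv : u⁻¹ = u := inv_eq_of_mul_eq_one_right huu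
  set x' := b⁻¹ * x * b with hx'def
  have hx' : x' ∈ E := hbE x hx
  set w := x⁻¹ * x' with hwdef
  have hw : w ∈ E := E.mul_mem (E.inv_mem hx) hx'
  have hxw : x' = x * w := by rw [hwdef]; group
  -- w centralizes C_E(u)
  have hwc : ∀ y ∈ E, y * u = u * y → w * y = y * w := by
    intro y hy hyu
    have hby := hbR y hy hyu
    have hbinv : b⁻¹ * y = y * b⁻¹ := by
      rw [comm_inv_left]; exact hby
    have hiff : (x' * y = y * x') ↔ (x * y = y * x) := by
      constructor
      · intro h1
        have : b * (x' * y) * b⁻¹ = b * (y * x') * b⁻¹ := by rw [h1]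
        rw [hx'def] at this
        have e1 : b * (b⁻¹ * x * b * y) * b⁻¹ = x * (b * y) * b⁻¹ := by group
        have e2 : b * (y * (b⁻¹ * x * b)) * b⁻¹ = (b * y) * b⁻¹ * x := by group
        rw [e1, e2, hby] at this
        have e3 : x * (y * b) * b⁻¹ = x * y := by group
        have e4 : y * b * b⁻¹ * x = y * x := by group
        rw [e3, e4] at this
        exact this
      · intro h1
        rw [hx'def]
        calc b⁻¹ * x * b * y = b⁻¹ * x * (b * y) := by group
          _ = b⁻¹ * x * (y * b) := by rw [hby]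
          _ = b⁻¹ * (x * y) * b := by group
          _ = b⁻¹ * (y * x) * b := by rw [h1]
          _ = (b⁻¹ * y) * x * b := by group
          _ = (y * b⁻¹) * x * b := by rw [hbinv]
          _ = y * (b⁻¹ * x * b) := by group
    rw [hwdef, h.comm_mul_left (E.inv_mem hx) hx' hy, comm_inv_left, hiff]
  -- squares
  have hxx_b : b * (x * x) = (x * x) * b := by
    rcases h.sq hx with h1 | h1
    · rw [h1]; simp
    · rw [h1]; exact hbz
  have hsq : x' * x' = x * x := by
    rw [hx'def]
    calc b⁻¹ * x * b * (b⁻¹ * x * b) = b⁻¹ * ((x * x) * b) := by group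
      _ = b⁻¹ * (b * (x * x)) := by rw [hxx_b]
      _ = x * x := by group
  have hxu' := h.nc hx hu hxu
  have hux : u * x = z * (x * u) := by
    rw [hxu', ← mul_assoc, h.zz, one_mul]
  have hxuxu : (x * u) * (x * u) = z * (x * x) := by
    calc (x * u) * (x * u) = x * (u * x) * u := by group
      _ = x * (z * (x * u)) * u := by rw [hux]
      _ = (x * z) * x * (u * u) := by group
      _ = (z * x) * x * (u * u) := by rw [h.zc x hx]
      _ = z * (x * x) := by rw [huu]; group
  have hzne : z * (x * x) ≠ x * x := h.z_ne _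
  -- every element of E is in C_E(u) or x * C_E(u)
  have hgen : ∀ c : G, c * x = x * c → (∀ y ∈ E, y * u = u * y → c * y = y * c) →
      ∀ e ∈ E, c * e = e * c := by
    intro c hcx hcR e he
    rcases h.idx_centralizer hu hx he hxu with h1 | h1
    · exact hcR e he h1
    · have h2 := hcR _ (E.mul_mem (E.inv_mem hx) he) h1
      calc c * e = (c * x) * (x⁻¹ * e) := by group
        _ = (x * c) * (x⁻¹ * e) := by rw [hcx]
        _ = x * (c * (x⁻¹ * e)) := by group
        _ = x * ((x⁻¹ * e) * c) := by rw [h2]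
        _ = e * c := by group
  rcases h.double_centralizer hu huu hw hwc with h1 | h1 | h1 | h1
  · -- w = 1 : b centralizes x
    have hbx : b * x = x * b := by
      have : x' = x := by rw [hxw, h1, mul_one]
      rw [hx'def] at this
      calc b * x = b * (b⁻¹ * x * b) := by rw [this]
        _ = x * b := by group
    have hbc := hgen b hbx hbR
    rcases h.cen b (hcent b hbc) hbc with h2 | h2
    · exact Or.inl h2
    · exact Or.inr (Or.inl h2)
  · -- w = z
    have hx'z : b⁻¹ * x * b = x * z := by rw [← hx'def, hxw, h1]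
    have hcx : (b * u) * x = x * (b * u) := by
      have hb1 : x * b = b * (x * z) := by rw [← hx'z]; group
      calc (b * u) * x = b * (u * x) := by group
        _ = b * (z * (x * u)) := by rw [hux]
        _ = b * ((z * x) * u) := by group
        _ = b * ((x * z) * u) := by rw [h.zc x hx]
        _ = (b * (x * z)) * u := by group
        _ = (x * b) * u := by rw [hb1]
        _ = x * (b * u) := by group
    have hcR : ∀ y ∈ E, y * u = u * y → (b * u) * y = y * (b * u) := by
      intro y hy hyu
      calc (b * u) * y = b * (u * y) := by group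
        _ = b * (y * u) := by rw [hyu]
        _ = (b * y) * u := by group
        _ = (y * b) * u := by rw [hbR y hy hyu]
        _ = y * (b * u) := by group
    have hbc := hgen (b * u) hcx hcR
    rcases h.cen (b * u) (hcent _ hbc) hbc with h2 | h2
    · right; right; left
      have : b = (b * u) * u⁻¹ := by group
      rw [this, h2, huinv, one_mul]
    · right; right; right
      have : b = (b * u) * u⁻¹ := by group
      rw [this, h2, huinv, h.zc u hu]
  · -- w = u : impossible
    exfalso
    rw [hxw, h1, hxuxu] at hsq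
    exact hzne hsq
  · -- w = u z : impossible
    exfalso
    have : (x * (u * z)) * (x * (u * z)) = z * (x * x) := by
      calc (x * (u * z)) * (x * (u * z)) = (x * u) * (z * x) * (u * z) := by group
        _ = (x * u) * (x * z) * (u * z) := by rw [h.zc x hx]
        _ = (x * u) * x * (z * u) * z := by group
        _ = (x * u) * x * (u * z) * z := by rw [h.zc u hu]
        _ = (x * u) * (x * u) * (z * z) := by group
        _ = z * (x * x) := by rw [h.zz, mul_one, hxuxu]
    rw [hxw, h1, this] at hsq
    exact hzne hsq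

end Cfsg.Agent.Helper17.ES
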