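import Mathlib

/-! Restriction of a permutation representation on `ℕ` that preserves `{i | i < N}` to `Fin N`, and
transport of "simple of order `n`" along injective homomorphisms. -/

set_option autoImplicit false

namespace Cfsg.Agent.Helper17.PermFin

variable {G : Type*} [Group G]

/-- restriction to `Fin N` of a representation by permutations of `ℕ` preserving `{i | i < N}`. -/
def restrictFin (N : ℕ) (phi : G →* Equiv.Perm ℕ) (hlt : ∀ g i, i < N → phi g i < N) :
    G →* Equiv.Perm (Fin N) where
  toFun g :=
    { toFun := fun i => ⟨phi g i, hlt g i i.2⟩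
      invFun := fun i => ⟨phi g⁻¹ i, hlt g⁻¹ i i.2⟩
      left_inv := fun i => by
        apply Fin.ext
        show phi g⁻¹ (phi g i) = i
        rw [← Equiv.Perm.mul_apply, ← map_mul, inv_mul_cancel, map_one, Equiv.Perm.one_apply]
      right_inv := fun i => by
        apply Fin.ext
        show phi g (phi g⁻¹ i) = i
        rw [← Equiv.Perm.mul_apply, ← map_mul, mul_inv_cancel, map_one, Equiv.Perm.one_apply] }
  map_one' := by
    ext i
    show phi 1 i = i
    rw [map_one, Equiv.Perm.one_apply]
  map_mul' g h := by
    ext i
    show phi (g * h) i = phi g (phi h i)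
    rw [map_mul, Equiv.Perm.mul_apply]

theorem restrictFin_apply (N : ℕ) (phi : G →* Equiv.Perm ℕ) (hlt : ∀ g i, i < N → phi g i < N)
    (g : G) (i : Fin N) : ((restrictFin N phi hlt g) i : ℕ) = phi g i := rfl

theorem restrictFin_injective (N : ℕ) (phi : G →* Equiv.Perm ℕ)
    (hlt : ∀ g i, i < N → phi g i < N) (hge : ∀ g i, N ≤ i → phi g i = i)
    (hinj : Function.Injective phi) : Function.Injective (restrictFin N phi hlt) := by
  rw [injective_iff_map_eq_one]
  intro g hg
  apply hinj
  rw [map_one]
  ext i
  rw [Equiv.Perm.one_apply]
  by_cases hi : i < N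
  · have := congrArg (fun p : Equiv.Perm (Fin N) => ((p ⟨i, hi⟩ : Fin N) : ℕ)) hg
    simpa [restrictFin_apply] using this
  · exact hge g i (not_lt.mp hi)

/-- the range of an injective homomorphism from a simple group of order `n` is simple of
order `n`. -/
theorem range_simple_card {A B : Type*} [Group A] [Group B] (f : A →* B)
    (hf : Function.Injective f) [IsSimpleGroup A] {n : ℕ} (hn : Nat.card A = n) :
    IsSimpleGroup f.range ∧ Nat.card f.range = n := by
  have e : A ≃* f.range := MonoidHom.ofInjective hf
  exact ⟨e.symm.isSimpleGroup, by rw [← hn]; exact Nat.card_congr e.symm.toEquiv⟩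

/-- a homomorphism from a simple group that does not kill some element is injective. -/
theorem injective_of_simple {A B : Type*} [Group A] [Group B] (f : A →* B) [IsSimpleGroup A]
    {a : A} (ha : f a ≠ 1) : Function.Injective f := by
  rw [← MonoidHom.ker_eq_bot_iff]
  rcases (MonoidHom.normal_ker f).eq_bot_or_eq_top with h | h
  · exact h
  · exfalso
    apply ha
    rw [← MonoidHom.mem_ker, h]
    exact Subgroup.mem_top a

end Cfsg.Agent.Helper17.PermFin
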