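import Mathlib

/-!
# An irreducible endomorphism of prime order on a finite `ZMod p`-space

`τ` of prime order `q` acting irreducibly on `V` with `|V| = p ^ d`:
* `q ∤ p ^ i - 1` for `0 < i < d`;
* a linear automorphism conjugating `τ` to `τ ^ m` forces `m ≡ p ^ j (mod q)`;
* an endomorphism commuting with `τ` and fixing a non-zero vector is the identity.
-/

set_option autoImplicit false

namespace Cfsg.Agent.Helper17

open Polynomial

section IrredCyclic

variable {p : ℕ} [hpF : Fact p.Prime] {V : Type*} [AddCommGroup V] [Module (ZMod p) V]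

/-- the kernel ideal of evaluation at `τ`. -/
noncomputable def evKer (τ : Module.End (ZMod p) V) : Ideal (ZMod p)[X] :=
  RingHom.ker (aeval τ : (ZMod p)[X] →ₐ[ZMod p] Module.End (ZMod p) V).toRingHom

lemma mem_evKer {τ : Module.End (ZMod p) V} {g : (ZMod p)[X]} :
    g ∈ evKer τ ↔ aeval τ g = 0 := by
  unfold evKer
  rw [RingHom.mem_ker]
  rfl

/-- irreducibility of an endomorphism. -/
def IrredEnd (τ : Module.End (ZMod p) V) : Prop :=
  ∀ W : Submodule (ZMod p) V, (∀ w ∈ W, τ w ∈ W) → W = ⊥ ∨ W = ⊤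

lemma aeval_comm_apply (τ : Module.End (ZMod p) V) (g : (ZMod p)[X]) (w : V) :
    (aeval τ g) (τ w) = τ ((aeval τ g) w) := by
  have hc : aeval τ g * τ = τ * aeval τ g := by
    have h : aeval τ (g * X) = aeval τ (X * g) := by rw [mul_comm]
    simpa [map_mul, aeval_X] using h
  have := congrArg (fun f : Module.End (ZMod p) V => f w) hc
  simpa [Module.End.mul_apply] using this

lemma aeval_injective_of_ne_zero {τ : Module.End (ZMod p) V} (hirr : IrredEnd τ)
    {g : (ZMod p)[X]} (hg : aeval τ g ≠ 0) : Function.Injective (aeval τ g) := by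
  have hW := hirr (LinearMap.ker (aeval τ g)) (fun w hw => by
    rw [LinearMap.mem_ker] at hw ⊢
    rw [aeval_comm_apply, hw, map_zero])
  rcases hW with h | h
  · exact LinearMap.ker_eq_bot.mp h
  · exact absurd (LinearMap.ker_eq_top.mp h) hg

lemma evKer_isPrime [Nontrivial V] {τ : Module.End (ZMod p) V} (hirr : IrredEnd τ) :
    (evKer τ).IsPrime := by
  refine ⟨?_, ?_⟩
  · rw [Ideal.ne_top_iff_one]
    intro h
    rw [mem_evKer, map_one] at h
    obtain ⟨v, hv⟩ := exists_ne (0 : V)
    apply hv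
    have := congrArg (fun f : Module.End (ZMod p) V => f v) h
    simpa using this
  · intro a b hab
    rw [mem_evKer, map_mul] at hab
    by_contra hcon
    push Not at hcon
    have ha := aeval_injective_of_ne_zero hirr (fun h => hcon.1 (mem_evKer.mpr h))
    apply hcon.2
    rw [mem_evKer]
    ext v
    apply ha
    have := congrArg (fun f : Module.End (ZMod p) V => f v) hab
    simpa [Module.End.mul_apply] using this

lemma aeval_mk (I : Ideal (ZMod p)[X]) (g : (ZMod p)[X]) :
    aeval (Ideal.Quotient.mk I X) g = Ideal.Quotient.mk I g := by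
  have h := Polynomial.aeval_algHom_apply (Ideal.Quotient.mkₐ (ZMod p) I) (X : (ZMod p)[X]) g
  rw [aeval_X_left_apply] at h
  exact h

/-- Frobenius on polynomial values over `ZMod p`. -/
lemma aeval_pow_char {Q : Type*} [CommRing Q] [Algebra (ZMod p) Q] (x : Q) (g : (ZMod p)[X]) :
    (aeval x g) ^ p = aeval (x ^ p) g := by
  rw [← map_pow, ← ZMod.expand_card, expand_aeval]

lemma aeval_pow_char_pow {Q : Type*} [CommRing Q] [Algebra (ZMod p) Q] (x : Q)
    (g : (ZMod p)[X]) (i : ℕ) : (aeval x g) ^ (p ^ i) = aeval (x ^ (p ^ i)) g := by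
  induction i with
  | zero => simp
  | succ n ih => rw [pow_succ, pow_mul, ih, aeval_pow_char, ← pow_mul]

lemma mk_eq_mk_iff {τ : Module.End (ZMod p) V} {g h : (ZMod p)[X]} :
    Ideal.Quotient.mk (evKer τ) g = Ideal.Quotient.mk (evKer τ) h ↔ aeval τ g = aeval τ h := by
  rw [Ideal.Quotient.eq, mem_evKer, map_sub, sub_eq_zero]

lemma finite_end [Finite V] : Finite (Module.End (ZMod p) V) :=
  Finite.of_injective (fun f : Module.End (ZMod p) V => (f : V → V)) DFunLike.coe_injective

lemma finite_quot [Finite V] (τ : Module.End (ZMod p) V) : Finite ((ZMod p)[X] ⧸ evKer τ) := by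
  haveI := finite_end (p := p) (V := V)
  unfold evKer
  exact Finite.of_injective _ (RingHom.kerLift_injective
    (aeval τ : (ZMod p)[X] →ₐ[ZMod p] Module.End (ZMod p) V).toRingHom)

/-- `V` is a cyclic module: `|V| ≤ |F_p[τ]|`. -/
lemma card_le_card_quot [Finite V] [Nontrivial V] {τ : Module.End (ZMod p) V}
    (hirr : IrredEnd τ) : Nat.card V ≤ Nat.card ((ZMod p)[X] ⧸ evKer τ) := by
  obtain ⟨v₀, hv₀⟩ := exists_ne (0 : V)
  let L : (ZMod p)[X] →ₗ[ZMod p] V :=
    { toFun := fun g => aeval τ g v₀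
      map_add' := fun g h => by simp
      map_smul' := fun c g => by simp }
  have hL : ∀ g, L g = aeval τ g v₀ := fun g => rfl
  have hW := hirr (LinearMap.range L) (by
    rintro w ⟨g, rfl⟩
    refine ⟨X * g, ?_⟩
    rw [hL, hL, map_mul, aeval_X, Module.End.mul_apply])
  have htop : LinearMap.range L = ⊤ := by
    rcases hW with h | h
    · exfalso
      apply hv₀
      have : v₀ ∈ LinearMap.range L := ⟨1, by rw [hL, map_one]; rfl⟩
      rw [h] at this
      exact (Submodule.mem_bot _).mp this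
    · exact h
  have hsurj : ∀ v : V, ∃ g : (ZMod p)[X], aeval τ g v₀ = v := by
    intro v
    have : v ∈ LinearMap.range L := by rw [htop]; trivial
    obtain ⟨g, hg⟩ := this
    exact ⟨g, hg⟩
  choose G hG using hsurj
  haveI := finite_quot τ
  apply Nat.card_le_card_of_injective (fun v => Ideal.Quotient.mk (evKer τ) (G v))
  intro v w hvw
  have h := mk_eq_mk_iff.mp hvw
  rw [← hG v, ← hG w, h]

/-- a finite commutative domain over `ZMod p` all of whose elements satisfy `y ^ p ^ i = y` has at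
most `p ^ i` elements. -/
lemma card_le_of_forall_pow_eq {Q : Type*} [CommRing Q] [IsDomain Q] [Finite Q] {i : ℕ}
    (hi0 : i ≠ 0) (h : ∀ y : Q, y ^ (p ^ i) = y) : Nat.card Q ≤ p ^ i := by
  classical
  haveI := Fintype.ofFinite Q
  have hp : p.Prime := hpF.out
  have hn : 1 < p ^ i := Nat.one_lt_pow hi0 hp.one_lt
  have hdeg : (X ^ p ^ i - X : Q[X]).natDegree = p ^ i := by
    rw [natDegree_sub_eq_left_of_natDegree_lt, natDegree_X_pow]
    rw [natDegree_X, natDegree_X_pow]; exact hn
  have hne : (X ^ p ^ i - X : Q[X]) ≠ 0 := by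
    apply ne_zero_of_natDegree_gt (n := 0)
    rw [hdeg]; omega
  have hsub : (Finset.univ : Finset Q) ⊆ (X ^ p ^ i - X : Q[X]).roots.toFinset := by
    intro y _
    rw [Multiset.mem_toFinset, mem_roots hne, IsRoot.def, eval_sub, eval_pow, eval_X, h y,
      sub_self]
  calc Nat.card Q = (Finset.univ : Finset Q).card := by
        rw [Nat.card_eq_fintype_card, Finset.card_univ]
    _ ≤ (X ^ p ^ i - X : Q[X]).roots.toFinset.card := Finset.card_le_card hsub
    _ ≤ Multiset.card (X ^ p ^ i - X : Q[X]).roots := Multiset.toFinset_card_le _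
    _ ≤ (X ^ p ^ i - X : Q[X]).natDegree := card_roots' _
    _ = p ^ i := hdeg

theorem not_dvd_of_irred [Finite V] [Nontrivial V] {τ : Module.End (ZMod p) V}
    (hirr : IrredEnd τ) {q d : ℕ} (hτq : τ ^ q = 1) (hcard : Nat.card V = p ^ d) {i : ℕ}
    (hi0 : 0 < i) (hid : i < d) (hqi : q ∣ p ^ i - 1) : False := by
  have hp : p.Prime := hpF.out
  haveI := evKer_isPrime hirr
  haveI := finite_quot τ
  -- τ ^ p ^ i = τ
  obtain ⟨s, hs⟩ := hqi
  have hpi : p ^ i = 1 + q * s := by
    have : 1 ≤ p ^ i := Nat.one_le_pow _ _ hp.pos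
    omega
  have hτ : τ ^ (p ^ i) = τ := by
    rw [hpi, pow_add, pow_one, pow_mul, hτq, one_pow, mul_one]
  have hx : (Ideal.Quotient.mk (evKer τ) X) ^ (p ^ i) = Ideal.Quotient.mk (evKer τ) X := by
    rw [← map_pow, mk_eq_mk_iff, map_pow, aeval_X, hτ]
  have hall : ∀ y : (ZMod p)[X] ⧸ evKer τ, y ^ (p ^ i) = y := by
    intro y
    obtain ⟨g, rfl⟩ := Ideal.Quotient.mk_surjective y
    rw [← aeval_mk, aeval_pow_char_pow, hx]
  have h1 := card_le_of_forall_pow_eq (p := p) hi0.ne' hall
  have h2 := card_le_card_quot hirr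
  rw [hcard] at h2
  have h3 : p ^ i < p ^ d := Nat.pow_lt_pow_right hp.one_lt hid
  omega

theorem pow_conj_of_irred [Finite V] [Nontrivial V] {τ : Module.End (ZMod p) V}
    (hirr : IrredEnd τ) {q d : ℕ} (hq : q.Prime) (hτq : τ ^ q = 1) (hτ1 : τ ≠ 1)
    (hcard : Nat.card V = p ^ d) (hqd : q ∣ p ^ d - 1) (s : V ≃ₗ[ZMod p] V) {m : ℕ}
    (hs : s.conj τ = τ ^ m) : ∃ j : ℕ, (m : ZMod q) = (p : ZMod q) ^ j := by
  classical
  have hp : p.Prime := hpF.out
  haveI := evKer_isPrime hirr
  haveI := finite_quot τ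
  have hd0 : 0 < d := by
    rcases Nat.eq_zero_or_pos d with h | h
    · exfalso
      rw [h, pow_zero] at hcard
      have := Finite.one_lt_card (α := V)
      omega
    · exact h
  have hqp : ¬ q ∣ p := by
    intro h
    have h1 : q ∣ p ^ d := dvd_pow h hd0.ne'
    have h2 : 1 ≤ p ^ d := Nat.one_le_pow _ _ hp.pos
    have h3 : q ∣ p ^ d - (p ^ d - 1) := Nat.dvd_sub h1 hqd
    have h4 : p ^ d - (p ^ d - 1) = 1 := by omega
    rw [h4] at h3
    exact hq.one_lt.ne' (Nat.dvd_one.mp h3)
  have hfin : Module.finrank (ZMod p) V = d := by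
    have h1 := Module.natCard_eq_pow_finrank (K := ZMod p) (V := V)
    rw [Nat.card_zmod, hcard] at h1
    exact (Nat.pow_right_injective hp.two_le h1).symm
  set f := τ.charpoly with hf
  have hfdeg : f.natDegree = d := by rw [hf, LinearMap.charpoly_natDegree, hfin]
  have hfmonic : f.Monic := LinearMap.charpoly_monic τ
  have hfτ : aeval τ f = 0 := LinearMap.aeval_self_charpoly τ
  have hfτm : aeval (τ ^ m) f = 0 := by
    have h1 : (τ ^ m).charpoly = f := by rw [← hs, LinearEquiv.charpoly_conj]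
    rw [← h1]; exact LinearMap.aeval_self_charpoly _
  set Q := (ZMod p)[X] ⧸ evKer τ
  set x : Q := Ideal.Quotient.mk (evKer τ) X with hxdef
  have hxq : x ^ q = 1 := by
    rw [hxdef, ← map_pow, ← map_one (Ideal.Quotient.mk (evKer τ)), mk_eq_mk_iff, map_pow, aeval_X,
      hτq, map_one]
  have hx1 : x ≠ 1 := by
    intro h
    apply hτ1
    rw [hxdef, ← map_one (Ideal.Quotient.mk (evKer τ)), mk_eq_mk_iff, aeval_X, map_one] at h
    exact h
  haveI : Fact q.Prime := ⟨hq⟩
  have hxo : orderOf x = q := orderOf_eq_prime hxq hx1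
  have hx0 : ∀ a : ℕ, x ^ a ≠ 0 := by
    intro a h
    have h1 : (x ^ a) ^ q = 1 := by rw [← pow_mul, mul_comm, pow_mul, hxq, one_pow]
    rw [h, zero_pow hq.ne_zero] at h1
    exact zero_ne_one h1
  have hpow_eq : ∀ a b : ℕ, a ≤ b → x ^ a = x ^ b → q ∣ b - a := by
    intro a b hab h
    have h1 : x ^ a * (x ^ (b - a) - 1) = 0 := by
      rw [mul_sub, ← pow_add, Nat.add_sub_cancel' hab, mul_one, h, sub_self]
    rcases mul_eq_zero.mp h1 with h2 | h2
    · exact absurd h2 (hx0 a)
    · rw [← hxo]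
      exact orderOf_dvd_of_pow_eq_one (sub_eq_zero.mp h2)
  -- roots
  have hroot0 : aeval x f = 0 := by
    rw [hxdef, aeval_mk, ← map_zero (Ideal.Quotient.mk (evKer τ)), mk_eq_mk_iff, hfτ, map_zero]
  have hroot : ∀ j : ℕ, aeval (x ^ (p ^ j)) f = 0 := by
    intro j
    rw [← aeval_pow_char_pow, hroot0, zero_pow]
    exact (pow_pos hp.pos j).ne'
  have hrootm : aeval (x ^ m) f = 0 := by
    have h1 : aeval τ (f.comp (X ^ m)) = 0 := by
      rw [aeval_comp, map_pow, aeval_X, hfτm]
    have h2 : aeval x (f.comp (X ^ m)) = 0 := by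
      rw [hxdef, aeval_mk, ← map_zero (Ideal.Quotient.mk (evKer τ)), mk_eq_mk_iff, h1, map_zero]
    rw [aeval_comp, map_pow, aeval_X] at h2
    exact h2
  -- the polynomial over Q
  set fQ : Q[X] := f.map (algebraMap (ZMod p) Q) with hfQ
  have hfQmonic : fQ.Monic := hfmonic.map _
  have hfQne : fQ ≠ 0 := hfQmonic.ne_zero
  have hfQdeg : fQ.natDegree = d := by rw [hfQ, hfmonic.natDegree_map, hfdeg]
  have hmemroots : ∀ y : Q, aeval y f = 0 → y ∈ fQ.roots.toFinset := by
    intro y hy
    rw [Multiset.mem_toFinset, mem_roots hfQne, IsRoot.def, hfQ, eval_map_algebraMap]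
    exact hy
  -- injectivity of j ↦ x ^ p ^ j on range d
  have hinj : Set.InjOn (fun j : ℕ => x ^ (p ^ j)) (Finset.range d : Set ℕ) := by
    have key : ∀ j j' : ℕ, j < j' → j' < d → x ^ (p ^ j) ≠ x ^ (p ^ j') := by
      intro j j' hjj' hj'd h
      have hle : p ^ j ≤ p ^ j' := Nat.pow_le_pow_right hp.pos hjj'.le
      have h1 := hpow_eq _ _ hle h
      have h2 : p ^ j' - p ^ j = p ^ j * (p ^ (j' - j) - 1) := by
        rw [Nat.mul_sub, mul_one, ← pow_add, Nat.add_sub_cancel' hjj'.le]
      rw [h2] at h1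
      have h3 : q ∣ p ^ (j' - j) - 1 := by
        rcases (Nat.Prime.dvd_mul hq).mp h1 with h4 | h4
        · exact absurd (hq.dvd_of_dvd_pow h4) hqp
        · exact h4
      exact not_dvd_of_irred hirr hτq hcard (by omega) (by omega) h3
    intro j hj j' hj' h
    simp only [Finset.coe_range, Set.mem_Iio] at hj hj'
    by_contra hne
    rcases Nat.lt_or_gt_of_ne hne with hlt | hlt
    · exact key j j' hlt hj' h
    · exact key j' j hlt hj h.symm
  set S : Finset Q := (Finset.range d).image (fun j : ℕ => x ^ (p ^ j)) with hS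
  have hScard : S.card = d := by
    rw [hS, Finset.card_image_of_injOn hinj, Finset.card_range]
  have hSsub : S ⊆ fQ.roots.toFinset := by
    intro y hy
    rw [hS, Finset.mem_image] at hy
    obtain ⟨j, -, rfl⟩ := hy
    exact hmemroots _ (hroot j)
  have hrootscard : fQ.roots.toFinset.card ≤ d := by
    calc fQ.roots.toFinset.card ≤ Multiset.card fQ.roots := Multiset.toFinset_card_le _
      _ ≤ fQ.natDegree := card_roots' _
      _ = d := hfQdeg
  have hSeq : S = fQ.roots.toFinset :=
    Finset.eq_of_subset_of_card_le hSsub (by rw [hScard]; exact hrootscard)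
  have hxm : x ^ m ∈ S := by rw [hSeq]; exact hmemroots _ hrootm
  rw [hS, Finset.mem_image] at hxm
  obtain ⟨j, -, hj⟩ := hxm
  refine ⟨j, ?_⟩
  rw [← Nat.cast_pow, ZMod.natCast_eq_natCast_iff]
  rcases le_total m (p ^ j) with hle | hle
  · have := hpow_eq _ _ hle hj.symm
    exact ((Nat.modEq_iff_dvd' hle).mpr this)
  · have := hpow_eq _ _ hle hj
    exact ((Nat.modEq_iff_dvd' hle).mpr this).symm

theorem eq_one_of_commute_of_fixed {τ : Module.End (ZMod p) V} (hirr : IrredEnd τ)
    {c : Module.End (ZMod p) V} (hc : c * τ = τ * c) {v : V} (hv : v ≠ 0) (hcv : c v = v) :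
    c = 1 := by
  have hW := hirr (LinearMap.ker (c - 1)) (fun w hw => by
    rw [LinearMap.mem_ker, LinearMap.sub_apply, sub_eq_zero] at hw ⊢
    have := congrArg (fun f : Module.End (ZMod p) V => f w) hc
    simp only [Module.End.mul_apply] at this
    rw [Module.End.one_apply] at hw ⊢
    rw [this, hw])
  rcases hW with h | h
  · exfalso
    apply hv
    have : v ∈ LinearMap.ker (c - 1) := by
      rw [LinearMap.mem_ker, LinearMap.sub_apply, hcv, Module.End.one_apply, sub_self]
    rw [h] at this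
    exact (Submodule.mem_bot _).mp this
  · exact sub_eq_zero.mp (LinearMap.ker_eq_top.mp h)

end IrredCyclic

end Cfsg.Agent.Helper17
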