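import Mathlib
import Cfsg.Agent.Helper18.K2P.Defs
import Cfsg.Agent.Helper18.K2P.Defs2
import Cfsg.Agent.Helper18.K2P.QB
import Cfsg.Agent.Helper18.K2P.RACT
import Cfsg.Agent.Helper18.K2P.STAB

set_option autoImplicit false
set_option linter.unusedSectionVars false
set_option linter.unusedVariables false

/-! # K2P piece A-YNOTH (helper17): a product of two commuting reflections in INDEPENDENT vectors, one of which has all
block components nonzero, does not permute the blocks (`t ≥ 3`).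

The extra hypothesis `hind` (`u'` is not a multiple of `u`) is necessary in characteristic 2 (`r_u r_{κ u} = 1`). -/

namespace Cfsg.Agent.K2P

open Matrix Cfsg.Agent.OC2P Cfsg.Agent.Helper28.Sg Cfsg.Agent.Helper28.Spin
  Cfsg.Agent.Helper12.OrthGen Cfsg.Agent.K2M

variable {F : Type*} [Field F] [Fintype F] {t : ℕ} {Q : QuadraticForm F (Fin t × Fin 2 → F)}
  {q : QuadraticForm F (Fin 2 → F)} {e f : Fin 2 → F} {M : Subgroup (OG Q)}

/-- a third index -/
theorem YNOTH17.exists_third (ht : 3 ≤ t) (a b : Fin t) : ∃ c : Fin t, c ≠ a ∧ c ≠ b := by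
  by_contra hcon
  push Not at hcon
  have h0 := hcon ⟨0, by omega⟩
  have h1 := hcon ⟨1, by omega⟩
  have h2 := hcon ⟨2, by omega⟩
  have e0 : ∀ c : Fin t, (c ≠ a → c = b) := hcon
  by_cases ha0 : (⟨0, by omega⟩ : Fin t) = a
  · by_cases ha1 : (⟨1, by omega⟩ : Fin t) = a
    · rw [← ha0] at ha1
      simp [Fin.ext_iff] at ha1
    · have hb1 := h1 ha1
      by_cases ha2 : (⟨2, by omega⟩ : Fin t) = a
      · rw [← ha0] at ha2
        simp [Fin.ext_iff] at ha2
      · have hb2 := h2 ha2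
        rw [← hb1] at hb2
        simp [Fin.ext_iff] at hb2
  · have hb0 := h0 ha0
    by_cases ha1 : (⟨1, by omega⟩ : Fin t) = a
    · by_cases ha2 : (⟨2, by omega⟩ : Fin t) = a
      · rw [← ha1] at ha2
        simp [Fin.ext_iff] at ha2
      · have hb2 := h2 ha2
        rw [← hb0] at hb2
        simp [Fin.ext_iff] at hb2
    · have hb1 := h1 ha1
      rw [← hb0] at hb1
      simp [Fin.ext_iff] at hb1

/-- the action of `r_u r_u'` for `u ⊥ u'` -/
theorem YNOTH17.act {u u' : Fin t × Fin 2 → F} (hu : Q u ≠ 0) (hu' : Q u' ≠ 0) (huu' : B Q u u' = 0)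
    (x : Fin t × Fin 2 → F) :
    mt Q (reflO Q u hu * reflO Q u' hu') *ᵥ x
      = x - ((Q u')⁻¹ * B Q u' x) • u' - ((Q u)⁻¹ * B Q u x) • u := by
  rw [mt_mul_mulVec, RACT.mulVec u' hu' x, RACT.mulVec u hu]
  have : B Q u (x - ((Q u')⁻¹ * B Q u' x) • u') = B Q u x := by
    show QuadraticMap.polar ⇑Q u (x - ((Q u')⁻¹ * B Q u' x) • u') = QuadraticMap.polar ⇑Q u x
    rw [QuadraticMap.polar_sub_right, QuadraticMap.polar_smul_right]
    have h0 : QuadraticMap.polar ⇑Q u u' = 0 := huu'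
    rw [h0, smul_zero, sub_zero]
  rw [this]

/-- if `φ z = 1 → ψ z ≠ 0` for the functionals `φ = polar a ·`, `ψ = polar a' ·` with `a ≠ 0`, then `a' = κ • a` -/
theorem YNOTH17.prop (bm : BM0 Q q) {a a' : Fin 2 → F} (ha : a ≠ 0)
    (h : ∀ z, QuadraticMap.polar ⇑q a z = 1 → QuadraticMap.polar ⇑q a' z ≠ 0) :
    ∃ κ : F, a' = κ • a := by
  obtain ⟨z₀, hz₀⟩ := QB.exists_polar_ne bm ha
  have hker : ∀ z, QuadraticMap.polar ⇑q a z = 0 → QuadraticMap.polar ⇑q a' z = 0 := by
    intro z hz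
    by_contra hne
    apply h (z₀ - (QuadraticMap.polar ⇑q a' z₀ / QuadraticMap.polar ⇑q a' z) • z)
    · rw [QuadraticMap.polar_sub_right, QuadraticMap.polar_smul_right, hz, hz₀, smul_zero, sub_zero]
    · rw [QuadraticMap.polar_sub_right, QuadraticMap.polar_smul_right, smul_eq_mul,
        div_mul_cancel₀ _ hne, sub_self]
  refine ⟨QuadraticMap.polar ⇑q a' z₀, ?_⟩
  have hzero : a' - (QuadraticMap.polar ⇑q a' z₀) • a = 0 := by
    apply bm.ndq.1
    intro z
    rw [QuadraticMap.polarBilin_apply_apply, QuadraticMap.polar_sub_left, QuadraticMap.polar_smul_left,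
      smul_eq_mul]
    have hz : QuadraticMap.polar ⇑q a (z - (QuadraticMap.polar ⇑q a z) • z₀) = 0 := by
      rw [QuadraticMap.polar_sub_right, QuadraticMap.polar_smul_right, hz₀, smul_eq_mul, mul_one, sub_self]
    have := hker _ hz
    rw [QuadraticMap.polar_sub_right, QuadraticMap.polar_smul_right, smul_eq_mul] at this
    linear_combination this
  exact sub_eq_zero.mp hzero

/-- A-YNOTH (with the independence hypothesis `hind`, needed in characteristic 2).  Renamed `A.YNOTH17`: the canonical `A.YNOTH` is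
helper12's (`Cfsg.Agent.Helper12.K2PAYNOTH`, `hind` before `hfull`). -/
theorem A.YNOTH17 (bp : BP Q q e f) (ht : 3 ≤ t) {u u' : Fin t × Fin 2 → F} (hu : Q u ≠ 0)
    (hu' : Q u' ≠ 0) (huu' : B Q u u' = 0) (hfull : ∀ l, bproj l u ≠ 0)
    (hind : ∀ κ : F, u' ≠ κ • u) :
    ¬ StabD Q (reflO Q u hu * reflO Q u' hu') := by
  intro hS
  have bm : BM0 Q q := bp.toBM0
  obtain ⟨σ, hσ⟩ := (STAB.iff bm _).mp hS
  -- components of the image of a block vector
  have hcomp : ∀ (l c : Fin t) (z : Fin 2 → F),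
      bproj c (mt Q (reflO Q u hu * reflO Q u' hu') *ᵥ binj l z)
        = bproj c (binj l z) - ((Q u')⁻¹ * QuadraticMap.polar ⇑q (bproj l u') z) • bproj c u'
          - ((Q u)⁻¹ * QuadraticMap.polar ⇑q (bproj l u) z) • bproj c u := by
    intro l c z
    rw [YNOTH17.act hu hu' huu', QB.bproj_sub, QB.bproj_sub, QB.bproj_smul, QB.bproj_smul,
      QB.B_binj_right bm, QB.B_binj_right bm]
  -- (F1)
  have hF1 : ∀ (l c : Fin t) (z : Fin 2 → F), c ≠ l → c ≠ σ l →
      ((Q u')⁻¹ * QuadraticMap.polar ⇑q (bproj l u') z) • bproj c u'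
        + ((Q u)⁻¹ * QuadraticMap.polar ⇑q (bproj l u) z) • bproj c u = 0 := by
    intro l c z hcl hcσ
    have h1 := QB.mem_Dblk_iff.mp (hσ l z) c hcσ
    rw [hcomp, bproj_binj_ne hcl] at h1
    have : ((Q u')⁻¹ * QuadraticMap.polar ⇑q (bproj l u') z) • bproj c u'
        + ((Q u)⁻¹ * QuadraticMap.polar ⇑q (bproj l u) z) • bproj c u
        = - (0 - ((Q u')⁻¹ * QuadraticMap.polar ⇑q (bproj l u') z) • bproj c u'
          - ((Q u)⁻¹ * QuadraticMap.polar ⇑q (bproj l u) z) • bproj c u) := by abel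
    rw [this, h1, neg_zero]
  -- every block is of type (b)
  have hb : ∀ l, ∃ κ : F, bproj l u' = κ • bproj l u := by
    intro l
    apply YNOTH17.prop bm (hfull l)
    intro z hz1 hz0
    obtain ⟨c, hcl, hcσ⟩ := YNOTH17.exists_third ht l (σ l)
    have := hF1 l c z hcl hcσ
    rw [hz0, hz1, mul_zero, zero_smul, zero_add, mul_one] at this
    rcases smul_eq_zero.mp this with h | h
    · exact hu (inv_eq_zero.mp h)
    · exact hfull c h
  choose κ hκ using hb
  -- σ fixes every block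
  have hσid : ∀ l, σ l = l := by
    intro l
    by_contra hne
    -- the `l`-component of `y (binj l z)` vanishes for all z, so every z is a multiple of u_l
    have hall : ∀ z : Fin 2 → F, ∃ c : F, z = c • bproj l u := by
      intro z
      have h1 := QB.mem_Dblk_iff.mp (hσ l z) l (fun h => hne h.symm)
      rw [hcomp, bproj_binj, hκ l, smul_smul] at h1
      refine ⟨(Q u')⁻¹ * QuadraticMap.polar ⇑q (κ l • bproj l u) z * κ l
        + (Q u)⁻¹ * QuadraticMap.polar ⇑q (bproj l u) z, ?_⟩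
      rw [add_smul]
      have h2 := sub_eq_zero.mp h1
      have h3 := sub_eq_iff_eq_add.mp h2
      exact h3.trans (add_comm _ _)
    obtain ⟨z₀, hz₀⟩ := QB.exists_polar_ne bm (hfull l)
    have hdim : ∀ z z' : Fin 2 → F, ∃ a b : F, (a ≠ 0 ∨ b ≠ 0) ∧ a • z + b • z' = 0 := by
      intro z z'
      obtain ⟨c, hc⟩ := hall z
      obtain ⟨c', hc'⟩ := hall z'
      by_cases hc0 : c = 0
      · refine ⟨1, 0, Or.inl one_ne_zero, ?_⟩
        rw [hc, hc0, zero_smul, smul_zero, zero_smul, add_zero]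
      · refine ⟨c', -c, Or.inr (neg_ne_zero.mpr hc0), ?_⟩
        rw [hc, hc', smul_smul, smul_smul, ← add_smul]
        have : c' * c + -c * c' = 0 := by ring
        rw [this, zero_smul]
    obtain ⟨a, b, hab, habz⟩ := hdim (fun i => if i = 0 then 1 else 0) (fun i => if i = 0 then 0 else 1)
    have e0 := congrFun habz 0
    have e1 := congrFun habz 1
    simp at e0 e1
    rcases hab with h | h
    · exact h e0
    · exact h e1
  -- all κ equal
  have hκeq : ∀ l l', κ l = κ l' := by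
    intro l l'
    by_cases hll : l = l'
    · rw [hll]
    obtain ⟨c, hcl, hcl'⟩ := YNOTH17.exists_third ht l l'
    -- use z with polar u_l z = 1
    obtain ⟨z, hz⟩ := QB.exists_polar_ne bm (hfull l)
    obtain ⟨z', hz'⟩ := QB.exists_polar_ne bm (hfull l')
    have h1 := hF1 l c z hcl (by rw [hσid l]; exact hcl)
    have h2 := hF1 l' c z' hcl' (by rw [hσid l']; exact hcl')
    rw [hκ l, hκ c, QuadraticMap.polar_smul_left, hz, smul_eq_mul, mul_one, smul_smul, ← add_smul] at h1
    rw [hκ l', hκ c, QuadraticMap.polar_smul_left, hz', smul_eq_mul, mul_one, smul_smul, ← add_smul] at h2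
    have h1' := (smul_eq_zero.mp h1).resolve_right (hfull c)
    have h2' := (smul_eq_zero.mp h2).resolve_right (hfull c)
    -- (Q u')⁻¹ κ_l κ_c + (Q u)⁻¹ = 0 = (Q u')⁻¹ κ_l' κ_c + (Q u)⁻¹
    have hκc : κ c ≠ 0 := by
      intro h0
      rw [h0] at h1'
      simp at h1'
      exact hu h1'
    have hQ' : (Q u')⁻¹ ≠ 0 := inv_ne_zero hu'
    have : (Q u')⁻¹ * κ c * (κ l - κ l') = 0 := by linear_combination h1' - h2'
    rcases mul_eq_zero.mp this with h | h
    · rcases mul_eq_zero.mp h with h | h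
      · exact absurd h hQ'
      · exact absurd h hκc
    · exact sub_eq_zero.mp h
  -- conclusion: u' = κ • u
  obtain ⟨l₀⟩ : Nonempty (Fin t) := ⟨⟨0, by omega⟩⟩
  apply hind (κ l₀)
  apply QB.ext
  intro l
  rw [QB.bproj_smul, hκ l, hκeq l l₀]

end Cfsg.Agent.K2P
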