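import Mathlib

set_option autoImplicit false

namespace Cfsg.Agent.Helper17.TP

open scoped Pointwise
open Subgroup

variable {G : Type*} [Group G] {H : Subgroup G} {A : Type*} [CommGroup A]

/-- total extension of `ϕ : H →* A` to `G` (value `1` outside `H`). -/
noncomputable def ext (ϕ : H →* A) (x : G) : A := by
  classical exact if h : x ∈ H then ϕ ⟨x, h⟩ else 1

lemma ext_of_mem (ϕ : H →* A) {x : G} (h : x ∈ H) : ext ϕ x = ϕ ⟨x, h⟩ := by
  unfold ext; rw [dif_pos h]

lemma ext_one (ϕ : H →* A) : ext ϕ (1 : G) = 1 := by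
  rw [ext_of_mem ϕ H.one_mem]; exact map_one ϕ

lemma ext_mul (ϕ : H →* A) {x y : G} (hx : x ∈ H) (hy : y ∈ H) :
    ext ϕ (x * y) = ext ϕ x * ext ϕ y := by
  rw [ext_of_mem ϕ hx, ext_of_mem ϕ hy, ext_of_mem ϕ (H.mul_mem hx hy), ← map_mul]; rfl

lemma ext_conj (ϕ : H →* A) {x h : G} (hx : x ∈ H) (hh : h ∈ H) :
    ext ϕ (h⁻¹ * x * h) = ext ϕ x := by
  rw [ext_mul ϕ (H.mul_mem (H.inv_mem hh) hx) hh, ext_mul ϕ (H.inv_mem hh) hx, mul_comm _ (ext ϕ x),
    mul_assoc, ← ext_mul ϕ (H.inv_mem hh) hh, inv_mul_cancel, ext_one, mul_one]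

/-- the transfer as a product over cosets with `Quotient.out` representatives. -/
theorem transfer_eq_prod_out [H.FiniteIndex] (ϕ : H →* A) (g : G) [Fintype (G ⧸ H)] :
    MonoidHom.transfer ϕ g = ∏ q : G ⧸ H, ext ϕ ((q.out)⁻¹ * g * (g⁻¹ • q).out) := by
  classical
  have hf : ∀ q : G ⧸ H, ((Quotient.out q : G) : G ⧸ H) = q := fun q => q.out_eq'
  let T : H.LeftTransversal := ⟨Set.range (Quotient.out : G ⧸ H → G), isComplement_range_left hf⟩
  rw [MonoidHom.transfer_def ϕ T g]
  unfold leftTransversals.diff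
  simp only
  refine Finset.prod_congr (by ext; simp) (fun q _ => ?_)
  have h1 : ((T.2.leftQuotientEquiv q : G)) = q.out := IsComplement.leftQuotientEquiv_apply hf q
  have h2 : (((g • T).2.leftQuotientEquiv q : G)) = g * (g⁻¹ • q).out := by
    rw [smul_apply_eq_smul_apply_inv_smul, smul_eq_mul]
    congr 1
    exact IsComplement.leftQuotientEquiv_apply hf _
  have hmem : (q.out)⁻¹ * g * (g⁻¹ • q).out ∈ H := by
    have := (QuotientGroup.leftRel_apply.mp <| Quotient.exact'
      (((T.2.leftQuotientEquiv).symm_apply_apply q).trans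
        (((g • T).2.leftQuotientEquiv).symm_apply_apply q).symm))
    rw [h1, h2, ← mul_assoc] at this
    exact this
  rw [ext_of_mem ϕ hmem]
  congr 1
  apply Subtype.ext
  simp only [h1, h2, mul_assoc]


lemma out_mem (g : G) (q : G ⧸ H) : (q.out)⁻¹ * g * (g⁻¹ • q).out ∈ H := by
  have h : ((g * (g⁻¹ • q).out : G) : G ⧸ H) = ((q.out : G) : G ⧸ H) := by
    rw [← smul_eq_mul, MulAction.Quotient.coe_smul_out, smul_inv_smul, QuotientGroup.out_eq']
  have := QuotientGroup.eq.mp h.symm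
  rwa [← mul_assoc] at this

lemma conj_mem_of_smul_eq {u : G} {q : G ⧸ H} (h : u • q = q) : (q.out)⁻¹ * u * q.out ∈ H := by
  have h' : ((u * q.out : G) : G ⧸ H) = ((q.out : G) : G ⧸ H) := by
    rw [← smul_eq_mul, MulAction.Quotient.coe_smul_out, h, QuotientGroup.out_eq']
  have := QuotientGroup.eq.mp h'.symm
  rwa [← mul_assoc] at this

lemma ext_conj_rep (ϕ : H →* A) {u g1 g2 : G} (h12 : (g1 : G ⧸ H) = (g2 : G ⧸ H))
    (h1 : g1⁻¹ * u * g1 ∈ H) : g2⁻¹ * u * g2 ∈ H ∧ ext ϕ (g2⁻¹ * u * g2) = ext ϕ (g1⁻¹ * u * g1) := by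
  have hh : g1⁻¹ * g2 ∈ H := QuotientGroup.eq.mp h12
  have e : g2⁻¹ * u * g2 = (g1⁻¹ * g2)⁻¹ * (g1⁻¹ * u * g1) * (g1⁻¹ * g2) := by group
  rw [e]
  exact ⟨H.mul_mem (H.mul_mem (H.inv_mem hh) h1) hh, ext_conj ϕ h1 hh⟩

/-- transfer of an involution: only the fixed cosets contribute. -/
theorem transfer_involution [H.FiniteIndex] (ϕ : H →* A) (u : G) (hu : u * u = 1)
    [Fintype (G ⧸ H)] [DecidableEq (G ⧸ H)] :
    MonoidHom.transfer ϕ u =
      ∏ q ∈ Finset.univ.filter (fun q : G ⧸ H => u • q = q), ext ϕ ((q.out)⁻¹ * u * q.out) := by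
  have hinv : u⁻¹ = u := inv_eq_of_mul_eq_one_right hu
  rw [transfer_eq_prod_out, hinv,
    ← Finset.prod_filter_mul_prod_filter_not Finset.univ (fun q : G ⧸ H => u • q = q)]
  have h2 : ∏ q ∈ Finset.univ.filter (fun q : G ⧸ H => ¬ u • q = q),
      ext ϕ ((q.out)⁻¹ * u * (u • q).out) = 1 := by
    refine Finset.prod_involution (fun q _ => u • q) ?_ ?_ ?_ ?_
    · intro q _
      have m1 : (q.out)⁻¹ * u * (u • q).out ∈ H := by
        have := out_mem (H := H) u q; rwa [hinv] at this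
      have m2 : ((u • q).out)⁻¹ * u * (u • (u • q)).out ∈ H := by
        have := out_mem (H := H) u (u • q); rwa [hinv] at this
      rw [← ext_mul ϕ m1 m2]
      have : u • u • q = q := by rw [smul_smul, hu, one_smul]
      rw [this]
      have e : (q.out)⁻¹ * u * (u • q).out * (((u • q).out)⁻¹ * u * q.out) = 1 := by
        have : (q.out)⁻¹ * u * (u • q).out * (((u • q).out)⁻¹ * u * q.out)
            = (q.out)⁻¹ * (u * u) * q.out := by group
        rw [this, hu]; group
      rw [e, ext_one]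
    · intro q hq _
      exact (Finset.mem_filter.mp hq).2
    · intro q hq
      rw [Finset.mem_filter] at hq ⊢
      refine ⟨Finset.mem_univ _, fun h => hq.2 ?_⟩
      have h3 : u • u • q = q := by rw [smul_smul, hu, one_smul]
      rw [h3] at h
      exact h.symm
    · intro q _
      simp only [smul_smul, hu, one_smul]
  rw [h2, mul_one]
  refine Finset.prod_congr rfl (fun q hq => ?_)
  rw [(Finset.mem_filter.mp hq).2]


/-- **Transfer parity with a 2-group of fixed points.**  `A` has a unique involution `c`; `u` is an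
involution of `H` with `ϕ u = c`; the transfer of `u` is trivial; `R ≤ H` is a 2-group commuting with `u`.
Then some coset `gH ≠ H` is fixed by `u` and `R`, with `ϕ (g⁻¹ u g) = c`. -/
theorem exists_fixed_coset [Finite G] (ϕ : H →* A) (c : A) (hc : c ≠ 1)
    (hA : ∀ a : A, a * a = 1 → a = 1 ∨ a = c)
    (u : G) (hu : u * u = 1) (huH : u ∈ H) (hϕu : ext ϕ u = c)
    (htr : MonoidHom.transfer ϕ u = 1) (R : Subgroup G) (hR : IsPGroup 2 R) (hRH : R ≤ H)
    (hRu : ∀ r ∈ R, r * u = u * r) :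
    ∃ g : G, g ∉ H ∧ g⁻¹ * u * g ∈ H ∧ ext ϕ (g⁻¹ * u * g) = c ∧ ∀ r ∈ R, g⁻¹ * r * g ∈ H := by
  classical
  have : Fintype (G ⧸ H) := Fintype.ofFinite _
  have : Fact (Nat.Prime 2) := ⟨Nat.prime_two⟩
  -- the sub-action
  let S : SubMulAction R (G ⧸ H) :=
    { carrier := {q | u • q = q ∧ ext ϕ ((q.out)⁻¹ * u * q.out) = c}
      smul_mem' := by
        rintro ⟨r, hr⟩ q ⟨hq1, hq2⟩
        have hfix : u • ((⟨r, hr⟩ : R) • q) = (⟨r, hr⟩ : R) • q := by
          change u • (r • q) = r • q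
          rw [smul_smul, ← hRu r hr, ← smul_smul, hq1]
        refine ⟨hfix, ?_⟩
        have hrep : ((r * q.out : G) : G ⧸ H) = (((((⟨r, hr⟩ : R) • q)).out : G) : G ⧸ H) := by
          rw [QuotientGroup.out_eq']
          change _ = r • q
          rw [← smul_eq_mul, MulAction.Quotient.coe_smul_out]
        have e1 : (r * q.out)⁻¹ * u * (r * q.out) = (q.out)⁻¹ * u * q.out := by
          have : (r * q.out)⁻¹ * u * (r * q.out) = (q.out)⁻¹ * (r⁻¹ * (u * r)) * q.out := by group
          rw [this, ← hRu r hr]; group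
        have h1 : (r * q.out)⁻¹ * u * (r * q.out) ∈ H := by
          rw [e1]; exact conj_mem_of_smul_eq hq1
        rw [(ext_conj_rep ϕ hrep h1).2, e1, hq2] }
  -- parity of S
  have hval : ∀ q : G ⧸ H, u • q = q →
      ext ϕ ((q.out)⁻¹ * u * q.out) = 1 ∨ ext ϕ ((q.out)⁻¹ * u * q.out) = c := by
    intro q hq
    apply hA
    have hm := conj_mem_of_smul_eq (H := H) hq
    rw [← ext_mul ϕ hm hm]
    have : (q.out)⁻¹ * u * q.out * ((q.out)⁻¹ * u * q.out) = (q.out)⁻¹ * (u * u) * q.out := by group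
    rw [this, hu]
    have : (q.out)⁻¹ * (1 : G) * q.out = 1 := by group
    rw [this, ext_one]
  have hprod : MonoidHom.transfer ϕ u = c ^ (Nat.card S) := by
    rw [transfer_involution ϕ u hu]
    have hS : Nat.card S = (Finset.univ.filter (fun q : G ⧸ H => u • q = q ∧
        ext ϕ ((q.out)⁻¹ * u * q.out) = c)).card := by
      rw [← Nat.card_eq_finsetCard]
      apply Nat.card_congr
      exact Equiv.subtypeEquivRight (fun q => by
        rw [Finset.mem_filter]; exact ⟨fun h => ⟨Finset.mem_univ _, h⟩, fun h => h.2⟩)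
    have e : Finset.univ.filter (fun q : G ⧸ H => u • q = q ∧
        ext ϕ ((q.out)⁻¹ * u * q.out) = c) = (Finset.univ.filter (fun q : G ⧸ H => u • q = q)).filter
          (fun q => ext ϕ ((q.out)⁻¹ * u * q.out) = c) := (Finset.filter_filter _ _ _).symm
    rw [hS, e, ← Finset.prod_const]
    refine Eq.trans ?_ (Finset.prod_filter (s := Finset.univ.filter (fun q : G ⧸ H => u • q = q))
      (fun q => ext ϕ ((q.out)⁻¹ * u * q.out) = c) (fun _ => c)).symm
    refine Finset.prod_congr rfl (fun q hq => ?_)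
    have hq' := (Finset.mem_filter.mp hq).2
    rcases hval q hq' with h | h
    · rw [h, if_neg]; exact fun h' => hc h'.symm
    · rw [if_pos h, h]
  have hcc : c * c = 1 := by
    have hm : u ∈ H := huH
    rw [← hϕu, ← ext_mul ϕ hm hm, hu, ext_one]
  have heven : Even (Nat.card S) := by
    rw [htr] at hprod
    by_contra hodd
    rw [Nat.not_even_iff_odd] at hodd
    obtain ⟨k, hk⟩ := hodd
    rw [hk, pow_succ, pow_mul, sq, hcc, one_pow, one_mul] at hprod
    exact hc hprod.symm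
  -- fixed points
  have hmod := hR.card_modEq_card_fixedPoints S
  have hfix_even : Even (Nat.card (MulAction.fixedPoints R S)) := by
    have h2 : Nat.card S % 2 = 0 := Nat.even_iff.mp heven
    have : Nat.card (MulAction.fixedPoints R S) % 2 = 0 := by
      rw [← hmod]; exact h2
    exact Nat.even_iff.mpr this
  -- the trivial coset is a fixed point
  have h1S : ((1 : G) : G ⧸ H) ∈ S := by
    have hfix : u • ((1 : G) : G ⧸ H) = ((1 : G) : G ⧸ H) := by
      rw [MulAction.Quotient.smul_coe, smul_eq_mul, mul_one]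
      exact (QuotientGroup.eq.mpr (by simpa using huH)).symm
    refine ⟨hfix, ?_⟩
    have hrep : ((1 : G) : G ⧸ H) = (((((1 : G) : G ⧸ H)).out : G) : G ⧸ H) := by
      rw [QuotientGroup.out_eq']
    have h1 : (1 : G)⁻¹ * u * 1 ∈ H := by simpa using huH
    rw [(ext_conj_rep ϕ hrep h1).2]
    simpa using hϕu
  let x1 : S := ⟨_, h1S⟩
  have hx1 : x1 ∈ MulAction.fixedPoints R S := by
    rintro ⟨r, hr⟩
    apply Subtype.ext
    change r • ((1 : G) : G ⧸ H) = ((1 : G) : G ⧸ H)
    rw [MulAction.Quotient.smul_coe, smul_eq_mul, mul_one]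
    exact (QuotientGroup.eq.mpr (by simpa using hRH hr)).symm
  -- another fixed point
  have hex : ∃ x : S, x ∈ MulAction.fixedPoints R S ∧ x ≠ x1 := by
    by_contra hno
    push Not at hno
    have : Nat.card (MulAction.fixedPoints R S) = 1 := by
      rw [Nat.card_eq_one_iff_unique]
      refine ⟨⟨?_⟩, ⟨⟨x1, hx1⟩⟩⟩
      rintro ⟨a, ha⟩ ⟨b, hb⟩
      apply Subtype.ext
      exact (hno a ha).trans (hno b hb).symm
    rw [this] at hfix_even
    exact absurd hfix_even (by decide)
  obtain ⟨⟨q, hq1, hq2⟩, hxfix, hxne⟩ := hex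
  refine ⟨q.out, ?_, conj_mem_of_smul_eq hq1, hq2, ?_⟩
  · intro hmem
    apply hxne
    apply Subtype.ext
    change q = ((1 : G) : G ⧸ H)
    rw [← QuotientGroup.out_eq' q]
    exact QuotientGroup.eq.mpr (by simpa using hmem)
  · intro r hr
    have := hxfix ⟨r, hr⟩
    have h3 : r • q = q := congrArg Subtype.val this
    have := conj_mem_of_smul_eq (H := H) h3
    exact this

end Cfsg.Agent.Helper17.TP
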