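import Mathlib
import Cfsg.Prelude.Def_Transfer
import Cfsg.Prelude.Def_Solvable
import Cfsg.Agent.Helper14.PCore
import Cfsg.Agent.Helper17.ES2
import Cfsg.Agent.Helper17.TransferParity

set_option autoImplicit false

namespace Cfsg.Agent.Helper17.LES

open Cfsg Cfsg.Agent.Helper17.ES Cfsg.Agent.Helper17.TP
open scoped commutatorElement

variable {G : Type*} [Group G]

/-- from the `IsExtraspecial` hypothesis to the elementwise form -/
lemma isES_of_extraspecial (E : Subgroup G) (z : G) (hzE : z ∈ E) (hz1 : z ≠ 1) (hzz : z * z = 1)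
    (hzc : ∀ x ∈ E, x * z = z * x) (hext : Cfsg.IsExtraspecial 2 ↥E) : IsES E z := by
  obtain ⟨⟨_, _, hcomm⟩, hcard⟩ := hext
  have hzcen : (⟨z, hzE⟩ : E) ∈ Subgroup.center E := by
    rw [Subgroup.mem_center_iff]
    rintro ⟨x, hx⟩
    apply Subtype.ext
    exact hzc x hx
  have huniq := (Nat.card_eq_two_iff' (1 : Subgroup.center E)).mp hcard
  have hcen2 : ∀ c : E, c ∈ Subgroup.center E → c = 1 ∨ c = ⟨z, hzE⟩ := by
    intro c hc
    by_cases hc1 : c = 1
    · exact Or.inl hc1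
    · right
      obtain ⟨y, _, hy2⟩ := huniq
      have h1 : (⟨c, hc⟩ : Subgroup.center E) = y := hy2 _ (by
        intro h'; apply hc1; exact congrArg (fun t : Subgroup.center E => (t : E)) h')
      have h2 : (⟨⟨z, hzE⟩, hzcen⟩ : Subgroup.center E) = y := hy2 _ (by
        intro h'; apply hz1
        have := congrArg (fun t : Subgroup.center E => ((t : E) : G)) h'
        exact this)
      have := h1.trans h2.symm
      exact congrArg (fun t : Subgroup.center E => (t : E)) this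
  refine ⟨hzE, hz1, hzz, hzc, ?_, ?_⟩
  · intro x hx y hy
    have hmem : ⁅(⟨x, hx⟩ : E), ⟨y, hy⟩⁆ ∈ Subgroup.center E := by
      rw [← hcomm, commutator_def]
      exact Subgroup.commutator_mem_commutator (Subgroup.mem_top _) (Subgroup.mem_top _)
    rcases hcen2 _ hmem with h1 | h1
    · left
      have := congrArg (fun t : E => (t : G)) h1
      simp only [commutatorElement_def, Subgroup.coe_mul, Subgroup.coe_inv, Subgroup.coe_one] at this
      calc x * y = (x * y * x⁻¹ * y⁻¹) * (y * x) := by group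
        _ = y * x := by rw [this, one_mul]
    · right
      have := congrArg (fun t : E => (t : G)) h1
      simp only [commutatorElement_def, Subgroup.coe_mul, Subgroup.coe_inv] at this
      calc x * y = (x * y * x⁻¹ * y⁻¹) * (y * x) := by group
        _ = z * (y * x) := by rw [this]
  · intro x hx hxc
    have hmem : (⟨x, hx⟩ : E) ∈ Subgroup.center E := by
      rw [Subgroup.mem_center_iff]
      rintro ⟨y, hy⟩
      apply Subtype.ext
      exact (hxc y hy).symm
    rcases hcen2 _ hmem with h1 | h1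
    · left; exact congrArg (fun t : E => (t : G)) h1
    · right; exact congrArg (fun t : E => (t : G)) h1

/-- a hom from a group with `O^2(G) = G` to `ℤˣ`-like groups of exponent 2 is trivial -/
lemma hom_trivial_of_pResidual {A : Type*} [CommGroup A] (hres : Cfsg.pResidual 2 G = ⊤)
    (f : G →* A) (hA : ∀ a : A, ∃ k : ℕ, a ^ (2 ^ k) = 1) (g : G) : f g = 1 := by
  have hle : Cfsg.pResidual 2 G ≤ f.ker := by
    unfold Cfsg.pResidual
    rw [Subgroup.closure_le]
    intro x hx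
    have hx' : Nat.Coprime (orderOf x) 2 := hx
    rw [SetLike.mem_coe, MonoidHom.mem_ker]
    obtain ⟨k, hk⟩ := hA (f x)
    have h1 : orderOf (f x) ∣ 2 ^ k := orderOf_dvd_of_pow_eq_one hk
    have h2 : orderOf (f x) ∣ orderOf x := orderOf_map_dvd f x
    have h3 : Nat.Coprime (orderOf x) (2 ^ k) := Nat.Coprime.pow_right k hx'
    have h4 : orderOf (f x) ∣ Nat.gcd (orderOf x) (2 ^ k) := Nat.dvd_gcd h2 h1
    rw [h3] at h4
    exact orderOf_eq_one_iff.mp (Nat.dvd_one.mp h4)
  rw [hres] at hle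
  exact MonoidHom.mem_ker.mp (hle (Subgroup.mem_top g))


lemma ext_comm {H : Subgroup G} {A : Type*} [CommGroup A] (ϕ : H →* A) {a b : G} (ha : a ∈ H)
    (hb : b ∈ H) : ext ϕ (a * b * a⁻¹ * b⁻¹) = 1 := by
  rw [ext_mul ϕ (H.mul_mem (H.mul_mem ha hb) (H.inv_mem ha)) (H.inv_mem hb),
    ext_mul ϕ (H.mul_mem ha hb) (H.inv_mem ha), ext_mul ϕ ha hb]
  have h1 : ext ϕ a * ext ϕ a⁻¹ = 1 := by
    rw [← ext_mul ϕ ha (H.inv_mem ha), mul_inv_cancel, ext_one]
  have h2 : ext ϕ b * ext ϕ b⁻¹ = 1 := by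
    rw [← ext_mul ϕ hb (H.inv_mem hb), mul_inv_cancel, ext_one]
  calc ext ϕ a * ext ϕ b * ext ϕ a⁻¹ * ext ϕ b⁻¹
      = (ext ϕ a * ext ϕ a⁻¹) * (ext ϕ b * ext ϕ b⁻¹) := by
        rw [mul_assoc (ext ϕ a), mul_comm (ext ϕ b), ← mul_assoc, mul_assoc]
    _ = 1 := by rw [h1, h2, one_mul]

lemma exists_sign_hom (H K : Subgroup G) (hidx : K.relIndex H = 2) :
    ∃ ϕ : H →* ℤˣ, ∀ x : H, ϕ x = 1 ↔ (x : G) ∈ K := by
  classical
  set K' : Subgroup H := K.subgroupOf H with hK'
  have hidx' : K'.index = 2 := hidx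
  let ϕ : H →* ℤˣ :=
    { toFun := fun x => if x ∈ K' then 1 else -1
      map_one' := by simp [K'.one_mem]
      map_mul' := fun a b => by
        have := Subgroup.mul_mem_iff_of_index_two hidx' (a := a) (b := b)
        by_cases ha : a ∈ K' <;> by_cases hb : b ∈ K' <;> simp [ha, hb, this] }
  refine ⟨ϕ, fun x => ?_⟩
  change (if x ∈ K' then (1 : ℤˣ) else -1) = 1 ↔ _
  by_cases hx : x ∈ K'
  · simp only [hx, if_true, true_iff]
    exact Subgroup.mem_subgroupOf.mp hx
  · simp only [hx, if_false]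
    constructor
    · intro h; exact absurd h (by decide)
    · intro h; exact absurd (Subgroup.mem_subgroupOf.mpr h) hx

/-- **Core**: in the large-extraspecial setting with `O^2(G) = G`, every involution of `E` lies in the
kernel of every homomorphism from `H = C_G(z)` to an abelian 2-group with a unique involution. -/
theorem involution_mem_ker [Finite G] (hres : Cfsg.pResidual 2 G = ⊤) (z : G) (E : Subgroup G)
    (hES : IsES E z) (H : Subgroup G) (hH : H = Subgroup.centralizer ({z} : Set G)) (hEH : E ≤ H)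
    (hnorm : ∀ b ∈ H, ∀ e ∈ E, b⁻¹ * e * b ∈ E)
    (hcent : Subgroup.centralizer (E : Set G) ≤ E) (hcard : 8 < Nat.card E) (hE2 : IsPGroup 2 E)
    {A : Type*} [CommGroup A] (ϕ : H →* A) (c : A) (hc : c ≠ 1)
    (hA : ∀ a : A, a * a = 1 → a = 1 ∨ a = c) (hA2 : ∀ a : A, ∃ k : ℕ, a ^ (2 ^ k) = 1)
    (u : G) (hu : u ∈ E) (huu : u * u = 1) : ext ϕ u = 1 := by
  classical
  by_contra hne
  have huH : u ∈ H := hEH hu
  have hϕu : ext ϕ u = c := by
    rcases hA (ext ϕ u) (by rw [← ext_mul ϕ huH huH, huu, ext_one]) with h | h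
    · exact absurd h hne
    · exact h
  -- z is a commutator in E
  have hϕz : ext ϕ z = 1 := by
    have hex : ∃ e1 ∈ E, ∃ e2 ∈ E, e1 * e2 ≠ e2 * e1 := by
      by_contra hno
      push Not at hno
      have := hES.card_le_eight_of_abelian ⊤ 1 E.one_mem (fun e _ => Or.inl (Subgroup.mem_top e))
        (fun y1 hy1 _ y2 hy2 _ => hno y1 hy1 y2 hy2)
      omega
    obtain ⟨e1, he1, e2, he2, hne12⟩ := hex
    have h12 := hES.nc he1 he2 hne12
    have : z = e1 * e2 * e1⁻¹ * e2⁻¹ := by rw [h12]; group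
    rw [this]
    exact ext_comm ϕ (hEH he1) (hEH he2)
  have hu1 : u ≠ 1 := by
    intro h; rw [h, ext_one] at hne; exact hne rfl
  have huz : u ≠ z := by
    intro h; rw [h] at hne; exact hne hϕz
  -- transfer is trivial
  have htr : MonoidHom.transfer ϕ u = 1 := hom_trivial_of_pResidual hres _ hA2 u
  -- the 2-group R = C_E(u)
  set R : Subgroup G := E ⊓ Subgroup.centralizer {u} with hR
  have hR2 : IsPGroup 2 R := hE2.to_le inf_le_left
  have hRH : R ≤ H := inf_le_left.trans hEH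
  have hRu : ∀ r ∈ R, r * u = u * r := fun r hr =>
    Subgroup.mem_centralizer_singleton_iff.mp (Subgroup.mem_inf.mp hr).2
  obtain ⟨g, hgH, hu'H, hϕu', hgR⟩ := exists_fixed_coset ϕ c hc hA u huu huH hϕu htr R hR2 hRH hRu
  have hzR : z ∈ R := by
    refine Subgroup.mem_inf.mpr ⟨hES.zE, ?_⟩
    rw [Subgroup.mem_centralizer_singleton_iff]
    exact (hES.zc u hu).symm
  set b := g * z * g⁻¹ with hb
  have hbR : ∀ y ∈ E, y * u = u * y → b * y = y * b := by
    intro y hy hyu
    have hyR : y ∈ R := Subgroup.mem_inf.mpr ⟨hy, Subgroup.mem_centralizer_singleton_iff.mpr hyu⟩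
    have h1 : (g⁻¹ * y * g) * z = z * (g⁻¹ * y * g) :=
      Subgroup.mem_centralizer_singleton_iff.mp (hH ▸ hgR y hyR)
    rw [hb]
    calc g * z * g⁻¹ * y = g * (z * (g⁻¹ * y * g)) * g⁻¹ := by group
      _ = g * ((g⁻¹ * y * g) * z) * g⁻¹ := by rw [h1]
      _ = y * (g * z * g⁻¹) := by group
  have hbz : b * z = z * b := hbR z hES.zE (hES.zc u hu).symm
  have hbH : b ∈ H := by
    rw [hH]; exact Subgroup.mem_centralizer_singleton_iff.mpr hbz
  have hcentE : ∀ c' : G, (∀ e ∈ E, c' * e = e * c') → c' ∈ E := by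
    intro c' hc'
    apply hcent
    rw [Subgroup.mem_centralizer_iff]
    intro e he
    exact (hc' e he).symm
  -- z'' = g⁻¹ z g is a commutator of elements of H
  have hϕz'' : g⁻¹ * z * g ∈ H ∧ ext ϕ (g⁻¹ * z * g) = 1 := by
    refine ⟨hgR z hzR, ?_⟩
    obtain ⟨y1, hy1, y2, hy2, hy1u, hy2u, hne12⟩ := hES.exists_nc_in_centralizer hcard hu hu1 huz
    have h12 := hES.nc hy1 hy2 hne12
    have hy1R : y1 ∈ R := Subgroup.mem_inf.mpr ⟨hy1, Subgroup.mem_centralizer_singleton_iff.mpr hy1u⟩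
    have hy2R : y2 ∈ R := Subgroup.mem_inf.mpr ⟨hy2, Subgroup.mem_centralizer_singleton_iff.mpr hy2u⟩
    have : g⁻¹ * z * g = (g⁻¹ * y1 * g) * (g⁻¹ * y2 * g) * (g⁻¹ * y1 * g)⁻¹ * (g⁻¹ * y2 * g)⁻¹ := by
      have hz' : z = y1 * y2 * y1⁻¹ * y2⁻¹ := by rw [h12]; group
      rw [hz']; group
    rw [this]
    exact ext_comm ϕ (hgR y1 hy1R) (hgR y2 hy2R)
  rcases hES.centralizer_analysis hcentE hu huu hu1 huz (hnorm b hbH) hbz hbR with h1 | h1 | h1 | h1
  · -- b = 1
    apply hES.z1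
    have : z = g⁻¹ * b * g := by rw [hb]; group
    rw [this, h1]; group
  · -- b = z : g ∈ H
    apply hgH
    rw [hH, Subgroup.mem_centralizer_singleton_iff]
    have : g * z = b * g := by rw [hb]; group
    rw [this, h1]
  · -- b = u
    have : g⁻¹ * u * g = z := by rw [← h1, hb]; group
    rw [this, hϕz] at hϕu'
    exact hc hϕu'.symm
  · -- b = u z
    have hub : u = b * z := by rw [h1, mul_assoc, hES.zz, mul_one]
    have : g⁻¹ * u * g = z * (g⁻¹ * z * g) := by rw [hub, hb]; group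
    rw [this, ext_mul ϕ (hEH hES.zE) hϕz''.1, hϕz, hϕz''.2, one_mul] at hϕu'
    exact hc hϕu'.symm


/-- the common setup of S3299 - S3301 -/
theorem setup (z : G) (hz : orderOf z = 2)
    (E : Subgroup G) (hE : E = (Cfsg.pCore 2 ↥(Subgroup.centralizer ({z} : Set G))).map (Subgroup.centralizer ({z} : Set G)).subtype)
    (hext : Cfsg.IsExtraspecial 2 ↥E) (hcent : Subgroup.centralizer (E : Set G) ≤ E) :
    IsES E z ∧ E ≤ Subgroup.centralizer ({z} : Set G) ∧
      (∀ b ∈ Subgroup.centralizer ({z} : Set G), ∀ e ∈ E, b⁻¹ * e * b ∈ E) ∧ IsPGroup 2 E := by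
  have hzz : z * z = 1 := by rw [← sq, ← hz]; exact pow_orderOf_eq_one z
  have hz1 : z ≠ 1 := by intro h; rw [h, orderOf_one] at hz; omega
  have hE' : E = Cfsg.pCoreOf 2 (Subgroup.centralizer ({z} : Set G)) := hE
  have hEH : E ≤ Subgroup.centralizer ({z} : Set G) := by
    rw [hE']; exact Cfsg.Agent.Helper14.pCoreOf_le 2 _
  have hzc : ∀ x ∈ E, x * z = z * x := fun x hx =>
    Subgroup.mem_centralizer_singleton_iff.mp (hEH hx)
  have hzE : z ∈ E := by
    apply hcent
    rw [Subgroup.mem_centralizer_iff]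
    intro e he
    exact hzc e he
  refine ⟨isES_of_extraspecial E z hzE hz1 hzz hzc hext, hEH, ?_, hext.1.1⟩
  intro b hb e he
  have hnb := Cfsg.Agent.Helper14.le_normalizer_pCoreOf 2 (Subgroup.centralizer ({z} : Set G))
    ((Subgroup.centralizer ({z} : Set G)).inv_mem hb)
  rw [← hE', Subgroup.mem_normalizer_iff] at hnb
  have := (hnb e).mp he
  rwa [inv_inv] at this

end Cfsg.Agent.Helper17.LES
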