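import Mathlib
import Cfsg.Agent.Helper17.SchreierSims

/-!
# The Mathieu group `M₁₂` on explicit generators: a verified stabiliser chain
-/

set_option autoImplicit false

namespace Cfsg.Agent.Helper17.M12

/-- permutations of the 12 points -/
abbrev P := Equiv.Perm (Fin 12)

/-- a permutation given by a table and the inverse table -/
def mk (f g : Fin 12 → Fin 12) (h1 : ∀ i, g (f i) = i) (h2 : ∀ i, f (g i) = i) : P := ⟨f, g, h1, h2⟩
def gu : P := mk ![0, 1, 2, 3, 6, 9, 5, 8, 11, 4, 7, 10] ![0, 1, 2, 3, 9, 6, 4, 10, 7, 5, 11, 8] (by decide) (by decide)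
def gv : P := mk ![0, 1, 2, 3, 7, 11, 10, 5, 6, 8, 9, 4] ![0, 1, 2, 3, 11, 7, 8, 4, 9, 10, 6, 5] (by decide) (by decide)
def gw : P := mk ![0, 1, 2, 3, 10, 8, 11, 6, 4, 7, 5, 9] ![0, 1, 2, 3, 8, 10, 7, 9, 5, 11, 4, 6] (by decide) (by decide)
def gs : P := mk ![0, 1, 2, 4, 5, 3, 7, 8, 6, 10, 11, 9] ![0, 1, 2, 5, 3, 4, 8, 6, 7, 11, 9, 10] (by decide) (by decide)
def gt : P := mk ![0, 1, 2, 6, 7, 8, 9, 10, 11, 3, 4, 5] ![0, 1, 2, 9, 10, 11, 3, 4, 5, 6, 7, 8] (by decide) (by decide)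
def gx1 : P := mk ![3, 1, 2, 0, 4, 5, 7, 6, 10, 11, 8, 9] ![3, 1, 2, 0, 4, 5, 7, 6, 10, 11, 8, 9] (by decide) (by decide)
def gx2 : P := mk ![1, 0, 2, 3, 4, 5, 9, 10, 11, 6, 7, 8] ![1, 0, 2, 3, 4, 5, 9, 10, 11, 6, 7, 8] (by decide) (by decide)
def gx3 : P := mk ![0, 2, 1, 3, 4, 5, 11, 9, 10, 7, 8, 6] ![0, 2, 1, 3, 4, 5, 11, 9, 10, 7, 8, 6] (by decide) (by decide)

/-- the generators, ordered so that the stabiliser chain uses initial segments -/
def gen : Fin 8 → P := ![gu, gv, gw, gs, gt, gx1, gx2, gx3]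

/-- number of generators used at level `l` -/
def ngen : ℕ → ℕ
  | 0 => 3
  | 1 => 5
  | 2 => 6
  | 3 => 7
  | _ => 8

/-- number of generators of the lower group at level `l` -/
def ngen' : ℕ → ℕ
  | 0 => 0
  | l + 1 => ngen l

/-- base points -/
def base : ℕ → Fin 12
  | 0 => 4
  | 1 => 3
  | 2 => 0
  | 3 => 1
  | _ => 2
/-- the basic orbits -/
def orb : ℕ → List (Fin 12)
  | 0 => [4, 5, 6, 7, 8, 9, 10, 11]
  | 1 => [3, 4, 5, 6, 7, 8, 9, 10, 11]
  | 2 => [0, 3, 4, 5, 6, 7, 8, 9, 10, 11]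
  | 3 => [0, 1, 3, 4, 5, 6, 7, 8, 9, 10, 11]
  | 4 => [0, 1, 2, 3, 4, 5, 6, 7, 8, 9, 10, 11]
  | _ => []

/-- transversal words -/
def W : ℕ → Fin 12 → List (Fin 8)
  | 0 => ![[], [], [], [], [], [0, 0], [0], [1], [0, 1], [1, 2], [2], [2, 0]]
  | 1 => ![[], [], [], [], [3], [3, 3], [4], [1, 3], [0, 1, 3], [4, 4], [2, 3], [2, 4]]
  | 2 => ![[], [], [], [5], [3, 5], [3, 3, 5], [4, 5], [1, 3, 5], [0, 1, 3, 5], [4, 4, 5], [2, 3, 5], [2, 4, 5]]
  | 3 => ![[6], [], [], [5, 6], [3, 5, 6], [3, 3, 5, 6], [4, 5, 6], [1, 3, 5, 6], [0, 1, 3, 5, 6], [4, 4, 5, 6], [2, 3, 5, 6], [2, 4, 5, 6]]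
  | 4 => ![[6, 7], [7], [], [5, 6, 7], [3, 5, 6, 7], [3, 3, 5, 6, 7], [4, 5, 6, 7], [1, 3, 5, 6, 7], [0, 1, 3, 5, 6, 7], [4, 4, 5, 6, 7], [2, 3, 5, 6, 7], [2, 4, 5, 6, 7]]
  | _ => fun _ => []

/-- transversal elements -/
def T (l : ℕ) (β : Fin 12) : P := ((W l β).map gen).prod

/-- sifting through the lower levels -/
def sift : ℕ → P → P
  | 0, g => g
  | l + 1, g => sift l ((T l (g (base l)))⁻¹ * g)

set_option maxRecDepth 100000 in
theorem check_W : ∀ l < 5, ∀ β : Fin 12, ∀ j ∈ W l β, j.val < ngen l := by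
  decide +kernel

set_option maxRecDepth 100000 in
theorem check_T : ∀ l < 5, ∀ β ∈ orb l, T l β (base l) = β := by
  decide +kernel

set_option maxRecDepth 100000 in
theorem check_base : ∀ l < 5, W l (base l) = [] ∧ base l ∈ orb l := by
  decide +kernel

set_option maxRecDepth 100000 in
theorem check_fix : ∀ l < 5, ∀ j : Fin 8, j.val < ngen' l → gen j (base l) = base l := by
  decide +kernel

/-- the Schreier check for the generator `j` at the point `β` of the level-`l` orbit -/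
def chk (l : ℕ) (β : Fin 12) (j : Fin 8) : Bool :=
  decide (gen j β ∈ orb l) && decide (sift l ((T l (gen j β))⁻¹ * gen j * T l β) = 1)

set_option maxRecDepth 100000 in
theorem check_schreier' : ∀ l < 5, ∀ β ∈ orb l, ∀ j : Fin 8, j.val < ngen l → chk l β j = true := by
  decide +kernel

theorem check_schreier : ∀ l < 5, ∀ β ∈ orb l, ∀ j : Fin 8, j.val < ngen l →
    gen j β ∈ orb l ∧ sift l ((T l (gen j β))⁻¹ * gen j * T l β) = 1 := by
  intro l hl β hβ j hj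
  have h := check_schreier' l hl β hβ j hj
  unfold chk at h
  rw [Bool.and_eq_true, decide_eq_true_eq, decide_eq_true_eq] at h
  exact h

/-- generators of level `l` -/
def Y (l : ℕ) : Set P := {g | ∃ j : Fin 8, j.val < ngen l ∧ gen j = g}

/-- the chain of subgroups: `Hn 0 = ⊥`, `Hn 5 = M₁₂` -/
def Hn : ℕ → Subgroup P
  | 0 => ⊥
  | l + 1 => Subgroup.closure (Y l)

theorem ngen'_le (l : ℕ) : ngen' l ≤ ngen l := by
  rcases l with _ | _ | _ | _ | _ | l <;> simp [ngen, ngen']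

theorem Hn_le_succ (l : ℕ) : Hn l ≤ Hn (l + 1) := by
  rcases l with _ | l
  · exact bot_le
  · apply Subgroup.closure_mono
    rintro g ⟨j, hj, rfl⟩
    exact ⟨j, lt_of_lt_of_le hj (ngen'_le (l + 1)), rfl⟩

theorem T_mem {l : ℕ} (hl : l < 5) (β : Fin 12) : T l β ∈ Hn (l + 1) := by
  unfold T
  apply Subgroup.list_prod_mem
  intro g hg
  rw [List.mem_map] at hg
  obtain ⟨j, hj, rfl⟩ := hg
  exact Subgroup.subset_closure ⟨j, check_W l hl β j hj, rfl⟩

theorem sift_sound : ∀ l ≤ 5, ∀ g : P, sift l g = 1 → g ∈ Hn l := by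
  intro l
  induction l with
  | zero =>
    intro _ g hg
    change g = 1 at hg
    rw [hg]
    exact Subgroup.one_mem _
  | succ l ih =>
    intro hl g hg
    have h1 : (T l (g (base l)))⁻¹ * g ∈ Hn l := ih (by omega) _ hg
    have h2 := Hn_le_succ l h1
    have h3 := T_mem (by omega : l < 5) (g (base l))
    have h4 : g = T l (g (base l)) * ((T l (g (base l)))⁻¹ * g) := by group
    rw [h4]
    exact Subgroup.mul_mem _ h3 h2

theorem Hn_fix {l : ℕ} (hl : l < 5) : ∀ h ∈ Hn l, h (base l) = base l := by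
  intro h hh
  rcases l with _ | l
  · change h ∈ (⊥ : Subgroup P) at hh
    rw [Subgroup.mem_bot] at hh
    rw [hh]; rfl
  · change h ∈ Subgroup.closure (Y l) at hh
    have hle : Subgroup.closure (Y l) ≤ MulAction.stabilizer P (base (l + 1)) := by
      rw [Subgroup.closure_le]
      rintro g ⟨j, hj, rfl⟩
      exact check_fix (l + 1) hl j hj
    exact hle hh

theorem T_base {l : ℕ} (hl : l < 5) : T l (base l) = 1 := by
  unfold T
  rw [(check_base l hl).1]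
  rfl

theorem schreier_hyp {l : ℕ} (hl : l < 5) : ∀ β ∈ (orb l).toFinset, ∀ y ∈ Y l,
    y β ∈ (orb l).toFinset ∧ (T l (y β))⁻¹ * y * T l β ∈ Hn l := by
  rintro β hβ _ ⟨j, hj, rfl⟩
  rw [List.mem_toFinset] at hβ ⊢
  obtain ⟨h1, h2⟩ := check_schreier l hl β hβ j hj
  exact ⟨h1, sift_sound l (by omega) _ h2⟩

/-- the stabiliser of the base point at each level -/
theorem stab_eq {l : ℕ} (hl : l < 5) :
    Hn (l + 1) ⊓ MulAction.stabilizer P (base l) = Hn l :=
  SchreierSims.stabilizer_eq (Y l) (Hn l) (base l) (orb l).toFinset (T l)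
    (List.mem_toFinset.2 (check_base l hl).2) (T_base hl)
    (fun β hβ => check_T l hl β (List.mem_toFinset.1 hβ)) (schreier_hyp hl) (Hn_fix hl)
    (Hn_le_succ l)

theorem card_succ {l : ℕ} (hl : l < 5) :
    Nat.card (Hn (l + 1)) = (orb l).toFinset.card * Nat.card (Hn l) :=
  SchreierSims.card_eq (Y l) (Hn l) (base l) (orb l).toFinset (T l)
    (List.mem_toFinset.2 (check_base l hl).2) (T_base hl)
    (fun β hβ => check_T l hl β (List.mem_toFinset.1 hβ)) (fun β _ => T_mem hl β)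
    (schreier_hyp hl) (Hn_fix hl) (Hn_le_succ l)

theorem orb_card : ∀ l < 5, (orb l).toFinset.card = l + 8 := by decide

theorem card_Hn4 : Nat.card (Hn 4) = 7920 := by
  rw [card_succ (by norm_num), card_succ (by norm_num), card_succ (by norm_num),
    card_succ (by norm_num), orb_card 3 (by norm_num), orb_card 2 (by norm_num),
    orb_card 1 (by norm_num), orb_card 0 (by norm_num)]
  change _ * (_ * (_ * (_ * Nat.card (⊥ : Subgroup P)))) = _
  rw [Subgroup.card_bot]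

theorem card_Hn5 : Nat.card (Hn 5) = 95040 := by
  rw [card_succ (by norm_num), card_Hn4, orb_card 4 (by norm_num)]

/-- an element of `Hn 5` fixing all five base points is trivial -/
theorem eq_one_of_fix {g : P} (hg : g ∈ Hn 5) (h2 : g 2 = 2) (h1 : g 1 = 1) (h0 : g 0 = 0)
    (h3 : g 3 = 3) (h4 : g 4 = 4) : g = 1 := by
  have a4 : g ∈ Hn 4 := by
    rw [← stab_eq (l := 4) (by norm_num)]
    exact ⟨hg, h2⟩
  have a3 : g ∈ Hn 3 := by
    rw [← stab_eq (l := 3) (by norm_num)]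
    exact ⟨a4, h1⟩
  have a2 : g ∈ Hn 2 := by
    rw [← stab_eq (l := 2) (by norm_num)]
    exact ⟨a3, h0⟩
  have a1 : g ∈ Hn 1 := by
    rw [← stab_eq (l := 1) (by norm_num)]
    exact ⟨a2, h3⟩
  have a0 : g ∈ Hn 0 := by
    rw [← stab_eq (l := 0) (by norm_num)]
    exact ⟨a1, h4⟩
  exact Subgroup.mem_bot.1 a0

/-! ### the generators as products of transpositions -/

theorem gs_eq : Equiv.swap (3 : Fin 12) 5 * Equiv.swap (3 : Fin 12) 4 * Equiv.swap (6 : Fin 12) 8 *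
    Equiv.swap (6 : Fin 12) 7 * Equiv.swap (9 : Fin 12) 11 * Equiv.swap (9 : Fin 12) 10 = gs := by
  decide +kernel

theorem gt_eq : Equiv.swap (3 : Fin 12) 9 * Equiv.swap (3 : Fin 12) 6 * Equiv.swap (4 : Fin 12) 10 *
    Equiv.swap (4 : Fin 12) 7 * Equiv.swap (5 : Fin 12) 11 * Equiv.swap (5 : Fin 12) 8 = gt := by
  decide +kernel

theorem gu_eq : Equiv.swap (4 : Fin 12) 9 * Equiv.swap (4 : Fin 12) 5 * Equiv.swap (4 : Fin 12) 6 *
    Equiv.swap (7 : Fin 12) 10 * Equiv.swap (7 : Fin 12) 11 * Equiv.swap (7 : Fin 12) 8 = gu := by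
  decide +kernel

theorem gv_eq : Equiv.swap (4 : Fin 12) 11 * Equiv.swap (4 : Fin 12) 5 * Equiv.swap (4 : Fin 12) 7 *
    Equiv.swap (6 : Fin 12) 8 * Equiv.swap (6 : Fin 12) 9 * Equiv.swap (6 : Fin 12) 10 = gv := by
  decide +kernel

theorem gw_eq : Equiv.swap (4 : Fin 12) 8 * Equiv.swap (4 : Fin 12) 5 * Equiv.swap (4 : Fin 12) 10 *
    Equiv.swap (6 : Fin 12) 7 * Equiv.swap (6 : Fin 12) 9 * Equiv.swap (6 : Fin 12) 11 = gw := by
  decide +kernel

theorem gx1_eq : Equiv.swap (0 : Fin 12) 3 * Equiv.swap (6 : Fin 12) 7 * Equiv.swap (8 : Fin 12) 10 *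
    Equiv.swap (9 : Fin 12) 11 = gx1 := by
  decide +kernel

theorem gx2_eq : Equiv.swap (0 : Fin 12) 1 * Equiv.swap (6 : Fin 12) 9 * Equiv.swap (7 : Fin 12) 10 *
    Equiv.swap (8 : Fin 12) 11 = gx2 := by
  decide +kernel

theorem gx3_eq : Equiv.swap (1 : Fin 12) 2 * Equiv.swap (6 : Fin 12) 11 * Equiv.swap (7 : Fin 12) 9 *
    Equiv.swap (8 : Fin 12) 10 = gx3 := by
  decide +kernel

theorem Y4_eq : Y 4 = {gs, gt, gu, gv, gw, gx1, gx2, gx3} := by
  ext g
  simp only [Y, Set.mem_ofPred_eq, Set.mem_insert_iff, Set.mem_singleton_iff]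
  constructor
  · rintro ⟨j, -, rfl⟩
    fin_cases j <;> simp [gen]
  · rintro (rfl | rfl | rfl | rfl | rfl | rfl | rfl | rfl)
    · exact ⟨3, by decide, rfl⟩
    · exact ⟨4, by decide, rfl⟩
    · exact ⟨0, by decide, rfl⟩
    · exact ⟨1, by decide, rfl⟩
    · exact ⟨2, by decide, rfl⟩
    · exact ⟨5, by decide, rfl⟩
    · exact ⟨6, by decide, rfl⟩
    · exact ⟨7, by decide, rfl⟩

theorem Y3_eq : Y 3 = {gs, gt, gu, gv, gw, gx1, gx2} := by
  ext g
  simp only [Y, Set.mem_ofPred_eq, Set.mem_insert_iff, Set.mem_singleton_iff]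
  constructor
  · rintro ⟨j, hj, rfl⟩
    fin_cases j <;> simp [gen, ngen] at hj ⊢
  · rintro (rfl | rfl | rfl | rfl | rfl | rfl | rfl)
    · exact ⟨3, by decide, rfl⟩
    · exact ⟨4, by decide, rfl⟩
    · exact ⟨0, by decide, rfl⟩
    · exact ⟨1, by decide, rfl⟩
    · exact ⟨2, by decide, rfl⟩
    · exact ⟨5, by decide, rfl⟩
    · exact ⟨6, by decide, rfl⟩

/-- the base tuple -/
def y0 : Fin 5 ↪ Fin 12 := ⟨![2, 1, 0, 3, 4], by decide⟩

theorem stab_y0 : MulAction.stabilizer (Hn 5) y0 = ⊥ := by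
  rw [eq_bot_iff]
  intro g hg
  rw [MulAction.mem_stabilizer_iff] at hg
  have h : ∀ i : Fin 5, (g : P) (y0 i) = y0 i := by
    intro i
    have := congrArg (fun y : Fin 5 ↪ Fin 12 => y i) hg
    exact this
  rw [Subgroup.mem_bot]
  apply Subtype.ext
  exact eq_one_of_fix g.2 (h 0) (h 1) (h 2) (h 3) (h 4)

theorem card_emb : Nat.card (Fin 5 ↪ Fin 12) = 95040 := by
  rw [Nat.card_eq_fintype_card, Fintype.card_embedding_eq]
  rfl

theorem orbit_y0 : MulAction.orbit (Hn 5) y0 = Set.univ := by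
  rw [Set.eq_univ_iff_ncard, card_emb]
  have h := Nat.card_congr (MulAction.orbitProdStabilizerEquivGroup (Hn 5) y0)
  rw [Nat.card_prod, stab_y0, Subgroup.card_bot, mul_one, card_Hn5] at h
  rw [← h]
  exact (Nat.card_coe_set_eq _).symm

/-- `Hn 5` is sharply 5-transitive -/
theorem sharp (G : Subgroup P) (hG : G = Hn 5) :
    MulAction.IsMultiplyPretransitive G (Fin 12) 5 ∧
      ∀ y : Fin 5 ↪ Fin 12, MulAction.stabilizer G y = ⊥ := by
  subst hG
  have hall : ∀ y : Fin 5 ↪ Fin 12, ∃ g : Hn 5, g • y0 = y := by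
    intro y
    have : y ∈ MulAction.orbit (Hn 5) y0 := by rw [orbit_y0]; trivial
    exact this
  refine ⟨(MulAction.isPretransitive_iff_base y0).2 hall, ?_⟩
  intro y
  obtain ⟨g, rfl⟩ := hall y
  have h := MulAction.stabilizer_smul_eq_stabilizer_map_conj g y0
  rw [stab_y0, Subgroup.map_bot] at h
  exact h

end Cfsg.Agent.Helper17.M12
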