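import Mathlib
import Cfsg.Agent.Helper27.M24Comm
import Cfsg.Agent.Helper27.M24InvolClass
import Cfsg.Agent.Helper22.GolayComb

/-!
The centraliser in `Cfsg.M24` of a fixed-point-free involution: order 7680, transitive, inside a sextet stabiliser.
Data generated by /tmp/m24/gen5607.py (helper17).
-/

set_option autoImplicit false

namespace Cfsg.Agent.Helper17.M24CentB

open Cfsg Cfsg.Agent.Helper27
open scoped Pointwise

/-- a fixed-point-free involution adapted to the base: 0↔1, 2↔3, 4↔5 -/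
def yT : List ℕ := [1, 0, 3, 2, 5, 4, 9, 17, 20, 6, 23, 22, 14, 15, 12, 13, 18, 7, 16, 21, 8, 19, 11, 10]

/-- conjugates `yT` to `zBT` -/
def conjYT : List ℕ := [0, 1, 2, 3, 4, 22, 18, 10, 19, 13, 12, 21, 7, 14, 9, 15, 8, 11, 23, 16, 5, 17, 20, 6]

def csY : List (List (ℕ × ℕ)) := [[], [(0, 1)], [], [(2, 3)], [], [(4, 5)], []]

/-- transversals for the stabiliser chain of the centraliser with base 0, 2, 4 -/
def cL0 : List (List ℕ) := [
  [0, 1, 2, 3, 4, 5, 6, 7, 8, 9, 10, 11, 12, 13, 14, 15, 16, 17, 18, 19, 20, 21, 22, 23],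
  [1, 0, 17, 7, 19, 21, 23, 4, 13, 10, 14, 11, 16, 20, 18, 8, 2, 5, 3, 9, 15, 6, 22, 12],
  [2, 3, 12, 14, 20, 8, 5, 1, 7, 4, 11, 6, 15, 10, 13, 23, 21, 0, 19, 18, 17, 16, 9, 22],
  [3, 2, 1, 0, 16, 18, 11, 15, 10, 22, 8, 6, 19, 17, 21, 7, 4, 13, 5, 12, 23, 14, 9, 20],
  [4, 5, 11, 22, 18, 16, 0, 6, 20, 1, 3, 14, 19, 15, 21, 13, 7, 9, 17, 23, 8, 10, 12, 2],
  [5, 4, 15, 13, 1, 0, 20, 18, 9, 8, 21, 14, 22, 3, 11, 2, 17, 16, 7, 23, 6, 10, 12, 19],
  [6, 9, 19, 21, 8, 20, 16, 23, 11, 18, 17, 2, 13, 1, 15, 0, 4, 10, 5, 14, 22, 12, 3, 7],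
  [7, 17, 20, 8, 4, 5, 13, 1, 6, 15, 11, 23, 12, 3, 14, 2, 19, 0, 21, 16, 9, 18, 10, 22],
  [8, 20, 22, 11, 6, 9, 0, 12, 21, 1, 5, 13, 2, 18, 3, 16, 7, 14, 17, 10, 19, 23, 15, 4],
  [9, 6, 15, 13, 12, 14, 8, 18, 17, 20, 19, 3, 4, 23, 5, 10, 11, 16, 22, 0, 7, 1, 2, 21],
  [10, 23, 21, 19, 15, 13, 16, 11, 12, 18, 0, 7, 8, 5, 20, 4, 6, 22, 9, 3, 14, 2, 17, 1],
  [11, 22, 18, 16, 6, 9, 19, 7, 4, 21, 23, 1, 2, 14, 3, 12, 8, 17, 20, 13, 5, 15, 0, 10],
  [12, 14, 23, 10, 8, 20, 7, 19, 11, 17, 18, 5, 13, 1, 15, 0, 3, 21, 2, 9, 22, 6, 4, 16],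
  [13, 15, 1, 0, 17, 7, 22, 19, 3, 11, 18, 20, 23, 6, 10, 9, 4, 21, 5, 14, 2, 12, 8, 16],
  [14, 12, 9, 6, 8, 20, 3, 1, 21, 2, 11, 4, 13, 16, 15, 18, 10, 0, 23, 17, 19, 7, 5, 22],
  [15, 13, 18, 16, 2, 3, 21, 1, 17, 19, 11, 8, 9, 23, 6, 10, 12, 0, 14, 5, 7, 4, 20, 22],
  [16, 18, 0, 1, 4, 5, 11, 20, 2, 22, 15, 19, 12, 9, 14, 6, 17, 8, 7, 10, 3, 23, 21, 13],
  [17, 7, 13, 15, 0, 1, 20, 12, 21, 8, 4, 10, 22, 16, 11, 18, 6, 14, 9, 2, 19, 3, 23, 5],
  [18, 16, 20, 8, 14, 12, 15, 10, 11, 13, 17, 19, 4, 0, 5, 1, 6, 23, 9, 3, 22, 2, 21, 7],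
  [19, 21, 17, 7, 6, 9, 10, 14, 11, 23, 5, 16, 3, 1, 2, 0, 20, 12, 8, 13, 22, 15, 18, 4],
  [20, 8, 19, 21, 10, 23, 18, 12, 0, 16, 5, 15, 17, 11, 7, 22, 6, 14, 9, 3, 1, 2, 13, 4],
  [21, 19, 12, 14, 23, 10, 5, 1, 13, 4, 11, 18, 17, 8, 7, 20, 2, 0, 3, 6, 15, 9, 16, 22],
  [22, 11, 3, 2, 21, 19, 6, 15, 12, 9, 8, 0, 18, 5, 16, 4, 17, 13, 7, 23, 14, 10, 1, 20],
  [23, 10, 4, 5, 18, 16, 14, 20, 0, 12, 15, 7, 19, 22, 21, 11, 6, 8, 9, 2, 1, 3, 17, 13]]

def cL1 : List (List ℕ) := [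
  [0, 1, 2, 3, 4, 5, 6, 7, 8, 9, 10, 11, 12, 13, 14, 15, 16, 17, 18, 19, 20, 21, 22, 23],
  [0, 1, 3, 2, 13, 15, 6, 21, 10, 9, 18, 22, 20, 17, 8, 7, 12, 19, 14, 4, 23, 5, 11, 16],
  [0, 1, 4, 5, 2, 3, 14, 19, 8, 12, 18, 11, 9, 13, 6, 15, 23, 21, 10, 7, 20, 17, 22, 16],
  [0, 1, 5, 4, 2, 3, 12, 18, 13, 14, 19, 11, 9, 8, 6, 20, 10, 16, 23, 17, 15, 7, 22, 21],
  [0, 1, 6, 9, 21, 19, 3, 15, 5, 2, 8, 22, 18, 12, 16, 14, 10, 13, 23, 7, 4, 17, 11, 20],
  [0, 1, 7, 17, 18, 16, 10, 12, 20, 23, 5, 22, 21, 13, 19, 15, 6, 14, 9, 3, 8, 2, 11, 4],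
  [0, 1, 8, 20, 14, 12, 13, 6, 18, 15, 2, 22, 4, 21, 5, 19, 7, 9, 17, 10, 16, 23, 11, 3],
  [0, 1, 9, 6, 8, 20, 2, 21, 17, 3, 18, 22, 15, 10, 13, 23, 4, 19, 5, 12, 7, 14, 11, 16],
  [0, 1, 10, 23, 15, 13, 17, 2, 12, 7, 9, 11, 20, 4, 8, 5, 19, 3, 21, 16, 14, 18, 22, 6],
  [0, 1, 12, 14, 18, 16, 5, 3, 7, 4, 6, 11, 19, 10, 21, 23, 13, 2, 15, 20, 17, 8, 22, 9],
  [0, 1, 13, 15, 6, 9, 8, 12, 23, 20, 5, 22, 2, 7, 3, 17, 18, 14, 16, 19, 10, 21, 11, 4],
  [0, 1, 14, 12, 6, 9, 4, 18, 8, 5, 19, 11, 3, 13, 2, 15, 17, 16, 7, 10, 20, 23, 22, 21],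
  [0, 1, 15, 13, 14, 12, 20, 3, 19, 8, 9, 22, 4, 16, 5, 18, 23, 2, 10, 17, 21, 7, 11, 6],
  [0, 1, 16, 18, 12, 14, 19, 15, 10, 21, 20, 11, 4, 7, 5, 17, 6, 13, 9, 2, 23, 3, 22, 8],
  [0, 1, 17, 7, 12, 14, 23, 21, 9, 10, 18, 22, 5, 3, 4, 2, 13, 19, 15, 8, 6, 20, 11, 16],
  [0, 1, 18, 16, 15, 13, 21, 4, 9, 19, 12, 11, 20, 2, 8, 3, 7, 5, 17, 23, 6, 10, 22, 14],
  [0, 1, 19, 21, 12, 14, 16, 13, 23, 18, 8, 11, 4, 17, 5, 7, 2, 15, 3, 6, 10, 9, 22, 20],
  [0, 1, 20, 8, 17, 7, 13, 16, 4, 15, 21, 11, 23, 12, 10, 14, 2, 18, 3, 6, 5, 9, 22, 19],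
  [0, 1, 21, 19, 9, 6, 16, 17, 12, 18, 10, 22, 3, 5, 2, 4, 13, 7, 15, 8, 14, 20, 11, 23],
  [0, 1, 23, 10, 6, 9, 7, 13, 19, 17, 8, 11, 3, 18, 2, 16, 5, 15, 4, 12, 21, 14, 22, 20]]

def cL2 : List (List ℕ) := [
  [0, 1, 2, 3, 4, 5, 6, 7, 8, 9, 10, 11, 12, 13, 14, 15, 16, 17, 18, 19, 20, 21, 22, 23],
  [0, 1, 2, 3, 5, 4, 6, 17, 13, 9, 23, 11, 14, 8, 12, 20, 21, 7, 19, 18, 15, 16, 22, 10],
  [0, 1, 2, 3, 7, 17, 6, 4, 19, 9, 12, 11, 10, 18, 23, 16, 15, 5, 13, 8, 21, 20, 22, 14],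
  [0, 1, 2, 3, 8, 20, 9, 19, 7, 6, 16, 22, 15, 23, 13, 10, 12, 21, 14, 4, 17, 5, 11, 18],
  [0, 1, 2, 3, 10, 23, 6, 12, 16, 9, 4, 11, 7, 21, 17, 19, 8, 14, 20, 15, 18, 13, 22, 5],
  [0, 1, 2, 3, 12, 14, 6, 10, 15, 9, 7, 11, 4, 20, 5, 8, 19, 23, 21, 16, 13, 18, 22, 17],
  [0, 1, 2, 3, 13, 15, 9, 18, 17, 6, 21, 22, 20, 10, 8, 23, 14, 16, 12, 5, 7, 4, 11, 19],
  [0, 1, 2, 3, 14, 12, 6, 23, 20, 9, 17, 11, 5, 15, 4, 13, 18, 10, 16, 21, 8, 19, 22, 7],
  [0, 1, 2, 3, 15, 13, 9, 16, 10, 6, 19, 22, 8, 17, 20, 7, 4, 18, 5, 12, 23, 14, 11, 21],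
  [0, 1, 2, 3, 16, 18, 9, 15, 12, 6, 8, 22, 19, 5, 21, 4, 7, 13, 17, 10, 14, 23, 11, 20],
  [0, 1, 2, 3, 17, 7, 6, 5, 18, 9, 14, 11, 23, 19, 10, 21, 20, 4, 8, 13, 16, 15, 22, 12],
  [0, 1, 2, 3, 18, 16, 9, 13, 5, 6, 20, 22, 21, 12, 19, 14, 23, 15, 10, 17, 4, 7, 11, 8],
  [0, 1, 2, 3, 19, 21, 9, 8, 4, 6, 15, 22, 16, 14, 18, 12, 10, 20, 23, 7, 5, 17, 11, 13],
  [0, 1, 2, 3, 20, 8, 9, 21, 23, 6, 18, 22, 13, 7, 15, 17, 5, 19, 4, 14, 10, 12, 11, 16],
  [0, 1, 2, 3, 21, 19, 9, 20, 14, 6, 13, 22, 18, 4, 16, 5, 17, 8, 7, 23, 12, 10, 11, 15],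
  [0, 1, 2, 3, 23, 10, 6, 14, 21, 9, 5, 11, 17, 16, 7, 18, 13, 12, 15, 20, 19, 8, 22, 4]]

theorem yT_valid : validTbl yT = true := by decide +kernel
theorem conjYT_valid : validTbl conjYT = true := by decide +kernel

/-- the fixed-point-free involution with table `yT` -/
noncomputable def yB : Equiv.Perm GolayPt := tblPerm yT yT_valid

theorem yB_rep : Represents yB yT := tblPerm_represents yT yT_valid

theorem exists_conj_yB {x : Equiv.Perm GolayPt} (h : ∃ k ∈ M24, k * x * k⁻¹ = zB) :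
    ∃ m ∈ M24, m * x * m⁻¹ = yB :=
  conj_to_rep (tblPerm_represents zBT zBT_valid) yB_rep conjYT_valid (by decide +kernel) (by decide +kernel) h

/-- the centraliser of `y` in `M24`, as a group of permutations -/
def centM (y : Equiv.Perm GolayPt) : Subgroup (Equiv.Perm GolayPt) where
  carrier := {c | c ∈ M24 ∧ c * y = y * c}
  mul_mem' := by
    rintro a b ⟨ha, ha'⟩ ⟨hb, hb'⟩
    refine ⟨M24.mul_mem ha hb, ?_⟩
    rw [mul_assoc, hb', ← mul_assoc, ha', mul_assoc]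
  one_mem' := ⟨M24.one_mem, by simp⟩
  inv_mem' := by
    rintro a ⟨ha, ha'⟩
    refine ⟨M24.inv_mem ha, ?_⟩
    have : a⁻¹ * y = a⁻¹ * (y * a) * a⁻¹ := by group
    rw [this, ← ha']
    group

theorem mem_centM (y c : Equiv.Perm GolayPt) : c ∈ centM y ↔ c ∈ M24 ∧ c * y = y * c := Iff.rfl

theorem self_mem_centM {y : Equiv.Perm GolayPt} (hy : y ∈ M24) : y ∈ centM y := ⟨hy, rfl⟩

theorem yB_mem : yB ∈ M24 := tblPerm_mem_M24 yT yT_valid (by decide +kernel)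

/-- commutation with `yT` on tables -/
def commY (T : List ℕ) : Bool := compT T yT == compT yT T

def certC (T : List ℕ) : Bool := tblInCode T && commY T

theorem certSoundC : CertSound (centM yB) certC := by
  intro T hv h
  simp only [certC, commY, Bool.and_eq_true, beq_iff_eq] at h
  refine ⟨tblPerm_mem_M24 T hv h.1, ?_⟩
  apply represents_unique (represents_compT (tblPerm_represents T hv) yB_rep)
  rw [h.2]
  exact represents_compT yB_rep (tblPerm_represents T hv)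

theorem commY_tblOf {c : Equiv.Perm GolayPt} (hc : c * yB = yB * c) : commY (tblOf c) = true := by
  simp only [commY, beq_iff_eq]
  apply represents_tbl_unique (represents_compT (represents_tblOf c) yB_rep)
  rw [hc]
  exact represents_compT yB_rep (represents_tblOf c)

/-- the tetrad {0, 1, 11, 22} -/
def tet0 : ℕ := 4196355

/-- membership of a 4-set in the sextet of `tet0`, on masks -/
def sextOK (m : ℕ) : Bool := (m == tet0) || (isOct (tet0 ||| m) && ((tet0 &&& m) == 0))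

/-- pruning: commute with `yT` and fix the point with index 0 -/
def ok0 (vs : List ℕ) : Bool := (vs.getD 0 0 == 0) && okC yT csY vs

/-- the leaves of the pruned enumeration of the elements of the centraliser fixing the point with index 0 -/
def leaves0 : List (List ℕ) := enumL chainL [] idT ok0

theorem mem_fix0_iff (c : Equiv.Perm GolayPt) :
    c ∈ fixH (centM yB) (ptsOf [0]) ↔ c ∈ centM yB ∧ c (pt 0) = pt 0 := by
  rw [mem_fixH]
  constructor
  · rintro ⟨h1, h2⟩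
    exact ⟨h1, h2 _ ((mem_ptsOf _ _).mpr ⟨0, by simp, rfl⟩)⟩
  · rintro ⟨h1, h2⟩
    refine ⟨h1, ?_⟩
    intro q hq
    obtain ⟨f, hf, rfl⟩ := (mem_ptsOf _ _).mp hq
    simp only [List.mem_singleton] at hf
    subst hf
    exact h2

theorem tblOf_mem_leaves0 {c : Equiv.Perm GolayPt} (hc : c ∈ centM yB) (h0 : c (pt 0) = pt 0) :
    tblOf c ∈ leaves0 := by
  apply m24_enum_sound ok0 hc.1
  intro n hn1 hn
  simp only [ok0, Bool.and_eq_true, beq_iff_eq]
  constructor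
  · rw [baseImgs_getD _ hn (by omega)]
    have : baseL.getD 0 0 = 0 := rfl
    rw [this, tblOf_getD c (show 0 < 24 by norm_num), h0, idx_pt (show 0 < 24 by norm_num)]
  · exact okC_sound (cs := csY) yB_rep yB_rep (by decide +kernel) hc.2 n hn1 hn

set_option maxRecDepth 100000 in
theorem leaves0_count : (leaves0.filter commY).length = 320 := by decide +kernel

set_option maxRecDepth 100000 in
theorem leaves0_sextet : leaves0.all (fun T => !(commY T) || sextOK (applyTbl T tet0)) = true := by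
  decide +kernel

theorem card_fix0_le : Nat.card (fixH (centM yB) (ptsOf [0])) ≤ 320 := by
  have hmem : ∀ c : fixH (centM yB) (ptsOf [0]), tblOf c.1 ∈ (leaves0.filter commY).toFinset := by
    intro c
    obtain ⟨h1, h2⟩ := (mem_fix0_iff c.1).mp c.2
    rw [List.mem_toFinset, List.mem_filter]
    exact ⟨tblOf_mem_leaves0 h1 h2, commY_tblOf h1.2⟩
  have hinj : Function.Injective (fun c : fixH (centM yB) (ptsOf [0]) =>
      (⟨tblOf c.1, hmem c⟩ : {T // T ∈ (leaves0.filter commY).toFinset})) := by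
    intro a b hab
    have h1 : tblOf a.1 = tblOf b.1 := congrArg Subtype.val hab
    apply Subtype.ext
    have ha := represents_tblOf a.1
    rw [h1] at ha
    exact represents_unique ha (represents_tblOf b.1)
  calc Nat.card (fixH (centM yB) (ptsOf [0])) ≤ Nat.card {T // T ∈ (leaves0.filter commY).toFinset} :=
        Nat.card_le_card_of_injective _ hinj
    _ = (leaves0.filter commY).toFinset.card := by
        rw [Nat.card_eq_fintype_card, Fintype.card_coe]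
    _ ≤ (leaves0.filter commY).length := List.toFinset_card_le _
    _ = 320 := leaves0_count

theorem card_centM_le : Nat.card (centM yB) ≤ 7680 := by
  have h0 := card_fixH_insert (centM yB) (ptsOf []) (pt 0)
  rw [← ptsOf_cons] at h0
  have he : ptsOf [] = ∅ := rfl
  rw [he, fixH_empty] at h0
  rw [h0]
  have h1 : (orbitSet (centM yB) (pt 0)).ncard ≤ 24 := by
    have := Set.ncard_le_card (orbitSet (centM yB) (pt 0))
    have h24 : Nat.card GolayPt = 24 := by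
      rw [Nat.card_eq_fintype_card]
      decide
    omega
  calc _ ≤ 24 * 320 := Nat.mul_le_mul h1 card_fix0_le
    _ = 7680 := by norm_num

theorem orbit_ge {H : Subgroup (Equiv.Perm GolayPt)} {cert : List ℕ → Bool} (hc : CertSound H cert)
    {fixed : List ℕ} {L : List (List ℕ)} (hfix : ∀ f ∈ fixed, f < 24) {a : ℕ} (ha : a < 24)
    (h : transOKH cert fixed L = true) :
    popc 24 (transImg a L) ≤ (orbitSet (fixH H (ptsOf fixed)) (pt a)).ncard := by
  rw [← card_maskSet, ← Set.ncard_coe_finset]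
  apply Set.ncard_le_ncard _ (Set.toFinite _)
  intro b hb
  exact trans_soundH hc hfix ha h b hb

theorem transOK_cL0 : transOKH certC [] cL0 = true := by decide +kernel
theorem transOK_cL1 : transOKH certC [0] cL1 = true := by decide +kernel
theorem transOK_cL2 : transOKH certC [2, 0] cL2 = true := by decide +kernel

theorem card_centM_ge : 7680 ≤ Nat.card (centM yB) := by
  have h0 := card_fixH_insert (centM yB) (ptsOf []) (pt 0)
  have h1 := card_fixH_insert (centM yB) (ptsOf [0]) (pt 2)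
  have h2 := card_fixH_insert (centM yB) (ptsOf [2, 0]) (pt 4)
  rw [← ptsOf_cons] at h0 h1 h2
  have o0 := orbit_ge certSoundC (fixed := []) (a := 0) (by simp) (by norm_num) transOK_cL0
  have o1 := orbit_ge certSoundC (fixed := [0]) (a := 2) (by simp) (by norm_num) transOK_cL1
  have o2 := orbit_ge certSoundC (fixed := [2, 0]) (a := 4) (by simp) (by norm_num) transOK_cL2
  have e0 : popc 24 (transImg 0 cL0) = 24 := by decide +kernel
  have e1 : popc 24 (transImg 2 cL1) = 20 := by decide +kernel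
  have e2 : popc 24 (transImg 4 cL2) = 16 := by decide +kernel
  rw [e0] at o0
  rw [e1] at o1
  rw [e2] at o2
  have hpos : 1 ≤ Nat.card (fixH (centM yB) (ptsOf [4, 2, 0])) := Nat.card_pos
  have he : ptsOf [] = ∅ := rfl
  rw [he, fixH_empty] at h0 o0
  rw [h0, h1, h2]
  calc 7680 = 24 * (20 * (16 * 1)) := by norm_num
    _ ≤ _ := Nat.mul_le_mul o0 (Nat.mul_le_mul o1 (Nat.mul_le_mul o2 hpos))

theorem card_centM : Nat.card (centM yB) = 7680 := le_antisymm card_centM_le card_centM_ge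

/-! ### The invariant sextet -/

open Cfsg.Agent.Helper22.GolayComb in
theorem smul_sextet_mem {g : Equiv.Perm GolayPt} (hg : g ∈ M24) {S : Finset (Finset GolayPt)} (hS : S ∈ sextets) :
    g • S ∈ sextets := by
  refine ⟨by rw [Finset.card_smul_finset]; exact hS.1, ?_, ?_⟩
  · intro u hu
    obtain ⟨t, ht, rfl⟩ := Finset.mem_smul_finset.mp hu
    rw [Finset.card_smul_finset]
    exact hS.2.1 t ht
  · intro u hu v hv huv
    obtain ⟨t, ht, rfl⟩ := Finset.mem_smul_finset.mp hu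
    obtain ⟨t', ht', rfl⟩ := Finset.mem_smul_finset.mp hv
    have hne : t ≠ t' := fun h => huv (by rw [h])
    rw [← Finset.smul_finset_union]
    exact smul_octad_mem hg (hS.2.2 t ht t' ht' hne)

open Cfsg.Agent.Helper22.GolayComb in
theorem smul_sext_eq {g : Equiv.Perm GolayPt} (hg : g ∈ M24) {t : Finset GolayPt} (ht : t.card = 4)
    (h : g • t ∈ sextetOf t) : g • sextetOf t = sextetOf t := by
  have h1 : g • sextetOf t ∈ sextets := smul_sextet_mem hg (sextetOf_mem ht)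
  have h2 : g • t ∈ g • sextetOf t := Finset.smul_mem_smul_finset (mem_sextetOf_self t)
  have hc : (g • t).card = 4 := by rw [Finset.card_smul_finset, ht]
  rw [eq_sextetOf hc h1 h2, ← eq_sextetOf hc (sextetOf_mem ht) h]

theorem tet0_card : (maskSet tet0).card = 4 := by rw [card_maskSet]; decide +kernel

/-- the sextet of the tetrad `tet0` -/
noncomputable def sext0 : Finset (Finset GolayPt) := Cfsg.Agent.Helper22.GolayComb.sextetOf (maskSet tet0)

theorem sext0_mem : sext0 ∈ sextets := Cfsg.Agent.Helper22.GolayComb.sextetOf_mem tet0_card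

theorem maskSet_zero' : maskSet 0 = ∅ := by
  ext q
  rw [mem_maskSet]
  simp

open Cfsg.Agent.Helper22.GolayComb in
theorem mem_sext0_of_sextOK {m : ℕ} (h : sextOK m = true) : maskSet m ∈ sext0 := by
  simp only [sextOK, Bool.or_eq_true, Bool.and_eq_true, beq_iff_eq] at h
  rcases h with rfl | ⟨ho, hd⟩
  · exact mem_sextetOf_self _
  · rw [sext0, sextetOf, Finset.mem_insert, Finset.mem_image]
    right
    refine ⟨maskSet (tet0 ||| m), (mem_octThrough _ _).mpr ⟨maskSet_mem_octads ho, ?_⟩, ?_⟩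
    · rw [maskSet_or]; exact Finset.subset_union_left
    · rw [maskSet_or]
      have hdis : Disjoint (maskSet tet0) (maskSet m) := by
        rw [Finset.disjoint_iff_inter_eq_empty, ← maskSet_and, hd, maskSet_zero']
      exact Finset.union_sdiff_cancel_left hdis

theorem maskSet_applyTbl' {c : Equiv.Perm GolayPt} {T : List ℕ} (h : Represents c T) (n : ℕ) :
    maskSet (applyTbl T n) = c⁻¹ • maskSet n := by
  ext q
  have h1 : q ∈ c⁻¹ • maskSet n ↔ c q ∈ maskSet n := by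
    have := mem_smul_finset_perm c⁻¹ (maskSet n) (c q)
    have h2 : c⁻¹ (c q) = q := by simp
    rw [h2] at this
    exact this
  rw [h1, mem_maskSet, mem_maskSet, testBit_applyTbl T n (idx q) (by rw [h.1]; exact idx_lt q), h.2 q]

/-- a permutation in `M24` whose table passes the sextet test keeps the sextet `sext0` -/
theorem smul_sext0_of_sextOK {c : Equiv.Perm GolayPt} (hc : c ∈ M24) {T : List ℕ} (hT : Represents c T)
    (h : sextOK (applyTbl T tet0) = true) : c • sext0 = sext0 := by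
  have h3 := mem_sext0_of_sextOK h
  rw [maskSet_applyTbl' hT] at h3
  have h4 : c⁻¹ • sext0 = sext0 := smul_sext_eq (M24.inv_mem hc) tet0_card h3
  calc c • sext0 = c • (c⁻¹ • sext0) := by rw [h4]
    _ = sext0 := by rw [smul_smul, mul_inv_cancel, one_smul]

theorem fix0_smul_sext0 {c : Equiv.Perm GolayPt} (hc : c ∈ centM yB) (h0 : c (pt 0) = pt 0) :
    c • sext0 = sext0 := by
  have h1 := tblOf_mem_leaves0 hc h0
  have h2 := List.all_eq_true.mp leaves0_sextet _ h1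
  rw [commY_tblOf hc.2] at h2
  simp only [Bool.not_true, Bool.false_or] at h2
  exact smul_sext0_of_sextOK hc.1 (represents_tblOf c) h2

theorem cL0_check : cL0.all (fun T => validTbl T && certC T && sextOK (applyTbl T tet0)) = true := by
  decide +kernel

/-- the transversal: for every point `q` an element of the centraliser mapping the point 0 to `q` and keeping the
sextet -/
theorem exists_centM_map_zero (q : GolayPt) : ∃ c ∈ centM yB, c (pt 0) = q ∧ c • sext0 = sext0 := by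
  have hq : q ∈ maskSet (transImg 0 cL0) := by
    have e : transImg 0 cL0 = onesMask := by decide +kernel
    rw [e, maskSet_ones]
    exact Finset.mem_univ q
  rw [mem_maskSet, transImg, testBit_tblMask] at hq
  simp only [decide_eq_true_eq, List.mem_map] at hq
  obtain ⟨T, hT, hTq⟩ := hq
  have h := List.all_eq_true.mp cL0_check T hT
  simp only [Bool.and_eq_true] at h
  obtain ⟨⟨hv, hcert⟩, hs⟩ := h
  have hmem := certSoundC T hv hcert
  refine ⟨tblPerm T hv, hmem, ?_, smul_sext0_of_sextOK hmem.1 (tblPerm_represents T hv) hs⟩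
  rw [tblPerm_pt T hv (show 0 < 24 by norm_num), hTq, pt_idx]

theorem centM_transitive (p q : GolayPt) : ∃ c ∈ centM yB, c p = q := by
  obtain ⟨a, ha, hap, -⟩ := exists_centM_map_zero p
  obtain ⟨b, hb, hbq, -⟩ := exists_centM_map_zero q
  refine ⟨b * a⁻¹, (centM yB).mul_mem hb ((centM yB).inv_mem ha), ?_⟩
  rw [Equiv.Perm.mul_apply, ← hap]
  simp [hbq]

theorem centM_smul_sext0 {c : Equiv.Perm GolayPt} (hc : c ∈ centM yB) : c • sext0 = sext0 := by
  obtain ⟨l, hl, hl0, hls⟩ := exists_centM_map_zero (c (pt 0))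
  have h1 : l⁻¹ * c ∈ centM yB := (centM yB).mul_mem ((centM yB).inv_mem hl) hc
  have h2 : (l⁻¹ * c) (pt 0) = pt 0 := by
    rw [Equiv.Perm.mul_apply, ← hl0]
    simp
  have h3 := fix0_smul_sext0 h1 h2
  calc c • sext0 = l • ((l⁻¹ * c) • sext0) := by rw [smul_smul, mul_inv_cancel_left]
    _ = sext0 := by rw [h3, hls]

theorem conj_mem_centM {m t y : Equiv.Perm GolayPt} (hm : m ∈ M24) (h : m * t * m⁻¹ = y) (c : Equiv.Perm GolayPt) :
    (c ∈ M24 ∧ c * t = t * c) ↔ m * c * m⁻¹ ∈ centM y := by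
  subst h
  constructor
  · rintro ⟨hc, hct⟩
    refine ⟨M24.mul_mem (M24.mul_mem hm hc) (M24.inv_mem hm), ?_⟩
    calc m * c * m⁻¹ * (m * t * m⁻¹) = m * (c * t) * m⁻¹ := by group
      _ = m * (t * c) * m⁻¹ := by rw [hct]
      _ = m * t * m⁻¹ * (m * c * m⁻¹) := by group
  · rintro ⟨hc, hct⟩
    constructor
    · have : c = m⁻¹ * (m * c * m⁻¹) * m := by group
      rw [this]
      exact M24.mul_mem (M24.mul_mem (M24.inv_mem hm) hc) hm
    · have h1 : m * (c * t) * m⁻¹ = m * (t * c) * m⁻¹ := by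
        calc m * (c * t) * m⁻¹ = m * c * m⁻¹ * (m * t * m⁻¹) := by group
          _ = m * t * m⁻¹ * (m * c * m⁻¹) := hct
          _ = m * (t * c) * m⁻¹ := by group
      exact mul_left_cancel (mul_right_cancel h1)

end Cfsg.Agent.Helper17.M24CentB
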