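import Mathlib
import Cfsg.Agent.Helper17.Basic

/-!
# Manning's theorem on extremely primitive groups

If `G` is primitive on `Ω` with non-trivial point stabilizers, each acting primitively on each of
its orbits, then `G_α` acts faithfully on each orbit other than `{α}`.
-/

set_option autoImplicit false

open MulAction
open scoped Pointwise

namespace Cfsg.Agent.Helper17

section Manning

variable {G : Type*} [Group G] {Ω : Type*} [MulAction G Ω]

/-- The kernel of `G_α` on the orbit `G_α ω`. -/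
def mKer (α ω : Ω) : Subgroup G where
  carrier := {h | h • α = α ∧ ∀ g : G, g • α = α → h • (g • ω) = g • ω}
  one_mem' := ⟨one_smul _ _, fun g _ => one_smul _ _⟩
  mul_mem' := by
    rintro a b ⟨ha, ha'⟩ ⟨hb, hb'⟩
    refine ⟨by rw [mul_smul, hb, ha], fun g hg => ?_⟩
    rw [mul_smul, hb' g hg, ha' g hg]
  inv_mem' := by
    rintro a ⟨ha, ha'⟩
    refine ⟨by rw [inv_smul_eq_iff, ha], fun g hg => ?_⟩
    rw [inv_smul_eq_iff, ha' g hg]

theorem mem_mKer {α ω : Ω} {h : G} :
    h ∈ mKer (G := G) α ω ↔ h • α = α ∧ ∀ g : G, g • α = α → h • (g • ω) = g • ω := Iff.rfl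

theorem mKer_le_stabilizer (α ω : Ω) : mKer (G := G) α ω ≤ stabilizer G α :=
  fun _ h => h.1

theorem mKer_fix (α ω : Ω) {h : G} (hh : h ∈ mKer (G := G) α ω) : h • ω = ω := by
  have := hh.2 1 (one_smul _ _)
  rwa [one_smul] at this

theorem mKer_le_stabilizer' (α ω : Ω) : mKer (G := G) α ω ≤ stabilizer G ω :=
  fun _ h => mKer_fix α ω h

theorem mKer_conj_mem (α ω : Ω) {h : G} (hh : h ∈ mKer (G := G) α ω) (x : G) :
    x * h * x⁻¹ ∈ mKer (G := G) (x • α) (x • ω) := by
  refine ⟨?_, fun g hg => ?_⟩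
  · rw [mul_smul, mul_smul, inv_smul_smul, hh.1]
  · have hg' : (x⁻¹ * g * x) • α = α := by
      rw [mul_smul, mul_smul, hg, inv_smul_smul]
    have := hh.2 _ hg'
    rw [mul_smul, mul_smul] at this
    rw [mul_smul, mul_smul]
    calc x • h • x⁻¹ • g • x • ω = x • x⁻¹ • g • x • ω := by rw [this]
      _ = g • x • ω := by rw [smul_inv_smul]

theorem mKer_normal (α ω : Ω) {h : G} (hh : h ∈ mKer (G := G) α ω) {x : G} (hx : x • α = α) :
    x * h * x⁻¹ ∈ mKer (G := G) α ω := by
  refine ⟨?_, fun g hg => ?_⟩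
  · have hx' : x⁻¹ • α = α := by rw [inv_smul_eq_iff, hx]
    rw [mul_smul, mul_smul, hx', hh.1, hx]
  · have hx' : x⁻¹ • α = α := by rw [inv_smul_eq_iff, hx]
    have hg' : (x⁻¹ * g) • α = α := by rw [mul_smul, hg, hx']
    have := hh.2 _ hg'
    rw [mul_smul] at this
    rw [mul_smul, mul_smul, this, smul_inv_smul]

theorem card_mKer_smul [Finite G] (α ω : Ω) (x : G) :
    Nat.card (mKer (G := G) (x • α) (x • ω)) = Nat.card (mKer (G := G) α ω) := by
  apply Nat.card_congr
  refine
    { toFun := fun h => ⟨x⁻¹ * h.1 * x, ?_⟩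
      invFun := fun h => ⟨x * h.1 * x⁻¹, mKer_conj_mem α ω h.2 x⟩
      left_inv := fun h => by ext; simp [mul_assoc]
      right_inv := fun h => by ext; simp [mul_assoc] }
  have := mKer_conj_mem (x • α) (x • ω) h.2 x⁻¹
  rwa [inv_smul_smul, inv_smul_smul, inv_inv] at this

/-! ### Suborbit sizes -/

theorem orbCard_mul (α ω : Ω) :
    Nat.card (orbit (stabilizer G α) ω) *
      Nat.card (stabilizer G α ⊓ stabilizer G ω : Subgroup G) = Nat.card (stabilizer G α) := by
  have := card_orbitSet_mul_card_inf_stabilizer (stabilizer G α) ω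
  rwa [setOf_exists_mem_smul_eq] at this

theorem card_stab_smul (x : G) (α : Ω) :
    Nat.card (stabilizer G (x • α)) = Nat.card (stabilizer G α) := by
  rw [stabilizer_smul_eq_stabilizer_map_conj]
  exact Subgroup.card_map_of_injective (MulAut.conj x).injective

theorem card_stab_inf_smul (x : G) (α ω : Ω) :
    Nat.card (stabilizer G (x • α) ⊓ stabilizer G (x • ω) : Subgroup G) =
      Nat.card (stabilizer G α ⊓ stabilizer G ω : Subgroup G) := by
  rw [stabilizer_smul_eq_stabilizer_map_conj, stabilizer_smul_eq_stabilizer_map_conj,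
    ← Subgroup.map_inf _ _ _ (MulAut.conj x).injective]
  exact Subgroup.card_map_of_injective (MulAut.conj x).injective

theorem orbCard_smul [Finite G] (x : G) (α ω : Ω) :
    Nat.card (orbit (stabilizer G (x • α)) (x • ω)) = Nat.card (orbit (stabilizer G α) ω) := by
  have h1 := orbCard_mul (G := G) (x • α) (x • ω)
  have h2 := orbCard_mul (G := G) α ω
  rw [card_stab_smul, card_stab_inf_smul, ← h2] at h1
  exact Nat.eq_of_mul_eq_mul_right Nat.card_pos h1

theorem orbCard_symm [Finite G] [IsPretransitive G Ω] (α β : Ω) :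
    Nat.card (orbit (stabilizer G α) β) = Nat.card (orbit (stabilizer G β) α) := by
  have h1 := orbCard_mul (G := G) α β
  have h2 := orbCard_mul (G := G) β α
  obtain ⟨x, rfl⟩ := exists_smul_eq G α β
  rw [card_stab_smul, inf_comm, ← h1] at h2
  exact (Nat.eq_of_mul_eq_mul_right Nat.card_pos h2).symm

theorem orbCard_of_mem {α ω ω' : Ω} (h : ω' ∈ orbit (stabilizer G α) ω) :
    Nat.card (orbit (stabilizer G α) ω') = Nat.card (orbit (stabilizer G α) ω) := by
  rw [orbit_eq_iff.mpr h]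

/-! ### Extremely primitive groups: clean hypotheses -/

/-- Clean form of the hypotheses of an extremely primitive group. -/
structure ExtPrim (G : Type*) [Group G] (Ω : Type*) [MulAction G Ω] : Prop where
  trans : IsPretransitive G Ω
  faith : ∀ g : G, (∀ x : Ω, g • x = x) → g = 1
  coatom : ∀ α : Ω, IsCoatom (stabilizer G α)
  ne_bot : ∀ α : Ω, stabilizer G α ≠ ⊥
  quasi : ∀ (α ω : Ω) (N : Subgroup G), N ≤ stabilizer G α →
    (∀ h ∈ stabilizer G α, ∀ k ∈ N, h * k * h⁻¹ ∈ N) → (∃ n ∈ N, n • ω ≠ ω) →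
    ∀ h ∈ stabilizer G α, ∃ n ∈ N, n • ω = h • ω

variable (E : ExtPrim G Ω)
include E

/-- A subgroup of `G_α` normalized by an element outside `G_α` and by `G_α` is trivial. -/
theorem ExtPrim.eq_bot_of_normalized {α : Ω} {K : Subgroup G} (hK : K ≤ stabilizer G α)
    (hn : ∀ h ∈ stabilizer G α, ∀ k ∈ K, h * k * h⁻¹ ∈ K) {g : G} (hg : g • α ≠ α)
    (hgn : ∀ k ∈ K, g * k * g⁻¹ ∈ K) (hgn' : ∀ k ∈ K, g⁻¹ * k * g ∈ K) : K = ⊥ := by
  have hle : stabilizer G α ≤ Subgroup.normalizer (K : Set G) :=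
    Subgroup.le_normalizer_iff.mpr hn
  have hgN : g ∈ Subgroup.normalizer (K : Set G) := by
    rw [Subgroup.mem_normalizer_iff]
    intro k
    constructor
    · exact hgn k
    · intro h
      have := hgn' _ h
      simpa [mul_assoc] using this
  have htop : Subgroup.normalizer (K : Set G) = ⊤ := by
    rcases (E.coatom α).le_iff.mp hle with h | h
    · exact h
    · exfalso; apply hg
      rw [h] at hgN
      exact hgN
  have hnormal : K.Normal := Subgroup.normalizer_eq_top_iff.mp htop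
  rw [eq_bot_iff]
  intro k hk
  rw [Subgroup.mem_bot]
  apply E.faith
  intro x
  obtain ⟨y, rfl⟩ := E.trans.exists_smul_eq α x
  have h1 : y⁻¹ * k * y ∈ K := by
    have := hnormal.conj_mem k hk y⁻¹
    simpa using this
  have h2 := hK h1
  rw [mem_stabilizer_iff, mul_smul, mul_smul, inv_smul_eq_iff] at h2
  exact h2

theorem ExtPrim.fix_stab {α β : Ω} (h : stabilizer G α ≤ stabilizer G β) : β = α := by
  by_contra hne
  obtain ⟨g, hg⟩ := E.trans.exists_smul_eq α β
  have heq : stabilizer G α = stabilizer G β :=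
    ((E.coatom α).le_iff.mp h).resolve_left (E.coatom β).1 |>.symm
  apply E.ne_bot α
  refine E.eq_bot_of_normalized le_rfl (fun h hh k hk => ?_) (g := g) (by rw [hg]; exact hne)
    (fun k hk => ?_) (fun k hk => ?_)
  · exact Subgroup.mul_mem _ (Subgroup.mul_mem _ hh hk) (Subgroup.inv_mem _ hh)
  · -- g k g⁻¹ ∈ G_β = G_α
    rw [heq, ← hg, mem_stabilizer_iff, mul_smul, mul_smul, inv_smul_smul,
      mem_stabilizer_iff.mp hk]
  · -- g⁻¹ k g ∈ G_α  since k ∈ G_β
    have hk' : k ∈ stabilizer G β := heq ▸ hk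
    rw [mem_stabilizer_iff, mul_smul, mul_smul, hg, mem_stabilizer_iff.mp hk', ← hg,
      inv_smul_smul]

theorem ExtPrim.sup_eq_top {α β : Ω} (hne : β ≠ α) :
    stabilizer G α ⊔ stabilizer G β = ⊤ := by
  rcases (E.coatom α).le_iff.mp (le_sup_left : stabilizer G α ≤ stabilizer G α ⊔ stabilizer G β)
    with h | h
  · exact h
  · exfalso
    have : stabilizer G β ≤ stabilizer G α := by
      rw [← h]; exact le_sup_right
    exact hne (E.fix_stab this).symm

/-- Key inequality: a normal subgroup `N` of `G_α` fixing `β ≠ α` and moving `δ` gives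
`|G_α δ| < |G_β δ|`. -/
theorem ExtPrim.orbCard_lt [Finite G] [Finite Ω] {α β δ : Ω} {N : Subgroup G}
    (hN : N ≤ stabilizer G α)
    (hn : ∀ h ∈ stabilizer G α, ∀ k ∈ N, h * k * h⁻¹ ∈ N) (hβ : β ≠ α) (hNβ : N ≤ stabilizer G β)
    (hδ : ∃ n ∈ N, n • δ ≠ δ) :
    Nat.card (orbit (stabilizer G α) δ) < Nat.card (orbit (stabilizer G β) δ) := by
  have hsub : orbit (stabilizer G α) δ ⊆ orbit (stabilizer G β) δ := by
    rintro _ ⟨⟨h, hh⟩, rfl⟩
    obtain ⟨n, hnN, hnδ⟩ := E.quasi α δ N hN hn hδ h hh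
    exact ⟨⟨n, hNβ hnN⟩, hnδ⟩
  have hfin : (orbit (stabilizer G β) δ).Finite := Set.toFinite _
  rcases (Nat.card_mono hfin hsub).lt_or_eq with h | h
  · exact h
  exfalso
  have heq : orbit (stabilizer G α) δ = orbit (stabilizer G β) δ := by
    apply Set.eq_of_subset_of_ncard_le hsub _ hfin
    rw [← Nat.card_coe_set_eq, ← Nat.card_coe_set_eq, h]
  -- the common orbit is invariant under G_α and G_β, hence under G
  have hinv : ∀ g : G, ∀ x, g • x ∈ orbit (stabilizer G α) δ ↔ x ∈ orbit (stabilizer G α) δ := by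
    have hle : stabilizer G α ⊔ stabilizer G β ≤
        stabilizer G (orbit (stabilizer G α) δ) := by
      rw [sup_le_iff]
      constructor
      · intro g hg
        rw [mem_stabilizer_set]
        intro x
        constructor
        · rintro ⟨⟨h, hh⟩, hx⟩
          refine ⟨⟨g⁻¹ * h, Subgroup.mul_mem _ (Subgroup.inv_mem _ hg) hh⟩, ?_⟩
          show (g⁻¹ * h) • δ = x
          have hx' : h • δ = g • x := hx
          rw [mul_smul, hx', inv_smul_smul]
        · rintro ⟨⟨h, hh⟩, rfl⟩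
          exact ⟨⟨g * h, Subgroup.mul_mem _ hg hh⟩, mul_smul _ _ _⟩
      · intro g hg
        rw [heq, mem_stabilizer_set]
        intro x
        constructor
        · rintro ⟨⟨h, hh⟩, hx⟩
          refine ⟨⟨g⁻¹ * h, Subgroup.mul_mem _ (Subgroup.inv_mem _ hg) hh⟩, ?_⟩
          show (g⁻¹ * h) • δ = x
          have hx' : h • δ = g • x := hx
          rw [mul_smul, hx', inv_smul_smul]
        · rintro ⟨⟨h, hh⟩, rfl⟩
          exact ⟨⟨g * h, Subgroup.mul_mem _ hg hh⟩, mul_smul _ _ _⟩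
    rw [E.sup_eq_top hβ] at hle
    intro g x
    exact mem_stabilizer_set.mp (hle (Subgroup.mem_top g)) x
  obtain ⟨g, hg⟩ := E.trans.exists_smul_eq δ α
  have hα : α ∈ orbit (stabilizer G α) δ := by
    have := (hinv g δ).mpr (mem_orbit_self _)
    rwa [hg] at this
  obtain ⟨⟨h, hh⟩, hh'⟩ := hα
  have hh'' : h • δ = α := hh'
  have hδα : δ = α := by
    have : h⁻¹ • α = δ := by rw [← hh'', inv_smul_smul]
    rw [← this, inv_smul_eq_iff]
    exact (mem_stabilizer_iff.mp hh).symm
  obtain ⟨n, hnN, hnδ⟩ := hδ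
  apply hnδ
  rw [hδα]
  exact mem_stabilizer_iff.mp (hN hnN)

/-- Manning's theorem, inductive form. -/
theorem ExtPrim.mKer_eq_bot_aux [Finite G] [Finite Ω] : ∀ k : ℕ, ∀ α ω : Ω, ω ≠ α →
    Nat.card (orbit (stabilizer G α) ω) = k → mKer (G := G) α ω = ⊥ := by
  intro k
  induction k using Nat.strong_induction_on with
  | _ k ih =>
  intro α β hβα hk
  by_contra hK
  have := E.trans
  obtain ⟨K, hKdef⟩ : ∃ K : Subgroup G, K = mKer (G := G) α β := ⟨_, rfl⟩
  rw [← hKdef] at hK
  have hKα : K ≤ stabilizer G α := hKdef ▸ mKer_le_stabilizer α β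
  have hKβ : K ≤ stabilizer G β := hKdef ▸ mKer_le_stabilizer' α β
  have hKn : ∀ h ∈ stabilizer G α, ∀ k ∈ K, h * k * h⁻¹ ∈ K := by
    intro h hh k hk
    rw [hKdef] at hk ⊢
    exact mKer_normal α β hk hh
  obtain ⟨g, hg⟩ := E.trans.exists_smul_eq α β
  obtain ⟨ω', hω'⟩ : ∃ ω' : Ω, ω' = g • β := ⟨_, rfl⟩
  obtain ⟨K', hK'def⟩ : ∃ K' : Subgroup G, K' = mKer (G := G) β ω' := ⟨_, rfl⟩
  have hcard : Nat.card K' = Nat.card K := by
    rw [hK'def, hKdef, hω', ← hg]
    exact card_mKer_smul α (g • α) g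
  have hK'β : K' ≤ stabilizer G β := hK'def ▸ mKer_le_stabilizer β ω'
  have hK'n : ∀ h ∈ stabilizer G β, ∀ k ∈ K', h * k * h⁻¹ ∈ K' := by
    intro h hh k hk
    rw [hK'def] at hk ⊢
    exact mKer_normal β ω' hk hh
  have hk' : Nat.card (orbit (stabilizer G β) ω') = k := by
    rw [hω', ← hk]
    conv_lhs => rw [← hg]
    exact orbCard_smul g α (g • α) |>.trans (by rw [hg])
  -- Claim 2a: K moves some point of the orbit `G_β ω'`
  have h2a : ∃ δ ∈ orbit (stabilizer G β) ω', ∃ n ∈ K, n • δ ≠ δ := by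
    by_contra hcon
    push Not at hcon
    have hle : K ≤ K' := by
      intro x hx
      rw [hK'def]
      refine ⟨mem_stabilizer_iff.mp (hKβ hx), fun y hy => ?_⟩
      exact hcon (y • ω') ⟨⟨y, hy⟩, rfl⟩ x hx
    have heq : K = K' := Subgroup.eq_of_le_of_card_ge hle hcard.le
    apply hK
    refine E.eq_bot_of_normalized hKα hKn (g := g) (by rw [hg]; exact hβα) (fun x hx => ?_)
      (fun x hx => ?_)
    · -- g x g⁻¹ ∈ mKer (gα) (gβ) = K' = K
      have := mKer_conj_mem α β (hKdef ▸ hx) g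
      rw [hg, ← hω', ← hK'def, ← heq] at this
      exact this
    · have hx' : x ∈ mKer (G := G) β ω' := by rw [← hK'def, ← heq]; exact hx
      have := mKer_conj_mem β ω' hx' g⁻¹
      have e1 : g⁻¹ • β = α := by rw [← hg, inv_smul_smul]
      have e2 : g⁻¹ • ω' = β := by rw [hω', inv_smul_smul]
      rw [e1, e2, inv_inv, ← hKdef] at this
      exact this
  obtain ⟨δ, hδorb, hδmove⟩ := h2a
  have hδβ : δ ≠ β := by
    rintro rfl
    obtain ⟨n, hn, hn'⟩ := hδmove
    exact hn' (mem_stabilizer_iff.mp (hKβ hn))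
  have hδα : δ ≠ α := by
    rintro rfl
    obtain ⟨n, hn, hn'⟩ := hδmove
    exact hn' (mem_stabilizer_iff.mp (hKα hn))
  have hkδ : Nat.card (orbit (stabilizer G β) δ) = k := by
    rw [orbCard_of_mem hδorb, hk']
  have hlt : Nat.card (orbit (stabilizer G α) δ) < k := by
    rw [← hkδ]
    exact E.orbCard_lt hKα hKn hβα hKβ hδmove
  -- K' fixes δ
  have hK'δ : K' ≤ stabilizer G δ := by
    intro y hy
    rw [hK'def] at hy
    obtain ⟨⟨h, hh⟩, rfl⟩ := hδorb
    exact hy.2 h hh
  -- Claim 2b: K' ≤ G_α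
  have h2b : K' ≤ stabilizer G α := by
    by_contra hcon
    have hmove : ∃ n ∈ K', n • α ≠ α := by
      by_contra hc
      push Not at hc
      exact hcon (fun y hy => hc y hy)
    have h1 := E.orbCard_lt hK'β hK'n hδβ hK'δ hmove
    rw [orbCard_symm β α, hk, orbCard_symm δ α] at h1
    exact absurd h1 (not_lt.mpr hlt.le)
  -- Claim 3: K ⊓ K' = ⊥
  have h3 : ∀ x ∈ K, x ∈ K' → x = 1 := by
    intro x hx hx'
    apply E.faith
    intro y
    by_contra hy
    have h1 := E.orbCard_lt hKα hKn hβα hKβ ⟨x, hx, hy⟩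
    have h2 := E.orbCard_lt hK'β hK'n (Ne.symm hβα) h2b ⟨x, hx', hy⟩
    exact absurd h1 (not_lt.mpr h2.le)
  -- K and K' commute
  have hcomm : ∀ x ∈ K, ∀ y ∈ K', x * y = y * x := by
    intro x hx y hy
    have hc1 : x * y * x⁻¹ * y⁻¹ ∈ K := by
      have : y * x⁻¹ * y⁻¹ ∈ K := hKn y (h2b hy) x⁻¹ (K.inv_mem hx)
      have := K.mul_mem hx this
      simpa [mul_assoc] using this
    have hc2 : x * y * x⁻¹ * y⁻¹ ∈ K' := by
      have : x * y * x⁻¹ ∈ K' := hK'n x (hKβ hx) y hy
      exact K'.mul_mem this (K'.inv_mem hy)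
    have := h3 _ hc1 hc2
    calc x * y = (x * y * x⁻¹ * y⁻¹) * (y * x) := by group
      _ = y * x := by rw [this, one_mul]
  -- K' ≤ mKer α δ
  have hle : K' ≤ mKer (G := G) α δ := by
    intro y hy
    refine ⟨mem_stabilizer_iff.mp (h2b hy), fun h hh => ?_⟩
    obtain ⟨n, hnK, hnδ⟩ := E.quasi α δ K hKα hKn hδmove h hh
    rw [← hnδ, ← mul_smul, ← hcomm n hnK y hy, mul_smul, mem_stabilizer_iff.mp (hK'δ hy)]
  have hbot : mKer (G := G) α δ = ⊥ := ih _ hlt α δ hδα rfl
  rw [hbot, le_bot_iff] at hle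
  apply hK
  apply Subgroup.eq_bot_of_card_eq
  rw [← hcard, hle, Subgroup.card_bot]

/-- **Manning's theorem**: in an extremely primitive group, `G_α` acts faithfully on each of its
orbits other than `{α}`. -/
theorem ExtPrim.manning [Finite G] [Finite Ω] {α ω : Ω} (hω : ω ≠ α) {h : G}
    (hα : h • α = α) (hfix : ∀ g : G, g • α = α → h • (g • ω) = g • ω) : h = 1 := by
  have := E.mKer_eq_bot_aux _ α ω hω rfl
  have hmem : h ∈ mKer (G := G) α ω := ⟨hα, hfix⟩
  rw [this] at hmem
  exact hmem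

end Manning

section Bridge

variable {G : Type*} [Group G] {Ω : Type*} [MulAction G Ω]

/-- The hypotheses as stated (primitive, non-trivial stabilizers, each stabilizer primitive on
each of its orbits) give the clean form. -/
theorem extPrim_of_hyps [FaithfulSMul G Ω] (hprim : IsPreprimitive G Ω)
    (hH : ∀ α : Ω, stabilizer G α ≠ ⊥)
    (hep : ∀ (α : Ω) (ω : Ω),
      IsPreprimitive (stabilizer G α) (orbit (stabilizer G α) ω)) : ExtPrim G Ω where
  trans := hprim.toIsPretransitive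
  faith := fun g hg => by
    apply FaithfulSMul.eq_of_smul_eq_smul (α := Ω)
    intro x
    rw [hg, one_smul]
  coatom := fun α => by
    have : Nontrivial Ω := by
      by_contra hcon
      rw [not_nontrivial_iff_subsingleton] at hcon
      apply hH α
      rw [eq_bot_iff]
      intro g _
      rw [Subgroup.mem_bot]
      apply FaithfulSMul.eq_of_smul_eq_smul (α := Ω)
      intro x
      exact Subsingleton.elim _ _
    exact IsPreprimitive.isCoatom_stabilizer_of_isPreprimitive G α
  ne_bot := hH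
  quasi := fun α ω N hN hn hmove h hh => by
    have hprimO := hep α ω
    have hnormal : (N.subgroupOf (stabilizer G α)).Normal := by
      refine ⟨fun n hn' g => ?_⟩
      rw [Subgroup.mem_subgroupOf] at hn' ⊢
      exact hn g.1 g.2 n.1 hn'
    have hfix : fixedPoints (N.subgroupOf (stabilizer G α)) (orbit (stabilizer G α) ω) ≠
        Set.univ := by
      intro hall
      obtain ⟨n, hnN, hnω⟩ := hmove
      apply hnω
      have hmem : (⟨ω, mem_orbit_self ω⟩ : orbit (stabilizer G α) ω) ∈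
          fixedPoints (N.subgroupOf (stabilizer G α)) (orbit (stabilizer G α) ω) := by
        rw [hall]; exact Set.mem_univ _
      rw [mem_fixedPoints] at hmem
      have := hmem ⟨⟨n, hN hnN⟩, by rw [Subgroup.mem_subgroupOf]; exact hnN⟩
      exact congrArg Subtype.val this
    have htr : IsPretransitive (N.subgroupOf (stabilizer G α)) (orbit (stabilizer G α) ω) :=
      IsQuasiPreprimitive.isPretransitive_of_normal hfix
    obtain ⟨n, hn'⟩ := htr.exists_smul_eq (⟨ω, mem_orbit_self ω⟩ : orbit (stabilizer G α) ω)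
      ⟨h • ω, ⟨⟨h, hh⟩, rfl⟩⟩
    refine ⟨n.1.1, Subgroup.mem_subgroupOf.mp n.2, ?_⟩
    exact congrArg Subtype.val hn'

end Bridge

end Cfsg.Agent.Helper17
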