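import Mathlib
import Cfsg.Agent.Helper25.QPDefs2
import Cfsg.Agent.Helper25.QPAct
import Cfsg.Agent.Helper18.SL2Ext5
import Cfsg.Agent.Helper17.QPKER
import Cfsg.Agent.Helper12.QPTHMA
import Cfsg.Agent.Helper11.QPTHMB
import Cfsg.Agent.Helper14.QPSURJ

set_option autoImplicit false

/-! Board `qppieces`, piece ISO (helper17). -/

noncomputable section

universe u v

namespace Cfsg.Agent.QPP

open Cfsg Cfsg.Agent.Helper25.QP Cfsg.Agent.Helper25.QuadPair Polynomial

variable {k : Type u} [Field k] {M : Type v} [AddCommGroup M] [Module k M]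

local notation "GLkM" => LinearMap.GeneralLinearGroup k M

/-- the minimal polynomial of `z` lies in `Van z W` -/
theorem ISO_aux_minpoly [FiniteDimensional k M] (z : Module.End k M) (W : Submodule k M) :
    minpoly k z ∈ Van z W := by
  intro m _
  rw [minpoly.aeval]
  rfl

/-- the class of `X` in `k[X] ⧸ Van z W` is algebraic over `k` -/
theorem ISO_aux_alg [FiniteDimensional k M] (z : Module.End k M) (W : Submodule k M) :
    IsAlgebraic k (Ideal.Quotient.mk (Van z W) X) := by
  refine ⟨minpoly k z, minpoly.ne_zero (Algebra.IsIntegral.isIntegral z), ?_⟩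
  have h1 : aeval (Ideal.Quotient.mk (Van z W) X) (minpoly k z)
      = Ideal.Quotient.mk (Van z W) (minpoly k z) := by
    have : (Ideal.Quotient.mk (Van z W) X) = (Ideal.Quotient.mkₐ k (Van z W)) X := rfl
    rw [this, aeval_algHom_apply, aeval_X_left_apply]
    rfl
  rw [h1, Ideal.Quotient.eq_zero_iff_mem]
  exact ISO_aux_minpoly z W

/-- every element of the quotient is a polynomial in the class of `X` -/
theorem ISO_aux_aeval (I : Ideal k[X]) (q : k[X]) :
    Ideal.Quotient.mk I q = aeval (Ideal.Quotient.mk I X) q := by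
  have : (Ideal.Quotient.mk I X) = (Ideal.Quotient.mkₐ k I) X := rfl
  rw [this, aeval_algHom_apply, aeval_X_left_apply]
  rfl

theorem ISO [FiniteDimensional k M] (hk2 : ringChar k ≠ 2) (hk3 : Nat.card k ≠ 3)
    {G : Subgroup GLkM} {d : ℕ} {a b : Module.End k M} (hp : QPair G d a b)
    (hnu : ¬ UnipPair a b) :
    ∃ (K : Type u) (_ : Field K) (_ : Algebra k K) (lam : K), IsAlgebraic k lam ∧
      IntermediateField.adjoin k ({lam} : Set K) = ⊤ ∧
      Nonempty (↥(Hgrp a b hp.qa.1.1 hp.qb.1.1) ≃* Matrix.SpecialLinearGroup (Fin 2) K) := by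
  have hfield : IsField (k[X] ⧸ Van1 a b) := THMB hk2 hk3 hp hnu
  have hv : VanM0 a b := THMA hk2 hk3 hp hnu
  have hmax : (Van1 a b).IsMaximal := Ideal.Quotient.maximal_of_isField _ hfield
  let _ : Field (k[X] ⧸ Van1 a b) := Ideal.Quotient.field (Van1 a b)
  refine ⟨k[X] ⧸ Van1 a b, Ideal.Quotient.field (Van1 a b), inferInstance,
    Ideal.Quotient.mk (Van1 a b) X, ISO_aux_alg _ _, ?_, ?_⟩
  · rw [eq_top_iff]
    intro y _
    obtain ⟨q, rfl⟩ := Ideal.Quotient.mk_surjective y
    rw [ISO_aux_aeval (Van1 a b) q]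
    have h1 : aeval (Ideal.Quotient.mk (Van1 a b) X) q ∈
        Algebra.adjoin k ({Ideal.Quotient.mk (Van1 a b) X} : Set (k[X] ⧸ Van1 a b)) :=
      Polynomial.aeval_mem_adjoin_singleton k _
    exact IntermediateField.algebra_adjoin_le_adjoin k _ h1
  · set ha := hp.qa.1.1
    set hb := hp.qb.1.1
    -- the two projections
    let f₁ : ↥(Hpair a b ha hb) →* ↥(Hgrp a b ha hb) :=
      ((MonoidHom.fst GLkM (Matrix.SpecialLinearGroup (Fin 2) k[X])).comp
        (Hpair a b ha hb).subtype).codRestrict (Hgrp a b ha hb) (by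
          intro x
          rw [← map_fst_Hpair a b ha hb]
          exact ⟨x.1, x.2, rfl⟩)
    let f₂ : ↥(Hpair a b ha hb) →* Matrix.SpecialLinearGroup (Fin 2) (k[X] ⧸ Van1 a b) :=
      (Matrix.SpecialLinearGroup.map (Ideal.Quotient.mk (Van1 a b))).comp
        ((MonoidHom.snd GLkM (Matrix.SpecialLinearGroup (Fin 2) k[X])).comp
          (Hpair a b ha hb).subtype)
    have hs₁ : Function.Surjective f₁ := by
      rintro ⟨h, hh⟩
      rw [← map_fst_Hpair a b ha hb] at hh
      obtain ⟨x, hx, rfl⟩ := hh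
      exact ⟨⟨x, hx⟩, rfl⟩
    have hs₂ : Function.Surjective f₂ := by
      intro g
      obtain ⟨x, hx, hxg⟩ := SURJ hk2 hk3 hp hnu g
      exact ⟨⟨x, hx⟩, hxg⟩
    have hker : f₁.ker = f₂.ker := by
      ext x
      rw [MonoidHom.mem_ker, MonoidHom.mem_ker]
      have := KER a b ha hb hv x.1 x.2
      constructor
      · intro h
        exact this.1 (congrArg Subtype.val h)
      · intro h
        exact Subtype.ext (this.2 h)
    exact ⟨((QuotientGroup.quotientKerEquivOfSurjective f₁ hs₁).symm.trans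
      (QuotientGroup.quotientMulEquivOfEq hker)).trans
      (QuotientGroup.quotientKerEquivOfSurjective f₂ hs₂)⟩

end Cfsg.Agent.QPP

end
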