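import Mathlib

set_option autoImplicit false
set_option linter.unusedSectionVars false
set_option linter.unusedVariables false

/-! # S0679 piece 6-FIX3 (helper17, hedge): in a 3-transitive group of degree 11 and order 7920 the stabiliser of a triple
fixes no 4th point.  Pure counting: the map `y ↦ Fix (stabilizer G y)` on `Fin 3 ↪ α` has fibres of size `φ (φ-1) (φ-2)`. -/

namespace Cfsg.Agent.S0679P

open Equiv MulAction

variable {α : Type*} [Fintype α] [DecidableEq α] {G : Subgroup (Equiv.Perm α)}

/-- the stabiliser of a triple has order 8 -/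
theorem FIX3.ord3 (h11 : Fintype.card α = 11) (h3 : IsMultiplyPretransitive G α 3)
    (hord : Nat.card G = 7920) (y : Fin 3 ↪ α) : Nat.card (stabilizer G y) = 8 := by
  have h1 := Subgroup.index_mul_card (stabilizer G y)
  rw [index_stabilizer, hord] at h1
  obtain ⟨O, h1, hO⟩ : ∃ O : Set (Fin 3 ↪ α),
      O.ncard * Nat.card (stabilizer G y) = 7920 ∧ ∀ z, z ∈ O :=
    ⟨_, h1, fun z => by
      obtain ⟨g, hg⟩ := h3.exists_smul_eq y z
      exact ⟨g, hg⟩⟩
  have h2 : O = Set.univ := Set.eq_univ_of_forall hO
  rw [h2, Set.ncard_univ, Nat.card_eq_fintype_card, Fintype.card_embedding_eq, h11] at h1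
  simp only [Fintype.card_fin] at h1
  have : Nat.descFactorial 11 3 = 990 := by decide
  rw [this] at h1
  omega

/-- the number of triples inside a finset -/
theorem FIX3.card_triples (S : Finset α) :
    (Finset.univ.filter (fun y : Fin 3 ↪ α => ∀ i, y i ∈ S)).card = S.card.descFactorial 3 := by
  classical
  rw [← Fintype.card_subtype]
  have e : {y : Fin 3 ↪ α // ∀ i, y i ∈ S} ≃ (Fin 3 ↪ ↥S) :=
    { toFun := fun y => ⟨fun i => ⟨y.1 i, y.2 i⟩, fun i j hij => y.1.injective (by
        have := congrArg Subtype.val hij
        exact this)⟩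
      invFun := fun z => ⟨z.trans (Function.Embedding.subtype _), fun i => (z i).2⟩
      left_inv := fun y => by
        apply Subtype.ext
        ext i
        rfl
      right_inv := fun z => by
        ext i
        rfl }
  rw [Fintype.card_congr e, Fintype.card_embedding_eq, Fintype.card_fin, Fintype.card_coe]

/-- 6-FIX3 -/
theorem FIX3 (h11 : Fintype.card α = 11) (h3 : IsMultiplyPretransitive G α 3)
    (hord : Nat.card G = 7920) (x : Fin 3 ↪ α) {a : α} (ha : a ∉ Set.range x) :
    ∃ k ∈ stabilizer G x, (k : Perm α) a ≠ a := by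
  classical
  by_contra hcon
  push Not at hcon
  have hmem : ∀ (k : G) (y : Fin 3 ↪ α), k ∈ stabilizer G y ↔ ∀ i, (k : Perm α) (y i) = y i := by
    intro k y
    constructor
    · intro h i
      exact DFunLike.congr_fun (mem_stabilizer_iff.mp h) i
    · intro h
      exact mem_stabilizer_iff.mpr (DFunLike.ext _ _ h)
  have htr : ∀ y z : Fin 3 ↪ α, ∃ g : G, ∀ i, (g : Perm α) (y i) = z i := by
    intro y z
    obtain ⟨g, hg⟩ := h3.exists_smul_eq y z
    exact ⟨g, fun i => DFunLike.congr_fun hg i⟩
  -- the fixed point set of the stabiliser of a triple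
  set Φ : (Fin 3 ↪ α) → Finset α :=
    fun y => Finset.univ.filter (fun b => ∀ k ∈ stabilizer G y, (k : Perm α) b = b) with hΦ
  have hmemΦ : ∀ y b, b ∈ Φ y ↔ ∀ k ∈ stabilizer G y, (k : Perm α) b = b := by
    intro y b
    simp [hΦ]
  have hself : ∀ (y : Fin 3 ↪ α) (i : Fin 3), y i ∈ Φ y := by
    intro y i
    rw [hmemΦ]
    intro k hk
    exact (hmem k y).mp hk i
  -- triples inside Φ y0 have the same stabiliser
  have hstab : ∀ y0 y : Fin 3 ↪ α, (∀ i, y i ∈ Φ y0) → stabilizer G y = stabilizer G y0 := by
    intro y0 y hy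
    have hle : stabilizer G y0 ≤ stabilizer G y := by
      intro k hk
      rw [hmem]
      intro i
      exact (hmemΦ y0 (y i)).mp (hy i) k hk
    have hfin : Finite (stabilizer G y) := inferInstance
    symm
    apply Subgroup.eq_of_le_of_card_ge hle
    rw [FIX3.ord3 h11 h3 hord y, FIX3.ord3 h11 h3 hord y0]
  -- the fibre of Φ
  have hfib : ∀ y0 : Fin 3 ↪ α,
      Finset.univ.filter (fun y : Fin 3 ↪ α => Φ y = Φ y0)
        = Finset.univ.filter (fun y : Fin 3 ↪ α => ∀ i, y i ∈ Φ y0) := by
    intro y0
    ext y
    simp only [Finset.mem_filter, Finset.mem_univ, true_and]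
    constructor
    · intro h i
      rw [← h]; exact hself y i
    · intro h
      have := hstab y0 y h
      ext b
      rw [hmemΦ, hmemΦ, this]
  -- all Φ y have the same cardinality φ
  set φ := (Φ x).card with hφ
  have hcardΦ : ∀ y : Fin 3 ↪ α, (Φ y).card = φ := by
    intro y
    obtain ⟨g, hg⟩ := htr x y
    have hginv : ∀ i, (g : Perm α)⁻¹ (y i) = x i := by
      intro i
      rw [← hg i]; simp
    -- b ↦ g b maps Φ x to Φ y bijectively
    have hmap : Φ y = (Φ x).map ⟨fun b => (g : Perm α) b, (g : Perm α).injective⟩ := by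
      ext b
      rw [Finset.mem_map, hmemΦ]
      constructor
      · intro hb
        refine ⟨(g : Perm α)⁻¹ b, ?_, by simp⟩
        rw [hmemΦ]
        intro k hk
        have hk' : g * k * g⁻¹ ∈ stabilizer G y := by
          rw [hmem]
          intro i
          simp only [Subgroup.coe_mul, Subgroup.coe_inv, Perm.mul_apply]
          rw [hginv i, (hmem k x).mp hk i, hg i]
        have := hb _ hk'
        simp only [Subgroup.coe_mul, Subgroup.coe_inv, Perm.mul_apply] at this
        have h2 := congrArg (fun c => (g : Perm α)⁻¹ c) this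
        simpa using h2
      · rintro ⟨c, hc, rfl⟩ k hk
        rw [hmemΦ] at hc
        have hk' : g⁻¹ * k * g ∈ stabilizer G x := by
          rw [hmem]
          intro i
          simp only [Subgroup.coe_mul, Subgroup.coe_inv, Perm.mul_apply]
          rw [hg i, (hmem k y).mp hk i, hginv i]
        have := hc _ hk'
        simp only [Subgroup.coe_mul, Subgroup.coe_inv, Perm.mul_apply] at this
        have h2 := congrArg (fun c => (g : Perm α) c) this
        simpa using h2
    rw [hmap, Finset.card_map]
  -- counting
  have hcount : Fintype.card (Fin 3 ↪ α)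
      = ((Finset.univ : Finset (Fin 3 ↪ α)).image Φ).card * φ.descFactorial 3 := by
    rw [← Finset.card_univ, Finset.card_eq_sum_card_image Φ Finset.univ]
    rw [Finset.sum_const_nat (m := φ.descFactorial 3)]
    intro S hS
    obtain ⟨y0, -, rfl⟩ := Finset.mem_image.mp hS
    rw [hfib y0, FIX3.card_triples, hcardΦ y0]
  rw [Fintype.card_embedding_eq, h11] at hcount
  simp only [Fintype.card_fin] at hcount
  have h990 : Nat.descFactorial 11 3 = 990 := by decide
  rw [h990] at hcount
  -- bounds on φ
  have hφ4 : 4 ≤ φ := by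
    have hsub : (Finset.univ.image x) ∪ {a} ⊆ Φ x := by
      intro b hb
      rcases Finset.mem_union.mp hb with h | h
      · obtain ⟨i, -, rfl⟩ := Finset.mem_image.mp h
        exact hself x i
      · rw [Finset.mem_singleton] at h
        rw [h, hmemΦ]
        exact hcon
    have hcard : ((Finset.univ.image x) ∪ {a}).card = 4 := by
      rw [Finset.card_union_of_disjoint, Finset.card_image_of_injective _ x.injective, Finset.card_univ,
        Fintype.card_fin, Finset.card_singleton]
      rw [Finset.disjoint_singleton_right]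
      intro h
      obtain ⟨i, -, hi⟩ := Finset.mem_image.mp h
      exact ha ⟨i, hi⟩
    calc 4 = ((Finset.univ.image x) ∪ {a}).card := hcard.symm
      _ ≤ (Φ x).card := Finset.card_le_card hsub
  have hφ11 : φ ≤ 11 := by
    rw [← h11]; exact Finset.card_le_univ _
  have hφne : φ ≠ 11 := by
    intro h
    have huniv : Φ x = Finset.univ := by
      apply Finset.eq_univ_of_card
      rw [h11]; exact h
    have hbot : stabilizer G x = ⊥ := by
      rw [eq_bot_iff]
      intro k hk
      rw [Subgroup.mem_bot]
      apply Subtype.ext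
      ext b
      have hb : b ∈ Φ x := by rw [huniv]; exact Finset.mem_univ b
      have := (hmemΦ x b).mp hb k hk
      simpa using this
    have h8 := FIX3.ord3 h11 h3 hord x
    rw [hbot] at h8
    simp at h8
  have hdvd : φ.descFactorial 3 ∣ 990 := ⟨_, by rw [hcount, mul_comm]⟩
  have hφ10 : φ ≤ 10 := by omega
  clear hφ11 hφne hcount hcardΦ hφ
  interval_cases φ <;> revert hdvd <;> decide

end Cfsg.Agent.S0679P
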