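import Cfsg.Agent.Helper27.S0745Defs

/-! Board `s0745pieces`, row L0PAIR (`swap_of_even`). -/

set_option autoImplicit false
set_option linter.unusedSectionVars false
set_option linter.unusedVariables false
set_option linter.style.haveILetI false

namespace Cfsg.Agent.S0745P

open Equiv

variable {α : Type*} [Fintype α] [DecidableEq α]

/-- an involution in the stabiliser of `F ∪ {z}` when `c` is even -/
theorem swap_of_even_aux17_inv {G : Subgroup (Perm α)} {t c r : ℕ} (h : Hyp G t c r) (hc : Even c)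
    (F : Finset α) (hF : F.card = t - 1) (z : α) (hz : z ∉ F) :
    ∃ g : Perm α, g ∈ G ∧ (∀ x ∈ insert z F, g x = x) ∧ g ^ 2 = 1 ∧ g ≠ 1 := by
  have ht := h.t_pos
  have hcard : (insert z F).card = t := by
    rw [Finset.card_insert_of_notMem hz, hF]; omega
  have hc2 : 2 ∣ Nat.card (PS G (insert z F)) := by
    rw [h.cardH _ hcard]; exact even_iff_two_dvd.1 hc
  haveI : Fact (Nat.Prime 2) := ⟨Nat.prime_two⟩
  obtain ⟨x, hx⟩ := exists_prime_orderOf_dvd_card' 2 hc2
  refine ⟨(x : Perm α), x.2.1, x.2.2, ?_, ?_⟩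
  · have h1 : x ^ 2 = 1 := by rw [← hx]; exact pow_orderOf_eq_one x
    have h2 := congrArg (fun y : ↥(PS G (insert z F)) => (y : Perm α)) h1
    simpa using h2
  · intro h1
    have h2 : x = 1 := Subtype.ext h1
    rw [h2, orderOf_one] at hx
    omega

/-- such an involution moves every point outside `F ∪ {z}` -/
theorem swap_of_even_aux17_moves {G : Subgroup (Perm α)} {t c r : ℕ} (h : Hyp G t c r)
    (F : Finset α) (hF : F.card = t - 1) (z : α) (hz : z ∉ F) (g : Perm α) (hg : g ∈ G)
    (hfix : ∀ x ∈ insert z F, g x = x) (hg1 : g ≠ 1) (p : α) (hp : p ∉ F) (hpz : p ≠ z) :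
    g p ≠ p := by
  intro hgp
  apply hg1
  have ht := h.t_pos
  have hpn : p ∉ insert z F := by
    rw [Finset.mem_insert, not_or]; exact ⟨hpz, hp⟩
  apply h.semireg g hg (insert p (insert z F))
  · rw [Finset.card_insert_of_notMem hpn, Finset.card_insert_of_notMem hz, hF]; omega
  · intro x hx
    rcases Finset.mem_insert.1 hx with rfl | hx
    · exact hgp
    · exact hfix x hx

/-- L0PAIR (duplicate of the official `Cfsg.Agent.Helper14.S0745L0PAIR`; renamed to avoid a clash) -/
theorem swap_of_even_h17 {G : Subgroup (Perm α)} {t c r : ℕ} (h : Hyp G t c r) (hc : Even c)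
    (F : Finset α) (hF : F.card = t - 1) (p q : α) (hp : p ∉ F) (hq : q ∉ F) (hpq : p ≠ q) :
    ∃ g ∈ G, (∀ x ∈ F, g x = x) ∧ g p = q ∧ g q = p := by
  have ht := h.t_pos
  have hex : ∀ z : α, ∃ g : Perm α, z ∉ F →
      (g ∈ G ∧ (∀ x ∈ insert z F, g x = x) ∧ g ^ 2 = 1 ∧ g ≠ 1) := by
    intro z
    by_cases hz : z ∈ F
    · exact ⟨1, fun h' => absurd hz h'⟩
    · obtain ⟨g, hg⟩ := swap_of_even_aux17_inv h hc F hF z hz
      exact ⟨g, fun _ => hg⟩
  choose v hv using hex
  -- basic facts on `v z`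
  have hvF : ∀ z, z ∉ F → ∀ x ∈ F, v z x = x := fun z hz x hx =>
    (hv z hz).2.1 x (Finset.mem_insert_of_mem hx)
  have hvz : ∀ z, z ∉ F → v z z = z := fun z hz => (hv z hz).2.1 z (Finset.mem_insert_self z F)
  have hvv : ∀ z, z ∉ F → ∀ x, v z (v z x) = x := by
    intro z hz x
    have h1 := (hv z hz).2.2.1
    have h2 : (v z ^ 2) x = x := by rw [h1]; rfl
    rwa [pow_two, Perm.mul_apply] at h2
  have hvnF : ∀ z, z ∉ F → ∀ x, x ∉ F → v z x ∉ F := by
    intro z hz x hx hcon
    apply hx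
    have h1 := hvF z hz _ hcon
    have h2 : v z x = x := (v z).injective h1
    rw [← h2]; exact hcon
  have hvmove : ∀ z, z ∉ F → ∀ x, x ∉ F → x ≠ z → v z x ≠ x := fun z hz x hx hxz =>
    swap_of_even_aux17_moves h F hF z hz (v z) (hv z hz).1 (hv z hz).2.1 (hv z hz).2.2.2 x hx hxz
  -- the self-map of the set of ordered pairs
  let T := {zp : α × α // zp.1 ∉ F ∧ zp.2 ∉ F ∧ zp.1 ≠ zp.2}
  let f : T → T := fun zp =>
    ⟨(zp.1.2, v zp.1.1 zp.1.2), zp.2.2.1, hvnF _ zp.2.1 _ zp.2.2.1,
      fun hcon => hvmove _ zp.2.1 _ zp.2.2.1 (Ne.symm zp.2.2.2) hcon.symm⟩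
  have hinj : Function.Injective f := by
    rintro ⟨⟨z, a⟩, hz, ha, hza⟩ ⟨⟨z', a'⟩, hz', ha', hza'⟩ hff
    have h1 : a = a' := congrArg (fun y : T => y.1.1) hff
    have h2 : v z a = v z' a' := congrArg (fun y : T => y.1.2) hff
    subst h1
    -- `w = v z' * v z` fixes `F ∪ {a, v z a}`
    set b := v z a with hb
    have hbF : b ∉ F := hvnF z hz a ha
    have hba : b ≠ a := hvmove z hz a ha (Ne.symm hza)
    have hw : v z' * v z = 1 := by
      apply h.semireg _ (G.mul_mem (hv z' hz').1 (hv z hz).1) (insert b (insert a F))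
      · have h3 : b ∉ insert a F := by
          rw [Finset.mem_insert, not_or]; exact ⟨hba, hbF⟩
        rw [Finset.card_insert_of_notMem h3, Finset.card_insert_of_notMem ha, hF]; omega
      · intro x hx
        rw [Perm.mul_apply]
        rcases Finset.mem_insert.1 hx with rfl | hx
        · -- `v z b = a`, `v z' a = b`
          rw [hb, hvv z hz a, ← h2]
        · rcases Finset.mem_insert.1 hx with rfl | hx
          · rw [← hb, h2, hvv z' hz']
          · rw [hvF z hz x hx, hvF z' hz' x hx]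
    have hveq : v z = v z' := by
      have h3 : v z' * v z = v z' * v z' := by
        rw [hw, ← pow_two, (hv z' hz').2.2.1]
      exact mul_left_cancel h3
    have hzz : z' = z := by
      by_contra hne
      have h3 := hvmove z hz z' hz' hne
      rw [hveq] at h3
      exact h3 (hvz z' hz')
    subst hzz
    rfl
  have hsurj : Function.Surjective f := Finite.injective_iff_surjective.1 hinj
  obtain ⟨⟨⟨z, a⟩, hz, ha, hza⟩, hzp⟩ := hsurj ⟨(p, q), hp, hq, hpq⟩
  have h1 : a = p := congrArg (fun y : T => y.1.1) hzp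
  have h2 : v z a = q := congrArg (fun y : T => y.1.2) hzp
  subst h1
  refine ⟨v z, (hv z hz).1, hvF z hz, h2, ?_⟩
  rw [← h2, hvv z hz]

end Cfsg.Agent.S0745P
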