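import Cfsg.Agent.Helper17.S0745T4NUMcore
import Cfsg.Agent.Helper27.S0745CARDM

/-! Board `s0745pieces`, row T4NUM. -/

set_option autoImplicit false

namespace Cfsg.Agent.S0745P

open Equiv

variable {α : Type*} [Fintype α] [DecidableEq α]

/-- T4NUM -/
theorem t4_num {G : Subgroup (Perm α)} {c : ℕ} (h : Hyp G 4 c 2) (hc : Odd c) :
    c = 1 ∨ c = 3 ∨ c = 5 ∨ c = 23 :=
  t4_num_aux_core h hc (fun S hS => card_M h S hS)

end Cfsg.Agent.S0745P
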