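import Cfsg.Agent.Helper27.S0745Defs

/-! Board `s0745pieces`, row T4NUM (core): `|M| * (2 (2c - 1)) = 720`, `c` odd ⟹ `c ∈ {1,3,5,23}`. -/

set_option autoImplicit false

namespace Cfsg.Agent.S0745P

open Equiv

variable {α : Type*} [Fintype α] [DecidableEq α]

/-- pure arithmetic -/
theorem t4_num_aux_arith {M c : ℕ} (h : M * (2 * (2 * c - 1)) = 720) (hc : Odd c) :
    c = 1 ∨ c = 3 ∨ c = 5 ∨ c = 23 := by
  have hc2 : c % 2 = 1 := Nat.odd_iff.1 hc
  have hM : 1 ≤ M := by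
    rcases Nat.eq_zero_or_pos M with h0 | h0
    · rw [h0] at h; omega
    · exact h0
  have hc180 : c ≤ 180 := by
    by_contra hcon
    have h1 : 722 ≤ 2 * (2 * c - 1) := by omega
    have h2 : 1 * 722 ≤ M * (2 * (2 * c - 1)) := Nat.mul_le_mul hM h1
    omega
  interval_cases c <;> omega

/-- T4NUM with CARDM as a hypothesis. -/
theorem t4_num_aux_core {G : Subgroup (Perm α)} {c : ℕ} (h : Hyp G 4 c 2) (hc : Odd c)
    (hM : ∀ S : Finset α, S.card = 4 + 2 →
      Nat.card (SS G S) * (2 * (2 * c - 1)) = (4 + 2).factorial) :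
    c = 1 ∨ c = 3 ∨ c = 5 ∨ c = 23 := by
  have hc1 : 1 ≤ c := by
    rcases hc with ⟨k, rfl⟩; omega
  have hdeg : Fintype.card α = 2 * c + 4 := h.deg
  have h6 : 6 ≤ (Finset.univ : Finset α).card := by
    rw [Finset.card_univ, hdeg]; omega
  obtain ⟨S, -, hS⟩ := Finset.exists_subset_card_eq h6
  have h1 := hM S (by rw [hS])
  have h2 : (4 + 2).factorial = 720 := by decide
  rw [h2] at h1
  exact t4_num_aux_arith h1 hc

end Cfsg.Agent.S0745P
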