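import Mathlib
import Cfsg.Agent.Helper18.S0747Defs

/-! # S0747, board `s0747pieces`, row IMG_good (helper17).
`Good` for the image of `G` in `Perm α` gives `Good` for `G`. -/

set_option autoImplicit false

namespace Cfsg.Agent.S0747P

open MulAction

/-- IMG_good: `Good` for the image of `G` in `Perm α` gives `Good` for `G`. -/
theorem IMG_good {G : Type*} {α : Type*} [Group G] [MulAction G α] [Fintype α] [DecidableEq α] {k : ℕ}
    (h : Good ↥(toPermHom G α).range α k) : Good G α k := by
  obtain ⟨Δ, hΔ, hσ⟩ := h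
  refine ⟨Δ, hΔ, fun σ hs => ?_⟩
  obtain ⟨⟨_, g, rfl⟩, hg⟩ := hσ σ hs
  exact ⟨g, fun x => hg x⟩

end Cfsg.Agent.S0747P
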