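import Mathlib
import Cfsg.Agent.Helper22.S1615Defs
import Cfsg.Agent.Helper16.F3Glue

set_option autoImplicit false

namespace Cfsg.Agent.S1615P

open Cfsg.Agent.Helper16.F3

/-- SEP -/
theorem exists_sep {G : Type*} [Group G] [Finite G] {D : Set G} (h : Prim D) {p q : G}
    (hp : p ∈ D) (hq : q ∈ D) (hpq : ¬ Commute p q) :
    ∃ x ∈ D, x ≠ p ∧ Commute x p ∧ ¬ Commute x q := by
  classical
  by_contra hcon
  push Not at hcon
  have hD := h.tt
  -- transport to every non-commuting pair
  have key : ∀ p' ∈ D, ∀ q' ∈ D, ¬ Commute p' q' →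
      ∀ x ∈ D, x ≠ p' → Commute x p' → Commute x q' := by
    intro p' hp' q' hq' hn x hx hxp hcx
    obtain ⟨g, hg⟩ := exists_conj h hp hp'
    have hq'' : g * q * g⁻¹ ∈ D := conj_mem hD g hq
    have hn'' : ¬ Commute p' (g * q * g⁻¹) := by
      rw [← hg]
      intro hc
      exact hpq ((Commute.conj_iff g).mp hc)
    obtain ⟨k, hk, hkq⟩ := trans_noncomm h hp' hq'' hq' hn'' hn
    -- m = k * g
    have hmp : (k * g) * p * (k * g)⁻¹ = p' := by
      have : (k * g) * p * (k * g)⁻¹ = k * (g * p * g⁻¹) * k⁻¹ := by group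
      rw [this, hg]
      have := hk.eq
      calc k * p' * k⁻¹ = p' * k * k⁻¹ := by rw [this]
        _ = p' := by group
    have hmq : (k * g) * q * (k * g)⁻¹ = q' := by
      have : (k * g) * q * (k * g)⁻¹ = k * (g * q * g⁻¹) * k⁻¹ := by group
      rw [this, hkq]
    set m := k * g with hm
    have hx0 : m⁻¹ * x * m ∈ D := by
      have := conj_mem hD m⁻¹ hx
      rwa [inv_inv] at this
    have hx0p : m⁻¹ * x * m ≠ p := by
      intro he
      apply hxp
      rw [← hmp, ← he]; group
    have hcx0 : Commute (m⁻¹ * x * m) p := by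
      have h1 : Commute (m * (m⁻¹ * x * m) * m⁻¹) (m * p * m⁻¹) := by
        rw [hmp]
        have : m * (m⁻¹ * x * m) * m⁻¹ = x := by group
        rw [this]; exact hcx
      exact (Commute.conj_iff m).mp h1
    have h2 := hcon _ hx0 hx0p hcx0
    have h3 : Commute (m * (m⁻¹ * x * m) * m⁻¹) (m * q * m⁻¹) := (Commute.conj_iff m).mpr h2
    have : m * (m⁻¹ * x * m) * m⁻¹ = x := by group
    rwa [this, hmq] at h3
  -- the relation
  let R : G → G → Prop := fun u v =>
    ∀ x ∈ D, (x ≠ u ∧ Commute x u) ↔ (x ≠ v ∧ Commute x v)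
  have hqp : ¬ Commute q p := fun hc => hpq hc.symm
  have hRpq : R p q := by
    intro x hx
    constructor
    · rintro ⟨h1, h2⟩
      refine ⟨?_, key p hp q hq hpq x hx h1 h2⟩
      rintro rfl
      exact hpq h2.symm
    · rintro ⟨h1, h2⟩
      refine ⟨?_, key q hq p hp hqp x hx h1 h2⟩
      rintro rfl
      exact hqp h2.symm
  have hne : p ≠ q := by
    rintro rfl
    exact hpq (Commute.refl _)
  have hall := rel_univ h R (fun x _ y _ => Iff.rfl) (fun x y hxy z hz => (hxy z hz).symm)
    (fun x y z hxy hyz w hw => (hxy w hw).trans (hyz w hw))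
    (by
      intro g x y hxy z hz
      have hz0 : g⁻¹ * z * g ∈ D := by
        have := conj_mem hD g⁻¹ hz
        rwa [inv_inv] at this
      have e : ∀ w : G, (z ≠ g * w * g⁻¹ ∧ Commute z (g * w * g⁻¹)) ↔
          (g⁻¹ * z * g ≠ w ∧ Commute (g⁻¹ * z * g) w) := by
        intro w
        have hz' : z = g * (g⁻¹ * z * g) * g⁻¹ := by group
        constructor
        · rintro ⟨h1, h2⟩
          refine ⟨?_, ?_⟩
          · intro he
            apply h1
            rw [← he]; group
          · rw [hz'] at h2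
            exact (Commute.conj_iff g).mp h2
        · rintro ⟨h1, h2⟩
          refine ⟨?_, ?_⟩
          · intro he
            apply h1
            rw [he]; group
          · rw [hz']
            exact (Commute.conj_iff g).mpr h2
      rw [e x, e y]
      exact hxy _ hz0) hp hq hne hRpq
  obtain ⟨e, he, hed, hce⟩ := exists_comm h hp
  have := (hall p hp e he e he).mp ⟨hed, hce⟩
  exact this.1 rfl

end Cfsg.Agent.S1615P
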