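import Mathlib
import Cfsg.Prelude.Def_Transfer
import Cfsg.Agent.Helper8.S1904Defs
import Cfsg.Agent.S1894

/-! Board `s1904pieces`, row H2: the frozen hypotheses of S1904 give `Hyp A`
(no normal elementary abelian subgroup of order `≥ 8`, via the landed S1894). -/

set_option autoImplicit false

namespace Cfsg.Agent.S1904P

variable {X : Type*} [Group X] [Finite X] {A : Subgroup (MulAut X)} {B : Subgroup X}

/-- H2: the frozen hypotheses give `Hyp A` (uses landed S1894). -/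
theorem H2 (hX : IsPGroup 2 X) (hna : ¬ IsMulCommutative X)
    (hscn : ¬ ∃ A₀ : Subgroup X, A₀.Normal ∧ Subgroup.centralizer (A₀ : Set X) = A₀ ∧
      ∃ E : Subgroup X, E ≤ A₀ ∧ Cfsg.IsElementaryAbelian 2 E ∧ Nat.card E = 8)
    (A : Subgroup (MulAut X)) (hA : Odd (Nat.card A))
    (hXA : Subgroup.closure {g : X | ∃ φ ∈ A, ∃ x : X, g = x⁻¹ * φ x} = ⊤) : Hyp A := by
  have : Fact (Nat.Prime 2) := ⟨Nat.prime_two⟩
  refine ⟨hX, hA, hXA, ?_, ?_⟩
  · intro E hEn hEc hEs
    by_contra hcard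
    have hcard' : 4 < Nat.card E := by omega
    obtain ⟨k, hk⟩ := (hX.to_subgroup E).exists_card_eq
    have hk3 : 3 ≤ k := by
      by_contra h
      have h2 : k ≤ 2 := by omega
      have : 2 ^ k ≤ 2 ^ 2 := Nat.pow_le_pow_right (by norm_num) h2
      omega
    have hdvd : 2 ^ 3 ∣ Nat.card E := by rw [hk]; exact pow_dvd_pow 2 hk3
    obtain ⟨K, hK⟩ := Sylow.exists_subgroup_card_pow_prime 2 hdvd
    have : E.Normal := hEn
    have hEcomm : IsMulCommutative E := ⟨⟨fun a b => Subtype.ext (hEc a a.2 b b.2)⟩⟩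
    obtain ⟨C, hCn, hEC, hC1, hC2, hC3⟩ := Cfsg.Agent.S1894.result hX (⊤ : Subgroup X) E le_top hEcomm
    apply hscn
    refine ⟨C, hCn, ?_, K.map E.subtype, ?_, ⟨?_, ?_⟩, ?_⟩
    · rw [top_inf_eq] at hC3; exact hC3
    · intro x hx
      obtain ⟨y, hy, rfl⟩ := hx
      exact hEC y.2
    · refine ⟨⟨fun a b => Subtype.ext ?_⟩⟩
      obtain ⟨y, hy, hya⟩ := a.2
      obtain ⟨z, hz, hzb⟩ := b.2
      show (a : X) * (b : X) = (b : X) * (a : X)
      rw [← hya, ← hzb]
      exact hEc _ y.2 _ z.2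
    · intro a ha
      obtain ⟨y, hy, rfl⟩ := ha
      rw [pow_two]
      exact hEs _ y.2
    · rw [Subgroup.card_map_of_injective E.subtype_injective, hK]; norm_num
  · by_contra h
    apply hna
    refine ⟨⟨fun a b => ?_⟩⟩
    by_contra hab
    exact h ⟨a, b, hab⟩

end Cfsg.Agent.S1904P
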