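import Mathlib
import Cfsg.Agent.Helper17.S2482GDefs
import Cfsg.Agent.Helper19.S2482UNITG
import Cfsg.Agent.Helper20.S2482BLOCKDIAG
import Cfsg.Agent.Helper25.S2482SUMISO
import Cfsg.Agent.Helper7.S2482CAYG
import Cfsg.Agent.Helper22.S2482ISOREST
import Cfsg.Agent.Helper26.S2482FIT2

/-! # S2482 chapter (G): assemblies CLASS (`SignRel` + `LinIso` ⇒ `Iso`) and EXSIGN (existence of `SignRel` with
the multiplicity relations).  (helper17) -/

set_option autoImplicit false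

namespace Cfsg.Agent.S2482P

open Polynomial Cfsg.Agent.Helper2.SympInvol Cfsg.Agent.S5955P Cfsg.Agent.S5961P Cfsg.Agent.S2676P
  Cfsg.Agent.S2478P Cfsg.Agent.S2481P

universe u

variable {F : Type u} [Field F]

namespace CLASS

theorem algebraMap_one_eq (V : Type*) [AddCommGroup V] [Module F V] :
    algebraMap F (Module.End F V) 1 = 1 := map_one _

theorem sub_algebraMap_neg_one (V : Type*) [AddCommGroup V] [Module F V] (g : Module.End F V) :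
    g - algebraMap F (Module.End F V) (-1) = g + 1 := by
  rw [map_neg, map_one, sub_neg_eq_add]

/-- `kdim` of `S.neg` at `1` is `kdim` of `S` at `-1` -/
theorem kdim_neg (S : SpSpace F) (k : ℕ) : S.neg.kdim 1 k = S.kdim (-1) k := by
  show Module.finrank F (LinearMap.ker ((-S.g - algebraMap F (Module.End F S.V) 1) ^ k)) =
    Module.finrank F (LinearMap.ker ((S.g - algebraMap F (Module.End F S.V) (-1)) ^ k))
  have h1 : (-S.g - algebraMap F (Module.End F S.V) 1) =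
      -(S.g - algebraMap F (Module.End F S.V) (-1)) := by
    rw [map_neg, map_one]
    abel
  rw [h1, neg_pow]
  have h3 : LinearMap.ker ((-1 : Module.End F S.V) ^ k *
      (S.g - algebraMap F (Module.End F S.V) (-1)) ^ k) =
      LinearMap.ker ((S.g - algebraMap F (Module.End F S.V) (-1)) ^ k) := by
    ext v
    simp only [LinearMap.mem_ker]
    rcases neg_one_pow_eq_or (Module.End F S.V) k with h | h
    · rw [h, one_mul]
    · rw [h, neg_one_mul, LinearMap.neg_apply, neg_eq_zero]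
  rw [h3]

theorem linIso_neg (S S' : SpSpace F) (h : S.LinIso S') : S.neg.LinIso S'.neg := by
  obtain ⟨x, hx⟩ := h
  refine ⟨x, fun v => ?_⟩
  have h1 : x ((-S.g) (v : S.V)) = (-S'.g) (x (v : S.V)) := by
    rw [LinearMap.neg_apply, LinearMap.neg_apply, map_neg, hx]
  exact h1

theorem iso_of_neg (S S' : SpSpace F) (h : S.neg.Iso S'.neg) : S.Iso S' := by
  obtain ⟨φ, hB, hg⟩ := h
  refine ⟨φ, hB, fun v => ?_⟩
  have h1 : (φ : S.V ≃ₗ[F] S'.V) ((-S.g) v) = (-S'.g) ((φ : S.V ≃ₗ[F] S'.V) v) := hg v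
  rw [LinearMap.neg_apply, LinearMap.neg_apply, map_neg, neg_inj] at h1
  exact h1

/-- multiplicities are determined by the kernel dimensions -/
theorem mult_eq (k k' : ℕ → ℕ) (hk : ∀ m, k m = k' m) (c c' : ℕ → ℕ) (h0 : c 0 = 0) (h0' : c' 0 = 0)
    (h : ∀ m, 1 ≤ m → c m + k (m - 1) + k (m + 1) = 2 * k m)
    (h' : ∀ m, 1 ≤ m → c' m + k' (m - 1) + k' (m + 1) = 2 * k' m) : c = c' := by
  funext m
  rcases Nat.eq_zero_or_pos m with rfl | hm
  · rw [h0, h0']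
  · have e1 := h m hm
    have e2 := h' m hm
    rw [← hk, ← hk, ← hk] at e2
    omega

/-- CLASS -/
theorem iso_of_signRel [Fintype F] (h2 : (2 : F) ≠ 0) (S S' : SpSpace F)
    (cp cp' cm cm' : ℕ → ℕ) (sp sm : ℕ → Bool) (h : SignRel S cp sp cm sm)
    (h' : SignRel S' cp' sp cm' sm) (hx : S.LinIso S') : S.Iso S' := by
  obtain ⟨S₁, S₂, S₃, S₂₃, hS₁, hS₂, hS₃, hS₂₃, hsum, hsum23, hn1, hn2, hu23, hu3m, hu3p, hus1,
    hus2⟩ := h
  obtain ⟨T₁, T₂, T₃, T₂₃, hT₁, hT₂, hT₃, hT₂₃, tsum, tsum23, tn1, tn2, tu23, tu3m, tu3p, tus1,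
    tus2⟩ := h'
  -- block diagonal, eigenvalue 1
  obtain ⟨hx1, hx23⟩ := BLOCKDIAG.linIso_of_sum S S' S₁ S₂₃ T₁ T₂₃ hsum tsum 1
    (by rw [algebraMap_one_eq]; exact hn1) (by rw [algebraMap_one_eq]; exact tn1)
    (by rw [algebraMap_one_eq]; exact hu23) (by rw [algebraMap_one_eq]; exact tu23) hx
  -- block diagonal, eigenvalue -1
  obtain ⟨hx2, hx3⟩ := BLOCKDIAG.linIso_of_sum S₂₃ T₂₃ S₂ S₃ T₂ T₃ hsum23 tsum23 (-1)
    (by rw [sub_algebraMap_neg_one]; exact hn2) (by rw [sub_algebraMap_neg_one]; exact tn2)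
    (by rw [sub_algebraMap_neg_one]; exact hu3p) (by rw [sub_algebraMap_neg_one]; exact tu3p) hx23
  -- multiplicities
  obtain ⟨a0, a1⟩ := USKDIM.kdim_relation h2 S₁ cp sp hus1
  obtain ⟨b0, b1⟩ := USKDIM.kdim_relation h2 T₁ cp' sp tus1
  have hcp : cp = cp' := mult_eq _ _ (fun m => SUMISO.kdim_of_linIso S₁ T₁ hx1 1 m) cp cp' a0 b0
    a1 b1
  obtain ⟨c0, c1⟩ := USKDIM.kdim_relation h2 S₂.neg cm sm hus2
  obtain ⟨d0, d1⟩ := USKDIM.kdim_relation h2 T₂.neg cm' sm tus2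
  have hcm : cm = cm' := mult_eq _ _
    (fun m => SUMISO.kdim_of_linIso S₂.neg T₂.neg (linIso_neg S₂ T₂ hx2) 1 m) cm cm' c0 d0 c1 d1
  subst hcp
  subst hcm
  -- the three parts
  have i1 : S₁.Iso T₁ := CLASSU.iso_of_uniSign h2 S₁ T₁ hS₁ hT₁ cp sp hus1 tus1
  have i2 : S₂.Iso T₂ := iso_of_neg S₂ T₂
    (CLASSU.iso_of_uniSign h2 S₂.neg T₂.neg (UNITG.isSp_neg S₂ hS₂) (UNITG.isSp_neg T₂ hT₂) cm sm
      hus2 tus2)
  have i3 : S₃.Iso T₃ := ISOREST.iso_of_linIso h2 S₃ T₃ hS₃ hT₃ hu3m hu3p hx3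
  exact SUMISO.iso_of_sum S S' S₁ S₂₃ T₁ T₂₃ hsum tsum i1
    (SUMISO.iso_of_sum S₂₃ T₂₃ S₂ S₃ T₂ T₃ hsum23 tsum23 i2 i3)

end CLASS

namespace EXSIGN

open CLASS

/-- EXSIGN -/
theorem exists_signRel (h2 : (2 : F) ≠ 0) (S : SpSpace F) (hS : S.IsSp) :
    ∃ (cp : ℕ → ℕ) (sp : ℕ → Bool) (cm : ℕ → ℕ) (sm : ℕ → Bool), SignRel S cp sp cm sm ∧
      (∀ m, Odd m → Even (cp m)) ∧ (∀ m, Odd m → Even (cm m)) ∧ cp 0 = 0 ∧ cm 0 = 0 ∧
      (∀ m, 1 ≤ m → cp m + S.kdim 1 (m - 1) + S.kdim 1 (m + 1) = 2 * S.kdim 1 m) ∧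
      ∀ m, 1 ≤ m → cm m + S.kdim (-1) (m - 1) + S.kdim (-1) (m + 1) = 2 * S.kdim (-1) m := by
  obtain ⟨S₁, S₂₃, hS₁, hS₂₃, hsum, hn1, hu23⟩ := FIT2.exists_split S hS 1 (by ring)
  obtain ⟨S₂, S₃, hS₂, hS₃, hsum23, hn2, hu3p⟩ := FIT2.exists_split S₂₃ hS₂₃ (-1) (by ring)
  rw [algebraMap_one_eq] at hn1 hu23
  rw [sub_algebraMap_neg_one] at hn2 hu3p
  -- `g₃ - 1` is a unit
  have hu3m : IsUnit (S₃.g - 1) := by
    have h1 : S₂₃.kdim 1 1 = 0 :=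
      SUMISO.kdim_eq_zero_of_isUnit S₂₃ 1 (by rw [algebraMap_one_eq]; exact hu23) 1
    rw [SUMISO.kdim_add S₂₃ S₂ S₃ hsum23 1 1] at h1
    have h2' : S₃.kdim 1 1 = 0 := by omega
    have := SUMISO.isUnit_of_kdim_one_eq_zero S₃ 1 h2'
    rwa [algebraMap_one_eq] at this
  obtain ⟨cp, sp, hus1, hpar1⟩ := EXUNISIGN.exists_uniSign h2 S₁ hS₁ hn1
  have hn2' : IsNilpotent (S₂.neg.g - 1) := by
    have : S₂.neg.g - 1 = -(S₂.g + 1) := by
      show -S₂.g - 1 = -(S₂.g + 1)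
      abel
    rw [this]
    exact hn2.neg
  obtain ⟨cm, sm, hus2, hpar2⟩ := EXUNISIGN.exists_uniSign h2 S₂.neg (UNITG.isSp_neg S₂ hS₂) hn2'
  refine ⟨cp, sp, cm, sm, ⟨S₁, S₂, S₃, S₂₃, hS₁, hS₂, hS₃, hS₂₃, hsum, hsum23, hn1, hn2, hu23,
    hu3m, hu3p, hus1, hus2⟩, hpar1, hpar2, ?_⟩
  obtain ⟨a0, a1⟩ := USKDIM.kdim_relation h2 S₁ cp sp hus1
  obtain ⟨c0, c1⟩ := USKDIM.kdim_relation h2 S₂.neg cm sm hus2
  -- kernel dimensions of `S` at `1` are those of `S₁`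
  have hk1 : ∀ k, S.kdim 1 k = S₁.kdim 1 k := by
    intro k
    rw [SUMISO.kdim_add S S₁ S₂₃ hsum 1 k,
      SUMISO.kdim_eq_zero_of_isUnit S₂₃ 1 (by rw [algebraMap_one_eq]; exact hu23) k, add_zero]
  -- kernel dimensions of `S` at `-1` are those of `S₂`
  have hkm : ∀ k, S.kdim (-1) k = S₂.neg.kdim 1 k := by
    intro k
    have hu1 : IsUnit (S₁.g - algebraMap F (Module.End F S₁.V) (-1)) := by
      rw [sub_algebraMap_neg_one]
      have : S₁.g + 1 = (S₁.g - 1) + 2 := by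
        rw [← one_add_one_eq_two]
        abel
      rw [this]
      have h2u : IsUnit (2 : Module.End F S₁.V) := by
        have : (2 : Module.End F S₁.V) = algebraMap F (Module.End F S₁.V) 2 := by
          rw [map_ofNat]
        rw [this]
        exact (IsUnit.mk0 (2 : F) h2).map _
      exact hn1.isUnit_add_right_of_commute h2u (Commute.ofNat_right _ 2)
    rw [kdim_neg, SUMISO.kdim_add S S₁ S₂₃ hsum (-1) k,
      SUMISO.kdim_eq_zero_of_isUnit S₁ (-1) hu1 k, zero_add,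
      SUMISO.kdim_add S₂₃ S₂ S₃ hsum23 (-1) k,
      SUMISO.kdim_eq_zero_of_isUnit S₃ (-1) (by rw [sub_algebraMap_neg_one]; exact hu3p) k,
      add_zero]
  refine ⟨a0, c0, fun m hm => ?_, fun m hm => ?_⟩
  · rw [hk1, hk1, hk1]
    exact a1 m hm
  · rw [hkm, hkm, hkm]
    exact c1 m hm

end EXSIGN

end Cfsg.Agent.S2482P
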