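import Mathlib
import Cfsg.Agent.Helper17.S2482GDefs
import Cfsg.Agent.Helper17.S2482CLASS
import Cfsg.Agent.Helper22.S2482GLLIN
import Cfsg.Agent.Helper3.S2482SPOFSP
import Cfsg.Agent.Helper3.S2482SPCONJ
import Cfsg.Agent.Helper24.S2482MULTKD
import Cfsg.Agent.Helper14.S2482SDSP
import Cfsg.Agent.Helper14.S2482PARITYPOLY

/-! # S2482 chapter (G): assemblies MEM (the invariants of a symplectic matrix lie in `SSp`), INJ (the invariants
determine the class) and the resulting bound `k(Sp_{2n}(F)) ≤ #SSp F (2n) n`.  (helper17) -/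

set_option autoImplicit false

namespace Cfsg.Agent.S2482P

open Polynomial Cfsg.Agent.Helper2.SympInvol Cfsg.Agent.S5955P Cfsg.Agent.S5961P Cfsg.Agent.S2676P
  Cfsg.Agent.S2478P Cfsg.Agent.S2481P

universe u

variable {F : Type u} [Field F]

namespace MEM

theorem sign_of_uniSign {V : Type*} [AddCommGroup V] [Module F V] (B : LinearMap.BilinForm F V)
    (g : Module.End F V) (c : ℕ → ℕ) (s : ℕ → Bool) (h : UniSign B g c s) (m : ℕ)
    (hm : s m = true) : Even m ∧ 0 < c m := by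
  obtain ⟨X, ι, _, _, a, K, v, -, -, -, -, hs⟩ := h
  exact ⟨((hs m).1 hm).1, ((hs m).1 hm).2.1⟩

theorem dvd_of_rootMultiplicity_pos (f : F[X]) (hf : f ≠ 0) (c : F)
    (h : 0 < f.rootMultiplicity c) : (X - C c) ∣ f :=
  dvd_iff_isRoot.2 ((rootMultiplicity_pos hf).1 h)

/-- MEM -/
theorem exists_rel (h2 : (2 : F) ≠ 0) {n : ℕ} (g : Matrix.symplecticGroup (Fin n) F) :
    ∃ x ∈ SSp F (2 * n) n, Rel g x := by
  obtain ⟨t, ht, htT⟩ := GLLIN.exists_hasType g
  have hS := SPOFSP.isSp_ofSp g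
  obtain ⟨cp, sp, cm, sm, hrel, hparp, hparm, hcp0, hcm0, hrp, hrm⟩ :=
    EXSIGN.exists_signRel h2 (ofSp g) hS
  -- multiplicities
  have hmult : ∀ (c : F) (cc : ℕ → ℕ), cc 0 = 0 →
      (∀ m, 1 ≤ m → cc m + (ofSp g).kdim c (m - 1) + (ofSp g).kdim c (m + 1) =
        2 * (ofSp g).kdim c m) → ∀ m, (t m).rootMultiplicity c = cc m := by
    intro c cc h0 hr m
    rcases Nat.eq_zero_or_pos m with rfl | hm
    · rw [htT.2.1 0 (Or.inl rfl), h0]
      exact rootMultiplicity_eq_zero (by simp)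
    · have e1 := MULTKD.rootMultiplicity_relation (toFin g) ht c m hm
      rw [SPOFSP.kd_toFin, SPOFSP.kd_toFin, SPOFSP.kd_toFin] at e1
      have e2 := hr m hm
      omega
  have hmp := hmult 1 cp hcp0 hrp
  have hmm := hmult (-1) cm hcm0 hrm
  have hmonic : ∀ m, (t m).Monic := fun m => (htT.1 m).1
  have hsd : ∀ m, tilde0 (t m) = t m := fun m => SDSP.tilde0_of_symplectic g ht m
  refine ⟨(t, fun m => (sp m, sm m)), ⟨⟨htT, hsd, fun m hm => ?_⟩, fun m => ⟨fun hs => ?_, fun hs => ?_⟩⟩,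
    ht, cp, cm, hrel⟩
  · exact PARITYPOLY.coeff_zero_and_even h2 (t m) (hmonic m) (hsd m)
      (by rw [hmp]; exact hparp m hm) (by rw [hmm]; exact hparm m hm)
  · obtain ⟨S₁, S₂, S₃, S₂₃, -, -, -, -, -, -, -, -, -, -, -, hus1, -⟩ := hrel
    obtain ⟨he, hpos⟩ := sign_of_uniSign _ _ _ _ hus1 m hs
    refine ⟨he, ?_⟩
    have := dvd_of_rootMultiplicity_pos (t m) (hmonic m).ne_zero 1 (by rw [hmp]; exact hpos)
    rwa [C_1] at this
  · obtain ⟨S₁, S₂, S₃, S₂₃, -, -, -, -, -, -, -, -, -, -, -, -, hus2⟩ := hrel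
    obtain ⟨he, hpos⟩ := sign_of_uniSign _ _ _ _ hus2 m hs
    refine ⟨he, ?_⟩
    have := dvd_of_rootMultiplicity_pos (t m) (hmonic m).ne_zero (-1) (by rw [hmm]; exact hpos)
    rwa [C_neg, C_1, sub_neg_eq_add] at this

end MEM

namespace INJ

/-- INJ -/
theorem isConj_of_rel [Fintype F] (h2 : (2 : F) ≠ 0) {n : ℕ}
    (g g' : Matrix.symplecticGroup (Fin n) F) (x : (ℕ → F[X]) × (ℕ → Bool × Bool))
    (h : Rel g x) (h' : Rel g' x) : IsConj g g' := by
  obtain ⟨ht, cp, cm, hs⟩ := h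
  obtain ⟨ht', cp', cm', hs'⟩ := h'
  exact SPCONJ.isConj_of_iso g g'
    (CLASS.iso_of_signRel h2 _ _ cp cp' cm cm' _ _ hs hs'
      (GLLIN.linIso_of_hasType g g' x.1 ht ht'))

end INJ

/-- the number of classes of `Sp_{2n}(F)` is at most the number of admissible tuples with signs -/
theorem card_conjClasses_le_card_SSp [Fintype F] (h2 : (2 : F) ≠ 0) (n : ℕ)
    (hfin : (SSp F (2 * n) n).Finite) :
    Nat.card (ConjClasses (Matrix.symplecticGroup (Fin n) F)) ≤ Nat.card (SSp F (2 * n) n) := by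
  classical
  have : Finite (SSp F (2 * n) n) := hfin
  have hex : ∀ c : ConjClasses (Matrix.symplecticGroup (Fin n) F),
      ∃ x ∈ SSp F (2 * n) n, Rel (Quotient.out c) x := fun c => MEM.exists_rel h2 (Quotient.out c)
  choose f hf hrel using hex
  refine Nat.card_le_card_of_injective (fun c => (⟨f c, hf c⟩ : SSp F (2 * n) n)) ?_
  intro c c' hcc
  have h1 : f c = f c' := congrArg Subtype.val hcc
  have h3 : IsConj (Quotient.out c) (Quotient.out c') :=
    INJ.isConj_of_rel h2 _ _ (f c) (hrel c) (h1 ▸ hrel c')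
  have h4 : ConjClasses.mk (Quotient.out c) = ConjClasses.mk (Quotient.out c') :=
    ConjClasses.mk_eq_mk_iff_isConj.2 h3
  have h5 : ∀ d : ConjClasses (Matrix.symplecticGroup (Fin n) F),
      ConjClasses.mk (Quotient.out d) = d := fun d => Quotient.out_eq d
  rw [h5, h5] at h4
  exact h4

end Cfsg.Agent.S2482P
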