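import Mathlib
import Cfsg.Agent.Helper8.MatBNDefs
import Cfsg.Agent.Helper8.S2546Defs
import Cfsg.Agent.Helper8.S2546EMB
import Cfsg.Agent.Helper17.S2546PRES
import Cfsg.Agent.Helper17.S2547Defs
import Cfsg.Agent.Helper23.S2547EMBPRES
set_option autoImplicit false
open scoped Matrix

/-! S2547 piece LEVI (driver helper17): an element of `SO_{k+2}` fixing the line `K e_0` is the
product of an embedded element of `SO_k` and an upper triangular element. -/

namespace Cfsg.Agent.S2547P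

open Cfsg.Agent.MatBN Cfsg.Agent.S2546P

variable {K : Type*} [Field K]

namespace LEVI

theorem det_emb {k n : ℕ} {f : Fin k → Fin n} (hf : Function.Injective f)
    (A : Matrix (Fin k) (Fin k) K) : (EMB.emb f A).det = A.det := by
  unfold EMB.emb
  rw [Matrix.mul_assoc, Matrix.det_one_add_mul_comm, Matrix.mul_assoc, EMB.incT_mul_inc hf,
    Matrix.mul_one, add_sub_cancel]

theorem fS_val (k : ℕ) (r : Fin k) : (fS k r).val = r.val + 1 := rfl

theorem fS_ne_zero (k : ℕ) (r : Fin k) : fS k r ≠ 0 := by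
  intro h
  have := congrArg Fin.val h
  rw [fS_val] at this
  simp at this

theorem fS_ne_last (k : ℕ) (r : Fin k) : fS k r ≠ Fin.last (k + 1) := by
  intro h
  have := congrArg Fin.val h
  rw [fS_val, Fin.val_last] at this
  have := r.2
  omega

theorem zero_ne_fS (k : ℕ) (r : Fin k) : (0 : Fin (k + 2)) ≠ fS k r := (fS_ne_zero k r).symm

theorem last_ne_fS (k : ℕ) (r : Fin k) : Fin.last (k + 1) ≠ fS k r := (fS_ne_last k r).symm

theorem fS_rev (k : ℕ) (r : Fin k) : fS k r.rev = (fS k r).rev := by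
  apply Fin.ext
  rw [fS_val, Fin.val_rev, Fin.val_rev, fS_val]
  have := r.2
  omega

theorem rev_zero (k : ℕ) : (0 : Fin (k + 2)).rev = Fin.last (k + 1) := by
  apply Fin.ext
  rw [Fin.val_rev, Fin.val_last]
  simp

theorem rev_last (k : ℕ) : (Fin.last (k + 1)).rev = (0 : Fin (k + 2)) := by
  rw [← rev_zero, Fin.rev_rev]

theorem zero_ne_last (k : ℕ) : (0 : Fin (k + 2)) ≠ Fin.last (k + 1) := by
  intro h
  have := congrArg Fin.val h
  rw [Fin.val_last] at this
  simp at this

theorem sum_split (k : ℕ) (F : Fin (k + 2) → K) :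
    ∑ i, F i = F 0 + F (Fin.last (k + 1)) + ∑ r, F (fS k r) := by
  rw [Fin.sum_univ_succ, Fin.sum_univ_castSucc, Fin.succ_last]
  have : ∀ r : Fin k, (r.castSucc).succ = fS k r := fun r => Fin.ext rfl
  simp only [this]
  ring

theorem cases3 (k : ℕ) (a : Fin (k + 2)) :
    a = 0 ∨ a = Fin.last (k + 1) ∨ ∃ r, a = fS k r := by
  by_cases h0 : a = 0
  · exact Or.inl h0
  by_cases hl : a = Fin.last (k + 1)
  · exact Or.inr (Or.inl hl)
  right; right
  have h0' : a.val ≠ 0 := fun h => h0 (Fin.ext h)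
  have hl' : a.val ≠ k + 1 := fun h => hl (Fin.ext (by rw [Fin.val_last]; exact h))
  have := a.2
  exact ⟨⟨a.val - 1, by omega⟩, Fin.ext (by rw [fS_val]; simp only; omega)⟩

/-- the first column and last row of an isometry fixing the line `K e_0` -/
theorem col_row (k : ℕ) (M : Matrix (Fin (k + 2)) (Fin (k + 2)) K)
    (hP : PresJ (RingHom.id K) (k + 2) M) (hdet : M.det = 1) (c : K)
    (hg : M *ᵥ Pi.single (0 : Fin (k + 2)) 1 = c • Pi.single (0 : Fin (k + 2)) 1) :
    c ≠ 0 ∧ (∀ a, M a 0 = if a = 0 then c else 0) ∧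
      ∀ c', M (Fin.last (k + 1)) c' = if c' = Fin.last (k + 1) then c⁻¹ else 0 := by
  have hcol : ∀ a, M a 0 = if a = 0 then c else 0 := by
    intro a
    have h1 := congrFun hg a
    rw [Matrix.mulVec, dotProduct, Finset.sum_eq_single 0] at h1
    · rw [Pi.single_eq_same, mul_one] at h1
      rw [h1, Pi.smul_apply, smul_eq_mul]
      by_cases ha : a = 0
      · rw [ha, Pi.single_eq_same, mul_one, if_pos rfl]
      · rw [Pi.single_eq_of_ne ha, mul_zero, if_neg ha]
    · intro b _ hb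
      rw [Pi.single_eq_of_ne hb, mul_zero]
    · intro h
      exact absurd (Finset.mem_univ _) h
  have hc0 : c ≠ 0 := by
    intro hc
    have : M.det = 0 := by
      apply Matrix.det_eq_zero_of_column_eq_zero 0
      intro a
      rw [hcol a, hc]
      split_ifs <;> rfl
    rw [hdet] at this
    exact one_ne_zero this
  refine ⟨hc0, hcol, ?_⟩
  intro c'
  have h1 := hP 0 c'
  rw [Finset.sum_eq_single 0] at h1
  · rw [RingHom.id_apply, hcol 0, if_pos rfl, rev_zero] at h1
    by_cases hc' : c' = Fin.last (k + 1)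
    · rw [if_pos hc'] at h1 ⊢
      rw [hc'] at h1 ⊢
      field_simp
      rw [mul_comm]
      exact h1
    · rw [if_neg hc'] at h1 ⊢
      rcases mul_eq_zero.1 h1 with h | h
      · exact absurd h hc0
      · exact h
  · intro b _ hb
    rw [hcol b, if_neg hb, zero_mul]
  · intro h
    exact absurd (Finset.mem_univ _) h

/-- the middle block -/
def mid (k : ℕ) (M : Matrix (Fin (k + 2)) (Fin (k + 2)) K) : Matrix (Fin k) (Fin k) K :=
  Matrix.of fun p q => M (fS k p) (fS k q)

theorem presJ_mid (k : ℕ) (M : Matrix (Fin (k + 2)) (Fin (k + 2)) K)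
    (hP : PresJ (RingHom.id K) (k + 2) M)
    (hrow : ∀ c', c' ≠ Fin.last (k + 1) → M (Fin.last (k + 1)) c' = 0) :
    PresJ (RingHom.id K) k (mid k M) := by
  intro p q
  have h1 := hP (fS k p) (fS k q)
  rw [sum_split] at h1
  simp only [RingHom.id_apply] at h1 ⊢
  rw [rev_zero, rev_last, hrow _ (fS_ne_last k q), hrow _ (fS_ne_last k p), mul_zero, zero_mul,
    add_zero, zero_add] at h1
  have h2 : (∑ r, M (fS k r) (fS k p) * M (fS k r).rev (fS k q))
      = ∑ r, mid k M r p * mid k M r.rev q := by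
    apply Finset.sum_congr rfl
    intro r _
    simp only [mid, Matrix.of_apply]
    rw [fS_rev]
  rw [← h2, h1]
  by_cases hq : q = p.rev
  · rw [if_pos hq, if_pos (by rw [hq, fS_rev])]
  · rw [if_neg hq, if_neg]
    intro h
    apply hq
    rw [← fS_rev] at h
    exact (fS_strictMono k).injective h

/-- the inverse of a matrix satisfying `PresJ` -/
def jinv (k : ℕ) (A : Matrix (Fin k) (Fin k) K) : Matrix (Fin k) (Fin k) K :=
  Matrix.of fun p q => A q.rev p.rev

theorem jinv_mul (k : ℕ) (A : Matrix (Fin k) (Fin k) K) (hA : PresJ (RingHom.id K) k A) :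
    jinv k A * A = 1 := by
  ext p q
  rw [Matrix.mul_apply]
  have h1 := hA p.rev q
  simp only [RingHom.id_apply] at h1
  have h2 : (∑ r, jinv k A p r * A r q) = ∑ r, A r p.rev * A r.rev q := by
    rw [← Equiv.sum_comp Fin.revPerm]
    apply Finset.sum_congr rfl
    intro r _
    simp only [jinv, Matrix.of_apply, Fin.revPerm_apply, Fin.rev_rev]
  rw [h2, h1, Fin.rev_rev]
  by_cases h : p = q
  · rw [h, if_pos rfl, Matrix.one_apply_eq]
  · rw [if_neg (fun e => h e.symm), Matrix.one_apply_ne h]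

/-- rows of `emb f A * M` outside the range of `f` -/
theorem emb_mul_apply_out (k : ℕ) (A : Matrix (Fin k) (Fin k) K)
    (M : Matrix (Fin (k + 2)) (Fin (k + 2)) K) (a c' : Fin (k + 2)) (ha : ∀ r, a ≠ fS k r) :
    (EMB.emb (fS k) A * M) a c' = M a c' := by
  rw [Matrix.mul_apply]
  have : ∀ i, EMB.emb (fS k) A a i * M i c' = (1 : Matrix (Fin (k + 2)) (Fin (k + 2)) K) a i * M i c' :=
    fun i => by rw [EMB.emb_apply_left (fS k) A a i ha]
  simp only [this]
  rw [← Matrix.mul_apply, Matrix.one_mul]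

/-- rows of `emb f A * M` in the range of `f` -/
theorem emb_mul_apply_in (k : ℕ) (A : Matrix (Fin k) (Fin k) K)
    (M : Matrix (Fin (k + 2)) (Fin (k + 2)) K) (p : Fin k) (c' : Fin (k + 2)) :
    (EMB.emb (fS k) A * M) (fS k p) c' = ∑ r, A p r * M (fS k r) c' := by
  rw [Matrix.mul_apply, sum_split]
  rw [EMB.emb_apply_right (fS k) A _ _ (zero_ne_fS k),
    EMB.emb_apply_right (fS k) A _ _ (last_ne_fS k), Matrix.one_apply_ne (fS_ne_zero k p),
    Matrix.one_apply_ne (fS_ne_last k p), zero_mul, zero_mul, zero_add, zero_add]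
  apply Finset.sum_congr rfl
  intro r _
  rw [EMB.emb_apply_mem (fS_strictMono k).injective]

theorem prod_split (k : ℕ) (F : Fin (k + 2) → K) :
    ∏ i, F i = F 0 * F (Fin.last (k + 1)) * ∏ r, F (fS k r) := by
  rw [Fin.prod_univ_succ, Fin.prod_univ_castSucc, Fin.succ_last]
  have : ∀ r : Fin k, (r.castSucc).succ = fS k r := fun r => Fin.ext rfl
  simp only [this]
  ring

/-- the triangular factor -/
theorem tri_factor (k : ℕ) (M : Matrix (Fin (k + 2)) (Fin (k + 2)) K) (c : K) (hc0 : c ≠ 0)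
    (hP : PresJ (RingHom.id K) (k + 2) M)
    (hcol : ∀ a, M a 0 = if a = 0 then c else 0)
    (hrow : ∀ c', M (Fin.last (k + 1)) c' = if c' = Fin.last (k + 1) then c⁻¹ else 0) :
    IsTri (EMB.emb (fS k) (jinv k (mid k M)) * M) ∧
      (EMB.emb (fS k) (jinv k (mid k M)) * M).det = 1 := by
  have hrow' : ∀ c', c' ≠ Fin.last (k + 1) → M (Fin.last (k + 1)) c' = 0 := fun c' h => by
    rw [hrow c', if_neg h]
  have hmid := presJ_mid k M hP hrow'
  have hinv := jinv_mul k (mid k M) hmid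
  set b₀ := EMB.emb (fS k) (jinv k (mid k M)) * M with hb₀
  have e0 : ∀ c', b₀ 0 c' = M 0 c' := fun c' =>
    emb_mul_apply_out k _ M 0 c' (zero_ne_fS k)
  have el : ∀ c', b₀ (Fin.last (k + 1)) c' = M (Fin.last (k + 1)) c' := fun c' =>
    emb_mul_apply_out k _ M _ c' (last_ne_fS k)
  have ef0 : ∀ p, b₀ (fS k p) 0 = 0 := by
    intro p
    rw [hb₀, emb_mul_apply_in]
    apply Finset.sum_eq_zero
    intro r _
    rw [hcol, if_neg (fS_ne_zero k r), mul_zero]
  have eff : ∀ p q, b₀ (fS k p) (fS k q) = (1 : Matrix (Fin k) (Fin k) K) p q := by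
    intro p q
    rw [hb₀, emb_mul_apply_in, ← hinv, Matrix.mul_apply]
    rfl
  have htri : IsTri b₀ := by
    intro a c' hca
    rcases cases3 k a with rfl | rfl | ⟨p, rfl⟩
    · exact absurd hca (Fin.not_lt_zero _)
    · rw [el, hrow', ]
      exact hca.ne
    · rcases cases3 k c' with rfl | rfl | ⟨q, rfl⟩
      · exact ef0 p
      · exact absurd hca (not_lt.mpr (Fin.le_last _))
      · rw [eff]
        apply Matrix.one_apply_ne
        intro h
        rw [h] at hca
        exact lt_irrefl _ hca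
  refine ⟨htri, ?_⟩
  rw [Matrix.det_of_isUpperTriangular ((isTri_iff_blockTriangular _).1 htri), prod_split, e0, el,
    hcol, if_pos rfl, hrow, if_pos rfl]
  have : ∀ r, b₀ (fS k r) (fS k r) = 1 := fun r => by rw [eff, Matrix.one_apply_eq]
  simp only [this, Finset.prod_const_one, mul_one]
  exact mul_inv_cancel₀ hc0

end LEVI

open LEVI in
theorem exists_levi (k : ℕ) (g : SOJ K (k + 2)) (c : K)
    (hg : rhoO K (k + 2) g *ᵥ Pi.single (0 : Fin (k + 2)) 1 = c • Pi.single (0 : Fin (k + 2)) 1) :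
    ∃ (A : SOJ K k) (b : SOJ K (k + 2)), IsTri (rhoO K (k + 2) b) ∧
      rhoO K (k + 2) g = EMB.emb (fS k) (rhoO K k A) * rhoO K (k + 2) b := by
  have hP : PresJ (RingHom.id K) (k + 2) (rhoO K (k + 2) g) := presJ_of_mem _ _ g
  have hdet : (rhoO K (k + 2) g).det = 1 := det_of_mem _ _ g
  obtain ⟨hc0, hcol, hrow⟩ := col_row k _ hP hdet c hg
  have hrow' : ∀ c', c' ≠ Fin.last (k + 1) → rhoO K (k + 2) g (Fin.last (k + 1)) c' = 0 :=
    fun c' h => by rw [hrow c', if_neg h]
  have hmid := presJ_mid k _ hP hrow'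
  have hinv := jinv_mul k _ hmid
  have hinv' : mid k (rhoO K (k + 2) g) * jinv k (mid k (rhoO K (k + 2) g)) = 1 :=
    mul_eq_one_comm.1 hinv
  obtain ⟨htri, hdetb⟩ := tri_factor k _ c hc0 hP hcol hrow
  have hinj : Function.Injective (fS k) := (fS_strictMono k).injective
  have hfac : rhoO K (k + 2) g = EMB.emb (fS k) (mid k (rhoO K (k + 2) g)) *
      (EMB.emb (fS k) (jinv k (mid k (rhoO K (k + 2) g))) * rhoO K (k + 2) g) := by
    rw [← Matrix.mul_assoc, EMB.emb_mul hinj, hinv', EMB.emb_one, Matrix.one_mul]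
  have hdetA : (mid k (rhoO K (k + 2) g)).det = 1 := by
    have h1 := congrArg Matrix.det hfac
    rw [Matrix.det_mul, hdetb, mul_one, det_emb hinj, hdet] at h1
    exact h1.symm
  obtain ⟨A, hA⟩ := exists_of_presJ (RingHom.id K) k _ hdetA hmid
  obtain ⟨y, hy⟩ := exists_emb k A
  have hy' : rhoO K (k + 2) y = EMB.emb (fS k) (mid k (rhoO K (k + 2) g)) := by
    rw [hy]
    show EMB.emb (fS k) (rho (RingHom.id K) k A) = _
    rw [hA]
  have hyinv : rhoO K (k + 2) y⁻¹ = EMB.emb (fS k) (jinv k (mid k (rhoO K (k + 2) g))) := by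
    have h1 : rhoO K (k + 2) y⁻¹ * rhoO K (k + 2) y = 1 := by
      rw [← map_mul, inv_mul_cancel, map_one]
    have h2 : rhoO K (k + 2) y * EMB.emb (fS k) (jinv k (mid k (rhoO K (k + 2) g))) = 1 := by
      rw [hy', EMB.emb_mul hinj, hinv', EMB.emb_one]
    calc rhoO K (k + 2) y⁻¹ = rhoO K (k + 2) y⁻¹ * (rhoO K (k + 2) y *
          EMB.emb (fS k) (jinv k (mid k (rhoO K (k + 2) g)))) := by rw [h2, Matrix.mul_one]
      _ = _ := by rw [← Matrix.mul_assoc, h1, Matrix.one_mul]
  refine ⟨A, y⁻¹ * g, ?_, ?_⟩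
  · rw [map_mul, hyinv]
    exact htri
  · rw [← hy, ← map_mul, mul_inv_cancel_left]

end Cfsg.Agent.S2547P
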