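import Mathlib
import Cfsg.Agent.Helper8.MatBNDefs
import Cfsg.Agent.Helper8.S2546Defs
import Cfsg.Agent.Helper8.S2546EMB
import Cfsg.Agent.Helper17.S2546PRES
import Cfsg.Agent.Helper17.S2547Defs
import Cfsg.Agent.Helper23.S2547EMBPRES
import Cfsg.Agent.Helper23.S2547EMBS
import Cfsg.Agent.Helper17.S2547LEVI
import Cfsg.Agent.Helper19.S2547COLREDO
set_option autoImplicit false
open scoped Matrix

/-! S2547 piece GENSO (driver helper17): `SO(J) = ⟨B, s_j⟩` for odd `n`, by induction `k → k + 2`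
from COLREDO (column reduction), LEVI and the Levi embedding EMBPRES / EMBS. -/

namespace Cfsg.Agent.S2547P

open Cfsg.Agent.MatBN Cfsg.Agent.S2546P

variable {K : Type*} [Field K]

namespace GENSO

/-- the embedding maps `⟨B, s_j⟩` of `SO_k` into `⟨B, s_j⟩` of `SO_{k+2}` -/
theorem emb_mem (k : ℕ) (hk : k % 2 = 1) (A : SOJ K k) (hA : A ∈ Subgroup.closure (GenSet K k)) :
    ∀ y : SOJ K (k + 2), rhoO K (k + 2) y = EMB.emb (fS k) (rhoO K k A) →
      y ∈ Subgroup.closure (GenSet K (k + 2)) := by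
  have hinj : Function.Injective (fS k) := (fS_strictMono k).injective
  induction hA using Subgroup.closure_induction with
  | mem A hA =>
    intro y hy
    apply Subgroup.subset_closure
    rcases hA with hA | ⟨j, hj, hA⟩
    · left
      show IsTri (rhoO K (k + 2) y)
      rw [hy]
      exact EMB.isTri_emb (fS_strictMono k) _ hA
    · right
      refine ⟨j + 1, by omega, ?_⟩
      rw [hy, hA]
      exact emb_sMat k hk j hj
  | one =>
    intro y hy
    rw [map_one, EMB.emb_one] at hy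
    have : y = 1 := rho_injective (RingHom.id K) (k + 2) (by rw [map_one]; exact hy)
    rw [this]
    exact Subgroup.one_mem _
  | mul A₁ A₂ _ _ ih₁ ih₂ =>
    intro y hy
    obtain ⟨y₁, hy₁⟩ := exists_emb k A₁
    obtain ⟨y₂, hy₂⟩ := exists_emb k A₂
    have : y = y₁ * y₂ := by
      apply rho_injective (RingHom.id K) (k + 2)
      show rhoO K (k + 2) y = rhoO K (k + 2) (y₁ * y₂)
      rw [hy, map_mul, map_mul, hy₁, hy₂, EMB.emb_mul hinj]
    rw [this]
    exact Subgroup.mul_mem _ (ih₁ y₁ hy₁) (ih₂ y₂ hy₂)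
  | inv A _ ih =>
    intro y hy
    obtain ⟨y₁, hy₁⟩ := exists_emb k A
    have : y = y₁⁻¹ := by
      apply eq_inv_of_mul_eq_one_right
      apply rho_injective (RingHom.id K) (k + 2)
      show rhoO K (k + 2) (y₁ * y) = rhoO K (k + 2) 1
      rw [map_mul, hy, hy₁, EMB.emb_mul hinj, ← map_mul, mul_inv_cancel, map_one, map_one,
        EMB.emb_one]
    rw [this]
    exact Subgroup.inv_mem _ (ih y₁ hy₁)

theorem step (h2 : (2 : K) ≠ 0) (k : ℕ) (hk : k % 2 = 1)
    (ih : ∀ A : SOJ K k, A ∈ Subgroup.closure (GenSet K k)) (g : SOJ K (k + 2)) :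
    g ∈ Subgroup.closure (GenSet K (k + 2)) := by
  set v : Fin (k + 2) → K := rhoO K (k + 2) g *ᵥ Pi.single (0 : Fin (k + 2)) 1 with hvdef
  have he0 : (Pi.single (0 : Fin (k + 2)) (1 : K) : Fin (k + 2) → K) ≠ 0 := by
    intro h
    have := congrFun h 0
    simp at this
  have hv : v ≠ 0 := by
    intro h
    apply he0
    have h1 : rhoO K (k + 2) g⁻¹ *ᵥ v = Pi.single (0 : Fin (k + 2)) 1 := by
      rw [hvdef, Matrix.mulVec_mulVec, ← map_mul, inv_mul_cancel, map_one, Matrix.one_mulVec]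
    rw [← h1, h, Matrix.mulVec_zero]
  have hiso : hJ (RingHom.id K) (k + 2) v v = 0 := by
    rw [hvdef]
    show hJ (RingHom.id K) (k + 2) (rho (RingHom.id K) (k + 2) g *ᵥ _)
      (rho (RingHom.id K) (k + 2) g *ᵥ _) = 0
    rw [hJ_mulVec]
    unfold hJ
    apply Finset.sum_eq_zero
    intro i _
    by_cases hi : i = 0
    · subst hi
      have : (Fin.rev (0 : Fin (k + 2))) ≠ 0 := by
        intro h
        have := congrArg Fin.val h
        simp at this
      rw [Pi.single_eq_of_ne this]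
      simp
    · rw [Pi.single_eq_of_ne hi, zero_mul]
  obtain ⟨h, hh, c, hc⟩ := exists_col_reduce_odd h2 (k + 2) (by omega) v hv hiso
  have hg' : rhoO K (k + 2) (h * g) *ᵥ Pi.single (0 : Fin (k + 2)) 1
      = c • Pi.single (0 : Fin (k + 2)) 1 := by
    rw [map_mul, ← Matrix.mulVec_mulVec]
    exact hc
  obtain ⟨A, b, hb, e⟩ := exists_levi k (h * g) c hg'
  have hA := ih A
  obtain ⟨y, hy⟩ := exists_emb k A
  have hyH := emb_mem k hk A hA y hy
  have hbH : b ∈ Subgroup.closure (GenSet K (k + 2)) :=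
    Subgroup.subset_closure (Or.inl hb)
  have e2 : h * g = y * b := by
    apply rho_injective (RingHom.id K) (k + 2)
    show rhoO K (k + 2) (h * g) = rhoO K (k + 2) (y * b)
    rw [e, map_mul, hy]
  have e3 : g = h⁻¹ * (y * b) := by rw [← e2]; group
  rw [e3]
  exact Subgroup.mul_mem _ (Subgroup.inv_mem _ hh) (Subgroup.mul_mem _ hyH hbH)

theorem aux (h2 : (2 : K) ≠ 0) : ∀ (m n : ℕ), n = 2 * m + 1 → ∀ g : SOJ K n,
    g ∈ Subgroup.closure (GenSet K n) := by
  intro m
  induction m with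
  | zero =>
    intro n hn g
    subst hn
    apply Subgroup.subset_closure
    left
    intro a c hca
    exfalso
    have := a.2
    have := c.2
    have : c.val < a.val := hca
    omega
  | succ m ih =>
    intro n hn
    obtain rfl : n = (2 * m + 1) + 2 := by omega
    intro g
    exact step h2 (2 * m + 1) (by omega) (ih (2 * m + 1) rfl) g

end GENSO

theorem gen_SO (h2 : (2 : K) ≠ 0) (n : ℕ) (hn : n % 2 = 1) (g : SOJ K n) :
    g ∈ Subgroup.closure (GenSet K n) :=
  GENSO.aux h2 (n / 2) n (by omega) g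

end Cfsg.Agent.S2547P
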