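import Mathlib
import Cfsg.Agent.Helper8.MatBNDefs
import Cfsg.Agent.Helper8.S2546Defs
import Cfsg.Agent.Helper23.S2546TAU
import Cfsg.Agent.Helper23.S2546HAL
import Cfsg.Agent.Helper23.S2546HE
import Cfsg.Agent.Helper17.S2546PRES
import Cfsg.Agent.Helper17.S2546SMEM
import Cfsg.Agent.Helper17.S2546SUPP
import Cfsg.Agent.Helper17.S2546HAO
import Cfsg.Agent.Lead.S2546N0
import Cfsg.Agent.Lead.S2546DIAG
import Cfsg.Agent.Helper8.S2546HDO
import Cfsg.Agent.Helper23.S2546HDL
import Cfsg.Agent.Helper17.S2547Defs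
import Cfsg.Agent.Helper3.S2547XNEO
import Cfsg.Agent.Helper17.S2547GENSO
set_option autoImplicit false
open scoped Matrix

/-! S2547 piece DATASO (driver helper17): assembly of the `MatBN.Data` of `SO(J)`, `n` odd
(the case `σ = id` of helper8's S2546DATA). -/

namespace Cfsg.Agent.S2547P

open Cfsg.Agent.MatBN Cfsg.Agent.S2546P

variable {K : Type*} [Field K]

namespace DATASO

theorem isUni_of_mem (σ : K →+* K) (n j : ℕ) (hj : j < n / 2) (x : SUJ σ n)
    (hx : x ∈ Xset σ n j) : IsUni (rho σ n x) := by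
  obtain ⟨h1, h2⟩ := supp_XMat σ n j hj (rho σ n x) hx
  refine ⟨?_, h1⟩
  intro a c hca
  by_contra hne
  have := (h2 a c hca.ne' hne).1
  exact absurd this (not_lt.mpr hca.le)

end DATASO

theorem exists_data_SO (h2 : (2 : K) ≠ 0) (n : ℕ) (hn : n % 2 = 1) (hn3 : 3 ≤ n) :
    ∃ D : Data (SOJ K n) K n (n / 2), D.ρ = rhoO K n ∧
      ∀ j : Fin (n / 2), D.X j = XsetO K n j := by
  have hσ : ∀ x : K, (RingHom.id K) ((RingHom.id K) x) = x := fun x => rfl
  have hpar : ¬ n % 2 = 0 := by omega
  have hcase : ∀ j : Fin (n / 2), ¬ (j : ℕ) + 1 < n / 2 → (j : ℕ) = n / 2 - 1 := by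
    intro j h
    have := j.2
    omega
  have hs : ∀ j : Fin (n / 2), ∃ s : SOJ K n, rhoO K n s = sMat n 0 j ∧
      Mon (rhoO K n s) (tau n j) := by
    intro j
    by_cases h : (j : ℕ) + 1 < n / 2
    · obtain ⟨h1, h2', h3⟩ := presJ_pMat_tau (RingHom.id K) n j h
      obtain ⟨s, hs⟩ := exists_of_presJ (RingHom.id K) n _ h2' h1
      refine ⟨s, ?_, ?_⟩
      · rw [hs]; unfold sMat; rw [if_pos h]
      · rw [hs]; exact h3
    · have hj := hcase j h
      obtain ⟨h1, h2', h3⟩ := presJ_sO (K := K) (RingHom.id K) n hn hn3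
      obtain ⟨s, hs⟩ := exists_of_presJ (RingHom.id K) n _ h2' h1
      refine ⟨s, ?_, ?_⟩
      · rw [hs]; unfold sMat; rw [if_neg h, if_neg hpar]
      · rw [hs, hj]; exact h3
  choose s hs1 hs2 using hs
  obtain ⟨n₀, hn₀, hmon₀⟩ := exists_n0 (RingHom.id K) n s hs2
  refine ⟨{ ρ := rhoO K n
            ρ_inj := rho_injective (RingHom.id K) n
            s := s
            τ := fun j => tau n j
            X := fun j => XsetO K n j
            n₀ := n₀
            mon_s := hs2
            τ_sq := fun j => tau_sq n j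
            τ_inj := ?_
            X_uni := fun j x hx => DATASO.isUni_of_mem (RingHom.id K) n j j.2 x hx
            Y_low := fun j x hx => ylow_all (RingHom.id K) n j j.2 (s j) (hs2 j) x hx
            X_ne := fun j => exists_X_ne_one_odd h2 n hn j j.2
            ha := ?_
            hd := ?_
            he := fun j g π hg => he_all (RingHom.id K) hσ n j j.2 (s j) (hs2 j) g π hg
            gen := ?_
            diag := fun b hb => exists_diag (RingHom.id K) hσ n b hb
            n₀_mem := hn₀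
            mon_n₀ := hmon₀ }, rfl, fun j => rfl⟩
  · intro j j' h
    exact Fin.ext (tau_inj n j.2 j'.2 h)
  · intro j b hb
    by_cases h : (j : ℕ) + 1 < n / 2
    · have e : rhoO K n (s j) = pMat n (tau n j) := by
        rw [hs1 j]; unfold sMat; rw [if_pos h]
      exact ha_L (RingHom.id K) hσ n j h (s j) e b hb
    · have hj := hcase j h
      have e : rhoO K n (s j) = sO n := by
        rw [hs1 j]; unfold sMat; rw [if_neg h, if_neg hpar]
      have := ha_O (RingHom.id K) hσ n hn hn3 (s j) e b hb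
      rwa [← hj] at this
  · intro j x hx hx1
    by_cases h : (j : ℕ) + 1 < n / 2
    · have e : rhoO K n (s j) = pMat n (tau n j) := by
        rw [hs1 j]; unfold sMat; rw [if_pos h]
      exact hd_L (RingHom.id K) hσ n j h (s j) e x hx hx1
    · have hj := hcase j h
      have e : rhoO K n (s j) = sO n := by
        rw [hs1 j]; unfold sMat; rw [if_neg h, if_neg hpar]
      have hx' : x ∈ Xset (RingHom.id K) n (n / 2 - 1) := by
        have := hx
        rwa [hj] at this
      have := hd_O (RingHom.id K) hσ n hn hn3 (s j) e x hx' hx1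
      rwa [← hj] at this
  · intro g
    have h1 := gen_SO h2 n hn g
    refine Subgroup.closure_mono ?_ h1
    rintro y (hy | ⟨j, hj, hy⟩)
    · exact Or.inl hy
    · right
      refine ⟨⟨j, hj⟩, ?_⟩
      apply rho_injective (RingHom.id K) n
      show rhoO K n (s ⟨j, hj⟩) = rhoO K n y
      rw [hs1 ⟨j, hj⟩, hy]

end Cfsg.Agent.S2547P
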