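import Mathlib
import Cfsg.Agent.Helper8.MatBNDefs
import Cfsg.Agent.Helper23.S2546MONALG
import Cfsg.Agent.Helper23.S2546BNAXA
import Cfsg.Agent.Helper23.S2546SPLIT
import Cfsg.Agent.Helper4.S2547SUBS
import Cfsg.Agent.Helper4.S2547SUBHD
import Cfsg.Agent.Helper4.S2547SUBGEN
import Cfsg.Agent.Helper25.S2547SUBHE
import Cfsg.Agent.Helper25.S2547SUBN0
set_option autoImplicit false
open scoped Matrix

/-! S2547 piece DATASUB (driver helper17): a `MatBN.Data` on `G` restricts to every normal subgroup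
`N ⊇ [G,G] ∪ U` provided the torus normalizes the root sets.  Generic, reusable. -/

namespace Cfsg.Agent.MatBN

variable {K : Type*} [Field K] {n m : ℕ} {G : Type*} [Group G] (D : Data G K n m)

namespace DATASUB

theorem isTri_of_isDg {M : Matrix (Fin n) (Fin n) K} (h : IsDg M) : IsTri M :=
  fun a c hca => h a c hca.ne'

/-- entries of `A * M * B` for diagonal `A`, `B` -/
theorem dg_mul_mul_dg_apply {A M B : Matrix (Fin n) (Fin n) K} (hA : IsDg A) (hB : IsDg B)
    (a c : Fin n) : (A * M * B) a c = A a a * M a c * B c c := by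
  rw [Matrix.mul_apply, Finset.sum_eq_single c]
  · rw [Matrix.mul_apply, Finset.sum_eq_single a]
    · intro k _ hk
      rw [hA a k hk.symm, zero_mul]
    · intro h
      exact absurd (Finset.mem_univ a) h
  · intro k _ hk
    rw [hB k c hk, mul_zero]
  · intro h
    exact absurd (Finset.mem_univ c) h

theorem dg_mul_dg_diag {A B : Matrix (Fin n) (Fin n) K} (hA : IsDg A) (h : A * B = 1)
    (a : Fin n) : A a a * B a a = 1 := by
  have h1 := congrFun (congrFun h a) a
  rw [Matrix.mul_apply, Matrix.one_apply_eq, Finset.sum_eq_single a] at h1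
  · exact h1
  · intro k _ hk
    rw [hA a k hk.symm, zero_mul]
  · intro h
    exact absurd (Finset.mem_univ a) h

theorem isLow_conj_dg {A M B : Matrix (Fin n) (Fin n) K} (hA : IsDg A) (hB : IsDg B)
    (h : A * B = 1) (hM : IsLow M) : IsLow (A * M * B) := by
  refine ⟨fun a c hac => ?_, fun a => ?_⟩
  · rw [dg_mul_mul_dg_apply hA hB, hM.1 a c hac, mul_zero, zero_mul]
  · rw [dg_mul_mul_dg_apply hA hB, hM.2 a, mul_one]
    exact dg_mul_dg_diag hA h a

/-- transfer of closure membership to a subgroup containing the generators -/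
theorem mem_closure_subtype (N : Subgroup G) (S : Set G) (hS : S ⊆ (N : Set G)) (g : G)
    (hg : g ∈ Subgroup.closure S) :
    ∃ hgN : g ∈ N, (⟨g, hgN⟩ : ↥N) ∈ Subgroup.closure (N.subtype ⁻¹' S) := by
  have e : Subgroup.closure S = (Subgroup.closure (N.subtype ⁻¹' S)).map N.subtype := by
    rw [MonoidHom.map_closure, Set.image_preimage_eq_of_subset]
    intro x hx
    exact ⟨⟨x, hS hx⟩, rfl⟩
  rw [e] at hg
  obtain ⟨y, hy, rfl⟩ := hg
  exact ⟨y.2, hy⟩

end DATASUB

open DATASUB in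
theorem Data.exists_restrict (N : Subgroup G) [N.Normal] (hc : commutator G ≤ N)
    (hU : D.uni ≤ N) (hTX : ∀ j, ∀ t ∈ D.torus, ∀ x ∈ D.X j, t * x * t⁻¹ ∈ D.X j) :
    ∃ D' : Data ↥N K n m, D'.ρ = D.ρ.comp N.subtype := by
  have H := fun j => D.exists_torus_mul_s_mem N hU j
  choose h hh hs using H
  obtain ⟨n₁, hn₁, hmon₁⟩ := D.restrict_n0 h hh
  have hmonT : ∀ t ∈ D.torus, Mon (D.ρ t) 1 := fun t ht => IsDg.mon ht (D.ρ_mul_inv t)
  have hXN : ∀ j, ∀ x ∈ D.X j, x ∈ N := fun j x hx => hU (D.X_uni j x hx)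
  have hrange : Set.range (fun j => h j * D.s j) ⊆ (N : Set G) := by
    rintro _ ⟨j, rfl⟩
    exact hs j
  have hn₁N : n₁ ∈ N := (Subgroup.closure_le N).2 hrange hn₁
  refine ⟨{ ρ := D.ρ.comp N.subtype
            ρ_inj := fun a b hab => Subtype.ext (D.ρ_inj hab)
            s := fun j => ⟨h j * D.s j, hs j⟩
            τ := D.τ
            X := fun j => {x : ↥N | (x : G) ∈ D.X j}
            n₀ := ⟨n₁, hn₁N⟩
            mon_s := ?_
            τ_sq := D.τ_sq
            τ_inj := D.τ_inj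
            X_uni := fun j x hx => D.X_uni j x hx
            Y_low := ?_
            X_ne := ?_
            ha := ?_
            hd := ?_
            he := ?_
            gen := ?_
            diag := ?_
            n₀_mem := ?_
            mon_n₀ := hmon₁ }, rfl⟩
  · -- mon_s
    intro j
    show Mon (D.ρ (h j * D.s j)) (D.τ j)
    rw [map_mul]
    have := Mon.mul (hmonT (h j) (hh j)) (D.mon_s j)
    rwa [one_mul] at this
  · -- Y_low
    intro j x hx
    show IsLow (D.ρ ((h j * D.s j) * (x : G) * (h j * D.s j)⁻¹))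
    have e : (h j * D.s j) * (x : G) * (h j * D.s j)⁻¹
        = h j * (D.s j * (x : G) * (D.s j)⁻¹) * (h j)⁻¹ := by group
    rw [e, map_mul, map_mul]
    exact isLow_conj_dg (hh j) (D.torus.inv_mem (hh j)) (D.ρ_mul_inv (h j)) (D.Y_low j x hx)
  · -- X_ne
    intro j
    obtain ⟨x, hx, hx1⟩ := D.X_ne j
    refine ⟨⟨x, hXN j x hx⟩, hx, ?_⟩
    intro e
    exact hx1 (congrArg Subtype.val e)
  · -- ha
    intro j b hb
    obtain ⟨x, hx, hx2⟩ := D.ha j (b : G) hb
    refine ⟨⟨x, hXN j x hx⟩, hx, ?_⟩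
    show IsTri (D.ρ ((h j * D.s j) * ((b : G) * x⁻¹) * (h j * D.s j)⁻¹))
    have e : (h j * D.s j) * ((b : G) * x⁻¹) * (h j * D.s j)⁻¹
        = h j * (D.s j * ((b : G) * x⁻¹) * (D.s j)⁻¹) * (h j)⁻¹ := by group
    rw [e, map_mul, map_mul]
    exact IsTri.mul (IsTri.mul (isTri_of_isDg (hh j)) hx2)
      (isTri_of_isDg (D.torus.inv_mem (hh j)))
  · -- hd
    intro j x hx hx1
    have hx1' : (x : G) ≠ 1 := fun e => hx1 (Subtype.ext e)
    obtain ⟨b₁, hb₁N, hb₁, x', hx', e⟩ :=
      D.restrict_hd N hU hTX j (h j) (hh j) (hs j) (x : G) hx hx1'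
    refine ⟨⟨b₁, hb₁N⟩, hb₁, ⟨x', hXN j x' hx'⟩, hx', ?_⟩
    exact Subtype.ext e
  · -- he
    intro j g π hg
    rcases D.restrict_he hTX j (h j) (hh j) (g : G) π hg with h1 | h1
    · left
      intro x hx
      exact h1 (x : G) hx
    · right
      intro x hx
      exact h1 (x : G) hx
  · -- gen
    intro g
    have h1 := D.restrict_gen N hc hU h hh hs (g : G) g.2
    have hS : ({b : G | b ∈ N ∧ IsTri (D.ρ b)} ∪ Set.range (fun j => h j * D.s j)) ⊆ (N : Set G) := by
      rintro y (hy | hy)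
      · exact hy.1
      · exact hrange hy
    obtain ⟨_, h2⟩ := mem_closure_subtype N _ hS (g : G) h1
    refine Subgroup.closure_mono ?_ h2
    rintro y (hy | ⟨j, hj⟩)
    · exact Or.inl hy.2
    · right
      exact ⟨j, Subtype.ext hj⟩
  · -- diag
    intro b hb
    obtain ⟨u, hu, t, ht, e⟩ := D.borel_eq_mul (b := (b : G)) hb
    have htN : t ∈ N := by
      have : t = u⁻¹ * (b : G) := by rw [e]; group
      rw [this]
      exact N.mul_mem (N.inv_mem (hU hu)) b.2
    refine ⟨⟨t, htN⟩, ?_⟩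
    show D.ρ t = Matrix.diagonal (fun i => D.ρ (b : G) i i)
    ext a c
    by_cases hac : a = c
    · subst hac
      rw [Matrix.diagonal_apply_eq, e, map_mul,
        SPLIT.mul_apply_diag hu.1 (isTri_of_isDg ht), hu.2 a, one_mul]
    · rw [Matrix.diagonal_apply_ne _ hac]
      exact ht a c hac
  · -- n₀_mem
    obtain ⟨_, h2⟩ := mem_closure_subtype N _ hrange n₁ hn₁
    refine Subgroup.closure_mono ?_ h2
    rintro y ⟨j, hj⟩
    exact ⟨j, Subtype.ext hj⟩

end Cfsg.Agent.MatBN
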