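import Mathlib
import Cfsg.Prelude.Def_Classical
import Cfsg.Agent.Helper8.MatBNDefs
import Cfsg.Agent.Helper8.S2546Defs
import Cfsg.Agent.Helper21.S2549Defs
import Cfsg.Agent.Helper23.S2546MONALG
import Cfsg.Agent.Helper24.S2549PERMW
import Cfsg.Agent.Helper24.S2549MONCLOS
import Cfsg.Agent.Helper24.S2549W0
import Cfsg.Agent.Helper18.S2549OPPVAN
import Cfsg.Agent.Helper7.S2549DESCENT
import Cfsg.Agent.Helper3.S2549SMEM
import Cfsg.Agent.Helper15.S2549PRES

set_option autoImplicit false
open scoped Matrix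

/-! S2549 piece LOWG1 (driver helper21): lower triangular isometries lie in `G₁`
(conjugate by a monomial lift of the longest element). -/

namespace Cfsg.Agent.S2549P

open Cfsg.Agent.MatBN

variable {F : Type*} [Field F] {a b : F} {K : Type*} [Field K]

section Fside2

variable [Fintype F]

/-- LOWG1: lower triangular isometries lie in `G₁` -/
theorem mem_G1_of_low (E : QExt F a b K) (m : ℕ) (g : OG m F a b)
    (hg : ∀ r c : Fin (2 * m + 2), r < c → rho E m g r c = 0) : g ∈ G1 E m := by
  classical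
  -- lifts of the simple reflections
  have hex : ∀ j : Fin m, ∃ s : OG m F a b, rho E m s = sM m j := by
    intro j
    obtain ⟨hP, hR, -⟩ := pres_sM (K := K) E.σ m j j.2
    exact exists_of_pres E m _ hP hR
  choose s hs using hex
  have hsG : ∀ j : Fin m, s j ∈ G1 E m := by
    intro j
    apply Subgroup.subset_closure
    right
    exact ⟨j, j.2, hs j⟩
  have hmon : ∀ j : Fin m, Mon (rho E m (s j)) (tauM m j) := by
    intro j
    rw [hs j]
    exact (pres_sM (K := K) E.σ m j j.2).2.2
  have hw : w0 m ∈ Subgroup.closure (Set.range fun j : Fin m => tauM m j) := by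
    have h1 := w0_mem_closure m
    have h2 : {π : Equiv.Perm (Fin (2 * m + 2)) | ∃ j, j < m ∧ π = tauM m j} =
        Set.range fun j : Fin m => tauM m j := by
      ext π
      constructor
      · rintro ⟨j, hj, rfl⟩
        exact ⟨⟨j, hj⟩, rfl⟩
      · rintro ⟨j, rfl⟩
        exact ⟨j, j.2, rfl⟩
    rw [h2] at h1
    exact h1
  obtain ⟨n₀, hn₀, hn₀mon⟩ := exists_mon_of_mem_closure (rho E m) s (fun j : Fin m => tauM m j) hmon
    (w0 m) hw
  have hn₀G : n₀ ∈ G1 E m := by
    have hle : Subgroup.closure (Set.range s) ≤ G1 E m := by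
      rw [Subgroup.closure_le]
      rintro _ ⟨j, rfl⟩
      exact hsG j
    exact hle hn₀
  have hP : PresQ (2 * m + 2) (rho E m g) := presQ_rho E m g
  -- the conjugate is triangular
  have hinv : rho E m n₀ * rho E m n₀⁻¹ = 1 := by rw [← map_mul, mul_inv_cancel, map_one]
  have hT : IsTri (rho E m (n₀ * g * n₀⁻¹)) := by
    rw [map_mul, map_mul]
    intro r c hcr
    by_contra h0
    have h1 := (Mon.conj_apply_ne_zero_iff (A := rho E m g) hn₀mon hinv r c).mp h0
    apply h1
    rcases lt_trichotomy ((w0 m)⁻¹ r) ((w0 m)⁻¹ c) with h2 | h2 | h2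
    · exact hg _ _ h2
    · exfalso
      have := (w0 m)⁻¹.injective h2
      exact absurd this hcr.ne'
    · rcases w0_rev m _ _ h2 with h3 | ⟨h3, h4⟩
      · simp only [Equiv.Perm.coe_inv, Equiv.apply_symm_apply] at h3
        exact absurd h3 (not_lt.mpr hcr.le)
      · exact oppvan_low m (rho E m g) hP hg _ _ h3 h4
  have hmem : n₀ * g * n₀⁻¹ ∈ G1 E m := by
    apply Subgroup.subset_closure
    left
    exact hT
  have hfin : g = n₀⁻¹ * (n₀ * g * n₀⁻¹) * n₀ := by group
  rw [hfin]
  exact (G1 E m).mul_mem ((G1 E m).mul_mem ((G1 E m).inv_mem hn₀G) hmem) hn₀G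

end Fside2

end Cfsg.Agent.S2549P
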