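import Mathlib
import Cfsg.Prelude.Def_Classical
import Cfsg.Agent.Helper8.MatBNDefs
import Cfsg.Agent.Helper8.S2546Defs
import Cfsg.Agent.Helper21.S2549Defs
import Cfsg.Agent.Helper28.Siegel2
import Cfsg.Agent.Helper28.Siegel6
import Cfsg.Agent.Helper28.Spin6
import Cfsg.Agent.S2615
import Cfsg.Agent.Helper19.S2549ENTRY

set_option autoImplicit false
open scoped Matrix

/-! S2549 piece SIEGTRI (driver helper21): the short root elements `E(e_i, w)` are triangular and
`E(f_i, w)` lower triangular (`w` in the anisotropic plane). -/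

namespace Cfsg.Agent.S2549P

open Cfsg.Agent.MatBN Cfsg.Agent.Helper28.Spin Cfsg.Agent.Helper28.Sg

variable {F : Type*} [Field F] {a b : F} {K : Type*} [Field K]

namespace SIEGTRI

/-- generic vanishing criterion: `lt` is `<` or `>` -/
theorem rho_zero_of (E : QExt F a b K) (m : ℕ) (g : OG m F a b)
    (lt : Fin (2 * m + 2) → Fin (2 * m + 2) → Prop)
    (hirr : ∀ r, ¬ lt r r)
    (h1 : ∀ (c : Fin (2 * m + 2)) (k k' : Fin 2), ¬ (m ≤ c.val ∧ c.val ≤ m + 1) →
      lt c (pos m (.inr k)) → lt c (pos m (.inr k')))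
    (h2 : ∀ (r : Fin (2 * m + 2)) (k k' : Fin 2), ¬ (m ≤ r.val ∧ r.val ≤ m + 1) →
      lt (pos m (.inr k)) r → lt (pos m (.inr k')) r)
    (hmid : ∀ k l : Fin 2,
      ((g : Matrix.GeneralLinearGroup (Idx m) F) : Matrix (Idx m) (Idx m) F) (.inr k) (.inr l) =
        if k = l then 1 else 0)
    (hz : ∀ p q : Idx m, lt (pos m q) (pos m p) →
      ((g : Matrix.GeneralLinearGroup (Idx m) F) : Matrix (Idx m) (Idx m) F) p q = 0) :
    ∀ r c, lt c r → rho E m g r c = 0 := by
  intro r c hcr
  have hmidr : ∀ r : Fin (2 * m + 2), (m ≤ r.val ∧ r.val ≤ m + 1) →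
      ∃ k : Fin 2, r = pos m (.inr k) := by
    intro r hr
    refine ⟨⟨r.val - m, by omega⟩, ?_⟩
    apply Fin.ext
    show r.val = m + (r.val - m)
    omega
  by_cases hr : (m ≤ r.val ∧ r.val ≤ m + 1)
  · obtain ⟨k, rfl⟩ := hmidr r hr
    by_cases hc : (m ≤ c.val ∧ c.val ≤ m + 1)
    · obtain ⟨l, rfl⟩ := hmidr c hc
      rw [rho_apply_mm]
      have h1' : (Matrix.of fun i j : Fin 2 =>
          E.inc (((g : Matrix.GeneralLinearGroup (Idx m) F) : Matrix (Idx m) (Idx m) F)
            (.inr i) (.inr j))) = (1 : Matrix (Fin 2) (Fin 2) K) := by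
        ext i j
        rw [Matrix.of_apply, hmid, Matrix.one_apply]
        split_ifs <;> simp
      rw [h1', Matrix.mul_one, P2inv_mul_P2, Matrix.one_apply, if_neg]
      rintro rfl
      exact hirr _ hcr
    · rw [rho_apply_mo E m g k c hc]
      have e0 : ((g : Matrix.GeneralLinearGroup (Idx m) F) : Matrix (Idx m) (Idx m) F)
          (.inr 0) (idx m c) = 0 := by
        apply hz
        rw [pos_idx]
        exact h1 c k 0 hc hcr
      have e1 : ((g : Matrix.GeneralLinearGroup (Idx m) F) : Matrix (Idx m) (Idx m) F)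
          (.inr 1) (idx m c) = 0 := by
        apply hz
        rw [pos_idx]
        exact h1 c k 1 hc hcr
      rw [e0, e1, map_zero, mul_zero, add_zero]
  · by_cases hc : (m ≤ c.val ∧ c.val ≤ m + 1)
    · obtain ⟨l, rfl⟩ := hmidr c hc
      rw [rho_apply_om E m g r l hr]
      have e0 : ((g : Matrix.GeneralLinearGroup (Idx m) F) : Matrix (Idx m) (Idx m) F)
          (idx m r) (.inr 0) = 0 := by
        apply hz
        rw [pos_idx]
        exact h2 r l 0 hr hcr
      have e1 : ((g : Matrix.GeneralLinearGroup (Idx m) F) : Matrix (Idx m) (Idx m) F)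
          (idx m r) (.inr 1) = 0 := by
        apply hz
        rw [pos_idx]
        exact h2 r l 1 hr hcr
      rw [e0, e1, map_zero, mul_zero, mul_zero, add_zero, mul_zero]
    · rw [rho_apply_oo E m g r c hr hc]
      have e0 : ((g : Matrix.GeneralLinearGroup (Idx m) F) : Matrix (Idx m) (Idx m) F)
          (idx m r) (idx m c) = 0 := by
        apply hz
        rw [pos_idx, pos_idx]
        exact hcr
      rw [e0, map_zero]

theorem siegM_apply {ι : Type} [Fintype ι] [DecidableEq ι] (Q : QuadraticForm F (ι → F))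
    (u v : ι → F) (p q : ι) :
    siegM Q u v p q = (1 : Matrix ι ι F) p q + v p * Cfsg.polarVec ⇑Q u q
      - u p * Cfsg.polarVec ⇑Q v q - Q v * (u p * Cfsg.polarVec ⇑Q u q) := by
  unfold siegM
  simp only [Matrix.sub_apply, Matrix.add_apply, Matrix.smul_apply, Matrix.vecMulVec_apply,
    smul_eq_mul]

theorem polarVec_e (m : ℕ) (i : Fin m) (q : Idx m) :
    Cfsg.polarVec ⇑(QfMinus m F a b) (eV m i) q = if q = .inl (.inr i) then 1 else 0 := by
  unfold Cfsg.polarVec eV
  rw [Cfsg.Agent.Helper28.Sg.polar_single_left (Cfsg.Agent.S2615.hypPair_minus m a b i), Pi.single_apply]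
  by_cases h : q = .inl (.inr i)
  · rw [if_pos h, if_pos h.symm]
  · rw [if_neg h, if_neg (fun h' => h h'.symm)]

theorem polarVec_f (m : ℕ) (i : Fin m) (q : Idx m) :
    Cfsg.polarVec ⇑(QfMinus m F a b) (fV m i) q = if q = .inl (.inl i) then 1 else 0 := by
  unfold Cfsg.polarVec fV
  rw [Cfsg.Agent.Helper28.Sg.polar_single_right (Cfsg.Agent.S2615.hypPair_minus m a b i), Pi.single_apply]
  by_cases h : q = .inl (.inl i)
  · rw [if_pos h, if_pos h.symm]
  · rw [if_neg h, if_neg (fun h' => h h'.symm)]

theorem polarVec_w_x (m : ℕ) (w : Idx m → F)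
    (hw : ∀ k : Fin m, w (.inl (.inl k)) = 0 ∧ w (.inl (.inr k)) = 0) (j : Fin m) :
    Cfsg.polarVec ⇑(QfMinus m F a b) w (.inl (.inl j)) = 0 := by
  unfold Cfsg.polarVec
  rw [QuadraticMap.polar_comm,
    Cfsg.Agent.Helper28.Sg.polar_single_left (Cfsg.Agent.S2615.hypPair_minus m a b j)]
  exact (hw j).2

theorem polarVec_w_y (m : ℕ) (w : Idx m → F)
    (hw : ∀ k : Fin m, w (.inl (.inl k)) = 0 ∧ w (.inl (.inr k)) = 0) (j : Fin m) :
    Cfsg.polarVec ⇑(QfMinus m F a b) w (.inl (.inr j)) = 0 := by
  unfold Cfsg.polarVec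
  rw [QuadraticMap.polar_comm,
    Cfsg.Agent.Helper28.Sg.polar_single_right (Cfsg.Agent.S2615.hypPair_minus m a b j)]
  exact (hw j).1

theorem pos_x (m : ℕ) (k : Fin m) : (pos m (.inl (.inl k))).val = k.val := rfl
theorem pos_y (m : ℕ) (k : Fin m) : (pos m (.inl (.inr k))).val = 2 * m + 1 - k.val := rfl
theorem pos_z (m : ℕ) (k : Fin 2) : (pos m (.inr k)).val = m + k.val := rfl

end SIEGTRI

open SIEGTRI

section Fside

variable [Fintype F]

/-- SIEGTRI: the short root elements are triangular -/
theorem siegO_tri (E : QExt F a b K) (m : ℕ) (i : Fin m) (w : Idx m → F)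
    (hw : ∀ k : Fin m, w (.inl (.inl k)) = 0 ∧ w (.inl (.inr k)) = 0)
    (hu : QfMinus m F a b (eV m i) = 0) (huv : B (QfMinus m F a b) (eV m i) w = 0)
    (hu' : QfMinus m F a b (fV m i) = 0) (huv' : B (QfMinus m F a b) (fV m i) w = 0) :
    IsTri (rho E m (siegO (QfMinus m F a b) (eV m i) w hu huv)) ∧
      ∀ r c : Fin (2 * m + 2), r < c → rho E m (siegO (QfMinus m F a b) (fV m i) w hu' huv') r c = 0 := by
  classical
  constructor
  · intro r c hcr
    refine rho_zero_of E m (siegO (QfMinus m F a b) (eV m i) w hu huv) (fun x y => x < y)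
      (fun r => lt_irrefl r) ?_ ?_ ?_ ?_ r c hcr
    · intro c k k' hc h
      have h' : c.val < m + k.val := h
      show c.val < m + k'.val
      omega
    · intro r k k' hr h
      have h' : m + k.val < r.val := h
      show m + k'.val < r.val
      have := k'.2
      omega
    · intro k l
      show siegM (QfMinus m F a b) (eV m i) w (.inr k) (.inr l) = _
      rw [siegM_apply, polarVec_e, Matrix.one_apply]
      simp [eV]
    · intro p q hqp
      have hqp' : (pos m q).val < (pos m p).val := hqp
      show siegM (QfMinus m F a b) (eV m i) w p q = 0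
      rw [siegM_apply, polarVec_e, Matrix.one_apply]
      have hpq : p ≠ q := by rintro rfl; exact lt_irrefl _ hqp'
      rcases p with (p | p) | p <;> rcases q with (q | q) | q
      · simp [eV, (hw p).1, polarVec_w_x m w hw q, hpq]
      · rw [pos_x, pos_y] at hqp'; have := p.2; have := q.2; omega
      · rw [pos_x, pos_z] at hqp'; have := p.2; omega
      · simp [eV, (hw p).2, hpq]
      · simp [eV, (hw p).2, hpq]
      · simp [eV, (hw p).2]
      · simp [eV]
      · rw [pos_z, pos_y] at hqp'; have := p.2; have := q.2; omega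
      · simp [eV, hpq]
  · intro r c hrc
    refine rho_zero_of E m (siegO (QfMinus m F a b) (fV m i) w hu' huv') (fun x y => y < x)
      (fun r => lt_irrefl r) ?_ ?_ ?_ ?_ r c hrc
    · intro c k k' hc h
      have h' : m + k.val < c.val := h
      show m + k'.val < c.val
      have := k'.2
      omega
    · intro r k k' hr h
      have h' : r.val < m + k.val := h
      show r.val < m + k'.val
      omega
    · intro k l
      show siegM (QfMinus m F a b) (fV m i) w (.inr k) (.inr l) = _
      rw [siegM_apply, polarVec_f, Matrix.one_apply]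
      simp [fV]
    · intro p q hqp
      have hqp' : (pos m p).val < (pos m q).val := hqp
      show siegM (QfMinus m F a b) (fV m i) w p q = 0
      rw [siegM_apply, polarVec_f, Matrix.one_apply]
      have hpq : p ≠ q := by rintro rfl; exact lt_irrefl _ hqp'
      rcases p with (p | p) | p <;> rcases q with (q | q) | q
      · simp [fV, (hw p).1, hpq]
      · simp [fV, (hw p).1]
      · simp [fV, (hw p).1]
      · rw [pos_y, pos_x] at hqp'; have := p.2; have := q.2; omega
      · simp [fV, (hw p).2, polarVec_w_y m w hw q, hpq]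
      · rw [pos_y, pos_z] at hqp'; have := p.2; have := q.2; omega
      · rw [pos_z, pos_x] at hqp'; have := q.2; omega
      · simp [fV]
      · simp [fV, hpq]

end Fside

end Cfsg.Agent.S2549P
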