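import Mathlib
import Cfsg.Prelude.Def_Classical
import Cfsg.Agent.Helper8.MatBNDefs
import Cfsg.Agent.Helper8.S2546Defs
import Cfsg.Agent.Helper21.S2549Defs
import Cfsg.Agent.Helper28.Siegel2
import Cfsg.Agent.Helper28.Siegel3
import Cfsg.Agent.Helper28.Spin6
import Cfsg.Agent.Helper12.OrthGenH
import Cfsg.Agent.S2615
import Cfsg.Agent.S2171
import Cfsg.Agent.S2621
import Cfsg.Agent.Helper17.S2549LOWG1
import Cfsg.Agent.Helper17.S2549SIEGTRI

set_option autoImplicit false
open scoped Matrix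

/-! S2549 piece SLEG1 (driver helper21): the Siegel group lies in `G₁`
(`S_le_of_short` with `H = G₁`, coordinate frame; `m = 0`: all generators are trivial). -/

namespace Cfsg.Agent.S2549P

open Cfsg.Agent.MatBN Cfsg.Agent.Helper28.Spin Cfsg.Agent.Helper28.Sg Cfsg.Agent.Helper12.OrthGen

variable {F : Type*} [Field F] {a b : F} {K : Type*} [Field K]

namespace SLEG1

theorem polar_z0 (k : ℕ) (a c : F) (y : (Fin k ⊕ Fin k) ⊕ Fin 2 → F) :
    QuadraticMap.polar ⇑(QfMinus k F a c) (Pi.single (Sum.inr 0) 1) y =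
      2 * y (Sum.inr 0) + a * y (Sum.inr 1) := by
  classical
  rw [QfMinus_coe, Cfsg.Agent.S2621.polar_minus, single_one_dotProduct]
  simp [Matrix.mulVec, dotProduct, Fintype.sum_sum_type, Fin.sum_univ_two]

/-- `m = 0`: the Siegel group is trivial -/
theorem S_le_zero (hab : ∀ z₁ z₂ : F, z₁ ^ 2 + a * z₁ * z₂ + b * z₂ ^ 2 = 0 → z₁ = 0 ∧ z₂ = 0)
    (H : Subgroup ↥(Cfsg.isometryGroup F ⇑(QfMinus 0 F a b))) : S (QfMinus 0 F a b) ≤ H := by
  classical
  unfold S
  rw [Subgroup.closure_le]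
  rintro g ⟨u, v, hu, huv, rfl⟩
  have hu0 : u = 0 := by
    have h1 : Cfsg.quadFormMinus 0 F a b u = 0 := hu
    unfold Cfsg.quadFormMinus at h1
    rw [Finset.univ_eq_empty, Finset.sum_empty, zero_add] at h1
    obtain ⟨h2, h3⟩ := hab _ _ h1
    funext k
    rcases k with (k | k) | k
    · exact k.elim0
    · exact k.elim0
    · fin_cases k
      · exact h2
      · exact h3
  subst hu0
  rw [siegO_zero_left]
  exact H.one_mem

/-- `m ≥ 1`: a subgroup containing the short root elements of the coordinate frame contains `S` -/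
theorem S_le_pos [Fintype F] (m : ℕ) (hm : 0 < m)
    (hab : ∀ z₁ z₂ : F, z₁ ^ 2 + a * z₁ * z₂ + b * z₂ ^ 2 = 0 → z₁ = 0 ∧ z₂ = 0)
    (H : Subgroup ↥(Cfsg.isometryGroup F ⇑(QfMinus m F a b)))
    (hSe : ∀ (i : Fin m) (w : Idx m → F),
      (∀ k : Fin m, w (.inl (.inl k)) = 0 ∧ w (.inl (.inr k)) = 0) →
      ∀ (hu : QfMinus m F a b (eV m i) = 0) (huv : B (QfMinus m F a b) (eV m i) w = 0),
        siegO (QfMinus m F a b) (eV m i) w hu huv ∈ H)
    (hSf : ∀ (i : Fin m) (w : Idx m → F),
      (∀ k : Fin m, w (.inl (.inl k)) = 0 ∧ w (.inl (.inr k)) = 0) →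
      ∀ (hu : QfMinus m F a b (fV m i) = 0) (huv : B (QfMinus m F a b) (fV m i) w = 0),
        siegO (QfMinus m F a b) (fV m i) w hu huv ∈ H) :
    S (QfMinus m F a b) ≤ H := by
  classical
  -- nondegeneracy
  have hQa : (QuadraticMap.polarBilin (QfMinus m F a b)).Nondegenerate ∧ ((2 : F) = 0 → a ≠ 0) := by
    by_cases h2 : (2 : F) = 0
    · have : CharP F 2 := CharTwo.of_one_ne_zero_of_two_eq_zero one_ne_zero h2
      have ha := Cfsg.Agent.S2171.ne_zero_of_aniso a b hab
      refine ⟨?_, fun _ => ha⟩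
      apply Cfsg.Agent.S2171.QfMinus_nondeg_of
      rw [show (4 : F) = 2 * 2 by norm_num, h2]
      simpa using ha
    · have hδ := Cfsg.Agent.S2621.not_isSquare_disc h2 a b hab
      refine ⟨?_, fun h => absurd h h2⟩
      apply Cfsg.Agent.S2171.QfMinus_nondeg_of
      intro h
      apply hδ
      have : a ^ 2 - 4 * b = 0 := by linear_combination -h
      rw [this]
      exact ⟨0, by simp⟩
  obtain ⟨hQ, ha2⟩ := hQa
  -- the coordinate frame
  let a' : Fin m → Idx m := fun j => Sum.inl (Sum.inl j)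
  let b' : Fin m → Idx m := fun j => Sum.inl (Sum.inr j)
  have hinj : Function.Injective (Sum.elim a' b') := by
    intro x y h
    rcases x with x | x <;> rcases y with y | y <;>
      simp only [Sum.elim_inl, Sum.elim_inr, a', b', Sum.inl.injEq, Sum.inr.injEq, reduceCtorEq] at h
    · rw [h]
    · rw [h]
  let fr : HFrame (QfMinus m F a b) m :=
    coordFrame a' b' hinj (fun j => Cfsg.Agent.S2615.hypPair_minus m a b j)
  let z0 : Idx m → F := Pi.single (Sum.inr 0) 1
  let z1 : Idx m → F := Pi.single (Sum.inr 1) 1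
  have hz0V : fr.InV0 z0 := by
    rw [coordFrame_inV0_iff]
    intro j
    constructor <;> simp [z0, a', b']
  have hz1V : fr.InV0 z1 := by
    rw [coordFrame_inV0_iff]
    intro j
    constructor <;> simp [z1, a', b']
  have hB01 : B (QfMinus m F a b) z0 z1 = a := by
    show QuadraticMap.polar _ _ _ = a
    rw [SLEG1.polar_z0]
    simp [z1]
  have hB00 : B (QfMinus m F a b) z0 z0 = 2 := by
    show QuadraticMap.polar _ _ _ = 2
    rw [SLEG1.polar_z0]
    simp [z0]
  have hcoord : ∀ w, fr.InV0 w → ∀ k : Fin m, w (.inl (.inl k)) = 0 ∧ w (.inl (.inr k)) = 0 := by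
    intro w hw
    rw [coordFrame_inV0_iff] at hw
    exact hw
  have hSe' : ∀ i w, fr.InV0 w → w ∈ Rad H (fr.e i) (fr.Qe i) := by
    intro i w hw
    exact ⟨(hw i).1, hSe i w (hcoord w hw) (fr.Qe i) (hw i).1⟩
  have hSf' : ∀ i w, fr.InV0 w → w ∈ Rad H (fr.f i) (fr.Qf i) := by
    intro i w hw
    exact ⟨(hw i).2, hSf i w (hcoord w hw) (fr.Qf i) (hw i).2⟩
  by_cases h2 : (2 : F) = 0
  · exact S_le_of_short hQ fr ⟨0, hm⟩ hSe' hSf' hz0V hz1V (by rw [hB01]; exact ha2 h2)
  · exact S_le_of_short hQ fr ⟨0, hm⟩ hSe' hSf' hz0V hz0V (by rw [hB00]; exact h2)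

end SLEG1

section Fside2

variable [Fintype F]

/-- SLEG1: the Siegel group lies in `G₁` -/
theorem S_le_G1 (E : QExt F a b K) (m : ℕ)
    (hab : ∀ z₁ z₂ : F, z₁ ^ 2 + a * z₁ * z₂ + b * z₂ ^ 2 = 0 → z₁ = 0 ∧ z₂ = 0) :
    (S (QfMinus m F a b) : Subgroup (OG m F a b)) ≤ G1 E m := by
  classical
  rcases Nat.eq_zero_or_pos m with rfl | hm
  · exact SLEG1.S_le_zero hab (G1 E 0)
  · refine SLEG1.S_le_pos m hm hab (G1 E m) ?_ ?_
    · intro i w hw hu huv
      have hu' : QfMinus m F a b (fV m i) = 0 := by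
        have := Cfsg.Agent.S2615.hypPair_minus m a b i
        exact Q_single_right this
      have huv' : B (QfMinus m F a b) (fV m i) w = 0 := by
        show QuadraticMap.polar _ _ _ = 0
        unfold fV
        rw [polar_single_right (Cfsg.Agent.S2615.hypPair_minus m a b i)]
        exact (hw i).1
      have h := (siegO_tri E m i w hw hu huv hu' huv').1
      exact Subgroup.subset_closure (Or.inl h)
    · intro i w hw hu' huv'
      have hu : QfMinus m F a b (eV m i) = 0 := by
        have := Cfsg.Agent.S2615.hypPair_minus m a b i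
        exact Q_single_left this
      have huv : B (QfMinus m F a b) (eV m i) w = 0 := by
        show QuadraticMap.polar _ _ _ = 0
        unfold eV
        rw [polar_single_left (Cfsg.Agent.S2615.hypPair_minus m a b i)]
        exact (hw i).2
      have h := (siegO_tri E m i w hw hu huv hu' huv').2
      exact mem_G1_of_low E m _ h

end Fside2

end Cfsg.Agent.S2549P
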