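import Mathlib
import Cfsg.Agent.Helper17.S2558GDefs
import Cfsg.Agent.Helper17.S2482CLASS
import Cfsg.Agent.Helper20.S2482BLOCKDIAG
import Cfsg.Agent.Helper25.S2482SUMISO
import Cfsg.Agent.Helper7.S2558GPIECES
import Cfsg.Agent.Helper19.S2558OUNITG
import Cfsg.Agent.Helper14.S2558OISOREST
import Cfsg.Agent.Helper14.S2558OFIT2

/-! # S2558 chapter (G): assemblies OCLASS (`SignRelO` + `LinIso` ⇒ `Iso`) and OEXSIGN (existence of `SignRelO` with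
the multiplicity relations); orthogonal twins of `Cfsg.Agent.Helper17.S2482CLASS`.  (helper17) -/

set_option autoImplicit false

namespace Cfsg.Agent.S2558P

open Polynomial Cfsg.Agent.Helper2.SympInvol Cfsg.Agent.S2676P Cfsg.Agent.S2478P Cfsg.Agent.S2481P
  Cfsg.Agent.S2482P Cfsg.Agent.S2482P.CLASS

universe u

variable {F : Type u} [Field F]

namespace OCLASS

/-- OCLASS -/
theorem iso_of_signRel [Fintype F] (h2 : (2 : F) ≠ 0) (S S' : SpSpace F)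
    (cp cp' cm cm' : ℕ → ℕ) (sp sm : ℕ → Bool) (h : SignRelO S cp sp cm sm)
    (h' : SignRelO S' cp' sp cm' sm) (hx : S.LinIso S') : S.Iso S' := by
  obtain ⟨S₁, S₂, S₃, S₂₃, hS₁, hS₂, hS₃, hS₂₃, hsum, hsum23, hn1, hn2, hu23, hu3m, hu3p, hus1,
    hus2⟩ := h
  obtain ⟨T₁, T₂, T₃, T₂₃, hT₁, hT₂, hT₃, hT₂₃, tsum, tsum23, tn1, tn2, tu23, tu3m, tu3p, tus1,
    tus2⟩ := h'
  -- block diagonal, eigenvalue 1
  obtain ⟨hx1, hx23⟩ := BLOCKDIAG.linIso_of_sum S S' S₁ S₂₃ T₁ T₂₃ hsum tsum 1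
    (by rw [algebraMap_one_eq]; exact hn1) (by rw [algebraMap_one_eq]; exact tn1)
    (by rw [algebraMap_one_eq]; exact hu23) (by rw [algebraMap_one_eq]; exact tu23) hx
  -- block diagonal, eigenvalue -1
  obtain ⟨hx2, hx3⟩ := BLOCKDIAG.linIso_of_sum S₂₃ T₂₃ S₂ S₃ T₂ T₃ hsum23 tsum23 (-1)
    (by rw [sub_algebraMap_neg_one]; exact hn2) (by rw [sub_algebraMap_neg_one]; exact tn2)
    (by rw [sub_algebraMap_neg_one]; exact hu3p) (by rw [sub_algebraMap_neg_one]; exact tu3p) hx23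
  -- multiplicities
  obtain ⟨a0, a1⟩ := OUSKDIM.kdim_relation h2 S₁ cp sp hus1
  obtain ⟨b0, b1⟩ := OUSKDIM.kdim_relation h2 T₁ cp' sp tus1
  have hcp : cp = cp' := mult_eq _ _ (fun m => SUMISO.kdim_of_linIso S₁ T₁ hx1 1 m) cp cp' a0 b0
    a1 b1
  obtain ⟨c0, c1⟩ := OUSKDIM.kdim_relation h2 S₂.neg cm sm hus2
  obtain ⟨d0, d1⟩ := OUSKDIM.kdim_relation h2 T₂.neg cm' sm tus2
  have hcm : cm = cm' := mult_eq _ _
    (fun m => SUMISO.kdim_of_linIso S₂.neg T₂.neg (linIso_neg S₂ T₂ hx2) 1 m) cm cm' c0 d0 c1 d1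
  subst hcp
  subst hcm
  -- the three parts
  have i1 : S₁.Iso T₁ := OCLASSU.iso_of_uniSign h2 S₁ T₁ hS₁ hT₁ cp sp hus1 tus1
  have i2 : S₂.Iso T₂ := iso_of_neg S₂ T₂
    (OCLASSU.iso_of_uniSign h2 S₂.neg T₂.neg (OUNITG.isOrth_neg S₂ hS₂) (OUNITG.isOrth_neg T₂ hT₂) cm sm
      hus2 tus2)
  have i3 : S₃.Iso T₃ := OISOREST.iso_of_linIso h2 S₃ T₃ hS₃ hT₃ hu3m hu3p hx3
  exact SUMISO.iso_of_sum S S' S₁ S₂₃ T₁ T₂₃ hsum tsum i1
    (SUMISO.iso_of_sum S₂₃ T₂₃ S₂ S₃ T₂ T₃ hsum23 tsum23 i2 i3)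

end OCLASS

namespace OEXSIGN

/-- OEXSIGN -/
theorem exists_signRel (h2 : (2 : F) ≠ 0) (S : SpSpace F) (hS : S.IsOrth) :
    ∃ (cp : ℕ → ℕ) (sp : ℕ → Bool) (cm : ℕ → ℕ) (sm : ℕ → Bool), SignRelO S cp sp cm sm ∧
      (∀ m, Even m → Even (cp m)) ∧ (∀ m, Even m → Even (cm m)) ∧ cp 0 = 0 ∧ cm 0 = 0 ∧
      (∀ m, 1 ≤ m → cp m + S.kdim 1 (m - 1) + S.kdim 1 (m + 1) = 2 * S.kdim 1 m) ∧
      ∀ m, 1 ≤ m → cm m + S.kdim (-1) (m - 1) + S.kdim (-1) (m + 1) = 2 * S.kdim (-1) m := by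
  obtain ⟨S₁, S₂₃, hS₁, hS₂₃, hsum, hn1, hu23⟩ := OFIT2.exists_split S hS 1 (by ring)
  obtain ⟨S₂, S₃, hS₂, hS₃, hsum23, hn2, hu3p⟩ := OFIT2.exists_split S₂₃ hS₂₃ (-1) (by ring)
  rw [algebraMap_one_eq] at hn1 hu23
  rw [sub_algebraMap_neg_one] at hn2 hu3p
  -- `g₃ - 1` is a unit
  have hu3m : IsUnit (S₃.g - 1) := by
    have h1 : S₂₃.kdim 1 1 = 0 :=
      SUMISO.kdim_eq_zero_of_isUnit S₂₃ 1 (by rw [algebraMap_one_eq]; exact hu23) 1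
    rw [SUMISO.kdim_add S₂₃ S₂ S₃ hsum23 1 1] at h1
    have h2' : S₃.kdim 1 1 = 0 := by omega
    have := SUMISO.isUnit_of_kdim_one_eq_zero S₃ 1 h2'
    rwa [algebraMap_one_eq] at this
  obtain ⟨cp, sp, hus1, hpar1⟩ := OEXUNISIGN.exists_uniSign h2 S₁ hS₁ hn1
  have hn2' : IsNilpotent (S₂.neg.g - 1) := by
    have : S₂.neg.g - 1 = -(S₂.g + 1) := by
      show -S₂.g - 1 = -(S₂.g + 1)
      abel
    rw [this]
    exact hn2.neg
  obtain ⟨cm, sm, hus2, hpar2⟩ := OEXUNISIGN.exists_uniSign h2 S₂.neg (OUNITG.isOrth_neg S₂ hS₂) hn2'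
  refine ⟨cp, sp, cm, sm, ⟨S₁, S₂, S₃, S₂₃, hS₁, hS₂, hS₃, hS₂₃, hsum, hsum23, hn1, hn2, hu23,
    hu3m, hu3p, hus1, hus2⟩, hpar1, hpar2, ?_⟩
  obtain ⟨a0, a1⟩ := OUSKDIM.kdim_relation h2 S₁ cp sp hus1
  obtain ⟨c0, c1⟩ := OUSKDIM.kdim_relation h2 S₂.neg cm sm hus2
  -- kernel dimensions of `S` at `1` are those of `S₁`
  have hk1 : ∀ k, S.kdim 1 k = S₁.kdim 1 k := by
    intro k
    rw [SUMISO.kdim_add S S₁ S₂₃ hsum 1 k,
      SUMISO.kdim_eq_zero_of_isUnit S₂₃ 1 (by rw [algebraMap_one_eq]; exact hu23) k, add_zero]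
  -- kernel dimensions of `S` at `-1` are those of `S₂`
  have hkm : ∀ k, S.kdim (-1) k = S₂.neg.kdim 1 k := by
    intro k
    have hu1 : IsUnit (S₁.g - algebraMap F (Module.End F S₁.V) (-1)) := by
      rw [sub_algebraMap_neg_one]
      have : S₁.g + 1 = (S₁.g - 1) + 2 := by
        rw [← one_add_one_eq_two]
        abel
      rw [this]
      have h2u : IsUnit (2 : Module.End F S₁.V) := by
        have : (2 : Module.End F S₁.V) = algebraMap F (Module.End F S₁.V) 2 := by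
          rw [map_ofNat]
        rw [this]
        exact (IsUnit.mk0 (2 : F) h2).map _
      exact hn1.isUnit_add_right_of_commute h2u (Commute.ofNat_right _ 2)
    rw [kdim_neg, SUMISO.kdim_add S S₁ S₂₃ hsum (-1) k,
      SUMISO.kdim_eq_zero_of_isUnit S₁ (-1) hu1 k, zero_add,
      SUMISO.kdim_add S₂₃ S₂ S₃ hsum23 (-1) k,
      SUMISO.kdim_eq_zero_of_isUnit S₃ (-1) (by rw [sub_algebraMap_neg_one]; exact hu3p) k,
      add_zero]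
  refine ⟨a0, c0, fun m hm => ?_, fun m hm => ?_⟩
  · rw [hk1, hk1, hk1]
    exact a1 m hm
  · rw [hkm, hkm, hkm]
    exact c1 m hm

end OEXSIGN

end Cfsg.Agent.S2558P
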