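import Mathlib
import Cfsg.Agent.Helper17.S2558GDefs
import Cfsg.Agent.Helper17.S2558CLASS
import Cfsg.Agent.Helper17.S2482ASM
import Cfsg.Agent.Helper14.S2558OOFO
import Cfsg.Agent.Helper14.S2558OGLLIN
import Cfsg.Agent.Helper10.S2558OSDSP
import Cfsg.Agent.Helper10.S2558DISC
import Cfsg.Agent.Helper24.S2482MULTKD
import Cfsg.Agent.Helper14.S2482PARITYPOLY
import Cfsg.Agent.Helper29.S2558CFINAL

/-! # S2558 chapter (G): assemblies OMEM (the invariants of an isometry lie in `SO`), OINJ (the invariants determine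
the class), OPAR (same type on the same space ⇒ even number of differing signs) and the resulting bound
`2 k(O(Q)) ≤ 19 q^n`.  (helper17) -/

set_option autoImplicit false

namespace Cfsg.Agent.S2558P

open Polynomial Cfsg.Agent.Helper2.SympInvol Cfsg.Agent.S2676P Cfsg.Agent.S2478P Cfsg.Agent.S2481P
  Cfsg.Agent.S2482P Cfsg.Agent.S2482P.CLASS

universe u

variable {F : Type u} [Field F]

namespace OMEM

theorem sign_of_uniSignO {V : Type*} [AddCommGroup V] [Module F V] (B : LinearMap.BilinForm F V)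
    (g : Module.End F V) (c : ℕ → ℕ) (s : ℕ → Bool) (h : UniSignO B g c s) (m : ℕ)
    (hm : s m = true) : Odd m ∧ 0 < c m := by
  obtain ⟨X, ι, _, _, a, K, v, -, -, -, -, hs⟩ := h
  exact ⟨((hs m).1 hm).1, ((hs m).1 hm).2.1⟩

/-- the multiplicities of `X - c` in the type are the block multiplicities -/
theorem mult_eq_of_relation {ι : Type} [Fintype ι] [DecidableEq ι] {N : ℕ}
    (B : LinearMap.BilinForm F (ι → F)) (e : ι ≃ Fin N) (M : Matrix ι ι F) (t : ℕ → F[X])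
    (ht : HasType (toFinO e M) t) (htT : t ∈ T F N N) (c : F) (cc : ℕ → ℕ) (h0 : cc 0 = 0)
    (hr : ∀ m, 1 ≤ m → cc m + (ofO B M).kdim c (m - 1) + (ofO B M).kdim c (m + 1) =
        2 * (ofO B M).kdim c m) (m : ℕ) : (t m).rootMultiplicity c = cc m := by
  rcases Nat.eq_zero_or_pos m with rfl | hm
  · rw [htT.2.1 0 (Or.inl rfl), h0]
    exact rootMultiplicity_eq_zero (by simp)
  · have e1 := MULTKD.rootMultiplicity_relation (toFinO e M) ht c m hm
    rw [OOFO.kd_toFinO B, OOFO.kd_toFinO B, OOFO.kd_toFinO B] at e1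
    have e2 := hr m hm
    omega

/-- OMEM -/
theorem exists_rel (h2 : (2 : F) ≠ 0) {ι : Type} [Fintype ι] [DecidableEq ι] {N : ℕ}
    (Q : (ι → F) → F) (B : LinearMap.BilinForm F (ι → F)) (hQB : IsPolar Q B) (e : ι ≃ Fin N)
    (g : Cfsg.isometryGroup F Q) :
    ∃ x ∈ SO F N N, RelO B e ((g : Matrix.GeneralLinearGroup ι F) : Matrix ι ι F) x := by
  obtain ⟨t, ht, htT⟩ := OGLLIN.exists_hasType e ((g : Matrix.GeneralLinearGroup ι F) : Matrix ι ι F)
    (Matrix.isUnits_det_units (g : Matrix.GeneralLinearGroup ι F))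
  have hS := OOFO.isOrth_ofO h2 Q B hQB g
  obtain ⟨cp, sp, cm, sm, hrel, hparp, hparm, hcp0, hcm0, hrp, hrm⟩ :=
    OEXSIGN.exists_signRel h2 _ hS
  have hmp := mult_eq_of_relation B e _ t ht htT 1 cp hcp0 hrp
  have hmm := mult_eq_of_relation B e _ t ht htT (-1) cm hcm0 hrm
  have hmonic : ∀ m, (t m).Monic := fun m => (htT.1 m).1
  have hsd : ∀ m, tilde0 (t m) = t m := fun m => OSDSP.tilde0_of_isometry h2 Q B hQB e g ht m
  refine ⟨(t, fun m => (sp m, sm m)), ⟨⟨htT, hsd, fun m hm => ?_⟩, fun m => ⟨fun hs => ?_, fun hs => ?_⟩⟩,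
    ht, cp, cm, hrel⟩
  · exact PARITYPOLY.coeff_zero_and_even h2 (t m) (hmonic m) (hsd m)
      (by rw [hmp]; exact hparp m hm) (by rw [hmm]; exact hparm m hm)
  · obtain ⟨S₁, S₂, S₃, S₂₃, -, -, -, -, -, -, -, -, -, -, -, hus1, -⟩ := hrel
    obtain ⟨he, hpos⟩ := sign_of_uniSignO _ _ _ _ hus1 m hs
    refine ⟨he, ?_⟩
    have := MEM.dvd_of_rootMultiplicity_pos (t m) (hmonic m).ne_zero 1 (by rw [hmp]; exact hpos)
    rwa [C_1] at this
  · obtain ⟨S₁, S₂, S₃, S₂₃, -, -, -, -, -, -, -, -, -, -, -, -, hus2⟩ := hrel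
    obtain ⟨he, hpos⟩ := sign_of_uniSignO _ _ _ _ hus2 m hs
    refine ⟨he, ?_⟩
    have := MEM.dvd_of_rootMultiplicity_pos (t m) (hmonic m).ne_zero (-1) (by rw [hmm]; exact hpos)
    rwa [C_neg, C_1, sub_neg_eq_add] at this

end OMEM

namespace OINJ

/-- OINJ -/
theorem isConj_of_rel [Fintype F] (h2 : (2 : F) ≠ 0) {ι : Type} [Fintype ι] [DecidableEq ι] {N : ℕ}
    (Q : (ι → F) → F) (B : LinearMap.BilinForm F (ι → F)) (hQB : IsPolar Q B) (e : ι ≃ Fin N)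
    (g g' : Cfsg.isometryGroup F Q) (x : (ℕ → F[X]) × (ℕ → Bool × Bool))
    (h : RelO B e ((g : Matrix.GeneralLinearGroup ι F) : Matrix ι ι F) x)
    (h' : RelO B e ((g' : Matrix.GeneralLinearGroup ι F) : Matrix ι ι F) x) : IsConj g g' := by
  obtain ⟨ht, cp, cm, hs⟩ := h
  obtain ⟨ht', cp', cm', hs'⟩ := h'
  exact OCONJ.isConj_of_iso h2 Q B hQB g g'
    (OCLASS.iso_of_signRel h2 _ _ cp cp' cm cm' _ _ hs hs'
      (OGLLIN.linIso_of_hasType B e _ _ x.1 ht ht'))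

end OINJ

namespace OPAR

theorem isSum_comm (S S₁ S₂ : SpSpace F) (h : S.IsSum S₁ S₂) : S.IsSum S₂ S₁ := by
  obtain ⟨e, hB, hg⟩ := h
  refine ⟨e.trans (LinearEquiv.prodComm F S₁.V S₂.V), fun u v => ?_, fun v => ?_⟩
  · rw [hB u v, add_comm]
    rfl
  · have := hg v
    show (LinearEquiv.prodComm F S₁.V S₂.V) (e (S.g v)) = _
    rw [this]
    rfl

theorem toNat_add_toNat_even (a b a' b' : Bool) :
    (a.toNat + b.toNat + (a'.toNat + b'.toNat)) = (a.toNat + a'.toNat) + (b.toNat + b'.toNat) := by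
  omega

/-- the multiplicity relations of a sign relation -/
theorem kdim_relations (h2 : (2 : F) ≠ 0) (S : SpSpace F) (cp : ℕ → ℕ) (sp : ℕ → Bool) (cm : ℕ → ℕ)
    (sm : ℕ → Bool) (h : SignRelO S cp sp cm sm) :
    cp 0 = 0 ∧ cm 0 = 0 ∧
      (∀ m, 1 ≤ m → cp m + S.kdim 1 (m - 1) + S.kdim 1 (m + 1) = 2 * S.kdim 1 m) ∧
      ∀ m, 1 ≤ m → cm m + S.kdim (-1) (m - 1) + S.kdim (-1) (m + 1) = 2 * S.kdim (-1) m := by
  obtain ⟨S₁, S₂, S₃, S₂₃, hS₁, hS₂, hS₃, hS₂₃, hsum, hsum23, hn1, hn2, hu23, hu3m, hu3p, hus1,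
    hus2⟩ := h
  obtain ⟨a0, a1⟩ := OUSKDIM.kdim_relation h2 S₁ cp sp hus1
  obtain ⟨c0, c1⟩ := OUSKDIM.kdim_relation h2 S₂.neg cm sm hus2
  have hk1 : ∀ k, S.kdim 1 k = S₁.kdim 1 k := by
    intro k
    rw [SUMISO.kdim_add S S₁ S₂₃ hsum 1 k,
      SUMISO.kdim_eq_zero_of_isUnit S₂₃ 1 (by rw [algebraMap_one_eq]; exact hu23) k, add_zero]
  have hkm : ∀ k, S.kdim (-1) k = S₂.neg.kdim 1 k := by
    intro k
    have hu1 : IsUnit (S₁.g - algebraMap F (Module.End F S₁.V) (-1)) := by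
      rw [sub_algebraMap_neg_one]
      have : S₁.g + 1 = (S₁.g - 1) + 2 := by
        rw [← one_add_one_eq_two]
        abel
      rw [this]
      have h2u : IsUnit (2 : Module.End F S₁.V) := by
        have : (2 : Module.End F S₁.V) = algebraMap F (Module.End F S₁.V) 2 := by
          rw [map_ofNat]
        rw [this]
        exact (IsUnit.mk0 (2 : F) h2).map _
      exact hn1.isUnit_add_right_of_commute h2u (Commute.ofNat_right _ 2)
    rw [kdim_neg, SUMISO.kdim_add S S₁ S₂₃ hsum (-1) k,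
      SUMISO.kdim_eq_zero_of_isUnit S₁ (-1) hu1 k, zero_add,
      SUMISO.kdim_add S₂₃ S₂ S₃ hsum23 (-1) k,
      SUMISO.kdim_eq_zero_of_isUnit S₃ (-1) (by rw [sub_algebraMap_neg_one]; exact hu3p) k,
      add_zero]
  refine ⟨a0, c0, fun m hm => ?_, fun m hm => ?_⟩
  · rw [hk1, hk1, hk1]
    exact a1 m hm
  · rw [hkm, hkm, hkm]
    exact c1 m hm

/-- OPAR -/
theorem even_nsq [Fintype F] (h2 : (2 : F) ≠ 0) {ι : Type} [Fintype ι] [DecidableEq ι] {N : ℕ}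
    (Q : (ι → F) → F) (B : LinearMap.BilinForm F (ι → F)) (hQB : IsPolar Q B) (e : ι ≃ Fin N)
    (g g' : Cfsg.isometryGroup F Q) (x x' : (ℕ → F[X]) × (ℕ → Bool × Bool))
    (h : RelO B e ((g : Matrix.GeneralLinearGroup ι F) : Matrix ι ι F) x)
    (h' : RelO B e ((g' : Matrix.GeneralLinearGroup ι F) : Matrix ι ι F) x')
    (htT : x.1 ∈ T F N N) (htt : x.1 = x'.1) : Even (nsq N x.2 + nsq N x'.2) := by
  obtain ⟨ht, cp, cm, hs⟩ := h
  obtain ⟨ht', cp', cm', hs'⟩ := h'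
  rw [← htt] at ht'
  have hx : (ofO B ((g : Matrix.GeneralLinearGroup ι F) : Matrix ι ι F)).LinIso
      (ofO B ((g' : Matrix.GeneralLinearGroup ι F) : Matrix ι ι F)) :=
    OGLLIN.linIso_of_hasType B e _ _ x.1 ht ht'
  have hSS : (ofO B ((g : Matrix.GeneralLinearGroup ι F) : Matrix ι ι F)).SameDisc
      (ofO B ((g' : Matrix.GeneralLinearGroup ι F) : Matrix ι ι F)) :=
    DISC.sameDisc_ofO B hQB.symm hQB.nondeg _ _
  obtain ⟨hcp0, hcm0, hrp, hrm⟩ := kdim_relations h2 _ cp _ cm _ hs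
  obtain ⟨hcp0', hcm0', hrp', hrm'⟩ := kdim_relations h2 _ cp' _ cm' _ hs'
  have hmp := OMEM.mult_eq_of_relation B e _ x.1 ht htT 1 cp hcp0 hrp
  have hmm := OMEM.mult_eq_of_relation B e _ x.1 ht htT (-1) cm hcm0 hrm
  have hmp' := OMEM.mult_eq_of_relation B e _ x.1 ht' htT 1 cp' hcp0' hrp'
  have hmm' := OMEM.mult_eq_of_relation B e _ x.1 ht' htT (-1) cm' hcm0' hrm'
  have hcp : cp = cp' := funext fun m => by rw [← hmp m, hmp' m]
  have hcm : cm = cm' := funext fun m => by rw [← hmm m, hmm' m]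
  have hvanp : ∀ m, N < m → cp m = 0 := by
    intro m hm
    rw [← hmp m, htT.2.1 m (Or.inr hm)]
    exact rootMultiplicity_eq_zero (by simp)
  have hvanm : ∀ m, N < m → cm m = 0 := by
    intro m hm
    rw [← hmm m, htT.2.1 m (Or.inr hm)]
    exact rootMultiplicity_eq_zero (by simp)
  subst hcp
  subst hcm
  obtain ⟨S₁, S₂, S₃, S₂₃, hS₁, hS₂, hS₃, hS₂₃, hsum, hsum23, hn1, hn2, hu23, hu3m, hu3p, hus1,
    hus2⟩ := hs
  obtain ⟨T₁, T₂, T₃, T₂₃, hT₁, hT₂, hT₃, hT₂₃, tsum, tsum23, tn1, tn2, tu23, tu3m, tu3p, tus1,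
    tus2⟩ := hs'
  obtain ⟨hx1, hx23⟩ := BLOCKDIAG.linIso_of_sum _ _ S₁ S₂₃ T₁ T₂₃ hsum tsum 1
    (by rw [algebraMap_one_eq]; exact hn1) (by rw [algebraMap_one_eq]; exact tn1)
    (by rw [algebraMap_one_eq]; exact hu23) (by rw [algebraMap_one_eq]; exact tu23) hx
  obtain ⟨hx2, hx3⟩ := BLOCKDIAG.linIso_of_sum S₂₃ T₂₃ S₂ S₃ T₂ T₃ hsum23 tsum23 (-1)
    (by rw [sub_algebraMap_neg_one]; exact hn2) (by rw [sub_algebraMap_neg_one]; exact tn2)
    (by rw [sub_algebraMap_neg_one]; exact hu3p) (by rw [sub_algebraMap_neg_one]; exact tu3p) hx23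
  have i3 : S₃.Iso T₃ := OISOREST.iso_of_linIso h2 S₃ T₃ hS₃ hT₃ hu3m hu3p hx3
  have d3 : S₃.SameDisc T₃ := DISC.sameDisc_of_iso S₃ T₃ hS₃ i3
  have key : S₁.SameDisc T₁ ↔ S₂.SameDisc T₂ := by
    constructor
    · intro d1
      have d23 : S₂₃.SameDisc T₂₃ := DISC.sameDisc_cancel _ _ S₂₃ S₁ T₂₃ T₁ hS₁ hT₁ hS₂₃ hT₂₃
        (isSum_comm _ _ _ hsum) (isSum_comm _ _ _ tsum) hSS d1
      exact DISC.sameDisc_cancel S₂₃ T₂₃ S₂ S₃ T₂ T₃ hS₃ hT₃ hS₂ hT₂ hsum23 tsum23 d23 d3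
    · intro d2
      have d23 := DISC.sameDisc_sum S₂₃ T₂₃ S₂ S₃ T₂ T₃ hsum23 tsum23 d2 d3
      exact DISC.sameDisc_cancel _ _ S₁ S₂₃ T₁ T₂₃ hS₂₃ hT₂₃ hS₁ hT₁ hsum tsum hSS d23
  have u1 := UNIDISC.sameDisc_iff h2 S₁ T₁ hS₁ hT₁ cp _ _ hus1 tus1 N hvanp
  have u2 := UNIDISC.sameDisc_iff h2 S₂.neg T₂.neg (OUNITG.isOrth_neg S₂ hS₂)
    (OUNITG.isOrth_neg T₂ hT₂) cm _ _ hus2 tus2 N hvanm
  have u2' : S₂.SameDisc T₂ ↔ S₂.neg.SameDisc T₂.neg := Iff.rfl
  have hsum_eq : nsq N x.2 + nsq N x'.2 =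
      (∑ m ∈ Finset.range (N + 1), ((x.2 m).1.toNat + (x'.2 m).1.toNat)) +
      ∑ m ∈ Finset.range (N + 1), ((x.2 m).2.toNat + (x'.2 m).2.toNat) := by
    unfold nsq
    rw [← Finset.sum_add_distrib, ← Finset.sum_add_distrib]
    exact Finset.sum_congr rfl fun m _ => by omega
  rw [hsum_eq, Nat.even_add]
  exact u1.symm.trans (key.trans (u2'.trans u2))

end OPAR

namespace OUPPER

/-- OUPPER: twice the number of classes of the full isometry group of a quadratic form of dimension `2n` is at most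
`19 q^n` -/
theorem two_card_conjClasses_le [Fintype F] (hodd : Odd (Fintype.card F)) (h2 : (2 : F) ≠ 0)
    {ι : Type} [Fintype ι] [DecidableEq ι] (n : ℕ) (Q : (ι → F) → F)
    (B : LinearMap.BilinForm F (ι → F)) (hQB : IsPolar Q B) (e : ι ≃ Fin (2 * n)) :
    2 * Nat.card (ConjClasses (Cfsg.isometryGroup F Q)) ≤ 19 * Fintype.card F ^ n := by
  classical
  set R : Set ((ℕ → F[X]) × (ℕ → Bool × Bool)) :=
    {x | x ∈ SO F (2 * n) (2 * n) ∧ ∃ g : Cfsg.isometryGroup F Q,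
      RelO B e ((g : Matrix.GeneralLinearGroup ι F) : Matrix ι ι F) x} with hRdef
  have hR : R ⊆ SO F (2 * n) (2 * n) := fun x hx => hx.1
  have hpar : ∀ x ∈ R, ∀ x' ∈ R, x.1 = x'.1 → Even (nsq (2 * n) x.2 + nsq (2 * n) x'.2) := by
    rintro x ⟨hx, g, hg⟩ x' ⟨hx', g', hg'⟩ htt
    exact OPAR.even_nsq h2 Q B hQB e g g' x x' hg hg' hx.1.1 htt
  obtain ⟨hfin, hle⟩ := two_card_le_of_parity hodd (2 * n) n R hR hpar
  have : Finite R := hfin
  have hex : ∀ c : ConjClasses (Cfsg.isometryGroup F Q),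
      ∃ x ∈ SO F (2 * n) (2 * n),
        RelO B e (((Quotient.out c : Cfsg.isometryGroup F Q) : Matrix.GeneralLinearGroup ι F) :
          Matrix ι ι F) x :=
    fun c => OMEM.exists_rel h2 Q B hQB e (Quotient.out c)
  choose f hf hrel using hex
  have hcard : Nat.card (ConjClasses (Cfsg.isometryGroup F Q)) ≤ Nat.card R := by
    refine Nat.card_le_card_of_injective (fun c => (⟨f c, hf c, Quotient.out c, hrel c⟩ : R)) ?_
    intro c c' hcc
    have h1 : f c = f c' := congrArg Subtype.val hcc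
    have h3 : IsConj (Quotient.out c) (Quotient.out c') :=
      OINJ.isConj_of_rel h2 Q B hQB e _ _ (f c) (hrel c) (h1 ▸ hrel c')
    have h4 : ConjClasses.mk (Quotient.out c) = ConjClasses.mk (Quotient.out c') :=
      ConjClasses.mk_eq_mk_iff_isConj.2 h3
    have h5 : ∀ d : ConjClasses (Cfsg.isometryGroup F Q),
        ConjClasses.mk (Quotient.out d) = d := fun d => Quotient.out_eq d
    rw [h5, h5] at h4
    exact h4
  omega

end OUPPER

end Cfsg.Agent.S2558P
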