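import Mathlib
import Cfsg.Prelude.Def_Classical
import Cfsg.Agent.Helper17.S2558GDefs
import Cfsg.Agent.Helper29.S2558DDefs

/-! # S2560 (class number of `Ω_{2n+1}(q)`, `q` odd), chapter (S) SPIN PARITY + SPLIT (driver helper17): definitions.

Partial isometries through isometric embeddings.

`Emb A B`        : an isometric embedding `j : A.V → V` of the space `A = (A.V, A.B, _)` into `(V, B)`, together with
                   the orthogonal projection `P : V → A.V` (`P ∘ j = id`, `v - j (P v) ⊥ j b`).
`E.part h`       : the endomorphism `1 + j ∘ (h - 1) ∘ P` of `V`: `h` on the image of `j`, the identity on its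
                   orthogonal complement.
`Emb.ofSumLeft`, `Emb.ofSumRight` : the embeddings of the summands of an orthogonal sum (`IsSum` data).
`E.comp E'`      : composition of embeddings.
`SpSpace.withG S h` : the space `S` with the endomorphism `h`.
`antiSp m κ`     : the space `F^m` with the form `(x, y) ↦ κ ∑_{i + l + 1 = m} (-1)^i x_i y_l`
                   (the form on the span of `w, X w, …, X^(m-1) w` for a frame generator `w` of size `m`).
-/

set_option autoImplicit false

namespace Cfsg.Agent.S2560P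

open Polynomial Cfsg.Agent.Helper2.SympInvol Cfsg.Agent.S2676P Cfsg.Agent.S2478P Cfsg.Agent.S2481P
  Cfsg.Agent.S2482P Cfsg.Agent.S2558P

universe u

/-- an isometric embedding of the space `A` into `(V, B)` with its orthogonal projection -/
structure Emb {F : Type u} [Field F] (A : SpSpace F) {V : Type u} [AddCommGroup V] [Module F V]
    (B : LinearMap.BilinForm F V) where
  j : A.V →ₗ[F] V
  P : V →ₗ[F] A.V
  Pj : ∀ a, P (j a) = a
  isom : ∀ a b, B (j a) (j b) = A.B a b
  orth : ∀ v b, B (v - j (P v)) (j b) = 0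

namespace Emb

variable {F : Type u} [Field F] {A : SpSpace F} {V : Type u} [AddCommGroup V] [Module F V]
  {B : LinearMap.BilinForm F V}

/-- `h` on the image of the embedding, the identity on its orthogonal complement -/
def part (E : Emb A B) (h : Module.End F A.V) : Module.End F V :=
  1 + E.j ∘ₗ (h - 1) ∘ₗ E.P

theorem part_apply (E : Emb A B) (h : Module.End F A.V) (v : V) :
    E.part h v = v + E.j (h (E.P v) - E.P v) := rfl

/-- composition of embeddings -/
def comp {A' : SpSpace F} (E : Emb A B) (E' : Emb A' A.B) : Emb A' B where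
  j := E.j ∘ₗ E'.j
  P := E'.P ∘ₗ E.P
  Pj a := by
    show E'.P (E.P (E.j (E'.j a))) = a
    rw [E.Pj, E'.Pj]
  isom a b := by
    show B (E.j (E'.j a)) (E.j (E'.j b)) = A'.B a b
    rw [E.isom, E'.isom]
  orth v b := by
    show B (v - E.j (E'.j (E'.P (E.P v)))) (E.j (E'.j b)) = 0
    have h1 : v - E.j (E'.j (E'.P (E.P v))) =
        (v - E.j (E.P v)) + E.j (E.P v - E'.j (E'.P (E.P v))) := by
      rw [map_sub]
      abel
    rw [h1, map_add, LinearMap.add_apply, E.orth, E.isom, E'.orth, add_zero]

end Emb

/-- the embedding of the first summand of an orthogonal sum -/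
def Emb.ofSumLeft {F : Type u} [Field F] {S S₁ S₂ : SpSpace F} (e : S.V ≃ₗ[F] S₁.V × S₂.V)
    (hB : ∀ u v, S.B u v = S₁.B (e u).1 (e v).1 + S₂.B (e u).2 (e v).2) : Emb S₁ S.B where
  j := e.symm.toLinearMap ∘ₗ LinearMap.inl F S₁.V S₂.V
  P := LinearMap.fst F S₁.V S₂.V ∘ₗ e.toLinearMap
  Pj a := by
    show (e (e.symm (a, 0))).1 = a
    rw [LinearEquiv.apply_symm_apply]
  isom a b := by
    show S.B (e.symm (a, 0)) (e.symm (b, 0)) = S₁.B a b
    rw [hB, LinearEquiv.apply_symm_apply, LinearEquiv.apply_symm_apply]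
    simp
  orth v b := by
    show S.B (v - e.symm ((e v).1, 0)) (e.symm (b, 0)) = 0
    rw [hB, LinearEquiv.apply_symm_apply, map_sub, LinearEquiv.apply_symm_apply]
    simp

/-- the embedding of the second summand of an orthogonal sum -/
def Emb.ofSumRight {F : Type u} [Field F] {S S₁ S₂ : SpSpace F} (e : S.V ≃ₗ[F] S₁.V × S₂.V)
    (hB : ∀ u v, S.B u v = S₁.B (e u).1 (e v).1 + S₂.B (e u).2 (e v).2) : Emb S₂ S.B where
  j := e.symm.toLinearMap ∘ₗ LinearMap.inr F S₁.V S₂.V
  P := LinearMap.snd F S₁.V S₂.V ∘ₗ e.toLinearMap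
  Pj a := by
    show (e (e.symm (0, a))).2 = a
    rw [LinearEquiv.apply_symm_apply]
  isom a b := by
    show S.B (e.symm (0, a)) (e.symm (0, b)) = S₂.B a b
    rw [hB, LinearEquiv.apply_symm_apply, LinearEquiv.apply_symm_apply]
    simp
  orth v b := by
    show S.B (v - e.symm (0, (e v).2)) (e.symm (0, b)) = 0
    rw [hB, LinearEquiv.apply_symm_apply, map_sub, LinearEquiv.apply_symm_apply]
    simp

/-- the space `S` with another endomorphism -/
abbrev withG {F : Type u} [Field F] (S : SpSpace F) (h : Module.End F S.V) : SpSpace F :=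
  { V := S.V, B := S.B, g := h }

/-- the form of a Jordan block of a frame: `κ ∑_{i + l + 1 = m} (-1)^i x_i y_l` on `F^m` -/
noncomputable def antiB {F : Type u} [Field F] (m : ℕ) (κ : F) : LinearMap.BilinForm F (Fin m → F) :=
  Matrix.toBilin' (Matrix.of fun i l : Fin m =>
    if (i : ℕ) + (l : ℕ) + 1 = m then (-1) ^ (i : ℕ) * κ else 0)

/-- the space `F^m` with the form `antiB m κ` (and the identity) -/
noncomputable def antiSp {F : Type u} [Field F] (m : ℕ) (κ : F) : SpSpace F :=
  { V := Fin m → F
    B := antiB m κ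
    g := 1 }

end Cfsg.Agent.S2560P
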