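import Mathlib
import Cfsg.Agent.Helper17.S2560SDefs
import Cfsg.Agent.Helper19.S2560EMBLIB
import Cfsg.Agent.Helper4.S2560REASSOC

/-! # S2560 chapter (S): DECOMP (helper17): the three embeddings of a sign relation. -/

set_option autoImplicit false

namespace Cfsg.Agent.S2560P

open Polynomial Cfsg.Agent.Helper2.SympInvol Cfsg.Agent.S2676P Cfsg.Agent.S2478P Cfsg.Agent.S2481P
  Cfsg.Agent.S2482P Cfsg.Agent.S2558P

universe u

variable {F : Type u} [Field F]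

theorem DECOMP.exists_embs' (S S₁ S₂ S₃ S₂₃ : SpSpace F) (hS₁ : S₁.IsOrth) (hS₂ : S₂.IsOrth)
    (h : S.IsSum S₁ S₂₃) (h' : S₂₃.IsSum S₂ S₃) :
    ∃ (C : SpSpace F) (E₁ : Emb S₁ S.B) (E₂ : Emb S₂ S.B) (e : S.V ≃ₗ[F] C.V × S₃.V)
      (hB : ∀ u v, S.B u v = C.B (e u).1 (e v).1 + S₃.B (e u).2 (e v).2),
      C.IsOrth ∧ C.IsSum S₁ S₂ ∧ (∀ v, e (S.g v) = (C.g (e v).1, S₃.g (e v).2)) ∧
      S.g = E₁.part S₁.g * E₂.part S₂.g * (Emb.ofSumRight e hB).part S₃.g ∧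
      (∀ z : Module.End F S₁.V, z * S₁.g = S₁.g * z → E₁.part z * S.g = S.g * E₁.part z) ∧
      (∀ z : Module.End F S₂.V, z * S₂.g = S₂.g * z → E₂.part z * S.g = S.g * E₂.part z) := by
  obtain ⟨C, hC12, hSC, hCorth⟩ := REASSOC.exists_assoc S S₁ S₂ S₃ S₂₃ h h'
  obtain ⟨e12, hB12, hg12⟩ := id hC12
  obtain ⟨e, hB, hg⟩ := hSC
  set EC : Emb C S.B := Emb.ofSumLeft e hB with hEC
  set E3 : Emb S₃ S.B := Emb.ofSumRight e hB with hE3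
  set E1' : Emb S₁ C.B := Emb.ofSumLeft e12 hB12 with hE1'
  set E2' : Emb S₂ C.B := Emb.ofSumRight e12 hB12 with hE2'
  have hSg : S.g = EC.part C.g * E3.part S₃.g := EMBLIB.sum_decomp S C S₃ e hB hg
  have hCg : C.g = E1'.part S₁.g * E2'.part S₂.g := EMBLIB.sum_decomp C S₁ S₂ e12 hB12 hg12
  have hcomm12 : ∀ (a : Module.End F S₁.V) (b : Module.End F S₂.V),
      E1'.part a * E2'.part b = E2'.part b * E1'.part a := fun a b =>
    EMBLIB.part_comm E1' E2' (EMBLIB.sum_P_left C S₁ S₂ e12 hB12)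
      (EMBLIB.sum_P_right C S₁ S₂ e12 hB12) a b
  have hcommC3 : ∀ (a : Module.End F C.V) (b : Module.End F S₃.V),
      EC.part a * E3.part b = E3.part b * EC.part a := fun a b =>
    EMBLIB.part_comm EC E3 (EMBLIB.sum_P_left S C S₃ e hB) (EMBLIB.sum_P_right S C S₃ e hB) a b
  refine ⟨C, EC.comp E1', EC.comp E2', e, hB, hCorth hS₁ hS₂, hC12, hg, ?_, ?_, ?_⟩
  · rw [EMBLIB.part_comp, EMBLIB.part_comp, ← EMBLIB.part_mul, ← hCg]
    exact hSg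
  · intro z hz
    have h1 : E1'.part z * C.g = C.g * E1'.part z := by
      rw [hCg, ← mul_assoc, ← EMBLIB.part_mul, hz, EMBLIB.part_mul, mul_assoc, hcomm12 z S₂.g,
        ← mul_assoc]
    rw [EMBLIB.part_comp, hSg, ← mul_assoc, ← EMBLIB.part_mul, h1, EMBLIB.part_mul, mul_assoc,
      hcommC3, ← mul_assoc]
  · intro z hz
    have h1 : E2'.part z * C.g = C.g * E2'.part z := by
      rw [hCg, ← mul_assoc, ← hcomm12 S₁.g z, mul_assoc, ← EMBLIB.part_mul, hz, EMBLIB.part_mul,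
        ← mul_assoc]
    rw [EMBLIB.part_comp, hSg, ← mul_assoc, ← EMBLIB.part_mul, h1, EMBLIB.part_mul, mul_assoc,
      hcommC3, ← mul_assoc]

theorem DECOMP.exists_embs (S S₁ S₂ S₃ S₂₃ : SpSpace F) (hS₁ : S₁.IsOrth) (hS₂ : S₂.IsOrth)
    (h : S.IsSum S₁ S₂₃) (h' : S₂₃.IsSum S₂ S₃) :
    ∃ (C : SpSpace F) (E₁ : Emb S₁ S.B) (E₂ : Emb S₂ S.B) (e : S.V ≃ₗ[F] C.V × S₃.V)
      (hB : ∀ u v, S.B u v = C.B (e u).1 (e v).1 + S₃.B (e u).2 (e v).2),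
      C.IsOrth ∧ C.IsSum S₁ S₂ ∧
      S.g = E₁.part S₁.g * E₂.part S₂.g * (Emb.ofSumRight e hB).part S₃.g ∧
      (∀ z : Module.End F S₁.V, z * S₁.g = S₁.g * z → E₁.part z * S.g = S.g * E₁.part z) ∧
      (∀ z : Module.End F S₂.V, z * S₂.g = S₂.g * z → E₂.part z * S.g = S.g * E₂.part z) := by
  obtain ⟨C, E₁, E₂, e, hB, a1, a2, -, a3, a4, a5⟩ := DECOMP.exists_embs' S S₁ S₂ S₃ S₂₃ hS₁ hS₂ h h'
  exact ⟨C, E₁, E₂, e, hB, a1, a2, a3, a4, a5⟩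

end Cfsg.Agent.S2560P
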