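import Mathlib
import Cfsg.Agent.Helper17.S2560SDefs
import Cfsg.Agent.Helper17.S2558ASM
import Cfsg.Agent.Helper28.Spin5
import Cfsg.Agent.Helper19.S2560TOG
import Cfsg.Agent.Helper19.S2560EMBLIB
import Cfsg.Agent.Helper29.S2560THUNI
import Cfsg.Agent.Helper21.S2560THNEG
import Cfsg.Agent.Helper29.S2560CLASSIF
import Cfsg.Agent.Helper4.S2560CONJREST
import Cfsg.Agent.Helper17.S2560DECOMP

/-! # S2560 chapter (S): (D2) spin parity (helper17).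

Two isometries with the same type and the same spinor sign have `(-1)`-parts with the same discriminant, hence the
numbers of their `(-1)`-signs have the same parity. -/

set_option autoImplicit false

namespace Cfsg.Agent.S2560P

open Polynomial Cfsg.Agent.Helper2.SympInvol Cfsg.Agent.S2676P Cfsg.Agent.S2478P Cfsg.Agent.S2481P
  Cfsg.Agent.S2482P Cfsg.Agent.S2558P Cfsg.Agent.Helper28.Spin Cfsg.Agent.S2482P.CLASS

universe u

variable {F : Type u} [Field F] {ι : Type} [Fintype ι] [DecidableEq ι]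

namespace D2

theorem toLin_mul (Q : (ι → F) → F) (a b : Cfsg.isometryGroup F Q) :
    Matrix.toLin' (((a * b : Cfsg.isometryGroup F Q) : Matrix.GeneralLinearGroup ι F) : Matrix ι ι F) =
      Matrix.toLin' ((a : Matrix.GeneralLinearGroup ι F) : Matrix ι ι F) *
        Matrix.toLin' ((b : Matrix.GeneralLinearGroup ι F) : Matrix ι ι F) := by
  rw [Subgroup.coe_mul, Units.val_mul, Matrix.toLin'_mul]
  rfl

theorem eq_of_toLin (Q : (ι → F) → F) (a b : Cfsg.isometryGroup F Q)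
    (h : Matrix.toLin' ((a : Matrix.GeneralLinearGroup ι F) : Matrix ι ι F) =
      Matrix.toLin' ((b : Matrix.GeneralLinearGroup ι F) : Matrix ι ι F)) : a = b :=
  Subtype.ext (Units.ext (Matrix.toLin'.injective h))

variable [Fintype F]

/-- the factorisation of the spinor sign -/
theorem factor (h2 : (2 : F) ≠ 0) (Q : QuadraticForm F (ι → F)) (B : LinearMap.BilinForm F (ι → F))
    (hQB : IsPolar ⇑Q B) (g : Cfsg.isometryGroup F ⇑Q) (S₁ S₂ S₃ S₂₃ : SpSpace F) (hS₁ : S₁.IsOrth)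
    (hS₂ : S₂.IsOrth) (hS₃ : S₃.IsOrth)
    (hsum : (ofO B ((g : Matrix.GeneralLinearGroup ι F) : Matrix ι ι F)).IsSum S₁ S₂₃)
    (hsum23 : S₂₃.IsSum S₂ S₃) (hn1 : IsNilpotent (S₁.g - 1)) (hn2 : IsNilpotent (S₂.g + 1)) :
    ∃ (C : SpSpace F)
      (E₂ : Emb S₂ (ofO B ((g : Matrix.GeneralLinearGroup ι F) : Matrix ι ι F)).B)
      (e : (ofO B ((g : Matrix.GeneralLinearGroup ι F) : Matrix ι ι F)).V ≃ₗ[F] C.V × S₃.V)
      (hB : ∀ u v, (ofO B ((g : Matrix.GeneralLinearGroup ι F) : Matrix ι ι F)).B u v =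
        C.B (e u).1 (e v).1 + S₃.B (e u).2 (e v).2)
      (yn y₄ : Cfsg.isometryGroup F ⇑Q),
      C.IsOrth ∧
      (∀ v, e ((ofO B ((g : Matrix.GeneralLinearGroup ι F) : Matrix ι ι F)).g v) =
        (C.g (e v).1, S₃.g (e v).2)) ∧
      Matrix.toLin' ((yn : Matrix.GeneralLinearGroup ι F) : Matrix ι ι F) = E₂.part (-1) ∧
      Matrix.toLin' ((y₄ : Matrix.GeneralLinearGroup ι F) : Matrix ι ι F) =
        (Emb.ofSumRight e hB).part S₃.g ∧
      theta Q g = theta Q yn * theta Q y₄ := by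
  obtain ⟨C, E₁, E₂, e, hB, hCorth, hC12, hg, hdec, -, -⟩ :=
    DECOMP.exists_embs' _ S₁ S₂ S₃ S₂₃ hS₁ hS₂ hsum hsum23
  have hsym : ∀ u v : (ofO B ((g : Matrix.GeneralLinearGroup ι F) : Matrix ι ι F)).V,
      (ofO B ((g : Matrix.GeneralLinearGroup ι F) : Matrix ι ι F)).B u v =
        (ofO B ((g : Matrix.GeneralLinearGroup ι F) : Matrix ι ι F)).B v u := hQB.symm
  -- the four factors
  have hdec' : (ofO B ((g : Matrix.GeneralLinearGroup ι F) : Matrix ι ι F)).g =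
      E₁.part S₁.g * E₂.part (-1) * E₂.part (-S₂.g) * (Emb.ofSumRight e hB).part S₃.g := by
    rw [hdec, mul_assoc (E₁.part S₁.g) (E₂.part (-1)), ← EMBLIB.part_mul, neg_mul_neg, one_mul]
  obtain ⟨X₁, hX₁⟩ : ∃ X₁ : Module.End F (ι → F), X₁ = E₁.part S₁.g := ⟨_, rfl⟩
  obtain ⟨Xn, hXn⟩ : ∃ X : Module.End F (ι → F), X = E₂.part (-1) := ⟨_, rfl⟩
  obtain ⟨Xu, hXu⟩ : ∃ X : Module.End F (ι → F), X = E₂.part (-S₂.g) := ⟨_, rfl⟩
  obtain ⟨X₄, hX₄⟩ : ∃ X : Module.End F (ι → F), X = (Emb.ofSumRight e hB).part S₃.g := ⟨_, rfl⟩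
  have hprod : Matrix.toLin' ((g : Matrix.GeneralLinearGroup ι F) : Matrix ι ι F) = X₁ * Xn * Xu * X₄ := by
    subst hX₁ hXn hXu hX₄
    exact hdec'
  have i1 : ∀ u v : ι → F, B (X₁ u) (X₁ v) = B u v := by
    subst hX₁
    exact EMBLIB.part_isom E₁ hsym S₁.g hS₁.isom
  have in' : ∀ u v : ι → F, B (Xn u) (Xn v) = B u v := by
    subst hXn
    exact EMBLIB.part_isom E₂ hsym (-1) (fun a b => by
      rw [LinearMap.neg_apply, LinearMap.neg_apply, Module.End.one_apply, Module.End.one_apply, map_neg,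
        map_neg, LinearMap.neg_apply, neg_neg])
  have iu : ∀ u v : ι → F, B (Xu u) (Xu v) = B u v := by
    subst hXu
    exact EMBLIB.part_isom E₂ hsym (-S₂.g) (OUNITG.isOrth_neg S₂ hS₂).isom
  have i4 : ∀ u v : ι → F, B (X₄ u) (X₄ v) = B u v := by
    subst hX₄
    exact EMBLIB.part_isom (Emb.ofSumRight e hB) hsym S₃.g hS₃.isom
  have n1 : IsNilpotent (X₁ - 1) := by
    subst hX₁
    exact EMBLIB.nilpotent E₁ S₁.g hn1
  have nu : IsNilpotent (Xu - 1) := by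
    subst hXu
    apply EMBLIB.nilpotent E₂
    have : -S₂.g - 1 = -(S₂.g + 1) := by abel
    rw [this]
    exact hn2.neg
  obtain ⟨y₁, hy₁⟩ := TOG.exists_mem ⇑Q B hQB X₁ i1
  obtain ⟨yn, hyn⟩ := TOG.exists_mem ⇑Q B hQB Xn in'
  obtain ⟨yu, hyu⟩ := TOG.exists_mem ⇑Q B hQB Xu iu
  obtain ⟨y₄, hy₄⟩ := TOG.exists_mem ⇑Q B hQB X₄ i4
  have hgeq : g = y₁ * yn * yu * y₄ := by
    apply eq_of_toLin
    rw [toLin_mul, toLin_mul, toLin_mul, hy₁, hyn, hyu, hy₄]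
    exact hprod
  have t1 : theta Q y₁ = 1 := by
    apply THUNI.theta_eq_one h2
    rw [hy₁]
    exact n1
  have tu : theta Q yu = 1 := by
    apply THUNI.theta_eq_one h2
    rw [hyu]
    exact nu
  refine ⟨C, E₂, e, hB, yn, y₄, hCorth, hg, hyn.trans hXn, hy₄.trans hX₄, ?_⟩
  rw [hgeq, map_mul, map_mul, map_mul, t1, tu, one_mul, mul_one]

omit [Fintype ι] [DecidableEq ι] [Fintype F] in
/-- the Gram data of the embedded `(-1)`-part, for `THNEG` -/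
theorem neg_data (B : LinearMap.BilinForm F (ι → F)) (S₂ : SpSpace F) (hS₂ : S₂.IsOrth)
    (E₂ : Emb S₂ B) {m : ℕ} (b : Module.Basis (Fin m) F S₂.V) (X : Module.End F (ι → F))
    (hX : X = E₂.part (-1)) :
    (Matrix.of fun i j => B (E₂.j (b i)) (E₂.j (b j))) = LinearMap.BilinForm.toMatrix b S₂.B ∧
    (∀ i, X (E₂.j (b i)) = - E₂.j (b i)) ∧
    ∀ u, (∀ i, B u (E₂.j (b i)) = 0) → X u = u := by
  subst hX
  refine ⟨?_, fun i => ?_, fun u hu => ?_⟩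
  · ext i j
    rw [Matrix.of_apply, E₂.isom, LinearMap.BilinForm.toMatrix_apply]
  · rw [EMBLIB.part_j, LinearMap.neg_apply, Module.End.one_apply, map_neg]
  · apply EMBLIB.part_of_P
    apply EMBLIB.P_of_orth E₂ hS₂.nondeg
    intro a
    have h1 : (B u ∘ₗ E₂.j) = 0 := by
      apply b.ext
      intro i
      rw [LinearMap.comp_apply, hu i, LinearMap.zero_apply]
    have h3 := LinearMap.congr_fun h1 a
    rwa [LinearMap.comp_apply, LinearMap.zero_apply] at h3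

/-- (D2) -/
theorem even_nsqm (h2 : (2 : F) ≠ 0) {N : ℕ} (Q : QuadraticForm F (ι → F))
    (B : LinearMap.BilinForm F (ι → F)) (hQB : IsPolar ⇑Q B) (e : ι ≃ Fin N)
    (g g' : Cfsg.isometryGroup F ⇑Q) (x x' : (ℕ → F[X]) × (ℕ → Bool × Bool))
    (h : RelO B e ((g : Matrix.GeneralLinearGroup ι F) : Matrix ι ι F) x)
    (h' : RelO B e ((g' : Matrix.GeneralLinearGroup ι F) : Matrix ι ι F) x')
    (htT : x.1 ∈ T F N N) (htt : x.1 = x'.1) (hθ : theta Q g = theta Q g') :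
    Even (∑ m ∈ Finset.range (N + 1), ((x.2 m).2.toNat + (x'.2 m).2.toNat)) := by
  obtain ⟨ht, cp, cm, hs⟩ := h
  obtain ⟨ht', cp', cm', hs'⟩ := h'
  rw [← htt] at ht'
  have hx : (ofO B ((g : Matrix.GeneralLinearGroup ι F) : Matrix ι ι F)).LinIso
      (ofO B ((g' : Matrix.GeneralLinearGroup ι F) : Matrix ι ι F)) :=
    OGLLIN.linIso_of_hasType B e _ _ x.1 ht ht'
  have hSS : (ofO B ((g : Matrix.GeneralLinearGroup ι F) : Matrix ι ι F)).SameDisc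
      (ofO B ((g' : Matrix.GeneralLinearGroup ι F) : Matrix ι ι F)) :=
    DISC.sameDisc_ofO B hQB.symm hQB.nondeg _ _
  obtain ⟨hcp0, hcm0, hrp, hrm⟩ := OPAR.kdim_relations h2 _ cp _ cm _ hs
  obtain ⟨hcp0', hcm0', hrp', hrm'⟩ := OPAR.kdim_relations h2 _ cp' _ cm' _ hs'
  have hmm := OMEM.mult_eq_of_relation B e _ x.1 ht htT (-1) cm hcm0 hrm
  have hmm' := OMEM.mult_eq_of_relation B e _ x.1 ht' htT (-1) cm' hcm0' hrm'
  have hcm : cm = cm' := funext fun m => by rw [← hmm m, hmm' m]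
  have hvanm : ∀ m, N < m → cm m = 0 := by
    intro m hm
    rw [← hmm m, htT.2.1 m (Or.inr hm)]
    exact rootMultiplicity_eq_zero (by simp)
  subst hcm
  obtain ⟨S₁, S₂, S₃, S₂₃, hS₁, hS₂, hS₃, hS₂₃, hsum, hsum23, hn1, hn2, hu23, hu3m, hu3p, hus1,
    hus2⟩ := hs
  obtain ⟨T₁, T₂, T₃, T₂₃, hT₁, hT₂, hT₃, hT₂₃, tsum, tsum23, tn1, tn2, tu23, tu3m, tu3p, tus1,
    tus2⟩ := hs'
  obtain ⟨hx1, hx23⟩ := BLOCKDIAG.linIso_of_sum _ _ S₁ S₂₃ T₁ T₂₃ hsum tsum 1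
    (by rw [algebraMap_one_eq]; exact hn1) (by rw [algebraMap_one_eq]; exact tn1)
    (by rw [algebraMap_one_eq]; exact hu23) (by rw [algebraMap_one_eq]; exact tu23) hx
  obtain ⟨hx2, hx3⟩ := BLOCKDIAG.linIso_of_sum S₂₃ T₂₃ S₂ S₃ T₂ T₃ hsum23 tsum23 (-1)
    (by rw [sub_algebraMap_neg_one]; exact hn2) (by rw [sub_algebraMap_neg_one]; exact tn2)
    (by rw [sub_algebraMap_neg_one]; exact hu3p) (by rw [sub_algebraMap_neg_one]; exact tu3p) hx23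
  have i3 : S₃.Iso T₃ := OISOREST.iso_of_linIso h2 S₃ T₃ hS₃ hT₃ hu3m hu3p hx3
  have d3 : S₃.SameDisc T₃ := DISC.sameDisc_of_iso S₃ T₃ hS₃ i3
  -- the factorisations
  obtain ⟨C, E₂, eC, hBC, yn, y₄, hCorth, hgC, hyn, hy₄, hθg⟩ :=
    factor h2 Q B hQB g S₁ S₂ S₃ S₂₃ hS₁ hS₂ hS₃ hsum hsum23 hn1 hn2
  obtain ⟨C', E₂', eC', hBC', yn', y₄', hCorth', hgC', hyn', hy₄', hθg'⟩ :=
    factor h2 Q B hQB g' T₁ T₂ T₃ T₂₃ hT₁ hT₂ hT₃ tsum tsum23 tn1 tn2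
  -- the complements are isometric
  have dC : C.SameDisc C' := DISC.sameDisc_cancel _ _ C S₃ C' T₃ hS₃ hT₃ hCorth hCorth'
    ⟨eC, hBC, hgC⟩ ⟨eC', hBC', hgC'⟩ hSS d3
  obtain ⟨φC, hφC⟩ := CLASSIF.exists_isometry h2 C C' hCorth hCorth' dC
  obtain ⟨ψ, hψB, hψg⟩ := i3
  obtain ⟨φ, hφB, hφ⟩ := CONJREST.exists_conj _ _ C C' S₃ T₃ eC hBC eC' hBC' φC hφC ψ hψB hψg
  -- the conjugating element
  obtain ⟨Φ, hΦ⟩ : ∃ Φ : Module.End F (ι → F), Φ = φ.toLinearMap := ⟨_, rfl⟩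
  have hΦB : ∀ u v : ι → F, B (Φ u) (Φ v) = B u v := by
    subst hΦ
    exact hφB
  obtain ⟨w, hw⟩ := TOG.exists_mem ⇑Q B hQB Φ hΦB
  have hconj : w * y₄ = y₄' * w := by
    apply eq_of_toLin
    rw [toLin_mul, toLin_mul, hw, hy₄, hy₄']
    subst hΦ
    apply LinearMap.ext
    intro v
    exact hφ v
  have hθ4 : theta Q y₄ = theta Q y₄' := by
    have h1 := congrArg (theta Q) hconj
    rw [map_mul, map_mul, mul_comm] at h1
    exact mul_right_cancel h1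
  have hθn : theta Q yn = theta Q yn' := by
    rw [hθg, hθg', hθ4] at hθ
    exact mul_right_cancel hθ
  -- the discriminants of the `(-1)`-parts
  have hdim : Module.finrank F S₂.V = Module.finrank F T₂.V := by
    obtain ⟨x2, -⟩ := hx2
    exact LinearEquiv.finrank_eq x2
  obtain ⟨b⟩ : Nonempty (Module.Basis (Fin (Module.finrank F S₂.V)) F S₂.V) :=
    ⟨Module.finBasis F S₂.V⟩
  obtain ⟨b'⟩ : Nonempty (Module.Basis (Fin (Module.finrank F S₂.V)) F T₂.V) :=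
    ⟨Module.finBasisOfFinrankEq F T₂.V hdim.symm⟩
  obtain ⟨G1, N1, O1⟩ := neg_data B S₂ hS₂ E₂ b _ hyn
  obtain ⟨G2, N2, O2⟩ := neg_data B T₂ hT₂ E₂' b' _ hyn'
  have hsq := (THNEG.theta_eq_iff h2 Q B hQB _ _ _
    (by rw [G1]; exact DISC.det_ne_zero_of_nondeg S₂.B hS₂.nondeg b)
    (by rw [G2]; exact DISC.det_ne_zero_of_nondeg T₂.B hT₂.nondeg b')
    yn yn' N1 O1 N2 O2).1 hθn
  rw [G1, G2] at hsq
  have d2 : S₂.SameDisc T₂ := ⟨_, b, b', hsq⟩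
  have u2 := UNIDISC.sameDisc_iff h2 S₂.neg T₂.neg (OUNITG.isOrth_neg S₂ hS₂)
    (OUNITG.isOrth_neg T₂ hT₂) cm _ _ hus2 tus2 N hvanm
  exact u2.1 d2

end D2

end Cfsg.Agent.S2560P
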