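import Mathlib
import Cfsg.Agent.Helper17.S2560D2
import Cfsg.Agent.Helper29.S2560CFINAL
import Cfsg.Agent.Helper25.S2560ABSASM
import Cfsg.Agent.Helper7.S2560D3
import Cfsg.Agent.Helper25.S2560KPSI
import Cfsg.Agent.Helper29.S2560SAMEDET

/-! # S2560 chapter (S): the final upper bound `10 k(Ω_{2n+1}(q)) ≤ 73 q^n` (helper17). -/

set_option autoImplicit false

namespace Cfsg.Agent.S2560P

open Polynomial Cfsg.Agent.Helper2.SympInvol Cfsg.Agent.S2676P Cfsg.Agent.S2478P Cfsg.Agent.S2481P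
  Cfsg.Agent.S2482P Cfsg.Agent.S2558P Cfsg.Agent.Helper28.Spin

universe u

variable {F : Type u} [Field F] [Fintype F] {ι : Type} [Fintype ι] [DecidableEq ι]

namespace FINAL

omit [Fintype F] in
theorem nsq_eq (r : ℕ) (s : ℕ → Bool × Bool) : nsq r s = nsqp r s + nsqm r s := by
  unfold nsq nsqp nsqm
  rw [Finset.sum_add_distrib]

theorem nsqm_add (r : ℕ) (s s' : ℕ → Bool × Bool) :
    nsqm r s + nsqm r s' = ∑ m ∈ Finset.range (r + 1), ((s m).2.toNat + (s' m).2.toNat) := by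
  unfold nsqm
  rw [Finset.sum_add_distrib]

omit [Fintype F] in
theorem not_sq_dvd_of_rootMultiplicity_le_one (p : F[X]) (hp : p ≠ 0)
    (h : p.rootMultiplicity (-1) ≤ 1) : ¬ (X + 1 : F[X]) ^ 2 ∣ p := by
  intro hd
  have h1 : (X - C (-1 : F)) ^ 2 ∣ p := by
    rwa [C_neg, C_1, sub_neg_eq_add]
  have := (le_rootMultiplicity_iff hp).2 h1
  omega

/-- the upper bound for a general quadratic form of odd dimension `2n+1` -/
theorem upper (hodd : Odd (Fintype.card F)) (h2 : (2 : F) ≠ 0) (n : ℕ) (hn : 1 ≤ n)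
    (Q : QuadraticForm F (ι → F)) (B : LinearMap.BilinForm F (ι → F)) (hQB : IsPolar ⇑Q B)
    (e : ι ≃ Fin (2 * n + 1)) :
    10 * Nat.card (ConjClasses ↥(Cfsg.Omega F ⇑Q)) ≤ 73 * Fintype.card F ^ n := by
  classical
  have hcard : Fintype.card ι = 2 * n + 1 := by
    rw [Fintype.card_congr e, Fintype.card_fin]
  obtain ⟨K, z, hKn, hz, hzΩ, hzK, hΩK, hK, hidx, hθK⟩ := KPSI.exists_K h2 Q B hQB
    (by rw [hcard]; exact ⟨n, by ring⟩) (by rw [hcard]; omega)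
  have := hKn
  -- the data of an element
  have hex : ∀ g : Cfsg.isometryGroup F ⇑Q, ∃ x ∈ SO F (2 * n + 1) (2 * n + 1),
      RelO B e ((g : Matrix.GeneralLinearGroup ι F) : Matrix ι ι F) x :=
    fun g => OMEM.exists_rel h2 ⇑Q B hQB e g
  choose dK hdSO hdrel using hex
  set RK : Set ((ℕ → F[X]) × (ℕ → Bool × Bool)) :=
    {x | x ∈ SO F (2 * n + 1) (2 * n + 1) ∧ ∃ g ∈ K,
      RelO B e ((g : Matrix.GeneralLinearGroup ι F) : Matrix ι ι F) x} with hRKdef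
  set RS : Set (ℕ → F[X]) :=
    {t | ∃ g : Cfsg.isometryGroup F ⇑Q, Subgroup.centralizer {g} ≤ K ∧
      ∃ x ∈ SO F (2 * n + 1) (2 * n + 1), x.1 = t ∧
        RelO B e ((g : Matrix.GeneralLinearGroup ι F) : Matrix ι ι F) x} with hRSdef
  have hRK : RK ⊆ SO F (2 * n + 1) (2 * n + 1) := fun x hx => hx.1
  -- parities
  have hpm : ∀ x ∈ RK, ∀ x' ∈ RK, x.1 = x'.1 →
      Even (nsqp (2 * n + 1) x.2 + nsqp (2 * n + 1) x'.2) ∧
        Even (nsqm (2 * n + 1) x.2 + nsqm (2 * n + 1) x'.2) := by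
    rintro x ⟨hx, g, hgK, hg⟩ x' ⟨hx', g', hgK', hg'⟩ htt
    have hdet := SAMEDET.detHom_eq Q B e g g' x x' hg hg' htt
    have hθ := hθK g hgK g' hgK' hdet
    have hm := D2.even_nsqm h2 Q B hQB e g g' x x' hg hg' hx.1.1 htt hθ
    rw [← nsqm_add] at hm
    have ht := OPAR.even_nsq h2 ⇑Q B hQB e g g' x x' hg hg' hx.1.1 htt
    rw [nsq_eq, nsq_eq] at ht
    refine ⟨?_, hm⟩
    have h3 : nsqp (2 * n + 1) x.2 + nsqm (2 * n + 1) x.2 +
        (nsqp (2 * n + 1) x'.2 + nsqm (2 * n + 1) x'.2) =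
        (nsqp (2 * n + 1) x.2 + nsqp (2 * n + 1) x'.2) +
        (nsqm (2 * n + 1) x.2 + nsqm (2 * n + 1) x'.2) := by ring
    rw [h3] at ht
    exact (Nat.even_add.1 ht).2 hm
  -- centralizers
  have hcent : ∀ g y : Cfsg.isometryGroup F ⇑Q, Subgroup.centralizer {g} ≤ K → y * g = g * y →
      y ∈ K := by
    intro g y hC hy
    apply hC
    rw [Subgroup.mem_centralizer_iff]
    intro h hh
    rw [Set.mem_singleton_iff] at hh
    rw [hh]
    exact hy.symm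
  have hCθ : ∀ g g' : Cfsg.isometryGroup F ⇑Q, Subgroup.centralizer {g} ≤ K →
      Subgroup.centralizer {g'} ≤ K → ∀ y y' : Cfsg.isometryGroup F ⇑Q, y * g = g * y →
      y' * g' = g' * y' → detHom Q y = detHom Q y' → theta Q y = theta Q y' :=
    fun g g' hC hC' y y' hy hy' hd => hθK y (hcent g y hC hy) y' (hcent g' y' hC' hy') hd
  have hRS : RS ⊆ TOone F (2 * n + 1) (2 * n + 1) := by
    rintro t ⟨g, hC, x, hx, rfl, hg⟩
    refine ⟨hx.1, fun m hm => ?_⟩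
    have h1 := D3.mult_le_one h2 Q B hQB e g x hg hx.1.1 (hCθ g g hC hC) m hm
    exact not_sq_dvd_of_rootMultiplicity_le_one _ ((hx.1.1.1 m).1.ne_zero) h1.2
  obtain ⟨hfK, hfS, hcount⟩ := count_final hodd (2 * n + 1) n RK hRK
    (fun x hx x' hx' htt => (hpm x hx x' hx' htt).1)
    (fun x hx x' hx' htt => (hpm x hx x' hx' htt).2) RS hRS
  have habs := ABSASM.eight_card_le (Cfsg.Omega F ⇑Q) K z hz hzΩ hzK hΩK hK hidx RK RS hfK hfS dK
    (fun g => (dK g).1)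
    (fun g hg => ⟨hdSO g, g, hg, hdrel g⟩)
    (fun g _ g' _ hgg => OINJ.isConj_of_rel h2 ⇑Q B hQB e g g' (dK g) (hdrel g)
      (by rw [hgg]; exact hdrel g'))
    (fun g hC => ⟨g, hC, dK g, hdSO g, rfl, hdrel g⟩)
    (fun g g' hC hC' htt => by
      have hm1 : ∀ m, Odd m → ((dK g).1 m).rootMultiplicity 1 ≤ 1 ∧
          ((dK g).1 m).rootMultiplicity (-1) ≤ 1 := fun m hm =>
        D3.mult_le_one h2 Q B hQB e g (dK g) (hdrel g) (hdSO g).1.1 (hCθ g g hC hC) m hm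
      have hs := D3.signs_eq h2 Q B hQB e g g' (dK g) (dK g') (hdrel g) (hdrel g') (hdSO g).1.1
        htt (hCθ g g' hC hC') hm1
      have hgg : dK g = dK g' := Prod.ext htt hs
      exact OINJ.isConj_of_rel h2 ⇑Q B hQB e g g' (dK g) (hdrel g)
        (by rw [hgg]; exact hdrel g'))
  omega

end FINAL

end Cfsg.Agent.S2560P
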