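import Mathlib
import Cfsg.Agent.Helper17.S2862CP2core
import Cfsg.Agent.Helper20.S2862CP1

/-! Board `s2862pieces`, row CP2: `CP_normal` (wrapper of `CP2_aux_normal` with `CP_abel`). -/

set_option autoImplicit false

namespace Cfsg.Agent.S2862P

open Cfsg
open Cfsg.Agent.Helper14 (cj)
open Subgroup
open scoped commutatorElement

variable {G : Type*} [Group G] [Finite G] {p : ℕ} [Fact p.Prime]
variable {H Y D L L0 Vt Vb : Subgroup G}

/-- CP2 : every subgroup between `Vb` and `Vt` is normal in `Vt`. -/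
theorem CP_normal (C : ChiefPair p H Vt Vb) {Z : Subgroup G} (hb : Vb ≤ Z) (ht : Z ≤ Vt) :
    Vt ≤ normalizer (Z : Set G) :=
  CP2_aux_normal (CP_abel C) hb ht

end Cfsg.Agent.S2862P
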