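import Mathlib
import Cfsg.Agent.Helper7.S2862Defs
import Cfsg.Agent.Helper14.PCore
import Cfsg.Agent.Helper14.Conj
import Cfsg.Agent.Helper19.S2862CP3
import Cfsg.Agent.Helper22.S2862CP4
import Cfsg.Agent.Helper22.S2862CP7
import Cfsg.Agent.Helper10.S2862B4
import Cfsg.Agent.Helper22.S2862B7B
import Cfsg.Agent.Helper3.S2862NCE

/-! Board `s2862pieces`, rows S5a and S5c: CORES (hypothesis `hS3c` = first clause of row S3c, for all `n ∈ L0`). -/

set_option autoImplicit false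
set_option linter.unusedVariables false

namespace Cfsg.Agent.S2862P

open Cfsg
open Cfsg.Agent.Helper14 (cj)
open Subgroup
open scoped commutatorElement

variable {G : Type*} [Group G] [Finite G] {p : ℕ} [Fact p.Prime]
variable {H Y D L L0 Vt Vb : Subgroup G}

omit [Finite G] in
/-- the elements of `Vt` on which `a` acts trivially modulo `Vb`, as a subgroup (`Vt` normalises `Vb`) -/
def S5a_aux_triv (Vt Vb : Subgroup G) (a : G) (hn : Vt ≤ normalizer (Vb : Set G)) : Subgroup G where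
  carrier := {v | v ∈ Vt ∧ ⁅v, a⁆ ∈ Vb}
  one_mem' := ⟨Vt.one_mem, by simp⟩
  mul_mem' := by
    rintro v w ⟨hv, hva⟩ ⟨hw, hwa⟩
    refine ⟨Vt.mul_mem hv hw, ?_⟩
    have e : ⁅v * w, a⁆ = v * ⁅w, a⁆ * v⁻¹ * ⁅v, a⁆ := by
      simp only [commutatorElement_def]; group
    rw [e]
    exact Vb.mul_mem ((mem_normalizer_iff.mp (hn hv) _).mp hwa) hva
  inv_mem' := by
    rintro v ⟨hv, hva⟩
    refine ⟨Vt.inv_mem hv, ?_⟩
    have e : ⁅v⁻¹, a⁆ = v⁻¹ * (⁅v, a⁆)⁻¹ * v⁻¹⁻¹ := by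
      simp only [commutatorElement_def]; group
    rw [e]
    exact (mem_normalizer_iff.mp (hn (Vt.inv_mem hv)) _).mp (Vb.inv_mem hva)

/-- S5a, core: `hS3c` is the first clause of row S3c. -/
theorem S5a_aux_core (K : KHyp p H Y D L L0) (C : ChiefPair p H Vt Vb) (hnc : Noncentral H Vt Vb)
    (hS3c : ∀ n ∈ L0, cjs n (commP Vt Vb Y) = commP Vt Vb Y) {a : G}
    (ha : a ∈ Y ⊓ pCoreOf p L) : TrivOn a Vt Vb := by
  rw [Subgroup.mem_inf] at ha
  obtain ⟨haY, haO⟩ := ha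
  obtain ⟨h, hhL, hh0⟩ := K.hfar
  have hhH : h ∈ H := K.hLH hhL
  have hYH : Y ≤ H := K.hYD.trans K.hDH
  have haH : a ∈ H := hYH haY
  have hVtH : Vt ≤ H := C.le.trans (Cfsg.Agent.Helper14.pCoreOf_le p H)
  have hn : Vt ≤ normalizer (Vb : Set G) := hVtH.trans C.nb
  -- `a = h n h⁻¹` with `n ∈ L0`
  have hn0 : h⁻¹ * a * h ∈ L0 := by
    apply K.hOpL
    have hnorm := Cfsg.Agent.Helper14.le_normalizer_pCoreOf p L (L.inv_mem hhL)
    have := (mem_normalizer_iff.mp hnorm a).mp haO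
    simpa using this
  -- `a` normalises `F' = commP Vt Vb (cjs h Y)`
  have hF' : cjs a (commP Vt Vb (cjs h Y)) = commP Vt Vb (cjs h Y) := by
    have e1 : commP Vt Vb (cjs h Y) = cjs h (commP Vt Vb Y) := commP_cjs C hYH hhH
    have e2 := hS3c _ hn0
    rw [e1]
    have e3 : a * h = h * (h⁻¹ * a * h) := by group
    change ((commP Vt Vb Y).map (cj h)).map (cj a) = (commP Vt Vb Y).map (cj h)
    rw [Cfsg.Agent.Helper14.map_cj_mul, e3, ← Cfsg.Agent.Helper14.map_cj_mul]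
    have e4 : (commP Vt Vb Y).map (cj (h⁻¹ * a * h)) = commP Vt Vb Y := e2
    rw [e4]
  -- the subgroup of `Vt` on which `a` is trivial contains `C` and `F'`
  have hC : fixP Vt Vb Y ≤ S5a_aux_triv Vt Vb a hn := by
    intro v hv
    obtain ⟨hvV, hvY⟩ := (mem_fixP C hYH).mp hv
    exact ⟨hvV, hvY a haY⟩
  have hF : commP Vt Vb (cjs h Y) ≤ S5a_aux_triv Vt Vb a hn := by
    intro v hv
    have hvV : v ∈ Vt := commP_le C (by
      rintro _ ⟨y, hy, rfl⟩
      simp only [cj]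
      exact H.mul_mem (H.mul_mem hhH (hYH hy)) (H.inv_mem hhH)) hv
    refine ⟨hvV, ?_⟩
    -- `⁅v,a⁆ ∈ F ∩ F' = Vb`
    have h1 : ⁅v, a⁆ ∈ commP Vt Vb Y := by
      have : ⁅v, a⁆ ∈ ⁅Vt, Y⁆ := Subgroup.commutator_mem_commutator hvV haY
      exact (le_sup_left : ⁅Vt, Y⁆ ≤ commP Vt Vb Y) this
    have h2 : ⁅v, a⁆ ∈ commP Vt Vb (cjs h Y) := by
      have hav : a * v⁻¹ * a⁻¹ ∈ commP Vt Vb (cjs h Y) := by
        have : cj a v⁻¹ ∈ cjs a (commP Vt Vb (cjs h Y)) := ⟨v⁻¹, Subgroup.inv_mem _ hv, rfl⟩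
        rw [hF'] at this
        simpa [cj] using this
      have e : ⁅v, a⁆ = v * (a * v⁻¹ * a⁻¹) := by rw [commutatorElement_def]; group
      rw [e]
      exact Subgroup.mul_mem _ hv hav
    have h3 := B7b K C hnc hhL hh0
    rw [← h3]
    exact ⟨h1, h2⟩
  have hall : Vt ≤ S5a_aux_triv Vt Vb a hn := by
    exact (B4 K C hnc hhL hh0).1.symm.le.trans (sup_le hC hF)
  intro v hv
  exact (hall hv).2

/-- S5c = (d), core: `hS5a` is row S5a for all noncentral chief pairs. -/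
theorem S5c_aux_core (K : KHyp p H Y D L L0)
    (hS5a : ∀ (Vt Vb : Subgroup G) (C : ChiefPair p H Vt Vb), Noncentral H Vt Vb →
      ∀ a ∈ Y ⊓ pCoreOf p L, TrivOn a Vt Vb) : Y ⊓ pCoreOf p L ≤ pCoreOf p H := by
  intro a ha
  have haH : a ∈ H := K.hDH (K.hYD (Subgroup.mem_inf.mp ha).1)
  apply S5b K.hchar haH
  intro Vt Vb C
  by_cases hnc : Noncentral H Vt Vb
  · exact hS5a Vt Vb C hnc a ha
  · unfold Noncentral at hnc
    rw [not_not] at hnc
    intro v hv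
    exact hnc (Subgroup.commutator_mem_commutator hv haH)

end Cfsg.Agent.S2862P

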