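import Mathlib
import Cfsg.Agent.Helper27.S3001QDefs2
import Cfsg.Agent.Helper27.S3001G1
import Cfsg.Agent.Helper13.S3001G2
import Cfsg.Agent.Helper21.S3001G4
import Cfsg.Agent.Helper19.S3001G3
import Cfsg.Agent.Helper6.S3001G5
import Cfsg.Agent.Helper15.S3001G9a
import Cfsg.Agent.Helper8.S3001G9b

/-! S3001 quotient dictionary (board `s3001qpieces`), row S7: pull-back of the conclusion of S3000. -/

set_option autoImplicit false

namespace Cfsg.Agent.S3001P

open Cfsg.Agent.S2789P Cfsg.Agent.S2999P Cfsg.Agent.S3000P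
open scoped commutatorElement

universe u

variable {G : Type u} [Group G]

theorem S7_aux_comm_le {N X Y : Subgroup G} (hX : X ≤ N) (hY : Y ≤ N) : ⁅X, Y⁆ ≤ N := by
  rw [Subgroup.commutator_le]
  intro a ha b hb
  exact N.mul_mem (N.mul_mem (N.mul_mem (hX ha) (hY hb)) (N.inv_mem (hX ha))) (N.inv_mem (hY hb))

theorem S7_aux_map_conj_le {N X : Subgroup G} {t : G} (ht : t ∈ N) (hX : X ≤ N) :
    X.map (MulAut.conj t).toMonoidHom ≤ N := by
  rintro _ ⟨x, hx, rfl⟩
  simp only [MulEquiv.coe_toMonoidHom, MulAut.conj_apply]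
  exact N.mul_mem (N.mul_mem ht (hX hx)) (N.inv_mem ht)

variable {p : ℕ}

/-- the pull-back for an arbitrary family `E` of subgroups of `P`, the family upstairs being `hat R (E i)` -/
theorem S7_aux_main {R V P Tg : Subgroup G} (hV : V ≤ NR R) (hRV : R ≤ V) (hP : P ≤ NR R) (hPR : P ⊓ R = ⊥) (hTg : Tg ≤ P)
    {r : ℕ} (E : Fin r → Subgroup G) (hEP : ∀ i, E i ≤ P)
    (h : ConclB p (hat R V) (hat R P) (hat R Tg) r (fun i => hat R (E i))) : ConclPBB p R V P Tg r E := by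
  obtain ⟨hr, -, hcomm, hdir, hgen, hconj, hVdec, hVV, hloc⟩ := h
  simp only at hcomm hdir hgen hconj hVdec hVV hloc
  have hEN : ∀ i, E i ≤ NR R := fun i => (hEP i).trans hP
  have hVEN : ∀ i, ⁅V, E i⁆ ≤ NR R := fun i => S7_aux_comm_le hV (hEN i)
  have hbot : ∀ X : Subgroup G, X ≤ P → hat R X = ⊥ → X = ⊥ := by
    intro X hXP hX
    have h1 : X ≤ R := (hat_eq_bot_iff (hXP.trans hP)).mp hX
    have h2 : X ≤ P ⊓ R := le_inf hXP h1
    rw [hPR] at h2
    exact le_bot_iff.mp h2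
  have hiSupP : (⨆ i, E i) ≤ P := iSup_le hEP
  have : Nonempty (Fin r) := ⟨⟨0, hr⟩⟩
  refine ⟨hr, hEP, ?_, ?_, ?_, ?_, ?_, ?_, ?_⟩
  · -- commuting
    intro i j hij
    apply hbot _ (S7_aux_comm_le (hEP i) (hEP j))
    rw [hat_commutator (hEN i) (hEN j)]
    exact hcomm i j hij
  · -- direct
    intro i
    apply hbot _ (inf_le_left.trans (hEP i))
    have e1 : hat R (⨆ j ∈ {j | j ≠ i}, E j) = ⨆ j ∈ {j | j ≠ i}, hat R (E j) := by
      rw [hat_iSup (fun j => ⨆ (_ : j ∈ {j | j ≠ i}), E j) (fun j => iSup_le fun _ => hEN j)]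
      refine iSup_congr fun j => ?_
      rw [hat_iSup (fun _ : j ∈ {j | j ≠ i} => E j) (fun _ => hEN j)]
    have e2 : hat R (E i ⊓ ⨆ j ∈ {j | j ≠ i}, E j) ≤ hat R (E i) ⊓ hat R (⨆ j ∈ {j | j ≠ i}, E j) :=
      le_inf (hat_mono inf_le_left) (hat_mono inf_le_right)
    rw [e1, hdir i] at e2
    exact le_bot_iff.mp e2
  · -- generation
    apply hat_inj_on hP hPR (sup_le hiSupP hTg) le_rfl
    rw [hat_sup (hiSupP.trans hP) (hTg.trans hP), hat_iSup E hEN]
    exact hgen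
  · -- conjugacy
    intro i j
    obtain ⟨t, ht, htE⟩ := hconj i j
    obtain ⟨x, hxT, rfl⟩ := mem_hat.mp ht
    refine ⟨(x : G), hxT, ?_⟩
    apply hat_inj_on hP hPR (S7_aux_map_conj_le (hTg hxT) (hEP i)) (hEP j)
    rw [hat_map_conj x]
    exact htE
  · -- the decomposition of `V`
    have hpreV : pre R (hat R V) = V := by rw [pre_hat hV]; exact sup_eq_left.mpr hRV
    have h1 := congrArg (pre R) hVdec
    rw [pre_sup, hpreV, pre_iSup] at h1
    have h2 : pre R (hat R V ⊓ Subgroup.centralizer ((⨆ i, hat R (E i) : Subgroup (QG R)) : Set (QG R))) =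
        fixMod R V (⨆ i, E i) := by
      unfold fixMod
      rw [pre_inf, hpreV, hat_iSup E hEN]
    have h3 : ∀ i, pre R ⁅hat R V, hat R (E i)⁆ = ⁅V, E i⁆ ⊔ R := by
      intro i
      rw [← hat_commutator hV (hEN i), pre_hat (hVEN i)]
    rw [h2] at h1
    simp only [h3] at h1
    have hRfix : R ≤ fixMod R V (⨆ i, E i) := by
      unfold fixMod
      exact le_inf hRV (R_le_pre _)
    apply le_antisymm
    · conv_rhs => rw [← h1]
      exact sup_le_sup_left (iSup_mono fun i => le_sup_left) _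
    · conv_lhs => rw [← h1]
      apply sup_le le_sup_left
      apply iSup_le
      intro i
      exact sup_le ((le_iSup (fun i => ⁅V, E i⁆) i).trans le_sup_right) (hRfix.trans le_sup_left)
  · -- `[V, E i, E j] ≤ R`
    intro i j hij
    rw [← hat_eq_bot_iff (S7_aux_comm_le (hVEN i) (hEN j)), hat_commutator (hVEN i) (hEN j), hat_commutator hV (hEN i)]
    exact hVV i j hij
  · -- the local structure
    intro i
    obtain ⟨n, hn, hcase⟩ := hloc i
    refine ⟨n, hn, ?_⟩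
    have hER : E i ⊓ R = ⊥ := by
      have : E i ⊓ R ≤ P ⊓ R := inf_le_inf_right R (hEP i)
      rw [hPR] at this
      exact le_bot_iff.mp this
    let ei : ↥(E i) ≃* ↥(hat R (E i)) :=
      MulEquiv.ofBijective (hatHom (hEN i)) ⟨hatHom_inj (hEN i) hER, hatHom_surj (hEN i)⟩
    rcases hcase with ⟨F, iF, iFt, hF, ⟨ι⟩, hact⟩ | ⟨hp2, ⟨ι⟩, hact⟩
    · left
      refine ⟨F, iF, iFt, hF, ⟨ei.trans ι⟩, ?_⟩
      have h1 := sl2_pull (hEN i) hact
      rw [pre_inf, ← hat_commutator hV (hEN i), pre_hat (hVEN i)] at h1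
      exact h1
    · right
      refine ⟨hp2, ⟨ei.trans ι⟩, ?_⟩
      have h1 := perm_pull (hEN i) hact
      rw [pre_inf, ← hat_commutator hV (hEN i), pre_hat (hVEN i)] at h1
      exact h1

/-- S7: pull-back of the conclusion of S3000 -/
theorem QPULL {R V P Tg : Subgroup G} (hV : V ≤ NR R) (hRV : R ≤ V) (hP : P ≤ NR R) (hPR : P ⊓ R = ⊥) (hTg : Tg ≤ P)
    (h : Concl p (hat R V) (hat R P) (hat R Tg)) : ConclPB p R V P Tg := by
  obtain ⟨r, Eh, hB⟩ := Concl_iff.mp h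
  have hE : ∀ i, hat R (P ⊓ pre R (Eh i)) = Eh i := fun i => hat_P_inf_pre hP (hB.2.1 i)
  have hfun : (fun i => hat R (P ⊓ pre R (Eh i))) = Eh := funext hE
  refine ConclPB_iff.mpr ⟨r, fun i => P ⊓ pre R (Eh i), ?_⟩
  apply S7_aux_main hV hRV hP hPR hTg (fun i => P ⊓ pre R (Eh i)) (fun i => inf_le_left)
  rw [hfun]
  exact hB

end Cfsg.Agent.S3001P

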