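import Mathlib
import Cfsg.Prelude.Def_Local
import Cfsg.Agent.S0058
import Cfsg.Agent.Helper7.Quasisimple
import Cfsg.Agent.Helper19.Cores
import Cfsg.Agent.Helper3.KleinFour
import Cfsg.Agent.Helper7.PComponent3

/-! Auxiliary lemmas for S3153 (standard subgroup `P`, `m₂(C(P)) ≤ 1`, `t ↦ t^g ∈ P C(P)`:
`[P, O(X)] = 1`).  Elementary: tight embedding, the three subgroups lemma, the dichotomy for normal
subgroups of quasisimple groups and generation by centralisers (S0058). -/

set_option autoImplicit false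

namespace Cfsg.Agent.Helper17.S3153

open Subgroup

variable {X : Type*} [Group X]

theorem core_normal (p : ℕ) : (Cfsg.pPrimeCore p X).Normal := by
  unfold Cfsg.pPrimeCore
  exact Subgroup.sSup_normal _ (fun H hH => hH.1)

/-- conjugation by `g`, as a map on subgroups, in elementwise form. -/
theorem mem_map_conj_iff {K : Subgroup X} {g y : X} :
    y ∈ K.map (MulAut.conj g).toMonoidHom ↔ g⁻¹ * y * g ∈ K := by
  constructor
  · rintro ⟨k, hk, rfl⟩
    have : g⁻¹ * ((MulAut.conj g).toMonoidHom k) * g = k := by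
      simp [MulAut.conj_apply]; group
    rw [this]; exact hk
  · intro h
    refine ⟨g⁻¹ * y * g, h, ?_⟩
    simp [MulAut.conj_apply]; group

theorem sq_eq_one_of_orderOf_two {t : X} (ht : orderOf t = 2) : t * t = 1 := by
  have := pow_orderOf_eq_one t
  rw [ht, pow_two] at this
  exact this

theorem ne_one_of_orderOf_two {t : X} (ht : orderOf t = 2) : t ≠ 1 := by
  intro h
  rw [h, orderOf_one] at ht
  norm_num at ht

theorem orderOf_two_of {t : X} (h1 : t ≠ 1) (h2 : t * t = 1) : orderOf t = 2 := by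
  have : t ^ 2 = 1 := by rw [pow_two]; exact h2
  exact orderOf_eq_prime this h1

/-- In a group whose elementary abelian 2-subgroups have order at most 2, two commuting involutions
are equal. -/
theorem inv_unique_of_rank_one {K : Subgroup X} (hr : Cfsg.PRankLE 2 1 ↥K) {a b : X}
    (ha : a ∈ K) (hb : b ∈ K) (ha1 : a ≠ 1) (hb1 : b ≠ 1) (ha2 : a * a = 1) (hb2 : b * b = 1)
    (hab : a * b = b * a) : a = b := by
  by_contra hne
  let a' : ↥K := ⟨a, ha⟩
  let b' : ↥K := ⟨b, hb⟩
  have ha2' : a' * a' = 1 := Subtype.ext ha2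
  have hb2' : b' * b' = 1 := Subtype.ext hb2
  have hab' : a' * b' = b' * a' := Subtype.ext hab
  have h1a : a' ≠ 1 := fun h => ha1 (congrArg Subtype.val h)
  have h1b : b' ≠ 1 := fun h => hb1 (congrArg Subtype.val h)
  have hab0 : a' ≠ b' := fun h => hne (congrArg Subtype.val h)
  let A : Subgroup ↥K := Cfsg.Agent.Helper3.kleinOf a' b' ha2' hb2' hab'
  have hca : ∀ x ∈ A, Commute a' x := fun x hx =>
    Cfsg.Agent.Helper3.commute_of_mem_kleinOf (Commute.refl a') hab' hx
  have hcb : ∀ x ∈ A, Commute b' x := fun x hx =>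
    Cfsg.Agent.Helper3.commute_of_mem_kleinOf (Commute.symm hab') (Commute.refl b') hx
  have hAc : IsMulCommutative A := by
    refine ⟨⟨?_⟩⟩
    rintro ⟨x, hx⟩ ⟨y, hy⟩
    apply Subtype.ext
    exact Cfsg.Agent.Helper3.commute_of_mem_kleinOf (hca x hx).symm (hcb x hx).symm hy
  have hA2 : ∀ x ∈ A, x ^ 2 = 1 := fun x hx => by
    rw [pow_two]; exact Cfsg.Agent.Helper3.sq_eq_one_of_mem_kleinOf hx
  have hcard := hr A hAc hA2
  have h4 : Nat.card A = 4 := Cfsg.Agent.Helper3.card_kleinOf h1a h1b hab0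
  rw [h4] at hcard
  norm_num at hcard

theorem perfect_commutator_eq {P : Subgroup X} (hperf : Group.IsPerfect ↥P) : ⁅P, P⁆ = P := by
  have h := hperf.commutator_eq_top
  have h2 := congrArg (Subgroup.map P.subtype) h
  rw [_root_.commutator_def, Subgroup.map_commutator, ← MonoidHom.range_eq_map,
    Subgroup.range_subtype] at h2
  exact h2

/-- `P` perfect, `D` a subgroup such that every commutator `d x d⁻¹ x⁻¹` (`d ∈ D`, `x ∈ P`)
centralises `P`.  Then `D` centralises `P` (three subgroups lemma). -/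
theorem centralizes_of_comm_central {P D : Subgroup X} (hperf : Group.IsPerfect ↥P)
    (h : ∀ d ∈ D, ∀ x ∈ P, ∀ y ∈ P, (d * x * d⁻¹ * x⁻¹) * y = y * (d * x * d⁻¹ * x⁻¹)) :
    ∀ d ∈ D, ∀ x ∈ P, d * x = x * d := by
  have h1 : ⁅D, P⁆ ≤ centralizer (P : Set X) := by
    rw [Subgroup.commutator_le]
    intro d hd x hx
    rw [Subgroup.mem_centralizer_iff]
    intro y hy
    rw [commutatorElement_def]
    exact (h d hd x hx y hy).symm
  have h2 : ⁅⁅D, P⁆, P⁆ = ⊥ := by
    rw [Subgroup.commutator_eq_bot_iff_le_centralizer]; exact h1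
  have h3 : ⁅⁅P, D⁆, P⁆ = ⊥ := by rw [Subgroup.commutator_comm P D]; exact h2
  have h4 : ⁅⁅P, P⁆, D⁆ = ⊥ := Subgroup.commutator_commutator_eq_bot_of_rotate h3 h2
  rw [perfect_commutator_eq hperf, Subgroup.commutator_eq_bot_iff_le_centralizer] at h4
  intro d hd x hx
  have := h4 hx
  rw [Subgroup.mem_centralizer_iff] at this
  exact this d hd

/-- dichotomy: a subgroup `M ≤ P` normalised by the quasisimple `P` is all of `P` or central. -/
theorem qs_dichotomy {P M : Subgroup X} (hq : Cfsg.IsQuasisimple ↥P) (hMP : M ≤ P)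
    (hn : ∀ x ∈ P, ∀ m ∈ M, x * m * x⁻¹ ∈ M) :
    P ≤ M ∨ ∀ m ∈ M, ∀ x ∈ P, m * x = x * m := by
  haveI : (M.subgroupOf P).Normal := ⟨fun m hm x => by
    rw [Subgroup.mem_subgroupOf] at hm ⊢
    simpa using hn x x.2 m hm⟩
  rcases Cfsg.Agent.Helper7.IsQuasisimple.normal_eq_top_or_le_center hq (M.subgroupOf P) with h | h
  · left
    intro x hx
    have : (⟨x, hx⟩ : ↥P) ∈ M.subgroupOf P := by rw [h]; trivial
    exact this
  · right
    intro m hm x hx
    have hm' : (⟨m, hMP hm⟩ : ↥P) ∈ M.subgroupOf P := hm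
    have h1 := h hm'
    rw [Subgroup.mem_center_iff] at h1
    have h2 := h1 ⟨x, hx⟩
    exact (congrArg Subtype.val h2).symm

theorem central_involution_trivial [Finite X] {P : Subgroup X}
    (hZ : Odd (Nat.card ↥(center ↥P))) {z : X} (hzP : z ∈ P)
    (hc : ∀ x ∈ P, z * x = x * z) (hz2 : z * z = 1) : z = 1 := by
  let z' : ↥(center ↥P) := ⟨⟨z, hzP⟩, by
    rw [Subgroup.mem_center_iff]
    intro g
    exact Subtype.ext (hc g g.2).symm⟩
  have h2 : z' ^ 2 = 1 := by
    apply Subtype.ext; apply Subtype.ext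
    change z ^ 2 = 1
    rw [pow_two]; exact hz2
  have hd2 : orderOf z' ∣ 2 := orderOf_dvd_of_pow_eq_one h2
  have hdc : orderOf z' ∣ Nat.card ↥(center ↥P) := orderOf_dvd_natCard z'
  have hcop : Nat.Coprime 2 (Nat.card ↥(center ↥P)) := by
    rw [Nat.coprime_two_left]; exact hZ
  have h1 : orderOf z' = 1 := Nat.eq_one_of_dvd_coprimes hcop hd2 hdc
  rw [orderOf_eq_one_iff] at h1
  exact congrArg (fun w : ↥(center ↥P) => ((w : ↥P) : X)) h1

open scoped Pointwise in
theorem mem_sup_centralizer {P : Subgroup X} {y : X} (hy : y ∈ P ⊔ centralizer (P : Set X)) :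
    ∃ p ∈ P, ∃ k ∈ centralizer (P : Set X), y = p * k := by
  have h := Subgroup.coe_mul_of_right_le_normalizer_left P (centralizer (P : Set X))
    (Subgroup.centralizer_le_normalizer _)
  have hy' : y ∈ ((P ⊔ centralizer (P : Set X) : Subgroup X) : Set X) := hy
  rw [h] at hy'
  obtain ⟨p, hp, k, hk, rfl⟩ := hy'
  exact ⟨p, hp, k, hk, rfl⟩

/-- tight embedding: an involution of `K ∩ K^x` forces `x ∈ N(K)`. -/
theorem mem_normalizer_of_tight [Finite X] {K : Subgroup X}
    (htight : ∀ x : X, x ∉ normalizer (K : Set X) →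
      Odd (Nat.card ↥(K ⊓ K.map (MulAut.conj x).toMonoidHom)))
    {u x : X} (hu : orderOf u = 2) (huK : u ∈ K) (hux : x⁻¹ * u * x ∈ K) :
    x ∈ normalizer (K : Set X) := by
  by_contra hx
  have hodd := htight x hx
  have hmem : u ∈ K ⊓ K.map (MulAut.conj x).toMonoidHom :=
    ⟨huK, mem_map_conj_iff.2 hux⟩
  let u' : ↥(K ⊓ K.map (MulAut.conj x).toMonoidHom) := ⟨u, hmem⟩
  have ho : orderOf u' = 2 := by
    rw [← hu]; exact Subgroup.orderOf_mk u hmem
  have hd : 2 ∣ Nat.card ↥(K ⊓ K.map (MulAut.conj x).toMonoidHom) := by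
    rw [← ho]; exact orderOf_dvd_natCard u'
  rcases hodd with ⟨m, hm⟩
  omega

/-- the unique involution of a 2-subgroup `Q ≤ K` (`K` of 2-rank ≤ 1) is central in `Q`. -/
theorem involution_central_of_rank_one [Finite X] {K Q : Subgroup X}
    (hr : Cfsg.PRankLE 2 1 ↥K) (hQK : Q ≤ K) (hQ2 : IsPGroup 2 ↥Q) {t : X} (ht : orderOf t = 2)
    (htQ : t ∈ Q) : ∀ y ∈ Q, y * t = t * y := by
  haveI : Fact (Nat.Prime 2) := ⟨Nat.prime_two⟩
  haveI : Nontrivial ↥Q := ⟨⟨⟨t, htQ⟩, 1, fun h => ne_one_of_orderOf_two ht (congrArg Subtype.val h)⟩⟩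
  haveI := hQ2.center_nontrivial
  have h2 : 2 ∣ Nat.card ↥(center ↥Q) := by
    have hZ2 : IsPGroup 2 ↥(center ↥Q) := hQ2.to_subgroup _
    obtain ⟨n, hn⟩ := IsPGroup.iff_card.mp hZ2
    have hn0 : n ≠ 0 := by
      rintro rfl
      rw [pow_zero] at hn
      have : Subsingleton ↥(center ↥Q) := (Nat.card_eq_one_iff_unique.mp hn).1
      exact not_nontrivial _ ‹Nontrivial ↥(center ↥Q)›
    rw [hn]; exact dvd_pow_self 2 hn0
  obtain ⟨z, hz⟩ := exists_prime_orderOf_dvd_card' 2 h2
  -- `z` is a central involution of `Q`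
  have hzo : orderOf ((z : ↥Q) : X) = 2 := by
    rw [← hz]
    rw [Subgroup.orderOf_coe, Subgroup.orderOf_coe]
  have hzc : ∀ y ∈ Q, y * ((z : ↥Q) : X) = ((z : ↥Q) : X) * y := by
    intro y hy
    have := Subgroup.mem_center_iff.1 z.2 ⟨y, hy⟩
    exact congrArg Subtype.val this
  have hzt : ((z : ↥Q) : X) = t := by
    apply inv_unique_of_rank_one hr (hQK (z : ↥Q).2) (hQK htQ) (ne_one_of_orderOf_two hzo)
      (ne_one_of_orderOf_two ht) (sq_eq_one_of_orderOf_two hzo) (sq_eq_one_of_orderOf_two ht)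
    exact (hzc t htQ).symm
  intro y hy
  rw [← hzt]; exact hzc y hy

set_option maxHeartbeats 1600000 in
theorem main1 [Finite X] {P : Subgroup X} (hP : Cfsg.IsStandardSubgroup P)
    (hr : Cfsg.PRankLE 2 1 ↥(centralizer (P : Set X))) (hZ : Odd (Nat.card ↥(center ↥P)))
    (SX : Subgroup X) (hSN : SX ≤ normalizer (P : Set X)) (hS2 : IsPGroup 2 ↥SX)
    (hSmax : ∀ Q : Subgroup X, IsPGroup 2 ↥Q → Q ≤ normalizer (P : Set X) → SX ≤ Q → Q = SX)
    (t : X) (ht : orderOf t = 2) (htS : t ∈ SX) (htP : t ∈ centralizer (P : Set X))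
    (g : X) (hgN : ∀ s ∈ SX, g * s * g⁻¹ ∈ SX) (hgS : g ∉ SX) (hg2 : g ^ 2 ∈ SX)
    (hgt : g * t * g⁻¹ ∈ P ⊔ centralizer (P : Set X)) :
    (∃ p ∈ P, orderOf p = 2) ∧
      P ≤ centralizer ((Cfsg.pPrimeCore 2 X : Subgroup X) : Set X) := by
  obtain ⟨hq, ⟨_, htight⟩, _, hNN⟩ := hP
  have hperf : Group.IsPerfect ↥P := hq.1
  have ht2 : t * t = 1 := sq_eq_one_of_orderOf_two ht
  have ht1 : t ≠ 1 := ne_one_of_orderOf_two ht
  have htinv : t⁻¹ = t := inv_eq_of_mul_eq_one_right ht2
  -- `K` centralises `P`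
  have hKP : ∀ k ∈ centralizer (P : Set X), ∀ x ∈ P, k * x = x * k := fun k hk x hx =>
    ((Subgroup.mem_centralizer_iff.1 hk) x hx).symm
  -- F1: an involution of `K ∩ K^x` puts `x` in `N`
  have hF1 : ∀ u x : X, orderOf u = 2 → u ∈ centralizer (P : Set X) →
      x⁻¹ * u * x ∈ centralizer (P : Set X) → x ∈ normalizer (P : Set X) := by
    intro u x hu huK hux
    rw [hNN]
    exact mem_normalizer_of_tight htight hu huK hux
  -- (A) `g ∉ N`
  have hgnorm : g ∈ normalizer (SX : Set X) := Subgroup.mem_normalizer_fintype hgN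
  have hgNot : g ∉ normalizer (P : Set X) := by
    intro hgNm
    apply hgS
    have hz2 : IsPGroup 2 ↥(zpowers g) := by
      obtain ⟨k, hk⟩ := hS2 ⟨g ^ 2, hg2⟩
      have hk' : (g ^ 2) ^ (2 ^ k) = 1 := congrArg Subtype.val hk
      have hgk : g ^ (2 ^ (k + 1)) = 1 := by
        rw [pow_succ, mul_comm, pow_mul]; exact hk'
      rintro ⟨y, hy⟩
      obtain ⟨i, rfl⟩ := Subgroup.mem_zpowers_iff.1 hy
      refine ⟨k + 1, Subtype.ext ?_⟩
      change (g ^ i) ^ (2 ^ (k + 1)) = 1
      rw [← zpow_natCast, ← zpow_mul, mul_comm, zpow_mul, zpow_natCast, hgk, one_zpow]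
    have hzn : zpowers g ≤ normalizer (SX : Set X) := by
      rw [Subgroup.zpowers_le]; exact hgnorm
    have hQ2 : IsPGroup 2 ↥(zpowers g ⊔ SX) := IsPGroup.to_sup_of_normal_right' hz2 hS2 hzn
    have hQN : zpowers g ⊔ SX ≤ normalizer (P : Set X) :=
      sup_le (by rw [Subgroup.zpowers_le]; exact hgNm) hSN
    have := hSmax _ hQ2 hQN le_sup_right
    rw [← this]
    exact (le_sup_left : zpowers g ≤ zpowers g ⊔ SX) (Subgroup.mem_zpowers g)
  -- `t' = g t g⁻¹`
  set t' := g * t * g⁻¹ with ht'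
  have ht'o : orderOf t' = 2 := by
    rw [ht']
    have : g * t * g⁻¹ = MulAut.conj g t := by simp [MulAut.conj_apply]
    rw [this, MulEquiv.orderOf_eq, ht]
  have ht'2 : t' * t' = 1 := sq_eq_one_of_orderOf_two ht'o
  have ht'1 : t' ≠ 1 := ne_one_of_orderOf_two ht'o
  have ht'inv : t'⁻¹ = t' := inv_eq_of_mul_eq_one_right ht'2
  have hgt'g : g⁻¹ * t' * g = t := by rw [ht']; group
  -- `t' ≠ t`
  have ht't : t' ≠ t := by
    intro h
    apply hgNot
    apply hF1 t g ht htP
    have : g⁻¹ * t * g = t := by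
      have h1 : g * t * g⁻¹ = t := h
      calc g⁻¹ * t * g = g⁻¹ * (g * t * g⁻¹) * g := by rw [h1]
        _ = t := by group
    rw [this]; exact htP
  -- `t' ∉ K`
  have ht'K : t' ∉ centralizer (P : Set X) := by
    intro h
    apply hgNot
    apply hF1 t' g ht'o h
    rw [hgt'g]; exact htP
  -- (D) `t` is central in `SX`
  have hKnormal : ∀ s ∈ normalizer (P : Set X), ∀ k ∈ centralizer (P : Set X),
      s * k * s⁻¹ ∈ centralizer (P : Set X) := by
    intro s hs k hk
    rw [Subgroup.mem_centralizer_iff]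
    intro x hx
    -- `s⁻¹ x s ∈ P`
    have hx' : s⁻¹ * x * s ∈ P := by
      have := (Subgroup.mem_normalizer_iff''.1 hs x).1 hx
      exact this
    have h1 := hKP k hk _ hx'
    calc x * (s * k * s⁻¹) = s * ((s⁻¹ * x * s) * k) * s⁻¹ := by group
      _ = s * (k * (s⁻¹ * x * s)) * s⁻¹ := by rw [h1]
      _ = s * k * s⁻¹ * x := by group
  have hQ2 : IsPGroup 2 ↥(SX ⊓ centralizer (P : Set X)) :=
    hS2.to_le inf_le_left
  have htQ : t ∈ SX ⊓ centralizer (P : Set X) := ⟨htS, htP⟩
  have htcQ := involution_central_of_rank_one hr inf_le_right hQ2 ht htQ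
  have htcS : ∀ s ∈ SX, s * t = t * s := by
    intro s hs
    have hu : s * t * s⁻¹ ∈ SX ⊓ centralizer (P : Set X) :=
      ⟨SX.mul_mem (SX.mul_mem hs htS) (SX.inv_mem hs), hKnormal s (hSN hs) t htP⟩
    have huo : orderOf (s * t * s⁻¹) = 2 := by
      have : s * t * s⁻¹ = MulAut.conj s t := by simp [MulAut.conj_apply]
      rw [this, MulEquiv.orderOf_eq, ht]
    have hut : s * t * s⁻¹ = t := by
      apply inv_unique_of_rank_one hr hu.2 htP (ne_one_of_orderOf_two huo) ht1
        (sq_eq_one_of_orderOf_two huo) ht2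
      exact htcQ _ hu
    calc s * t = (s * t * s⁻¹) * s := by group
      _ = t * s := by rw [hut]
  -- `t'` commutes with `t`
  have ht'S : t' ∈ SX := hgN t htS
  have hcomm : t' * t = t * t' := htcS t' ht'S
  -- (F) `g t' g⁻¹ = t`
  have hgt' : g * t' * g⁻¹ = t := by
    have h1 : (g * g) * t = t * (g * g) := by
      have := htcS _ hg2
      rwa [pow_two] at this
    calc g * t' * g⁻¹ = (g * g) * t * (g * g)⁻¹ := by rw [ht']; group
      _ = t * (g * g) * (g * g)⁻¹ := by rw [h1]
      _ = t := by group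
  -- decomposition `t' = p * k`
  obtain ⟨p₀, hp₀, k₀, hk₀, hpk₀⟩ := mem_sup_centralizer hgt
  have hc₀ : k₀ * p₀ = p₀ * k₀ := hKP k₀ hk₀ p₀ hp₀
  have hZ0 : Odd (Nat.card ↥(center ↥P)) := hZ
  obtain ⟨j, hj⟩ := hZ
  set m := Nat.card ↥(center ↥P) with hm
  -- `z = p₀²` is central in `P`
  have hzPK : p₀ * p₀ * (k₀ * k₀) = 1 := by
    have : t' * t' = p₀ * p₀ * (k₀ * k₀) := by
      rw [hpk₀]
      calc p₀ * k₀ * (p₀ * k₀) = p₀ * (k₀ * p₀) * k₀ := by group
        _ = p₀ * (p₀ * k₀) * k₀ := by rw [hc₀]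
        _ = p₀ * p₀ * (k₀ * k₀) := by group
    rw [← this]; exact ht'2
  have hzK : p₀ * p₀ ∈ centralizer (P : Set X) := by
    have : p₀ * p₀ = (k₀ * k₀)⁻¹ := eq_inv_of_mul_eq_one_left hzPK
    rw [this]
    exact inv_mem (mul_mem hk₀ hk₀)
  have hzm : (p₀ * p₀) ^ m = 1 := by
    let z' : ↥(center ↥P) := ⟨⟨p₀ * p₀, mul_mem hp₀ hp₀⟩, by
      rw [Subgroup.mem_center_iff]
      intro y
      exact Subtype.ext (hKP _ hzK y y.2).symm⟩
    have h1 : z' ^ m = 1 := pow_card_eq_one'
    exact congrArg (fun w : ↥(center ↥P) => ((w : ↥P) : X)) h1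
  set p := p₀ ^ m with hpdef
  set k := k₀ ^ m with hkdef
  have hpP : p ∈ P := pow_mem hp₀ m
  have hkK : k ∈ centralizer (P : Set X) := pow_mem hk₀ m
  have hp2 : p * p = 1 := by
    rw [hpdef, ← (Commute.refl p₀).mul_pow]; exact hzm
  have hk2 : k * k = 1 := by
    have h1 : k₀ * k₀ = (p₀ * p₀)⁻¹ := eq_inv_of_mul_eq_one_right hzPK
    rw [hkdef, ← (Commute.refl k₀).mul_pow, h1, inv_pow, hzm, inv_one]
  have hpk : t' = p * k := by
    have h1 : t' ^ m = t' := by
      rw [hj, pow_succ, pow_mul, pow_two, ht'2, one_pow, one_mul]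
    have hc : Commute p₀ k₀ := hc₀.symm
    rw [← h1, hpk₀, hc.mul_pow]
  have hp1 : p ≠ 1 := by
    intro h
    apply ht'K
    rw [hpk, h, one_mul]; exact hkK
  have hpo : orderOf p = 2 := orderOf_two_of hp1 hp2
  have hpinv : p⁻¹ = p := inv_eq_of_mul_eq_one_right hp2
  have htp : t * p = p * t := hKP t htP p hpP
  have hkp : k * p = p * k := hKP k hkK p hpP
  have hkt : k = 1 ∨ k = t := by
    by_cases hk1 : k = 1
    · exact Or.inl hk1
    · right
      apply inv_unique_of_rank_one hr hkK htP hk1 ht1 hk2 ht2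
      have hk' : k = p * t' := by rw [hpk, ← mul_assoc, hp2, one_mul]
      rw [hk']
      calc p * t' * t = p * (t * t') := by rw [mul_assoc, hcomm]
        _ = (p * t) * t' := by rw [mul_assoc]
        _ = t * p * t' := by rw [htp]
        _ = t * (p * t') := by rw [mul_assoc]
  -- the odd core
  set O := Cfsg.pPrimeCore 2 X with hO
  haveI hOn : O.Normal := core_normal 2
  have hOodd : (Nat.card ↥O).Coprime 2 := Cfsg.Agent.Helper19.pPrimeCore_coprime (G := X) 2
  have hpO : p ∉ O := by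
    intro h
    have hd : 2 ∣ Nat.card ↥O := by
      have := orderOf_dvd_natCard (⟨p, h⟩ : ↥O)
      rwa [Subgroup.orderOf_mk, hpo] at this
    have := Nat.Coprime.eq_one_of_dvd hOodd.symm hd
    norm_num at this
  -- (I) `C_O(t) ≤ K`
  have hD : ∀ d ∈ O, d * t = t * d → d ∈ centralizer (P : Set X) := by
    let D : Subgroup X := O ⊓ centralizer ({t} : Set X)
    have hDmem : ∀ d, d ∈ D ↔ d ∈ O ∧ d * t = t * d := by
      intro d
      change d ∈ O ∧ d ∈ centralizer ({t} : Set X) ↔ _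
      rw [Subgroup.mem_centralizer_iff]
      constructor
      · rintro ⟨h1, h2⟩
        exact ⟨h1, (h2 t rfl).symm⟩
      · rintro ⟨h1, h2⟩
        refine ⟨h1, ?_⟩
        intro y hy
        rw [Set.mem_singleton_iff] at hy
        rw [hy]; exact h2.symm
    have hDN : ∀ d ∈ D, d ∈ normalizer (P : Set X) := by
      intro d hd
      apply hF1 t d ht htP
      have h2 := ((hDmem d).1 hd).2
      have : d⁻¹ * t * d = t := by
        calc d⁻¹ * t * d = d⁻¹ * (t * d) := by rw [mul_assoc]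
          _ = d⁻¹ * (d * t) := by rw [h2]
          _ = t := by group
      rw [this]; exact htP
    have hPD : ∀ x ∈ P, ∀ d ∈ D, x * d * x⁻¹ ∈ D := by
      intro x hx d hd
      obtain ⟨h1, h2⟩ := (hDmem d).1 hd
      rw [hDmem]
      refine ⟨hOn.conj_mem d h1 x, ?_⟩
      have hxt : t * x = x * t := hKP t htP x hx
      calc x * d * x⁻¹ * t = x * d * (x⁻¹ * t) := by rw [mul_assoc]
        _ = x * d * (t * x⁻¹) := by
            congr 1
            calc x⁻¹ * t = x⁻¹ * (t * x) * x⁻¹ := by group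
              _ = x⁻¹ * (x * t) * x⁻¹ := by rw [hxt]
              _ = t * x⁻¹ := by group
        _ = x * (d * t) * x⁻¹ := by group
        _ = x * (t * d) * x⁻¹ := by rw [h2]
        _ = (x * t) * d * x⁻¹ := by group
        _ = (t * x) * d * x⁻¹ := by rw [hxt]
        _ = t * (x * d * x⁻¹) := by group
    have hdich := qs_dichotomy hq (inf_le_right : D ⊓ P ≤ P) (by
      intro x hx m' hm'
      exact ⟨hPD x hx m' hm'.1, P.mul_mem (P.mul_mem hx hm'.2) (P.inv_mem hx)⟩)
    rcases hdich with hbad | hcen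
    · exact absurd (hbad hpP).1.1 hpO
    · have hcent := centralizes_of_comm_central (D := D) hperf (by
        intro d hd x hx y hy
        have hc : d * x * d⁻¹ * x⁻¹ ∈ D ⊓ P := by
          constructor
          · have h1 : x * d⁻¹ * x⁻¹ ∈ D := hPD x hx d⁻¹ (D.inv_mem hd)
            have : d * x * d⁻¹ * x⁻¹ = d * (x * d⁻¹ * x⁻¹) := by group
            rw [this]; exact D.mul_mem hd h1
          · have h1 : d * x * d⁻¹ ∈ P := (Subgroup.mem_normalizer_iff.1 (hDN d hd) x).1 hx
            exact P.mul_mem h1 (P.inv_mem hx)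
        exact hcen _ hc y hy)
      intro d hdO hdt
      rw [Subgroup.mem_centralizer_iff]
      intro x hx
      exact (hcent d ((hDmem d).2 ⟨hdO, hdt⟩) x hx).symm
  -- (J) `C_O(t') ≤ C_O(t)`
  have hE : ∀ e ∈ O, e * t' = t' * e → e * t = t * e := by
    intro e heO het
    set e' := g⁻¹ * e * g with he'
    have he'O : e' ∈ O := by
      have := hOn.conj_mem e heO g⁻¹
      rwa [inv_inv] at this
    have he't : e' * t = t * e' := by
      calc e' * t = g⁻¹ * (e * t') * g := by rw [he', ht']; group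
        _ = g⁻¹ * (t' * e) * g := by rw [het]
        _ = (g⁻¹ * t' * g) * (g⁻¹ * e * g) := by group
        _ = t * e' := by rw [hgt'g]
    have he'K : e' ∈ centralizer (P : Set X) := hD e' he'O he't
    have he'p : e' * p = p * e' := hKP e' he'K p hpP
    have he'k : e' * k = k * e' := by
      rcases hkt with h | h
      · rw [h, mul_one, one_mul]
      · rw [h]; exact he't
    have he't' : e' * t' = t' * e' := by
      rw [hpk, ← mul_assoc, he'p, mul_assoc, he'k, mul_assoc]
    have hee' : e = g * e' * g⁻¹ := by rw [he']; group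
    calc e * t = (g * e' * g⁻¹) * (g * t' * g⁻¹) := by rw [← hee', hgt']
      _ = g * (e' * t') * g⁻¹ := by group
      _ = g * (t' * e') * g⁻¹ := by rw [he't']
      _ = (g * t' * g⁻¹) * (g * e' * g⁻¹) := by group
      _ = t * e := by rw [hgt', ← hee']
  -- (J') `C_O(t) ≤ C_O(t')`
  have hDE : ∀ d ∈ O, d * t = t * d → d * t' = t' * d := by
    let D : Subgroup X := O ⊓ centralizer ({t} : Set X)
    let E : Subgroup X := O ⊓ centralizer ({t'} : Set X)
    have hmemc : ∀ (a d : X), d ∈ centralizer ({a} : Set X) ↔ d * a = a * d := by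
      intro a d
      rw [Subgroup.mem_centralizer_iff]
      constructor
      · intro h; exact (h a rfl).symm
      · intro h y hy
        rw [Set.mem_singleton_iff] at hy
        rw [hy]; exact h.symm
    have hED : E ≤ D := by
      rintro e ⟨h1, h2⟩
      exact ⟨h1, (hmemc t e).2 (hE e h1 ((hmemc t' e).1 h2))⟩
    have hmap : D.map (MulAut.conj g).toMonoidHom ≤ E := by
      rintro _ ⟨d, ⟨h1, h2⟩, rfl⟩
      have h2' := (hmemc t d).1 h2
      refine ⟨?_, (hmemc t' _).2 ?_⟩
      · simpa [MulAut.conj_apply] using hOn.conj_mem d h1 g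
      · change (MulAut.conj g) d * t' = t' * (MulAut.conj g) d
        rw [MulAut.conj_apply, ht']
        calc g * d * g⁻¹ * (g * t * g⁻¹) = g * (d * t) * g⁻¹ := by group
          _ = g * (t * d) * g⁻¹ := by rw [h2']
          _ = g * t * g⁻¹ * (g * d * g⁻¹) := by group
    have hcard : Nat.card ↥D ≤ Nat.card ↥E := by
      have hinj : Function.Injective ((MulAut.conj g).toMonoidHom : X →* X) :=
        (MulAut.conj g).injective
      rw [← Subgroup.card_map_of_injective (K := D) hinj]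
      exact Subgroup.card_le_of_le hmap
    have hEq : E = D := Subgroup.eq_of_le_of_card_ge hED hcard
    intro d hdO hdt
    have : d ∈ E := by
      rw [hEq]; exact ⟨hdO, (hmemc t d).2 hdt⟩
    exact (hmemc t' d).1 this.2
  -- (K) generation by centralisers: `t * t'` centralises `O`
  have hOu : ∀ o ∈ O, o * (t * t') = (t * t') * o := by
    let A : Subgroup X := Cfsg.Agent.Helper3.kleinOf t t' ht2 ht'2 hcomm.symm
    have hca : ∀ x ∈ A, Commute t x := fun x hx =>
      Cfsg.Agent.Helper3.commute_of_mem_kleinOf (Commute.refl t) hcomm.symm hx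
    have hcb : ∀ x ∈ A, Commute t' x := fun x hx =>
      Cfsg.Agent.Helper3.commute_of_mem_kleinOf hcomm (Commute.refl t') hx
    haveI hAc : IsMulCommutative ↥A := by
      refine ⟨⟨?_⟩⟩
      rintro ⟨x, hx⟩ ⟨y, hy⟩
      apply Subtype.ext
      exact Cfsg.Agent.Helper3.commute_of_mem_kleinOf (hca x hx).symm (hcb x hx).symm hy
    have hA4 : Nat.card ↥A = 4 := Cfsg.Agent.Helper3.card_kleinOf ht1 ht'1 (Ne.symm ht't)
    have hAnc : ¬ IsCyclic ↥A := by
      intro hcyc
      obtain ⟨x, hx⟩ := hcyc.exists_generator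
      have h4 : orderOf x = 4 := by
        rw [orderOf_eq_card_of_forall_mem_zpowers hx, hA4]
      have h2 : x ^ 2 = 1 := by
        apply Subtype.ext
        change (x : X) ^ 2 = 1
        rw [pow_two]; exact Cfsg.Agent.Helper3.sq_eq_one_of_mem_kleinOf x.2
      have := orderOf_dvd_of_pow_eq_one h2
      rw [h4] at this
      norm_num at this
    have hAN : A ≤ normalizer ((O : Subgroup X) : Set X) := by
      rw [Subgroup.normalizer_eq_top_iff.2 hOn]; exact le_top
    have hcop : (Nat.card ↥A).Coprime (Nat.card ↥O) := by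
      rw [hA4]
      have : (2 ^ 2 : ℕ).Coprime (Nat.card ↥O) := Nat.Coprime.pow_left 2 hOodd.symm
      simpa using this
    have hgen := Cfsg.Agent.S0058.result A O hAnc hAN hcop
    have hle : (⨆ a ∈ {a : X | a ∈ A ∧ a ≠ 1}, O ⊓ centralizer ({a} : Set X)) ≤
        centralizer ({t * t'} : Set X) := by
      apply iSup₂_le
      rintro a ⟨haA, ha1⟩ d hd
      have hdO : d ∈ O := (Subgroup.mem_inf.1 hd).1
      have hda : d ∈ centralizer ({a} : Set X) := (Subgroup.mem_inf.1 hd).2
      have hda' : d * a = a * d := by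
        rw [Subgroup.mem_centralizer_iff] at hda
        exact (hda a rfl).symm
      rw [Subgroup.mem_centralizer_iff]
      intro y hy
      rw [Set.mem_singleton_iff] at hy
      rw [hy]
      have key : ∀ d, d ∈ O → d * t = t * d → d * t' = t' * d → t * t' * d = d * (t * t') := by
        intro d _ h1 h2
        calc t * t' * d = t * (t' * d) := by rw [mul_assoc]
          _ = t * (d * t') := by rw [h2]
          _ = (t * d) * t' := by rw [mul_assoc]
          _ = (d * t) * t' := by rw [h1]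
          _ = d * (t * t') := by rw [mul_assoc]
      rcases haA with rfl | rfl | rfl | rfl
      · exact absurd rfl ha1
      · exact key d hdO hda' (hDE d hdO hda')
      · exact key d hdO (hE d hdO hda') hda'
      · exact hda'.symm
    rw [hgen] at hle
    intro o ho
    have := hle ho
    rw [Subgroup.mem_centralizer_iff] at this
    exact (this _ rfl).symm
  -- (L) conclusion
  refine ⟨⟨p, hpP, hpo⟩, ?_⟩
  have hdich := qs_dichotomy hq (inf_le_left : P ⊓ centralizer ((O : Subgroup X) : Set X) ≤ P) (by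
    intro x hx m' hm'
    refine ⟨P.mul_mem (P.mul_mem hx hm'.1) (P.inv_mem hx), ?_⟩
    exact (inferInstance : (centralizer ((O : Subgroup X) : Set X)).Normal).conj_mem m' hm'.2 x)
  rcases hdich with hgood | hcen
  · exact fun x hx => (hgood hx).2
  · exfalso
    apply hp1
    apply central_involution_trivial hZ0 hpP _ hp2
    have huO : t * t' ∈ centralizer ((O : Subgroup X) : Set X) := by
      rw [Subgroup.mem_centralizer_iff]
      intro o ho
      exact hOu o ho
    rcases hkt with hk | hk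
    · -- `t' = p`, `u = t * p`
      have ht'p : t' = p := by rw [hpk, hk, mul_one]
      rw [ht'p] at huO
      intro x hx
      have hxt : t * x = x * t := hKP t htP x hx
      have hc : x * p * x⁻¹ * p⁻¹ ∈ P ⊓ centralizer ((O : Subgroup X) : Set X) := by
        refine ⟨P.mul_mem (P.mul_mem (P.mul_mem hx hpP) (P.inv_mem hx)) (P.inv_mem hpP), ?_⟩
        have h1 : x * (t * p) * x⁻¹ * (t * p)⁻¹ ∈ centralizer ((O : Subgroup X) : Set X) :=
          mul_mem ((inferInstance : (centralizer ((O : Subgroup X) : Set X)).Normal).conj_mem _ huO x)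
            (inv_mem huO)
        have h2 : x * (t * p) * x⁻¹ * (t * p)⁻¹ = x * p * x⁻¹ * p⁻¹ := by
          have hxit : x⁻¹ * t = t * x⁻¹ := by
            calc x⁻¹ * t = x⁻¹ * (t * x) * x⁻¹ := by group
              _ = x⁻¹ * (x * t) * x⁻¹ := by rw [hxt]
              _ = t * x⁻¹ := by group
          calc x * (t * p) * x⁻¹ * (t * p)⁻¹ = (x * t) * p * x⁻¹ * p⁻¹ * t⁻¹ := by group
            _ = (t * x) * p * x⁻¹ * p⁻¹ * t⁻¹ := by rw [hxt]
            _ = t * (x * p * x⁻¹ * p⁻¹) * t⁻¹ := by group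
            _ = (x * p * x⁻¹ * p⁻¹) * t * t⁻¹ := by
                rw [hKP t htP (x * p * x⁻¹ * p⁻¹)
                  (P.mul_mem (P.mul_mem (P.mul_mem hx hpP) (P.inv_mem hx)) (P.inv_mem hpP))]
            _ = x * p * x⁻¹ * p⁻¹ := by group
        rw [← h2]; exact h1
      set c := x * p * x⁻¹ * p⁻¹ with hcdef
      have hcc : ∀ y ∈ P, c * y = y * c := hcen c hc
      have hxp : x * p * x⁻¹ = c * p := by rw [hcdef]; group
      have hcp2 : (c * p) * (c * p) = 1 := by
        rw [← hxp]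
        calc x * p * x⁻¹ * (x * p * x⁻¹) = x * (p * p) * x⁻¹ := by group
          _ = 1 := by rw [hp2]; group
      have hc2 : c * c = 1 := by
        calc c * c = c * c * (p * p) := by rw [hp2, mul_one]
          _ = c * (c * p) * p := by group
          _ = c * (p * c) * p := by rw [hcc p hpP]
          _ = (c * p) * (c * p) := by group
          _ = 1 := hcp2
      have hc1 : c = 1 := central_involution_trivial hZ0 hc.1 hcc hc2
      rw [hc1, one_mul] at hxp
      calc p * x = (x * p * x⁻¹) * x := by rw [hxp]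
        _ = x * p := by group
    · -- `t' = p * t`, `u = p`
      have hup : t * t' = p := by
        rw [hpk, hk]
        calc t * (p * t) = (t * p) * t := by rw [mul_assoc]
          _ = (p * t) * t := by rw [htp]
          _ = p := by rw [mul_assoc, ht2, mul_one]
      rw [hup] at huO
      exact hcen p ⟨hpP, huO⟩

/-- Second part: a 2-component `L ≥ P` is quasisimple, given `[P, O(X)] = 1`. -/
theorem main2 {X : Type*} [Group X] [Finite X] {P L : Subgroup X} (hperf : Group.IsPerfect ↥P)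
    (hinv : ∃ p ∈ P, orderOf p = 2)
    (hPO : P ≤ centralizer ((Cfsg.pPrimeCore 2 X : Subgroup X) : Set X))
    (hL : Cfsg.IsPComponent 2 L) (hPL : P ≤ L) : Cfsg.IsQuasisimple ↥L := by
  haveI : Fact (Nat.Prime 2) := ⟨Nat.prime_two⟩
  set O := Cfsg.pPrimeCore 2 X with hO
  haveI hOn : O.Normal := core_normal 2
  have hOodd : (Nat.card ↥O).Coprime 2 := Cfsg.Agent.Helper19.pPrimeCore_coprime (G := X) 2
  obtain ⟨p, hpP, hpo⟩ := hinv
  have hpO : p ∉ O := by
    intro h
    have hd : 2 ∣ Nat.card ↥O := by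
      have := orderOf_dvd_natCard (⟨p, h⟩ : ↥O)
      rwa [Subgroup.orderOf_mk, hpo] at this
    have := Nat.Coprime.eq_one_of_dvd hOodd.symm hd
    norm_num at this
  obtain ⟨hLsn, ⟨_, hLq⟩, hLmin⟩ := hL
  set π := QuotientGroup.mk' O with hπ
  -- `C = L ∩ C_X(O)`
  set C : Subgroup X := L ⊓ centralizer ((O : Subgroup X) : Set X) with hC
  have hCsn : C.IsSubnormal :=
    hLsn.inf (Subgroup.Normal.isSubnormal (inferInstance : (centralizer ((O : Subgroup X) : Set X)).Normal))
  have hPC : P ≤ C := le_inf hPL hPO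
  have hCL : C.map π = L.map π := by
    have hdich := qs_dichotomy (P := L.map π) (M := C.map π) hLq
      (Subgroup.map_mono inf_le_left) (by
        rintro _ ⟨l, hl, rfl⟩ _ ⟨c, hc, rfl⟩
        refine ⟨l * c * l⁻¹, ⟨L.mul_mem (L.mul_mem hl hc.1) (L.inv_mem hl), ?_⟩, by simp⟩
        exact (inferInstance : (centralizer ((O : Subgroup X) : Set X)).Normal).conj_mem c hc.2 l)
    rcases hdich with h | h
    · exact le_antisymm (Subgroup.map_mono inf_le_left) h
    · exfalso
      -- `P` would be abelian modulo `O`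
      apply hpO
      have hPP : ⁅P, P⁆ ≤ O := by
        rw [Subgroup.commutator_le]
        intro a ha b hb
        have h1 := h (π a) ⟨a, hPC ha, rfl⟩ (π b) ⟨b, hPL hb, rfl⟩
        rw [← QuotientGroup.ker_mk' O, MonoidHom.mem_ker, commutatorElement_def]
        rw [map_mul, map_mul, map_mul, map_inv, map_inv]
        change π a * π b * (π a)⁻¹ * (π b)⁻¹ = 1
        rw [h1]; group
      rw [perfect_commutator_eq hperf] at hPP
      exact hPP hpP
  have hCeq : C = L := hLmin C hCsn inf_le_left hCL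
  have hLO : L ≤ centralizer ((O : Subgroup X) : Set X) := by
    rw [← hCeq]; exact inf_le_right
  have hLcomp : Cfsg.IsPComponent 2 L := ⟨hLsn, ⟨by assumption, hLq⟩, hLmin⟩
  rw [Cfsg.Agent.Helper7.IsPComponent.isQuasisimple_iff hLcomp,
    Cfsg.Agent.Helper7.map_subtype_pPrimeCore hLsn, Subgroup.commutator_eq_bot_iff_le_centralizer]
  intro l hl
  rw [Subgroup.mem_centralizer_iff]
  intro o ho
  have := hLO hl
  rw [Subgroup.mem_centralizer_iff] at this
  exact this o ho.1

theorem sylow_props {X : Type*} [Group X] {N : Subgroup X} (S : Sylow 2 ↥N) :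
    (S : Subgroup ↥N).map N.subtype ≤ N ∧ IsPGroup 2 ↥((S : Subgroup ↥N).map N.subtype) ∧
      ∀ Q : Subgroup X, IsPGroup 2 ↥Q → Q ≤ N → (S : Subgroup ↥N).map N.subtype ≤ Q →
        Q = (S : Subgroup ↥N).map N.subtype := by
  refine ⟨Subgroup.map_subtype_le _, S.isPGroup'.map _, ?_⟩
  intro Q hQ2 hQN hSQ
  have h1 : IsPGroup 2 ↥(Q.subgroupOf N) := hQ2.comap_subtype
  have h2 : (S : Subgroup ↥N) ≤ Q.subgroupOf N := by
    intro s hs
    rw [Subgroup.mem_subgroupOf]
    exact hSQ ⟨s, hs, rfl⟩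
  have h3 : Q.subgroupOf N = (S : Subgroup ↥N) := S.is_maximal' h1 h2
  rw [← h3, Subgroup.map_subgroupOf_eq_of_le hQN]

theorem main {X : Type*} [Group X] [Finite X] (P : Subgroup X) (hP : Cfsg.IsStandardSubgroup P)
    (hr : Cfsg.PRankLE 2 1 ↥(Subgroup.centralizer (P : Set X)))
    (hZ : Odd (Nat.card ↥(Subgroup.center ↥P)))
    (S : Sylow 2 ↥(Subgroup.normalizer (P : Set X))) (t : X) (ht : orderOf t = 2)
    (htS : t ∈ (S : Subgroup ↥(Subgroup.normalizer (P : Set X))).map
      (Subgroup.normalizer (P : Set X)).subtype)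
    (htP : t ∈ Subgroup.centralizer (P : Set X))
    (g : X) (hgN : ∀ s ∈ (S : Subgroup ↥(Subgroup.normalizer (P : Set X))).map
      (Subgroup.normalizer (P : Set X)).subtype, g * s * g⁻¹ ∈
        (S : Subgroup ↥(Subgroup.normalizer (P : Set X))).map
          (Subgroup.normalizer (P : Set X)).subtype)
    (hgS : g ∉ (S : Subgroup ↥(Subgroup.normalizer (P : Set X))).map
      (Subgroup.normalizer (P : Set X)).subtype)
    (hg2 : g ^ 2 ∈ (S : Subgroup ↥(Subgroup.normalizer (P : Set X))).map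
      (Subgroup.normalizer (P : Set X)).subtype)
    (hgt : g * t * g⁻¹ ∈ P ⊔ Subgroup.centralizer (P : Set X)) :
    ⁅P, Cfsg.oddCore X⁆ = ⊥ ∧
      ∀ L : Subgroup X, Cfsg.IsPComponent 2 L → P ≤ L → (∀ l ∈ L, t * l * t⁻¹ ∈ L) →
        Cfsg.IsQuasisimple ↥L := by
  obtain ⟨hSN, hS2, hSmax⟩ := sylow_props S
  have hperf : Group.IsPerfect ↥P := hP.1.1
  obtain ⟨hinv, hPO⟩ := main1 hP hr hZ _ hSN hS2 hSmax t ht htS htP g hgN hgS hg2 hgt
  refine ⟨?_, ?_⟩
  · rw [Subgroup.commutator_eq_bot_iff_le_centralizer]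
    exact hPO
  · intro L hL hPL _
    exact main2 hperf hinv hPO hL hPL

end Cfsg.Agent.Helper17.S3153
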