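import Mathlib
import Cfsg.Prelude.Def_Classical
import Cfsg.Prelude.Def_Transfer
import Cfsg.Agent.Helper16.S3161Defs

set_option autoImplicit false

/-! # S3161 piece TRANSFER (board `s3161pieces`): the frozen hypotheses give `PData`. -/

namespace Cfsg.Agent.S3161P

/-- an involutive automorphism of a finite 2-group has a non-trivial fixed point on every
non-trivial invariant subgroup (private copy of the counting argument, used for the centre). -/
theorem TRANSFER_aux_fix {T : Type*} [Group T] [Finite T] (hT : IsPGroup 2 T) (α : MulAut T)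
    (hα : ∀ x, α (α x) = x) (H : Subgroup T) (hH : H ≠ ⊥) (hinv : ∀ x ∈ H, α x ∈ H) :
    ∃ x ∈ H, x ≠ 1 ∧ α x = x := by
  classical
  have hfinT : Fintype T := Fintype.ofFinite T
  -- the self-map of `H` induced by `α`
  let f : Function.End H := fun x => ⟨α x, hinv x x.2⟩
  have hf : f ^ 2 ^ 1 = 1 := by
    funext x
    show (f ^ 2 ^ 1) x = x
    rw [pow_one, pow_two]
    show f (f x) = x
    exact Subtype.ext (hα x)
  have hp2 : Fact (Nat.Prime 2) := ⟨Nat.prime_two⟩
  have hmod := Equiv.Perm.card_fixedPoints_modEq (p := 2) (n := 1) hf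
  -- `|H|` is even
  have hHT : IsPGroup 2 H := hT.to_subgroup H
  obtain ⟨k, hk⟩ := IsPGroup.iff_card.mp hHT
  have hk0 : k ≠ 0 := by
    rintro rfl
    rw [pow_zero] at hk
    exact hH ((Subgroup.card_eq_one).mp hk)
  have hcardH : Fintype.card H = 2 ^ k := by rw [← Nat.card_eq_fintype_card]; exact hk
  have heven : 2 ∣ Fintype.card H := by rw [hcardH]; exact dvd_pow_self 2 hk0
  have heven' : 2 ∣ Fintype.card (Function.fixedPoints f) := by
    have := (Nat.modEq_zero_iff_dvd.mpr heven).symm.trans hmod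
    exact (Nat.modEq_zero_iff_dvd.mp this.symm)
  -- so there are at least two fixed points
  have h1 : (⟨(1 : H), by
      show f 1 = 1
      exact Subtype.ext (map_one α)⟩ : Function.fixedPoints f) ∈ (Finset.univ : Finset _) :=
    Finset.mem_univ _
  have hcard2 : 1 < Fintype.card (Function.fixedPoints f) := by
    have hpos : 0 < Fintype.card (Function.fixedPoints f) := Fintype.card_pos_iff.mpr ⟨⟨1, by
      show f 1 = 1
      exact Subtype.ext (map_one α)⟩⟩
    rcases heven' with ⟨j, hj⟩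
    omega
  obtain ⟨⟨x, hx⟩, ⟨y, hy⟩, hxy⟩ := Fintype.one_lt_card_iff.mp hcard2
  have hxfix : α (x : T) = x := congrArg Subtype.val hx
  have hyfix : α (y : T) = y := congrArg Subtype.val hy
  by_cases hx1 : (x : T) = 1
  · refine ⟨y, y.2, ?_, hyfix⟩
    intro hy1
    apply hxy
    apply Subtype.ext
    apply Subtype.ext
    rw [hx1, hy1]
  · exact ⟨x, x.2, hx1, hxfix⟩

/-- TRANSFER: the frozen hypotheses give (P). -/
theorem TRANSFER {Q : Type*} [Group Q] [Finite Q] (hQ : IsPGroup 2 Q) (n : ℕ) (hn : 2 ≤ n)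
    (α ρ : MulAut Q) (hα : orderOf α = 2) (hρ : orderOf ρ = 2 ^ n - 1) (hc : Commute α ρ)
    (C : Subgroup Q) (hC : ∀ x : Q, x ∈ C ↔ α x = x)
    (hCE : Cfsg.IsElementaryAbelian 2 C ∧ Nat.card ↥C = 2 ^ n)
    (htr : ∀ x y : Q, x ∈ C → y ∈ C → x ≠ 1 → y ≠ 1 → ∃ k : ℕ, (ρ ^ k) x = y) :
    PData α ρ C n := by
  have hα2 : ∀ x, α (α x) = x := by
    intro x
    have h2 : α ^ 2 = 1 := by rw [← hα]; exact pow_orderOf_eq_one α
    have := congrArg (fun f : MulAut Q => f x) h2
    simpa [pow_two, MulAut.mul_apply] using this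
  have hρp : ∀ x, (ρ ^ (2 ^ n - 1)) x = x := by
    intro x
    have h2 : ρ ^ (2 ^ n - 1) = 1 := by rw [← hρ]; exact pow_orderOf_eq_one ρ
    rw [h2]; rfl
  have hcomm : ∀ x, α (ρ x) = ρ (α x) := by
    intro x
    have := congrArg (fun f : MulAut Q => f x) hc.eq
    simpa [MulAut.mul_apply] using this
  -- the centre is non-trivial and `α`-invariant
  have hCne : C ≠ ⊥ := by
    intro hbot
    have h1 : Nat.card C = 1 := by rw [hbot]; exact Subgroup.card_bot
    rw [hCE.2] at h1
    have : 2 ^ 2 ≤ 2 ^ n := Nat.pow_le_pow_right (by norm_num) hn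
    omega
  have hntQ : Nontrivial Q := by
    obtain ⟨x, hx⟩ := (Subgroup.ne_bot_iff_exists_ne_one).mp hCne
    exact ⟨⟨(x : Q), 1, fun h => hx (Subtype.ext h)⟩⟩
  have hZne : Subgroup.center Q ≠ ⊥ := by
    have hp2 : Fact (Nat.Prime 2) := ⟨Nat.prime_two⟩
    have hnt := IsPGroup.center_nontrivial hQ
    exact (Subgroup.nontrivial_iff_ne_bot _).mp hnt
  have hZinv : ∀ (φ : MulAut Q), ∀ x ∈ Subgroup.center Q, φ x ∈ Subgroup.center Q := by
    intro φ x hx
    rw [Subgroup.mem_center_iff] at hx ⊢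
    intro g
    have := hx (φ.symm g)
    have h2 := congrArg φ this
    simpa using h2
  obtain ⟨z, hzZ, hz1, hzfix⟩ := TRANSFER_aux_fix hQ α hα2 (Subgroup.center Q) hZne (hZinv α)
  have hzC : z ∈ C := (hC z).mpr hzfix
  have hcentral : C ≤ Subgroup.center Q := by
    intro y hy
    by_cases hy1 : y = 1
    · rw [hy1]; exact Subgroup.one_mem _
    · obtain ⟨k, hk⟩ := htr z y hzC hy hz1 hy1
      rw [← hk]
      exact hZinv (ρ ^ k) z hzZ
  refine
    { two_le := hn
      alpha_sq := hα2
      rho_pow := hρp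
      comm := hcomm
      central := hcentral
      card := hCE.2
      exp := ?_
      fix := fun x => (hC x).symm
      trans := fun x hx y hy hx1 hy1 => htr x y hx hy hx1 hy1 }
  intro v hv
  have := hCE.1.2 v hv
  rwa [pow_two] at this

end Cfsg.Agent.S3161P
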