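import Mathlib
import Cfsg.Prelude.Def_Classical
import Cfsg.Agent.Helper5.S3590Defs
import Cfsg.Agent.Helper22.S3589TRANSP
import Cfsg.Agent.Helper15.S5973PRODQ
import Cfsg.Agent.Helper15.S5973PRODTYPE
import Cfsg.Agent.Helper28.S2512Lib

/-! S3590 piece APROD (driver helper5): orthogonal sum of affine blocks. -/

set_option autoImplicit false

namespace Cfsg.Agent.S3590P

open Module Polynomial Matrix
open Cfsg.Agent.S5973P Cfsg.Agent.S3589P
open scoped Classical

noncomputable section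

namespace APROD

theorem beq_true_iff (h₁ h₂ : Bool) : ((h₁ == h₂) = true) ↔ (h₁ = true ↔ h₂ = true) := by
  cases h₁ <;> cases h₂ <;> simp

/-- parity of a sum against the `Bool` equality test -/
theorem even_add_iff_beq {a b : ℕ} {e₁ e₂ : Bool} (h₁ : Even a ↔ e₁ = true) (h₂ : Even b ↔ e₂ = true) :
    Even (a + b) ↔ (e₁ == e₂) = true := by
  rw [Nat.even_add, beq_true_iff, h₁, h₂]

variable {F : Type*} [Field F] {V W : Type*} [AddCommGroup V] [Module F V] [AddCommGroup W]
  [Module F W]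

theorem prodMap_sub_one (X₁ : Module.End F V) (X₂ : Module.End F W) :
    (X₁.prodMap X₂ : Module.End F (V × W)) - 1 = (X₁ - 1).prodMap (X₂ - 1) := by
  apply LinearMap.ext
  rintro ⟨a, b⟩
  simp only [LinearMap.sub_apply, LinearMap.prodMap_apply, Module.End.one_apply, Prod.mk_sub_mk]

/-- the product of two submodules, as a product of modules -/
def prodSubEquiv (p : Submodule F V) (q : Submodule F W) : ↥(p.prod q) ≃ₗ[F] (↥p × ↥q) where
  toFun x := (⟨x.1.1, x.2.1⟩, ⟨x.1.2, x.2.2⟩)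
  invFun y := ⟨(y.1.1, y.2.1), ⟨y.1.2, y.2.2⟩⟩
  map_add' _ _ := rfl
  map_smul' _ _ := rfl
  left_inv _ := rfl
  right_inv _ := rfl

theorem finrank_subprod [FiniteDimensional F V] [FiniteDimensional F W] (p : Submodule F V)
    (q : Submodule F W) : finrank F ↥(p.prod q) = finrank F ↥p + finrank F ↥q := by
  rw [(prodSubEquiv p q).finrank_eq, Module.finrank_prod]

theorem finrank_range_prodMap_sub_one [FiniteDimensional F V] [FiniteDimensional F W]
    (X₁ : Module.End F V) (X₂ : Module.End F W) :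
    finrank F (LinearMap.range ((X₁.prodMap X₂ : Module.End F (V × W)) - 1)) =
      finrank F (LinearMap.range (X₁ - 1)) + finrank F (LinearMap.range (X₂ - 1)) := by
  rw [prodMap_sub_one, LinearMap.range_prodMap]
  exact finrank_subprod _ _

theorem nsum_prodMap (X₁ : Module.End F V) (X₂ : Module.End F W) (j : ℕ) :
    nsum (X₁.prodMap X₂ : Module.End F (V × W)) j = (nsum X₁ j).prodMap (nsum X₂ j) := by
  unfold nsum
  induction j with
  | zero =>
    simp only [Finset.range_zero, Finset.sum_empty]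
    exact LinearMap.prodMap_zero.symm
  | succ j ih =>
    rw [Finset.sum_range_succ, Finset.sum_range_succ, Finset.sum_range_succ, ih,
      Cfsg.Agent.S2512P.SUMSP.prodMap_pow]
    exact (LinearMap.prodMap_add _ _ _ _).symm

theorem nsum_prodMap_apply (X₁ : Module.End F V) (X₂ : Module.End F W) (j : ℕ) (v : V) (w : W) :
    nsum (X₁.prodMap X₂ : Module.End F (V × W)) j (v, w) = (nsum X₁ j v, nsum X₂ j w) := by
  rw [nsum_prodMap]
  rfl

theorem conj_sub_one {V' : Type*} [AddCommGroup V'] [Module F V'] (e : V ≃ₗ[F] V')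
    (y : Module.End F V) : e.conjRingEquiv y - 1 = e.conjRingEquiv (y - 1) := by
  rw [map_sub, map_one]

theorem range_conj {V' : Type*} [AddCommGroup V'] [Module F V'] (e : V ≃ₗ[F] V')
    (z : Module.End F V) :
    LinearMap.range (e.conjRingEquiv z) = (LinearMap.range z).map e.toLinearMap := by
  ext w
  simp only [LinearMap.mem_range, Submodule.mem_map, TRANSP.conj_apply, LinearEquiv.coe_coe]
  constructor
  · rintro ⟨x, rfl⟩
    exact ⟨z (e.symm x), ⟨e.symm x, rfl⟩, rfl⟩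
  · rintro ⟨_, ⟨x, rfl⟩, rfl⟩
    exact ⟨e x, by rw [LinearEquiv.symm_apply_apply]⟩

theorem finrank_range_conj {V' : Type*} [AddCommGroup V'] [Module F V'] (e : V ≃ₗ[F] V')
    (y : Module.End F V) :
    finrank F (LinearMap.range (e.conjRingEquiv y - 1)) = finrank F (LinearMap.range (y - 1)) := by
  rw [conj_sub_one, range_conj]
  exact LinearEquiv.finrank_map_eq e _

theorem conj_nsum {V' : Type*} [AddCommGroup V'] [Module F V'] (e : V ≃ₗ[F] V')
    (y : Module.End F V) (j : ℕ) :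
    nsum (e.conjRingEquiv y) j = e.conjRingEquiv (nsum y j) := by
  unfold nsum
  rw [map_sum]
  exact Finset.sum_congr rfl fun i _ => (map_pow _ _ _).symm

theorem nsum_conj_apply {V' : Type*} [AddCommGroup V'] [Module F V'] (e : V ≃ₗ[F] V')
    (y : Module.End F V) (j : ℕ) (v : V) :
    nsum (e.conjRingEquiv y) j (e v) = e (nsum y j v) := by
  rw [conj_nsum, TRANSP.conj_apply, LinearEquiv.symm_apply_apply]

/-- the transport of a quadratic space with an isometry and a vector to coordinates (own copy, so that this piece does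
not wait for ATRANSP) -/
theorem hasABlock_of_space' [Fintype F] [FiniteDimensional F V] (Q : QuadraticForm F V)
    (y : Module.End F V) (v : V) (d : ℕ) (hyp : Bool)
    (o : ℕ) (ev : Bool) (hND : ND Q) (hdim : finrank F V = 2 * d) (hhyp : IsHyp Q ↔ hyp = true)
    (hiso : ∀ w, Q (y w) = Q w)
    (hev : Even (finrank F (LinearMap.range (y - 1))) ↔ ev = true)
    (hord : ∀ j : ℕ, (y ^ j = 1 ∧ (nsum y j) v = 0) ↔ o ∣ j) : HasABlock F d hyp o ev := by
  set e : V ≃ₗ[F] (Fin (2 * d) → F) := (Module.finBasisOfFinrankEq F V hdim).equivFun with he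
  refine ⟨Q.comp e.symm.toLinearMap, e.conjRingEquiv y, e v, TRANSP.nd_comp_equiv Q e.symm hND,
    ?_, ?_, ?_, ?_⟩
  · rw [← hhyp]
    refine (isHyp_of_isometry Q (Q.comp e.symm.toLinearMap) e fun v => ?_).symm
    simp [QuadraticMap.comp_apply]
  · intro w
    rw [TRANSP.conj_apply]
    simp only [QuadraticMap.comp_apply, LinearEquiv.coe_coe, LinearEquiv.symm_apply_apply]
    exact hiso _
  · rw [finrank_range_conj]
    exact hev
  · intro j
    rw [TRANSP.conj_pow_eq_one_iff, nsum_conj_apply, LinearEquiv.map_eq_zero_iff]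
    exact hord j

end APROD

/-- APROD: orthogonal sum of affine blocks. -/
theorem HasABlock.prod {F : Type*} [Field F] [Fintype F] {d₁ d₂ : ℕ} {h₁ h₂ : Bool} {o₁ o₂ : ℕ}
    {e₁ e₂ : Bool} (H₁ : HasABlock F d₁ h₁ o₁ e₁) (H₂ : HasABlock F d₂ h₂ o₂ e₂) :
    HasABlock F (d₁ + d₂) (h₁ == h₂) (Nat.lcm o₁ o₂) (e₁ == e₂) := by
  obtain ⟨Q₁, y₁, v₁, hN₁, hH₁, hI₁, hE₁, hO₁⟩ := H₁
  obtain ⟨Q₂, y₂, v₂, hN₂, hH₂, hI₂, hE₂, hO₂⟩ := H₂
  have f1 : finrank F (Fin (2 * d₁) → F) = 2 * d₁ := by simp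
  have f2 : finrank F (Fin (2 * d₂) → F) = 2 * d₂ := by simp
  refine APROD.hasABlock_of_space' (Q₁.prod Q₂) (y₁.prodMap y₂) (v₁, v₂) (d₁ + d₂) (h₁ == h₂)
    (Nat.lcm o₁ o₂) (e₁ == e₂) (PRODQ.nd_prod Q₁ Q₂ hN₁ hN₂) ?_ ?_ ?_ ?_ ?_
  · rw [Module.finrank_prod, f1, f2]; ring
  · rw [isHyp_prod_iff Q₁ Q₂ hN₁ hN₂ (by rw [f1]; exact even_two_mul _)
      (by rw [f2]; exact even_two_mul _), APROD.beq_true_iff, hH₁, hH₂]
  · rintro ⟨w₁, w₂⟩
    simp only [QuadraticMap.prod_apply, LinearMap.prodMap_apply]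
    rw [hI₁, hI₂]
  · rw [APROD.finrank_range_prodMap_sub_one]
    exact APROD.even_add_iff_beq hE₁ hE₂
  · intro j
    rw [Cfsg.Agent.S2512P.prodMap_pow_eq_one_iff, APROD.nsum_prodMap_apply, Prod.mk_eq_zero,
      Nat.lcm_dvd_iff, ← hO₁, ← hO₂]
    tauto

end

end Cfsg.Agent.S3590P
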