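import Mathlib
import Cfsg.Prelude.Def_Classical
import Cfsg.Agent.Helper5.S3590Defs
import Cfsg.Agent.Helper28.Dickson

/-! S3590 piece EVENRK (driver helper5): an isometry of odd order of a nondegenerate quadratic form in
characteristic two has `rank (y - 1)` even (the Dickson invariant is a homomorphism to `ZMod 2`). -/

set_option autoImplicit false

namespace Cfsg.Agent.S3590P

open Module Polynomial Matrix
open Cfsg.Agent.S5973P Cfsg.Agent.S3589P
open scoped Classical

noncomputable section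

namespace EVENRK

/-- an element of `Multiplicative (ZMod 2)` of odd order is trivial -/
theorem zmod2_eq_one_of_odd_pow (d : Multiplicative (ZMod 2)) (o : ℕ) (ho : Odd o) (h : d ^ o = 1) :
    d = 1 := by
  have h2 : ∀ e : Multiplicative (ZMod 2), e ^ 2 = 1 := by decide
  have h2 := h2 d
  obtain ⟨k, rfl⟩ := ho
  rw [pow_succ, pow_mul, h2, one_pow, one_mul] at h
  exact h

end EVENRK

theorem even_rank_of_odd_order {F : Type*} [Field F] [Fintype F] [CharP F 2] {ι : Type} [Fintype ι]
    [DecidableEq ι] (Q : QuadraticForm F (ι → F)) (hND : ND Q) (y : Module.End F (ι → F))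
    (hiso : ∀ w, Q (y w) = Q w) (o : ℕ) (ho : Odd o) (hy : y ^ o = 1) :
    Even (finrank F (LinearMap.range (y - 1))) := by
  have h2 : (2 : F) = 0 := by
    have := CharP.cast_eq_zero F 2
    exact_mod_cast this
  have hopos : 0 < o := ho.pos
  set A : Matrix ι ι F := LinearMap.toMatrix' y with hA
  have hAo : A ^ o = 1 := by
    rw [hA, ← LinearMap.toMatrix'_one, ← hy]
    exact (map_pow (LinearMap.toMatrixAlgEquiv' (R := F) (n := ι)) y o).symm
  -- the unit
  have hmul1 : A * A ^ (o - 1) = 1 := by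
    rw [← pow_succ', Nat.sub_add_cancel hopos, hAo]
  have hmul2 : A ^ (o - 1) * A = 1 := by
    rw [← pow_succ, Nat.sub_add_cancel hopos, hAo]
  let g : GL ι F := ⟨A, A ^ (o - 1), hmul1, hmul2⟩
  have hgA : ((g : GL ι F) : Matrix ι ι F) = A := rfl
  have hmulVec : ∀ u : ι → F, A *ᵥ u = y u := by
    intro u
    rw [hA, LinearMap.toMatrix'_mulVec]
  have hgmem : g ∈ Cfsg.isometryGroup F ⇑Q := by
    intro u _
    show Q (A *ᵥ u) = Q u
    rw [hmulVec, hiso]
  obtain ⟨D, hD⟩ := Cfsg.Agent.Helper28.Dickson.exists_dickson Q h2 hND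
  let gg : ↥(Cfsg.isometryGroup F ⇑Q) := ⟨g, hgmem⟩
  have hggo : gg ^ o = 1 := by
    apply Subtype.ext
    apply Units.ext
    show ((g ^ o : GL ι F) : Matrix ι ι F) = 1
    rw [Units.val_pow_eq_pow_val, hgA, hAo]
  have hDo : D gg ^ o = 1 := by
    rw [← map_pow, hggo, map_one]
  have hD1 := EVENRK.zmod2_eq_one_of_odd_pow (D gg) o ho hDo
  rw [hD, ← ofAdd_zero, Multiplicative.ofAdd.apply_eq_iff_eq, ZMod.natCast_eq_zero_iff_even] at hD1
  have hrank : (((gg : GL ι F) : Matrix ι ι F) - 1).rank = finrank F (LinearMap.range (y - 1)) := by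
    show (A - 1).rank = _
    have hlin : (A - 1).mulVecLin = y - 1 := by
      apply LinearMap.ext
      intro u
      rw [Matrix.mulVecLin_apply, Matrix.sub_mulVec, hmulVec, Matrix.one_mulVec]
      rfl
    rw [Matrix.rank, hlin]
  rw [hrank] at hD1
  exact hD1

end

end Cfsg.Agent.S3590P
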