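import Mathlib
import Cfsg.Agent.Helper13.S3816Defs
import Cfsg.Agent.Helper13.S3816Basic

/-! S3816 board, row FINAL (helper17), core: the frozen statement of S3816 from the internal theorem (as a hypothesis),
with `G := H ⋊ ⟨x⟩`, `K := range inl`, `A := range inr`. -/

set_option autoImplicit false

open scoped commutatorElement

namespace Cfsg.Agent.S3816P

universe u

section

variable {H : Type u} [Group H] (x : MulAut H)

/-- the semidirect product `H ⋊ ⟨x⟩`. -/
abbrev FinG : Type u := H ⋊[(Subgroup.zpowers x).subtype] ↥(Subgroup.zpowers x)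

/-- `K`: the image of `H`. -/
def FinK : Subgroup (FinG x) := (SemidirectProduct.inl : H →* FinG x).range

/-- `A`: the image of `⟨x⟩`. -/
def FinA : Subgroup (FinG x) := (SemidirectProduct.inr : ↥(Subgroup.zpowers x) →* FinG x).range

theorem final_aux_conj (y : ↥(Subgroup.zpowers x)) (h : H) :
    (SemidirectProduct.inr y : FinG x) * SemidirectProduct.inl h * (SemidirectProduct.inr y)⁻¹ =
      SemidirectProduct.inl ((y : MulAut H) h) := by
  rw [← map_inv, ← SemidirectProduct.inl_aut]
  rfl

/-- elements of `⟨x⟩` fix the fixed points of `x`. -/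
theorem final_aux_fix {y : MulAut H} (hy : y ∈ Subgroup.zpowers x) {c : H} (hc : x c = c) : y c = c := by
  have hle : Subgroup.zpowers x ≤ MulAction.stabilizer (MulAut H) c := by
    rw [Subgroup.zpowers_le, MulAction.mem_stabilizer_iff, MulAut.smul_def]
    exact hc
  have := hle hy
  rw [MulAction.mem_stabilizer_iff, MulAut.smul_def] at this
  exact this

theorem final_aux_mem_centralizer {c : H} :
    (SemidirectProduct.inl c : FinG x) ∈ Subgroup.centralizer (FinA x : Set (FinG x)) ↔ x c = c := by
  constructor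
  · intro h
    have hxA : (SemidirectProduct.inr ⟨x, Subgroup.mem_zpowers x⟩ : FinG x) ∈ FinA x := ⟨_, rfl⟩
    have h1 := Subgroup.mem_centralizer_iff.mp h _ hxA
    have h2 := final_aux_conj x ⟨x, Subgroup.mem_zpowers x⟩ c
    rw [h1, mul_inv_cancel_right] at h2
    exact (SemidirectProduct.inl_injective h2).symm
  · intro hc
    rw [Subgroup.mem_centralizer_iff]
    rintro _ ⟨y, rfl⟩
    have h2 := final_aux_conj x y c
    rw [final_aux_fix x y.2 hc] at h2
    calc (SemidirectProduct.inr y : FinG x) * SemidirectProduct.inl c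
        = (SemidirectProduct.inr y * SemidirectProduct.inl c * (SemidirectProduct.inr y)⁻¹) *
            SemidirectProduct.inr y := by group
      _ = SemidirectProduct.inl c * SemidirectProduct.inr y := by rw [h2]

/-- `[inl h, A]` is the image of `⟨h⁻¹ xⁱ(h)⟩`. -/
theorem final_aux_cA (hfin : IsOfFinOrder x) (h : H) :
    cA (FinA x) (SemidirectProduct.inl h : FinG x) =
      (Subgroup.closure {c : H | ∃ i : ℕ, c = h⁻¹ * (x ^ i) h}).map (SemidirectProduct.inl : H →* FinG x) := by
  unfold cA
  rw [MonoidHom.map_closure]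
  congr 1
  ext c
  constructor
  · rintro ⟨_, ⟨y, rfl⟩, rfl⟩
    obtain ⟨i, hi⟩ := hfin.mem_powers_iff_mem_zpowers.mpr y.2
    refine ⟨h⁻¹ * (x ^ i) h, ⟨i, rfl⟩, ?_⟩
    have hi' : (x ^ i) = (y : MulAut H) := hi
    rw [final_aux_conj, map_mul, map_inv, hi']
  · rintro ⟨_, ⟨i, rfl⟩, rfl⟩
    refine ⟨SemidirectProduct.inr ⟨x ^ i, Subgroup.pow_mem _ (Subgroup.mem_zpowers x) i⟩, ⟨_, rfl⟩, ?_⟩
    rw [final_aux_conj, map_mul, map_inv]

end

/-- FINAL, core: the frozen statement of S3816 from the internal theorem. -/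
theorem final_core {H : Type u} [Group H] [Finite H] [Group.IsSolvable H] {p : ℕ} [Fact p.Prime]
    (hmain : ∀ (G : Type u) [Group G] [Finite G] (A K : Subgroup G), Hyp p A K → Thm A K)
    (hcop : (Nat.card H).Coprime p) (x : MulAut H) (hx : orderOf x = p) :
    Subgroup.closure {c : H | ∃ h : H, ∃ i : ℕ, c = h⁻¹ * (x ^ i) h} ⊓ (x : H →* H).eqLocus (MonoidHom.id H) =
      ⨆ h : H, Subgroup.closure {c : H | ∃ i : ℕ, c = h⁻¹ * (x ^ i) h} ⊓
        (x : H →* H).eqLocus (MonoidHom.id H) := by
  classical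
  have hpp : p.Prime := Fact.out
  have hfin : IsOfFinOrder x := by
    rw [← orderOf_pos_iff, hx]; exact hpp.pos
  have : Finite (FinG x) := Finite.of_equiv _ (SemidirectProduct.equivProd).symm
  -- the hypotheses
  have hKcard : Nat.card ↥(FinK x) = Nat.card H :=
    (Nat.card_congr (MonoidHom.ofInjective (SemidirectProduct.inl_injective
      (φ := (Subgroup.zpowers x).subtype))).toEquiv).symm
  have hyp : Hyp p (FinA x) (FinK x) := by
    refine ⟨?_, ?_, ?_, ?_⟩
    · have : Nat.card ↥(FinA x) = Nat.card ↥(Subgroup.zpowers x) :=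
        (Nat.card_congr (MonoidHom.ofInjective (SemidirectProduct.inr_injective
          (φ := (Subgroup.zpowers x).subtype))).toEquiv).symm
      rw [this, Nat.card_zpowers, hx]
    · have hn : (FinK x).Normal := by
        unfold FinK
        rw [SemidirectProduct.range_inl_eq_ker_rightHom]
        infer_instance
      rw [Subgroup.normalizer_eq_top]
      exact le_top
    · rw [hKcard]; exact hcop
    · exact Group.isSolvable_of_isSolvable_injective
        (f := (MonoidHom.ofInjective (SemidirectProduct.inl_injective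
          (φ := (Subgroup.zpowers x).subtype))).symm.toMonoidHom) (MulEquiv.injective _)
  have hthm : Thm (FinA x) (FinK x) := hmain (FinG x) (FinA x) (FinK x) hyp
  have hinj : Function.Injective (SemidirectProduct.inl : H →* FinG x) := SemidirectProduct.inl_injective
  apply le_antisymm
  · intro c hc
    obtain ⟨hc1, hc2⟩ := Subgroup.mem_inf.mp hc
    have hc2' : x c = c := hc2
    -- `inl c ∈ [K,A] ∩ C(A)`
    have h1 : (SemidirectProduct.inl c : FinG x) ∈ ⁅FinK x, FinA x⁆ := by
      have hle : (Subgroup.closure {c : H | ∃ h : H, ∃ i : ℕ, c = h⁻¹ * (x ^ i) h}).map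
          (SemidirectProduct.inl : H →* FinG x) ≤ ⁅FinK x, FinA x⁆ := by
        rw [Subgroup.map_le_iff_le_comap, Subgroup.closure_le]
        rintro _ ⟨h, i, rfl⟩
        have hk : (SemidirectProduct.inl h : FinG x) ∈ FinK x := ⟨h, rfl⟩
        apply cA_le_commutator (A := FinA x) hk
        rw [final_aux_cA x hfin h]
        exact ⟨_, Subgroup.subset_closure ⟨i, rfl⟩, rfl⟩
      exact hle ⟨c, hc1, rfl⟩
    have h2 : (SemidirectProduct.inl c : FinG x) ∈ Subgroup.centralizer (FinA x : Set (FinG x)) :=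
      (final_aux_mem_centralizer x).mpr hc2'
    have h3 : (SemidirectProduct.inl c : FinG x) ∈ DD (FinA x) (FinK x) :=
      hthm (Subgroup.mem_inf.mpr ⟨h1, h2⟩)
    -- `DD A K` is inside the image of the right-hand side
    have h4 : DD (FinA x) (FinK x) ≤
        (⨆ h : H, Subgroup.closure {c : H | ∃ i : ℕ, c = h⁻¹ * (x ^ i) h} ⊓
          (x : H →* H).eqLocus (MonoidHom.id H)).map (SemidirectProduct.inl : H →* FinG x) := by
      unfold DD
      refine iSup₂_le ?_
      rintro _ ⟨h, rfl⟩
      refine le_trans ?_ (Subgroup.map_mono (le_iSup _ h))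
      intro d hd
      obtain ⟨hd1, hd2⟩ := Subgroup.mem_inf.mp hd
      rw [final_aux_cA x hfin h] at hd1
      obtain ⟨d', hd', rfl⟩ := hd1
      refine ⟨d', Subgroup.mem_inf.mpr ⟨hd', ?_⟩, rfl⟩
      exact (final_aux_mem_centralizer x).mp hd2
    obtain ⟨c', hc', hcc⟩ := h4 h3
    rw [← hinj hcc]
    exact hc'
  · refine iSup_le fun h => inf_le_inf_right _ (Subgroup.closure_mono ?_)
    rintro _ ⟨i, rfl⟩
    exact ⟨h, i, rfl⟩

end Cfsg.Agent.S3816P
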