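import Cfsg.Agent.Helper26.S3818Defs
import Cfsg.Agent.Helper15.S3822ABS
import Cfsg.Prelude.Def_Solvable

set_option autoImplicit false
set_option linter.style.haveILetI false
set_option linter.unusedVariables false

namespace Cfsg.Agent.S3822P

open Module Cfsg.Agent.S3818P

universe u v w

theorem REDUCE_aux_conj_apply {G : Type*} [Group G] (g y : G) :
    (MulAut.conj g).toMonoidHom y = g * y * g⁻¹ := rfl

/-- Conjugation-invariance passes to joins. -/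
theorem REDUCE_aux_inv_sup {G : Type*} [Group G] (A X Y : Subgroup G)
    (hX : ∀ a ∈ A, ∀ x ∈ X, a * x * a⁻¹ ∈ X) (hY : ∀ a ∈ A, ∀ x ∈ Y, a * x * a⁻¹ ∈ Y) :
    ∀ a ∈ A, ∀ x ∈ X ⊔ Y, a * x * a⁻¹ ∈ X ⊔ Y := by
  intro a ha x hx
  have h : X ⊔ Y ≤ (X ⊔ Y).comap (MulAut.conj a).toMonoidHom := by
    apply sup_le
    · intro x hx
      exact Subgroup.mem_comap.2 (by simpa using Subgroup.mem_sup_left (hX a ha x hx))
    · intro x hx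
      exact Subgroup.mem_comap.2 (by simpa using Subgroup.mem_sup_right (hY a ha x hx))
  simpa using h hx

/-- Conjugation-invariance gives normalisation. -/
theorem REDUCE_aux_le_normalizer {G : Type*} [Group G] (A X : Subgroup G)
    (hX : ∀ a ∈ A, ∀ x ∈ X, a * x * a⁻¹ ∈ X) : A ≤ Subgroup.normalizer (X : Set G) := by
  intro a ha
  rw [Subgroup.mem_normalizer_iff]
  intro x
  constructor
  · exact hX a ha x
  · intro h
    have := hX a⁻¹ (inv_mem ha) _ h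
    simpa [mul_assoc] using this

/-- Normalisation gives conjugation-invariance. -/
theorem REDUCE_aux_of_le_normalizer {G : Type*} [Group G] (A X : Subgroup G)
    (h : A ≤ Subgroup.normalizer (X : Set G)) : ∀ a ∈ A, ∀ x ∈ X, a * x * a⁻¹ ∈ X :=
  fun a ha x hx => (Subgroup.mem_normalizer_iff.1 (h ha) x).1 hx

/-- An extension of solvable subgroups is solvable. -/
theorem REDUCE_aux_solvable_sup {G : Type*} [Group G] (X Y : Subgroup G)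
    (hX : Group.IsSolvable ↥X) (hY : Group.IsSolvable ↥Y)
    (h : Y ≤ Subgroup.normalizer (X : Set G)) : Group.IsSolvable ↥(X ⊔ Y) := by
  have hXU : X ≤ X ⊔ Y := le_sup_left
  haveI : (X.subgroupOf (X ⊔ Y)).Normal :=
    (Subgroup.normal_subgroupOf_iff_le_normalizer hXU).2 (sup_le Subgroup.le_normalizer h)
  let g : ↥(X ⊔ Y) →* ↥(X ⊔ Y) ⧸ X.subgroupOf (X ⊔ Y) := QuotientGroup.mk' _
  let f : X →* ↥(X ⊔ Y) := Subgroup.inclusion hXU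
  let j : Y →* ↥(X ⊔ Y) ⧸ X.subgroupOf (X ⊔ Y) := g.comp (Subgroup.inclusion le_sup_right)
  have hj : Function.Surjective j := by
    intro q
    obtain ⟨u, rfl⟩ := QuotientGroup.mk'_surjective _ q
    have hu : (u : G) ∈ ((X ⊔ Y : Subgroup G) : Set G) := u.2
    rw [Subgroup.coe_mul_of_right_le_normalizer_left X Y h] at hu
    obtain ⟨x, hx, y, hy, hxy⟩ := hu
    refine ⟨⟨y, hy⟩, ?_⟩
    show g (Subgroup.inclusion le_sup_right ⟨y, hy⟩) = g u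
    rw [QuotientGroup.mk'_apply, QuotientGroup.mk'_apply, QuotientGroup.eq,
      Subgroup.mem_subgroupOf]
    have h1 : y⁻¹ * x * y⁻¹⁻¹ ∈ X :=
      (Subgroup.mem_normalizer_iff.1 (h (Y.inv_mem hy)) x).1 hx
    have h2 : (((Subgroup.inclusion le_sup_right ⟨y, hy⟩ : ↥(X ⊔ Y))⁻¹ * u : ↥(X ⊔ Y)) : G) =
        y⁻¹ * x * y⁻¹⁻¹ := by
      simp only [Subgroup.coe_mul, Subgroup.coe_inclusion, InvMemClass.coe_inv]
      rw [← hxy]; group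
    rw [h2]; exact h1
  haveI : Group.IsSolvable (↥(X ⊔ Y) ⧸ X.subgroupOf (X ⊔ Y)) := Group.isSolvable_of_surjective hj
  apply Group.isSolvable_of_ker_le_range f g
  intro u hu
  rw [QuotientGroup.ker_mk', Subgroup.mem_subgroupOf] at hu
  exact ⟨⟨u, hu⟩, rfl⟩

/-- Step (4a): `W₀` does not lie in `A`. -/
theorem REDUCE_aux_not_le {G : Type*} [Group G] (A R W₀ Φ : Subgroup G) (q r : ℕ)
    (hq : q.Prime) (hr : r.Prime) (hqr : q ≠ r)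
    (hW : IsPGroup q W₀) (hR : IsPGroup r R) (hRA : R ≤ A)
    (hRn : ∀ a ∈ A, ∀ y ∈ R, a * y * a⁻¹ ∈ R)
    (hΦW : Φ ≤ W₀) (hne : Φ ≠ W₀)
    (hW₀n : ∀ a ∈ A, ∀ w ∈ W₀, a * w * a⁻¹ ∈ W₀)
    (hfix : ∀ w ∈ W₀, (∀ y ∈ R, y * w * y⁻¹ * w⁻¹ ∈ Φ) → w ∈ Φ) : ¬ W₀ ≤ A := by
  intro hle
  apply hne
  apply le_antisymm hΦW
  intro w hw
  apply hfix w hw
  intro y hy
  have h1 : y * w * y⁻¹ * w⁻¹ ∈ W₀ := mul_mem (hW₀n y (hRA hy) w hw) (inv_mem hw)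
  have h2 : y * w * y⁻¹ * w⁻¹ ∈ R := by
    have := hRn w (hle hw) y⁻¹ (inv_mem hy)
    have h3 : y * w * y⁻¹ * w⁻¹ = y * (w * y⁻¹ * w⁻¹) := by group
    rw [h3]; exact mul_mem hy this
  haveI := Fact.mk hq
  haveI := Fact.mk hr
  have hd : Disjoint R W₀ := IsPGroup.disjoint_of_ne r q hqr.symm R W₀ hR hW
  have h4 : y * w * y⁻¹ * w⁻¹ ∈ R ⊓ W₀ := ⟨h2, h1⟩
  rw [hd.eq_bot, Subgroup.mem_bot] at h4
  rw [h4]; exact one_mem _

/-- Step (4b): `A ∩ W₀ ≤ Φ`. -/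
theorem REDUCE_aux_F1 {G : Type*} [Group G] (A W₀ Φ : Subgroup G) (hnle : ¬ W₀ ≤ A)
    (hΦW : Φ ≤ W₀)
    (hW₀n : ∀ a ∈ A, ∀ w ∈ W₀, a * w * a⁻¹ ∈ W₀) (hΦn : ∀ a ∈ A, ∀ w ∈ Φ, a * w * a⁻¹ ∈ Φ)
    (hfrat : ∀ H : Subgroup G, H ≤ W₀ → H ⊔ Φ = W₀ → H = W₀)
    (hirr : ∀ U : Subgroup G, Φ ≤ U → U ≤ W₀ → (∀ a ∈ A, ∀ w ∈ U, a * w * a⁻¹ ∈ U) →
      U = Φ ∨ U = W₀) : A ⊓ W₀ ≤ Φ := by
  have hU := hirr ((A ⊓ W₀) ⊔ Φ) le_sup_right (sup_le inf_le_right hΦW)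
    (REDUCE_aux_inv_sup A _ _
      (fun a ha x hx => Subgroup.mem_inf.2 ⟨mul_mem (mul_mem ha (Subgroup.mem_inf.1 hx).1)
        (inv_mem ha), hW₀n a ha x (Subgroup.mem_inf.1 hx).2⟩) hΦn)
  rcases hU with hU | hU
  · exact le_sup_left.trans hU.le
  · exfalso
    apply hnle
    have h := hfrat (A ⊓ W₀) inf_le_right hU
    rw [← h]; exact inf_le_left

/-- Step (6): for `u v ∈ W₀`, `⟨P^u, P^{va}⟩ ∩ W₀ ≤ Φ`. -/
theorem REDUCE_aux_F2 {G : Type*} [Group G] [Finite G] (P A : Subgroup G)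
    (hAs : Group.IsSolvable ↥A) (a : G) (ha : a ∈ A)
    (hAgen : A = P ⊔ P.map (MulAut.conj a).toMonoidHom)
    (hmax : ∀ B : Subgroup G, A ≤ B → Group.IsSolvable ↥B →
      (∃ b ∈ B, B = P ⊔ P.map (MulAut.conj b).toMonoidHom) → B = A)
    (W₀ Φ : Subgroup G) (q : ℕ) (hq : q.Prime) (hW : IsPGroup q W₀) (hnle : ¬ W₀ ≤ A)
    (hΦW : Φ ≤ W₀)
    (hW₀n : ∀ a ∈ A, ∀ w ∈ W₀, a * w * a⁻¹ ∈ W₀) (hΦn : ∀ a ∈ A, ∀ w ∈ Φ, a * w * a⁻¹ ∈ Φ)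
    (hcomm : ∀ w ∈ W₀, ∀ w' ∈ W₀, w * w' * w⁻¹ * w'⁻¹ ∈ Φ)
    (hfrat : ∀ H : Subgroup G, H ≤ W₀ → H ⊔ Φ = W₀ → H = W₀)
    (hirr : ∀ U : Subgroup G, Φ ≤ U → U ≤ W₀ → (∀ a ∈ A, ∀ w ∈ U, a * w * a⁻¹ ∈ U) →
      U = Φ ∨ U = W₀)
    (u v : G) (hu : u ∈ W₀) (hv : v ∈ W₀) :
    (P.map (MulAut.conj u).toMonoidHom ⊔ P.map (MulAut.conj (v * a)).toMonoidHom) ⊓ W₀ ≤ Φ := by
  set H : Subgroup G := P.map (MulAut.conj u).toMonoidHom ⊔ P.map (MulAut.conj (v * a)).toMonoidHom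
    with hH
  set K : Subgroup G := A ⊔ W₀ with hK
  have hAK : A ≤ K := le_sup_left
  have hWK : W₀ ≤ K := le_sup_right
  have hPA : P ≤ A := by rw [hAgen]; exact le_sup_left
  have hPaA : P.map (MulAut.conj a).toMonoidHom ≤ A := by
    conv_rhs => rw [hAgen]
    exact le_sup_right
  have hPK : P ≤ K := hPA.trans hAK
  -- `H ≤ K`
  have hHK : H ≤ K := by
    apply sup_le
    · rintro _ ⟨y, hy, rfl⟩
      rw [REDUCE_aux_conj_apply]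
      exact mul_mem (mul_mem (hWK hu) (hPK hy)) (inv_mem (hWK hu))
    · rintro _ ⟨y, hy, rfl⟩
      rw [REDUCE_aux_conj_apply]
      have hva : v * a ∈ K := mul_mem (hWK hv) (hAK ha)
      exact mul_mem (mul_mem hva (hPK hy)) (inv_mem hva)
  -- `K ≤ H ⊔ W₀`
  have hKH : K ≤ H ⊔ W₀ := by
    apply sup_le _ le_sup_right
    rw [hAgen]
    apply sup_le
    · intro y hy
      have h1 : u * y * u⁻¹ ∈ H :=
        Subgroup.mem_sup_left ⟨y, hy, REDUCE_aux_conj_apply u y⟩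
      have h2 : y = u⁻¹ * (u * y * u⁻¹) * u := by group
      rw [h2]
      exact mul_mem (mul_mem (Subgroup.mem_sup_right (inv_mem hu)) (Subgroup.mem_sup_left h1))
        (Subgroup.mem_sup_right hu)
    · rintro _ ⟨y, hy, rfl⟩
      have h1 : (v * a) * y * (v * a)⁻¹ ∈ H :=
        Subgroup.mem_sup_right ⟨y, hy, REDUCE_aux_conj_apply (v * a) y⟩
      have h2 : (MulAut.conj a).toMonoidHom y = v⁻¹ * ((v * a) * y * (v * a)⁻¹) * v := by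
        rw [REDUCE_aux_conj_apply]; group
      rw [h2]
      exact mul_mem (mul_mem (Subgroup.mem_sup_right (inv_mem hv)) (Subgroup.mem_sup_left h1))
        (Subgroup.mem_sup_right hv)
  -- normalisation by `K`
  have hWΦ : ∀ w ∈ W₀, ∀ x ∈ Φ, w * x * w⁻¹ ∈ Φ := by
    intro w hw x hx
    have h1 : w * x * w⁻¹ = (w * x * w⁻¹ * x⁻¹) * x := by group
    rw [h1]
    exact mul_mem (hcomm w hw x (hΦW hx)) hx
  have hKΦ : K ≤ Subgroup.normalizer (Φ : Set G) :=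
    sup_le (REDUCE_aux_le_normalizer A Φ hΦn) (REDUCE_aux_le_normalizer W₀ Φ hWΦ)
  have hKW : K ≤ Subgroup.normalizer (W₀ : Set G) :=
    sup_le (REDUCE_aux_le_normalizer A W₀ hW₀n) Subgroup.le_normalizer
  -- the subgroup `U`
  have hUinv : ∀ a ∈ A, ∀ x ∈ (H ⊔ Φ) ⊓ W₀, a * x * a⁻¹ ∈ (H ⊔ Φ) ⊓ W₀ := by
    have hHU : ∀ h ∈ H, ∀ x ∈ (H ⊔ Φ) ⊓ W₀, h * x * h⁻¹ ∈ (H ⊔ Φ) ⊓ W₀ := by
      intro h hh x hx
      rw [Subgroup.mem_inf] at hx ⊢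
      refine ⟨?_, REDUCE_aux_of_le_normalizer K W₀ hKW h (hHK hh) x hx.2⟩
      exact REDUCE_aux_inv_sup H H Φ (fun a ha x hx => mul_mem (mul_mem ha hx) (inv_mem ha))
        (fun a ha x hx => REDUCE_aux_of_le_normalizer K Φ hKΦ a (hHK ha) x hx) h hh x hx.1
    have hWU : ∀ w ∈ W₀, ∀ x ∈ (H ⊔ Φ) ⊓ W₀, w * x * w⁻¹ ∈ (H ⊔ Φ) ⊓ W₀ := by
      intro w hw x hx
      have h1 : w * x * w⁻¹ = (w * x * w⁻¹ * x⁻¹) * x := by group
      rw [h1]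
      refine mul_mem ?_ hx
      have h2 := hcomm w hw x (Subgroup.mem_inf.1 hx).2
      exact Subgroup.mem_inf.2 ⟨Subgroup.mem_sup_right h2, hΦW h2⟩
    have h3 : A ≤ Subgroup.normalizer (((H ⊔ Φ) ⊓ W₀ : Subgroup G) : Set G) :=
      hAK.trans (hKH.trans (sup_le (REDUCE_aux_le_normalizer H _ hHU)
        (REDUCE_aux_le_normalizer W₀ _ hWU)))
    exact REDUCE_aux_of_le_normalizer A _ h3
  rcases hirr ((H ⊔ Φ) ⊓ W₀) (le_inf le_sup_right hΦW) inf_le_right hUinv with hU | hU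
  · rw [← hU]
    exact inf_le_inf_right _ le_sup_left
  · exfalso
    have hWHΦ : W₀ ≤ H ⊔ Φ := by rw [← hU]; exact inf_le_left
    -- Frattini
    have h4 : (H ⊓ W₀) ⊔ Φ = W₀ := by
      apply le_antisymm (sup_le inf_le_right hΦW)
      intro w hw
      have hw' : w ∈ ((H ⊔ Φ : Subgroup G) : Set G) := hWHΦ hw
      rw [Subgroup.coe_mul_of_left_le_normalizer_right H Φ (hHK.trans hKΦ)] at hw'
      obtain ⟨h, hh, x, hx, rfl⟩ := hw'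
      have hhW : h ∈ W₀ := by
        have h5 : h = (h * x) * x⁻¹ := by group
        rw [h5]
        exact mul_mem hw (inv_mem (hΦW hx))
      exact mul_mem (Subgroup.mem_sup_left (Subgroup.mem_inf.2 ⟨hh, hhW⟩))
        (Subgroup.mem_sup_right hx)
    have hWH : W₀ ≤ H := by
      have h5 := hfrat (H ⊓ W₀) inf_le_right h4
      rw [← h5]; exact inf_le_left
    have hKeq : K = H := le_antisymm (hKH.trans (sup_le le_rfl hWH)) hHK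
    -- conjugate back by `u`
    have hb : u⁻¹ * v * a ∈ K := mul_mem (mul_mem (inv_mem (hWK hu)) (hWK hv)) (hAK ha)
    have hgen : K = P ⊔ P.map (MulAut.conj (u⁻¹ * v * a)).toMonoidHom := by
      set H' : Subgroup G := P ⊔ P.map (MulAut.conj (u⁻¹ * v * a)).toMonoidHom with hH'
      have hmap : H'.map (MulAut.conj u).toMonoidHom = H := by
        rw [hH', Subgroup.map_sup, Subgroup.map_map, hH]
        congr 2
        ext y
        simp only [MonoidHom.comp_apply, REDUCE_aux_conj_apply]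
        group
      apply le_antisymm
      · intro k hk
        have h5 : u * k * u⁻¹ ∈ H := by
          rw [← hKeq]
          exact mul_mem (mul_mem (hWK hu) hk) (inv_mem (hWK hu))
        rw [← hmap] at h5
        obtain ⟨h', hh', h6⟩ := h5
        have h7 : h' = k := by
          rw [REDUCE_aux_conj_apply] at h6
          exact mul_left_cancel (mul_right_cancel h6)
        rw [← h7]; exact hh'
      · apply sup_le hPK
        rintro _ ⟨y, hy, rfl⟩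
        rw [REDUCE_aux_conj_apply]
        exact mul_mem (mul_mem hb (hPK hy)) (inv_mem hb)
    have hKs : Group.IsSolvable ↥K := by
      have h5 : Group.IsSolvable ↥(W₀ ⊔ A) :=
        REDUCE_aux_solvable_sup W₀ A
          (haveI := Fact.mk hq; haveI := hW.isNilpotent; inferInstance) hAs
          (REDUCE_aux_le_normalizer A W₀ hW₀n)
      rw [hK, sup_comm]; exact h5
    have h9 := hmax K hAK hKs ⟨_, hb, hgen⟩
    exact hnle (h9 ▸ hWK)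

/-! ### The quotient `K / N` -/

section Img

variable {G : Type u} [Group G] (K N : Subgroup G) [hn : (N.subgroupOf K).Normal]

/-- The image of `S ∩ K` in `K / (N ∩ K)`. -/
def REDUCE_aux_img (S : Subgroup G) : Subgroup (↥K ⧸ N.subgroupOf K) :=
  (S.subgroupOf K).map (QuotientGroup.mk' (N.subgroupOf K))

theorem REDUCE_aux_mem_img {S : Subgroup G} {x : ↥K ⧸ N.subgroupOf K} :
    x ∈ REDUCE_aux_img K N S ↔ ∃ s : ↥K, (s : G) ∈ S ∧ QuotientGroup.mk' (N.subgroupOf K) s = x := by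
  unfold REDUCE_aux_img
  rw [Subgroup.mem_map]
  constructor
  · rintro ⟨s, hs, rfl⟩
    exact ⟨s, Subgroup.mem_subgroupOf.1 hs, rfl⟩
  · rintro ⟨s, hs, rfl⟩
    exact ⟨s, Subgroup.mem_subgroupOf.2 hs, rfl⟩

theorem REDUCE_aux_mk_mem_img {S : Subgroup G} (hNS : N ≤ S) (x : ↥K) :
    QuotientGroup.mk' (N.subgroupOf K) x ∈ REDUCE_aux_img K N S ↔ (x : G) ∈ S := by
  rw [REDUCE_aux_mem_img]
  constructor
  · rintro ⟨s, hs, h⟩
    rw [QuotientGroup.mk'_apply, QuotientGroup.mk'_apply, QuotientGroup.eq,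
      Subgroup.mem_subgroupOf] at h
    have h1 : (x : G) = (s : G) * ((s⁻¹ * x : ↥K) : G) := by
      simp only [Subgroup.coe_mul, InvMemClass.coe_inv]; group
    rw [h1]
    exact mul_mem hs (hNS h)
  · intro h
    exact ⟨x, h, rfl⟩

theorem REDUCE_aux_mk_eq_one (x : ↥K) :
    QuotientGroup.mk' (N.subgroupOf K) x = 1 ↔ (x : G) ∈ N := by
  rw [QuotientGroup.mk'_apply, QuotientGroup.eq_one_iff, Subgroup.mem_subgroupOf]

theorem REDUCE_aux_img_mono {S T : Subgroup G} (h : S ≤ T) :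
    REDUCE_aux_img K N S ≤ REDUCE_aux_img K N T :=
  Subgroup.map_mono (Subgroup.comap_mono h)

theorem REDUCE_aux_img_sup {S T : Subgroup G} (hS : S ≤ K) (hT : T ≤ K) :
    REDUCE_aux_img K N (S ⊔ T) = REDUCE_aux_img K N S ⊔ REDUCE_aux_img K N T := by
  unfold REDUCE_aux_img
  rw [Subgroup.subgroupOf_sup hS hT, Subgroup.map_sup]

theorem REDUCE_aux_img_conj (S : Subgroup G) (g : G) (hg : g ∈ K) :
    REDUCE_aux_img K N (S.map (MulAut.conj g).toMonoidHom) =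
      (REDUCE_aux_img K N S).map
        (MulAut.conj (QuotientGroup.mk' (N.subgroupOf K) ⟨g, hg⟩)).toMonoidHom := by
  ext x
  rw [REDUCE_aux_mem_img, Subgroup.mem_map]
  constructor
  · rintro ⟨s, ⟨y, hy, hys⟩, rfl⟩
    rw [REDUCE_aux_conj_apply] at hys
    have hyK : y ∈ K := by
      have h1 : y = g⁻¹ * (g * y * g⁻¹) * g := by group
      rw [h1, hys]
      exact mul_mem (mul_mem (inv_mem hg) s.2) hg
    refine ⟨QuotientGroup.mk' (N.subgroupOf K) ⟨y, hyK⟩,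
      (REDUCE_aux_mem_img K N).2 ⟨⟨y, hyK⟩, hy, rfl⟩, ?_⟩
    rw [REDUCE_aux_conj_apply, ← map_inv, ← map_mul, ← map_mul]
    congr 1
    exact Subtype.ext hys
  · rintro ⟨z, hz, rfl⟩
    obtain ⟨s, hs, rfl⟩ := (REDUCE_aux_mem_img K N).1 hz
    refine ⟨⟨g, hg⟩ * s * ⟨g, hg⟩⁻¹, ⟨(s : G), hs, ?_⟩, ?_⟩
    · rw [REDUCE_aux_conj_apply]; rfl
    · rw [REDUCE_aux_conj_apply, map_mul, map_mul, map_inv]

theorem REDUCE_aux_img_disj {S W : Subgroup G} (hNW : N ≤ W) (hSW : S ⊓ W ≤ N) :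
    REDUCE_aux_img K N S ⊓ REDUCE_aux_img K N W = ⊥ := by
  rw [eq_bot_iff]
  intro x hx
  rw [Subgroup.mem_inf] at hx
  obtain ⟨s, hs, rfl⟩ := (REDUCE_aux_mem_img K N).1 hx.1
  have h1 : (s : G) ∈ W := (REDUCE_aux_mk_mem_img K N hNW s).1 hx.2
  rw [Subgroup.mem_bot, REDUCE_aux_mk_eq_one]
  exact hSW (Subgroup.mem_inf.2 ⟨hs, h1⟩)

end Img

/-- Cardinality of a preimage under a quotient map. -/
theorem REDUCE_aux_card_comap {H : Type*} [Group H] [Finite H] (N : Subgroup H) [N.Normal]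
    (K : Subgroup (H ⧸ N)) :
    Nat.card ↥(K.comap (QuotientGroup.mk' N)) = Nat.card ↥K * Nat.card ↥N := by
  have hsurj : Function.Surjective (QuotientGroup.mk' N) := QuotientGroup.mk'_surjective N
  have hidx : (K.comap (QuotientGroup.mk' N)).index = K.index :=
    Subgroup.index_comap_of_surjective K hsurj
  have h1 : Nat.card ↥(K.comap (QuotientGroup.mk' N)) * (K.comap (QuotientGroup.mk' N)).index
      = Nat.card H := Subgroup.card_mul_index _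
  have h2 : Nat.card ↥K * K.index = Nat.card (H ⧸ N) := Subgroup.card_mul_index _
  have h3 : Nat.card H = Nat.card (H ⧸ N) * Nat.card ↥N :=
    Subgroup.card_eq_card_quotient_mul_card_subgroup N
  have hpos : 0 < K.index := Nat.pos_of_ne_zero Subgroup.index_ne_zero_of_finite
  rw [hidx] at h1
  have h4 : Nat.card ↥(K.comap (QuotientGroup.mk' N)) * K.index
      = (Nat.card ↥K * Nat.card ↥N) * K.index := by
    rw [h1, h3, ← h2]; ring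
  exact Nat.eq_of_mul_eq_mul_right hpos h4

/-- REDUCE with the abstract counting lemma `ABS_count` as a hypothesis. -/
theorem REDUCE_aux_core {G : Type u} [Group G] [Finite G] {p : ℕ} [Fact p.Prime] (P A : Subgroup G)
    (hABS : ∀ (X : Type u) [Group X] [Finite X] (Wb Ab Rb Pb : Subgroup X) [Wb.Normal]
      (_ : ∀ w ∈ Wb, ∀ w' ∈ Wb, w * w' = w' * w) (q r : ℕ) (_ : q.Prime) (_ : r.Prime)
      (_ : q ≠ r) (_ : IsPGroup q Wb) (_ : IsPGroup r Rb)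
      (_ : Ab ⊓ Wb = ⊥) (_ : Ab ⊔ Wb = ⊤)
      (_ : Rb ≤ Ab) (_ : ∀ a ∈ Ab, ∀ y ∈ Rb, a * y * a⁻¹ ∈ Rb)
      (_ : ∀ w ∈ Wb, (∀ y ∈ Rb, y * w = w * y) → w = 1)
      (a : X) (_ : a ∈ Ab) (_ : Ab = Pb ⊔ Pb.map (MulAut.conj a).toMonoidHom)
      (_ : ∀ u ∈ Wb, ∀ v ∈ Wb,
        (Pb.map (MulAut.conj u).toMonoidHom ⊔ Pb.map (MulAut.conj (v * a)).toMonoidHom) ⊓ Wb = ⊥),
      Nat.card Wb ≤ (Nat.card ↥(Wb ⊓ Subgroup.centralizer (Pb : Set X))) ^ 2)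
    (hP : Nat.card P = p)
    (hA : Group.IsSolvable ↥A ∧ ∃ a ∈ A, A = P ⊔ P.map (MulAut.conj a).toMonoidHom)
    (hmax : ∀ B : Subgroup G, A ≤ B → Group.IsSolvable ↥B →
      (∃ b ∈ B, B = P ⊔ P.map (MulAut.conj b).toMonoidHom) → B = A)
    (R W₀ Φ : Subgroup G) (q r : ℕ) (hq : q.Prime) (hr : r.Prime) (hqr : q ≠ r)
    (hW : IsPGroup q W₀) (hR : IsPGroup r R) (hRA : R ≤ A)
    (hRn : ∀ a ∈ A, ∀ y ∈ R, a * y * a⁻¹ ∈ R)
    (hΦW : Φ ≤ W₀) (hne : Φ ≠ W₀)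
    (hW₀n : ∀ a ∈ A, ∀ w ∈ W₀, a * w * a⁻¹ ∈ W₀) (hΦn : ∀ a ∈ A, ∀ w ∈ Φ, a * w * a⁻¹ ∈ Φ)
    (hcomm : ∀ w ∈ W₀, ∀ w' ∈ W₀, w * w' * w⁻¹ * w'⁻¹ ∈ Φ) (hpow : ∀ w ∈ W₀, w ^ q ∈ Φ)
    (hfrat : ∀ H : Subgroup G, H ≤ W₀ → H ⊔ Φ = W₀ → H = W₀)
    (hirr : ∀ U : Subgroup G, Φ ≤ U → U ≤ W₀ → (∀ a ∈ A, ∀ w ∈ U, a * w * a⁻¹ ∈ U) →
      U = Φ ∨ U = W₀)
    (hfix : ∀ w ∈ W₀, (∀ y ∈ R, y * w * y⁻¹ * w⁻¹ ∈ Φ) → w ∈ Φ) :
    Nat.card W₀ * Nat.card Φ ≤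
      (Nat.card {w : G // w ∈ W₀ ∧ ∀ y ∈ P, y * w * y⁻¹ * w⁻¹ ∈ Φ}) ^ 2 := by
  obtain ⟨hAs, a, ha, hAgen⟩ := hA
  have hnle : ¬ W₀ ≤ A :=
    REDUCE_aux_not_le A R W₀ Φ q r hq hr hqr hW hR hRA hRn hΦW hne hW₀n hfix
  have hF1 : A ⊓ W₀ ≤ Φ := REDUCE_aux_F1 A W₀ Φ hnle hΦW hW₀n hΦn hfrat hirr
  have hF2 := REDUCE_aux_F2 P A hAs a ha hAgen hmax W₀ Φ q hq hW hnle hΦW hW₀n hΦn hcomm hfrat hirr
  set K : Subgroup G := A ⊔ W₀ with hK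
  have hAK : A ≤ K := le_sup_left
  have hWK : W₀ ≤ K := le_sup_right
  have hΦK : Φ ≤ K := hΦW.trans hWK
  have hPA : P ≤ A := by rw [hAgen]; exact le_sup_left
  have hPK : P ≤ K := hPA.trans hAK
  have hWΦ : ∀ w ∈ W₀, ∀ x ∈ Φ, w * x * w⁻¹ ∈ Φ := by
    intro w hw x hx
    have h1 : w * x * w⁻¹ = (w * x * w⁻¹ * x⁻¹) * x := by group
    rw [h1]
    exact mul_mem (hcomm w hw x (hΦW hx)) hx
  have hKΦ : K ≤ Subgroup.normalizer (Φ : Set G) :=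
    sup_le (REDUCE_aux_le_normalizer A Φ hΦn) (REDUCE_aux_le_normalizer W₀ Φ hWΦ)
  have hKW : K ≤ Subgroup.normalizer (W₀ : Set G) :=
    sup_le (REDUCE_aux_le_normalizer A W₀ hW₀n) Subgroup.le_normalizer
  haveI hnΦ : (Φ.subgroupOf K).Normal :=
    (Subgroup.normal_subgroupOf_iff_le_normalizer hΦK).2 hKΦ
  haveI hnW : (W₀.subgroupOf K).Normal :=
    (Subgroup.normal_subgroupOf_iff_le_normalizer hWK).2 hKW
  let φ : ↥K →* ↥K ⧸ Φ.subgroupOf K := QuotientGroup.mk' (Φ.subgroupOf K)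
  have hφs : Function.Surjective φ := QuotientGroup.mk'_surjective _
  -- the images
  set Wb := REDUCE_aux_img K Φ W₀ with hWb
  set Ab := REDUCE_aux_img K Φ A with hAb
  set Rb := REDUCE_aux_img K Φ R with hRb
  set Pb := REDUCE_aux_img K Φ P with hPb
  haveI hWbn : Wb.Normal := Subgroup.Normal.map hnW φ hφs
  have hmemW : ∀ x : ↥K, φ x ∈ Wb ↔ (x : G) ∈ W₀ := REDUCE_aux_mk_mem_img K Φ hΦW
  have hone : ∀ x : ↥K, φ x = 1 ↔ (x : G) ∈ Φ := REDUCE_aux_mk_eq_one K Φ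
  -- commutation in the quotient
  have hcommφ : ∀ x y : ↥K, φ y * φ x = φ x * φ y ↔ (y : G) * x * (y : G)⁻¹ * (x : G)⁻¹ ∈ Φ := by
    intro x y
    rw [← commutatorElement_eq_one_iff_mul_comm, commutatorElement_def, ← map_inv, ← map_inv,
      ← map_mul, ← map_mul, ← map_mul, hone]
    rfl
  have hWab : ∀ w ∈ Wb, ∀ w' ∈ Wb, w * w' = w' * w := by
    intro w hw w' hw'
    obtain ⟨x, hx, rfl⟩ := (REDUCE_aux_mem_img K Φ).1 hw
    obtain ⟨x', hx', rfl⟩ := (REDUCE_aux_mem_img K Φ).1 hw'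
    exact (hcommφ x' x).2 (hcomm _ hx _ hx')
  have hWq : IsPGroup q Wb := (hW.comap_subtype (K := K)).map φ
  have hRr : IsPGroup r Rb := (hR.comap_subtype (K := K)).map φ
  have hc1 : Ab ⊓ Wb = ⊥ := REDUCE_aux_img_disj K Φ hΦW hF1
  have hc2 : Ab ⊔ Wb = ⊤ := by
    rw [hAb, hWb, ← REDUCE_aux_img_sup K Φ hAK hWK]
    unfold REDUCE_aux_img
    rw [Subgroup.subgroupOf_self]
    exact Subgroup.map_top_of_surjective φ hφs
  have hRAb : Rb ≤ Ab := REDUCE_aux_img_mono K Φ hRA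
  have hRnb : ∀ a ∈ Ab, ∀ y ∈ Rb, a * y * a⁻¹ ∈ Rb := by
    intro a' ha' y hy
    obtain ⟨x, hx, rfl⟩ := (REDUCE_aux_mem_img K Φ).1 ha'
    obtain ⟨z, hz, rfl⟩ := (REDUCE_aux_mem_img K Φ).1 hy
    exact (REDUCE_aux_mem_img K Φ).2 ⟨x * z * x⁻¹, hRn _ hx _ hz, by
      rw [map_mul, map_mul, map_inv]⟩
  have hfixb : ∀ w ∈ Wb, (∀ y ∈ Rb, y * w = w * y) → w = 1 := by
    intro w hw hc
    obtain ⟨x, hx, rfl⟩ := (REDUCE_aux_mem_img K Φ).1 hw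
    show φ x = 1
    rw [hone]
    apply hfix _ hx
    intro y hy
    have hyK : y ∈ K := hAK (hRA hy)
    exact (hcommφ x ⟨y, hyK⟩).1 (hc _ ((REDUCE_aux_mem_img K Φ).2 ⟨⟨y, hyK⟩, hy, rfl⟩))
  have haK : a ∈ K := hAK ha
  have hab : φ ⟨a, haK⟩ ∈ Ab := (REDUCE_aux_mem_img K Φ).2 ⟨⟨a, haK⟩, ha, rfl⟩
  have hPaK : P.map (MulAut.conj a).toMonoidHom ≤ K := by
    have : P.map (MulAut.conj a).toMonoidHom ≤ A := by
      conv_rhs => rw [hAgen]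
      exact le_sup_right
    exact this.trans hAK
  have hgenb : Ab = Pb ⊔ Pb.map (MulAut.conj (φ ⟨a, haK⟩)).toMonoidHom := by
    rw [hPb, ← REDUCE_aux_img_conj K Φ P a haK, ← REDUCE_aux_img_sup K Φ hPK hPaK, ← hAgen]
  have hpairs : ∀ u ∈ Wb, ∀ v ∈ Wb,
      (Pb.map (MulAut.conj u).toMonoidHom ⊔ Pb.map (MulAut.conj (v * φ ⟨a, haK⟩)).toMonoidHom)
        ⊓ Wb = ⊥ := by
    intro u hu v hv
    obtain ⟨u', hu', rfl⟩ := (REDUCE_aux_mem_img K Φ).1 hu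
    obtain ⟨v', hv', rfl⟩ := (REDUCE_aux_mem_img K Φ).1 hv
    have hvaK : (v' : G) * a ∈ K := mul_mem v'.2 haK
    have h1 : (QuotientGroup.mk' (Φ.subgroupOf K)) v' * φ ⟨a, haK⟩ = φ ⟨(v' : G) * a, hvaK⟩ := by
      rw [← map_mul]; rfl
    rw [h1]
    have h2 : (QuotientGroup.mk' (Φ.subgroupOf K)) u' = φ ⟨(u' : G), u'.2⟩ := rfl
    rw [h2, hPb, ← REDUCE_aux_img_conj K Φ P (u' : G) u'.2,
      ← REDUCE_aux_img_conj K Φ P ((v' : G) * a) hvaK]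
    have h3 : P.map (MulAut.conj (u' : G)).toMonoidHom ≤ K := by
      rintro _ ⟨y, hy, rfl⟩
      rw [REDUCE_aux_conj_apply]
      exact mul_mem (mul_mem u'.2 (hPK hy)) (inv_mem u'.2)
    have h4 : P.map (MulAut.conj ((v' : G) * a)).toMonoidHom ≤ K := by
      rintro _ ⟨y, hy, rfl⟩
      rw [REDUCE_aux_conj_apply]
      exact mul_mem (mul_mem hvaK (hPK hy)) (inv_mem hvaK)
    rw [← REDUCE_aux_img_sup K Φ h3 h4]
    exact REDUCE_aux_img_disj K Φ hΦW (hF2 _ _ hu' hv')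
  have hABS' := hABS (↥K ⧸ Φ.subgroupOf K) Wb Ab Rb Pb hWab q r hq hr hqr hWq hRr hc1 hc2 hRAb hRnb
    hfixb (φ ⟨a, haK⟩) hab hgenb hpairs
  -- cardinalities
  have hcΦ : Nat.card ↥(Φ.subgroupOf K) = Nat.card Φ :=
    Nat.card_congr (Subgroup.subgroupOfEquivOfLe hΦK).toEquiv
  have hcW : Nat.card W₀ = Nat.card Wb * Nat.card Φ := by
    have h1 : Wb.comap φ = W₀.subgroupOf K := by
      ext x
      rw [Subgroup.mem_comap, hmemW, Subgroup.mem_subgroupOf]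
    have h2 := REDUCE_aux_card_comap (Φ.subgroupOf K) Wb
    rw [hcΦ] at h2
    rw [← h2]
    change _ = Nat.card ↥(Wb.comap φ)
    rw [h1]
    exact (Nat.card_congr (Subgroup.subgroupOfEquivOfLe hWK).toEquiv).symm
  set Cb : Subgroup (↥K ⧸ Φ.subgroupOf K) := Wb ⊓ Subgroup.centralizer (Pb : Set _) with hCb
  have hmemC : ∀ x : ↥K, x ∈ Cb.comap φ ↔
      ((x : G) ∈ W₀ ∧ ∀ y ∈ P, y * (x : G) * y⁻¹ * (x : G)⁻¹ ∈ Φ) := by
    intro x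
    rw [Subgroup.mem_comap, hCb, Subgroup.mem_inf, hmemW, Subgroup.mem_centralizer_iff]
    constructor
    · rintro ⟨h1, h2⟩
      refine ⟨h1, fun y hy => ?_⟩
      have hyK : y ∈ K := hPK hy
      exact (hcommφ x ⟨y, hyK⟩).1 (h2 _ ((REDUCE_aux_mem_img K Φ).2 ⟨⟨y, hyK⟩, hy, rfl⟩))
    · rintro ⟨h1, h2⟩
      refine ⟨h1, fun z hz => ?_⟩
      obtain ⟨y, hy, rfl⟩ := (REDUCE_aux_mem_img K Φ).1 hz
      exact (hcommφ x y).2 (h2 _ hy)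
  have hcC : Nat.card {w : G // w ∈ W₀ ∧ ∀ y ∈ P, y * w * y⁻¹ * w⁻¹ ∈ Φ}
      = Nat.card Cb * Nat.card Φ := by
    have h2 := REDUCE_aux_card_comap (Φ.subgroupOf K) Cb
    rw [hcΦ] at h2
    rw [← h2]
    change _ = Nat.card ↥(Cb.comap φ)
    symm
    refine Nat.card_congr
      { toFun := fun x => ⟨(x.1 : G), (hmemC x.1).1 x.2⟩
        invFun := fun w => ⟨⟨w.1, hWK w.2.1⟩, (hmemC _).2 w.2⟩
        left_inv := fun x => rfl
        right_inv := fun w => rfl }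
  rw [hcW, hcC]
  calc Nat.card Wb * Nat.card Φ * Nat.card Φ
      ≤ (Nat.card Cb) ^ 2 * Nat.card Φ * Nat.card Φ :=
        Nat.mul_le_mul_right _ (Nat.mul_le_mul_right _ hABS')
    _ = (Nat.card Cb * Nat.card Φ) ^ 2 := by ring

/-- REDUCE: steps (4), (6) of the blueprint + ABS (pass to `A W₀ / Φ`). -/
theorem REDUCE_count {G : Type*} [Group G] [Finite G] {p : ℕ} [Fact p.Prime] (P A : Subgroup G)
    (hP : Nat.card P = p)
    (hA : Group.IsSolvable ↥A ∧ ∃ a ∈ A, A = P ⊔ P.map (MulAut.conj a).toMonoidHom)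
    (hmax : ∀ B : Subgroup G, A ≤ B → Group.IsSolvable ↥B →
      (∃ b ∈ B, B = P ⊔ P.map (MulAut.conj b).toMonoidHom) → B = A)
    (R W₀ Φ : Subgroup G) (q r : ℕ) (hq : q.Prime) (hr : r.Prime) (hqr : q ≠ r)
    (hW : IsPGroup q W₀) (hR : IsPGroup r R) (hRA : R ≤ A)
    (hRn : ∀ a ∈ A, ∀ y ∈ R, a * y * a⁻¹ ∈ R)
    (hΦW : Φ ≤ W₀) (hne : Φ ≠ W₀)
    (hW₀n : ∀ a ∈ A, ∀ w ∈ W₀, a * w * a⁻¹ ∈ W₀) (hΦn : ∀ a ∈ A, ∀ w ∈ Φ, a * w * a⁻¹ ∈ Φ)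
    (hcomm : ∀ w ∈ W₀, ∀ w' ∈ W₀, w * w' * w⁻¹ * w'⁻¹ ∈ Φ) (hpow : ∀ w ∈ W₀, w ^ q ∈ Φ)
    (hfrat : ∀ H : Subgroup G, H ≤ W₀ → H ⊔ Φ = W₀ → H = W₀)
    (hirr : ∀ U : Subgroup G, Φ ≤ U → U ≤ W₀ → (∀ a ∈ A, ∀ w ∈ U, a * w * a⁻¹ ∈ U) →
      U = Φ ∨ U = W₀)
    (hfix : ∀ w ∈ W₀, (∀ y ∈ R, y * w * y⁻¹ * w⁻¹ ∈ Φ) → w ∈ Φ) :
    Nat.card W₀ * Nat.card Φ ≤
      (Nat.card {w : G // w ∈ W₀ ∧ ∀ y ∈ P, y * w * y⁻¹ * w⁻¹ ∈ Φ}) ^ 2 :=
  REDUCE_aux_core P A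
    (fun X _ _ Wb Ab Rb Pb _ hWab q r hq hr hqr hWq hRr hc1 hc2 hRA hRn hfix a ha hgenA hpairs =>
      ABS_count Wb Ab Rb Pb hWab q r hq hr hqr hWq hRr hc1 hc2 hRA hRn hfix a ha hgenA hpairs)
    hP hA hmax R W₀ Φ q r hq hr hqr hW hR hRA hRn hΦW hne hW₀n hΦn hcomm hpow hfrat hirr hfix

end Cfsg.Agent.S3822P
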