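import Mathlib
import Cfsg.Agent.S0556

/-! # S3903: auxiliary lemmas (helper17).

`N` a proper normal subgroup of the finite group `G` such that every `x ∉ N` has prime power order and
`C_G(x)` is a maximal subgroup.  Then `N` is solvable.  Elementary proof:
1. if some `x ∉ N` centralises `N` then `N` is a `p`-group;
2. otherwise `G = N C_G(x)` for all `x ∉ N`, so `G/N` is abelian, all elements outside `N` are `p`-elements for
   one prime `p`, every `C_G(x)` (`x ∉ N`) is a `p`-group, hence a Sylow `p`-subgroup;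
3. counting `G ∖ N = ⨆_P {y | C_G(y) = P} ⊆ ⨆_P (Z(P) ∖ 1)` some `C_G(y)` is abelian;
4. Herstein (landed `S0556`): `G` is solvable. -/

set_option autoImplicit false

namespace Cfsg.Agent.Helper17.S3903Aux

variable {G : Type*} [Group G]

/-- A proper subgroup has at most half of the elements. -/
theorem two_mul_card_le_of_lt [Finite G] {H K : Subgroup G} (hle : H ≤ K) (hne : H ≠ K) :
    2 * Nat.card H ≤ Nat.card K := by
  obtain ⟨t, ht⟩ := Subgroup.card_dvd_of_le hle
  have hK : 0 < Nat.card K := Nat.card_pos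
  have hH : 0 < Nat.card H := Nat.card_pos
  have ht0 : t ≠ 0 := by
    rintro rfl
    simp at ht
    omega
  have ht1 : t ≠ 1 := by
    rintro rfl
    apply hne
    exact Subgroup.eq_of_le_of_card_ge hle (by simp [ht])
  have : 2 ≤ t := by omega
  rw [ht]
  nlinarith

/-- The `p'`-part argument: an element of `N` commuting with a `p`-element outside `N` is a `p`-element. -/
theorem pelt_of_commute [Finite G] (N : Subgroup G) {p a : ℕ} (hp : p.Prime) (ha : 0 < a)
    (hpp : ∀ y : G, y ∉ N → IsPrimePow (orderOf y)) {x u : G} (hx : x ∉ N) (hox : orderOf x = p ^ a)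
    (hu : u ∈ N) (hc : Commute x u) : ∃ k : ℕ, u ^ (p ^ k) = 1 := by
  have hn0 : orderOf u ≠ 0 := (orderOf_pos u).ne'
  obtain ⟨c, m, hpm, hcm⟩ := Nat.exists_eq_pow_mul_and_not_dvd hn0 p hp.ne_one
  refine ⟨c, ?_⟩
  set u' := u ^ (p ^ c) with hu'
  have hu'N : u' ∈ N := N.pow_mem hu _
  have hm0 : m ≠ 0 := by
    rintro rfl
    exact hpm (dvd_zero p)
  have hou' : orderOf u' = m := by
    rw [hu', orderOf_pow, hcm]
    have : Nat.gcd (p ^ c * m) (p ^ c) = p ^ c := Nat.gcd_eq_right (Dvd.intro _ rfl)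
    rw [this]
    exact Nat.mul_div_cancel_left m (pow_pos hp.pos c)
  have hc' : Commute x u' := hc.pow_right _
  have hcop : (orderOf x).Coprime (orderOf u') := by
    rw [hox, hou']
    exact Nat.Coprime.pow_left a ((Nat.Prime.coprime_iff_not_dvd hp).mpr hpm)
  have hord : orderOf (x * u') = p ^ a * m := by
    rw [hc'.orderOf_mul_eq_mul_orderOf_of_coprime hcop, hox, hou']
  have hxu : x * u' ∉ N := by
    intro hmem
    apply hx
    have := N.mul_mem hmem (N.inv_mem hu'N)
    simpa using this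
  have hpp' := hpp _ hxu
  rw [hord] at hpp'
  obtain ⟨q, k, hq, hk, hqk⟩ := hpp'
  have hq' : q.Prime := hq.nat_prime
  have hpq : p ∣ q ^ k := by
    rw [hqk]
    exact Dvd.dvd.mul_right (dvd_pow_self p ha.ne') m
  have hpq' : p = q := (Nat.prime_dvd_prime_iff_eq hp hq').mp (hp.dvd_of_dvd_pow hpq)
  subst hpq'
  have hmdvd : m ∣ p ^ k := by
    rw [hqk]
    exact Dvd.intro_left _ rfl
  have hm1 : m = 1 := by
    have hcop' : Nat.Coprime m (p ^ k) :=
      Nat.Coprime.pow_right k ((Nat.Prime.coprime_iff_not_dvd hp).mpr hpm).symm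
    exact Nat.Coprime.eq_one_of_dvd hcop' hmdvd
  rw [hm1] at hou'
  exact orderOf_eq_one_iff.mp hou'


/-- Step 1: if some element outside `N` centralises `N`, then `N` is a `p`-group, hence solvable. -/
theorem solvable_of_central [Finite G] (N : Subgroup G)
    (hpp : ∀ y : G, y ∉ N → IsPrimePow (orderOf y)) {x : G} (hx : x ∉ N)
    (hcen : N ≤ Subgroup.centralizer ({x} : Set G)) : Group.IsSolvable ↥N := by
  obtain ⟨p, a, hp, ha, hpa⟩ := hpp x hx
  have hp' : p.Prime := hp.nat_prime
  haveI : Fact p.Prime := ⟨hp'⟩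
  have hPG : IsPGroup p N := by
    intro g
    have hc : Commute x (g : G) := by
      have := hcen g.2
      rw [Subgroup.mem_centralizer_singleton_iff] at this
      exact this.symm
    obtain ⟨k, hk⟩ := pelt_of_commute N hp' ha hpp hx hpa.symm g.2 hc
    exact ⟨k, Subtype.ext (by simpa using hk)⟩
  haveI := hPG.isNilpotent
  infer_instance

/-- Maximality: if `N` is not inside the maximal subgroup `C_G(x)` then `N C_G(x) = G`. -/
theorem sup_centralizer_eq_top (N : Subgroup G) {x : G}
    (hco : IsCoatom (Subgroup.centralizer ({x} : Set G)))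
    (hnc : ¬ N ≤ Subgroup.centralizer ({x} : Set G)) :
    N ⊔ Subgroup.centralizer ({x} : Set G) = ⊤ := by
  apply hco.2
  refine lt_of_le_of_ne le_sup_right ?_
  intro h
  apply hnc
  rw [h]
  exact le_sup_left

/-- Step 2a: all commutators lie in `N`. -/
theorem comm_mem (N : Subgroup G) [N.Normal]
    (hall : ∀ x : G, x ∉ N → N ⊔ Subgroup.centralizer ({x} : Set G) = ⊤) (x y : G) :
    x * y * x⁻¹ * y⁻¹ ∈ N := by
  by_cases hx : x ∈ N
  · have h1 : y * x⁻¹ * y⁻¹ ∈ N := Subgroup.Normal.conj_mem inferInstance _ (N.inv_mem hx) y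
    have := N.mul_mem hx h1
    have e : x * y * x⁻¹ * y⁻¹ = x * (y * x⁻¹ * y⁻¹) := by group
    rw [e]
    exact this
  · have hy : y ∈ N ⊔ Subgroup.centralizer ({x} : Set G) := by
      rw [hall x hx]
      exact Subgroup.mem_top y
    have hy' : y ∈ ((N ⊔ Subgroup.centralizer ({x} : Set G) : Subgroup G) : Set G) := hy
    rw [Subgroup.normal_mul] at hy'
    obtain ⟨n, hn, c, hc, rfl⟩ := Set.mem_mul.mp hy'
    rw [SetLike.mem_coe, Subgroup.mem_centralizer_singleton_iff] at hc
    have h1 : x * n * x⁻¹ ∈ N := Subgroup.Normal.conj_mem inferInstance _ hn x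
    have h2 := N.mul_mem h1 (N.inv_mem hn)
    have e : x * (n * c) * x⁻¹ * (n * c)⁻¹ = x * n * x⁻¹ * n⁻¹ := by
      have hc' : c * x⁻¹ = x⁻¹ * c := by
        have : c * x = x * c := hc
        calc c * x⁻¹ = x⁻¹ * (x * c) * x⁻¹ := by group
          _ = x⁻¹ * (c * x) * x⁻¹ := by rw [this]
          _ = x⁻¹ * c := by group
      calc x * (n * c) * x⁻¹ * (n * c)⁻¹ = x * n * (c * x⁻¹) * c⁻¹ * n⁻¹ := by group
        _ = x * n * (x⁻¹ * c) * c⁻¹ * n⁻¹ := by rw [hc']
        _ = x * n * x⁻¹ * n⁻¹ := by group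
    rw [e]
    exact h2

/-- Step 2b: all elements outside `N` are `p`-elements for one prime `p`. -/
theorem exists_prime [Finite G] (N : Subgroup G) [N.Normal] (hN : N ≠ ⊤)
    (hpp : ∀ y : G, y ∉ N → IsPrimePow (orderOf y))
    (hcomm : ∀ x y : G, x * y * x⁻¹ * y⁻¹ ∈ N) :
    ∃ p : ℕ, p.Prime ∧ ∀ y : G, y ∉ N → ∃ k : ℕ, 0 < k ∧ orderOf y = p ^ k := by
  obtain ⟨x0, -, hx0⟩ := SetLike.exists_of_lt (lt_top_iff_ne_top.mpr hN)
  obtain ⟨p, a, hp, ha, hpa⟩ := hpp x0 hx0
  have hp' : p.Prime := hp.nat_prime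
  refine ⟨p, hp', ?_⟩
  intro y hy
  obtain ⟨q, b, hq, hb, hqb⟩ := hpp y hy
  have hq' : q.Prime := hq.nat_prime
  by_cases hpq : q = p
  · subst hpq
    exact ⟨b, hb, hqb.symm⟩
  exfalso
  have hcommQ : ∀ u v : G, Commute (QuotientGroup.mk' N u) (QuotientGroup.mk' N v) := by
    intro u v
    change QuotientGroup.mk' N u * QuotientGroup.mk' N v = QuotientGroup.mk' N v * QuotientGroup.mk' N u
    rw [← map_mul, ← map_mul]
    change ((u * v : G) : G ⧸ N) = ((v * u : G) : G ⧸ N)
    rw [QuotientGroup.eq]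
    have := hcomm v⁻¹ u⁻¹
    have e : (u * v)⁻¹ * (v * u) = v⁻¹ * u⁻¹ * v⁻¹⁻¹ * u⁻¹⁻¹ := by group
    rw [e]
    exact this
  have hne1 : ∀ u : G, u ∉ N → QuotientGroup.mk' N u ≠ 1 := by
    intro u hu h1
    apply hu
    exact (QuotientGroup.eq_one_iff u).mp h1
  -- orders in the quotient
  have hox : orderOf (QuotientGroup.mk' N x0) ∣ p ^ a := by
    rw [hpa]; exact orderOf_map_dvd _ _
  have hoy : orderOf (QuotientGroup.mk' N y) ∣ q ^ b := by
    rw [hqb]; exact orderOf_map_dvd _ _
  obtain ⟨a', -, ha'⟩ := (Nat.dvd_prime_pow hp').mp hox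
  obtain ⟨b', -, hb'⟩ := (Nat.dvd_prime_pow hq').mp hoy
  have ha'0 : a' ≠ 0 := by
    rintro rfl
    rw [pow_zero, orderOf_eq_one_iff] at ha'
    exact hne1 x0 hx0 ha'
  have hb'0 : b' ≠ 0 := by
    rintro rfl
    rw [pow_zero, orderOf_eq_one_iff] at hb'
    exact hne1 y hy hb'
  have hcop : (orderOf (QuotientGroup.mk' N x0)).Coprime (orderOf (QuotientGroup.mk' N y)) := by
    rw [ha', hb']
    exact Nat.Coprime.pow _ _ ((Nat.coprime_primes hp' hq').mpr (Ne.symm hpq))
  have hmul : orderOf (QuotientGroup.mk' N (x0 * y)) = p ^ a' * q ^ b' := by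
    rw [map_mul, (hcommQ x0 y).orderOf_mul_eq_mul_orderOf_of_coprime hcop, ha', hb']
  have hxyN : x0 * y ∉ N := by
    intro hmem
    have h1 : QuotientGroup.mk' N (x0 * y) = 1 := (QuotientGroup.eq_one_iff _).mpr hmem
    rw [h1, orderOf_one] at hmul
    have h2 : p ∣ 1 := by
      rw [hmul]
      exact Dvd.dvd.mul_right (dvd_pow_self p ha'0) _
    exact hp'.one_lt.ne' (Nat.dvd_one.mp h2)
  obtain ⟨r, c, hr, hc, hrc⟩ := hpp _ hxyN
  have hr' : r.Prime := hr.nat_prime
  have hdvd : p ^ a' * q ^ b' ∣ r ^ c := by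
    rw [← hmul, hrc]
    exact orderOf_map_dvd _ _
  have hpr : p ∣ r ^ c := dvd_trans (Dvd.dvd.mul_right (dvd_pow_self p ha'0) _) hdvd
  have hqr : q ∣ r ^ c := dvd_trans (Dvd.dvd.mul_left (dvd_pow_self q hb'0) _) hdvd
  have e1 : p = r := (Nat.prime_dvd_prime_iff_eq hp' hr').mp (hp'.dvd_of_dvd_pow hpr)
  have e2 : q = r := (Nat.prime_dvd_prime_iff_eq hq' hr').mp (hq'.dvd_of_dvd_pow hqr)
  exact hpq (e2.trans e1.symm)

/-- Step 3: the centraliser of an element outside `N` is a `p`-group. -/
theorem isPGroup_centralizer [Finite G] (N : Subgroup G) {p : ℕ} (hp : p.Prime)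
    (hpp : ∀ y : G, y ∉ N → IsPrimePow (orderOf y))
    (hall : ∀ y : G, y ∉ N → ∃ k : ℕ, 0 < k ∧ orderOf y = p ^ k) {x : G} (hx : x ∉ N) :
    IsPGroup p (Subgroup.centralizer ({x} : Set G)) := by
  obtain ⟨a, ha, hxa⟩ := hall x hx
  intro g
  by_cases hg : (g : G) ∈ N
  · have hc : Commute x (g : G) := by
      have := g.2
      rw [Subgroup.mem_centralizer_singleton_iff] at this
      exact this.symm
    obtain ⟨k, hk⟩ := pelt_of_commute N hp ha hpp hx hxa hg hc
    exact ⟨k, Subtype.ext (by simpa using hk)⟩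
  · obtain ⟨k, -, hk⟩ := hall _ hg
    refine ⟨k, Subtype.ext ?_⟩
    have : (g : G) ^ (p ^ k) = 1 := by rw [← hk]; exact pow_orderOf_eq_one _
    simpa using this


/-- A maximal subgroup which is a `p`-group is a Sylow `p`-subgroup, unless `G` is a `p`-group. -/
noncomputable def sylowOf {p : ℕ} (hGp : ¬ IsPGroup p G) (x : G)
    (hco : IsCoatom (Subgroup.centralizer ({x} : Set G)))
    (hpg : IsPGroup p (Subgroup.centralizer ({x} : Set G))) : Sylow p G :=
  { toSubgroup := Subgroup.centralizer ({x} : Set G)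
    isPGroup' := hpg
    is_maximal' := by
      intro Q hQ hle
      rcases eq_or_lt_of_le hle with h | h
      · exact h.symm
      · exfalso
        have hQtop := hco.2 Q h
        subst hQtop
        apply hGp
        intro g
        obtain ⟨k, hk⟩ := hQ ⟨g, Subgroup.mem_top g⟩
        exact ⟨k, by simpa using congrArg Subtype.val hk⟩ }

theorem sylowOf_coe {p : ℕ} (hGp : ¬ IsPGroup p G) (x : G)
    (hco : IsCoatom (Subgroup.centralizer ({x} : Set G)))
    (hpg : IsPGroup p (Subgroup.centralizer ({x} : Set G))) :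
    ((sylowOf hGp x hco hpg : Sylow p G) : Subgroup G) = Subgroup.centralizer ({x} : Set G) := rfl

/-- Step 4 (counting): some `C_G(y)`, `y ∉ N`, is abelian. -/
theorem exists_abelian_centralizer [Finite G] (N : Subgroup G) (hN : N ≠ ⊤) {p : ℕ} [Fact p.Prime]
    (hGp : ¬ IsPGroup p G)
    (hco : ∀ y : G, y ∉ N → IsCoatom (Subgroup.centralizer ({y} : Set G)))
    (hpg : ∀ y : G, y ∉ N → IsPGroup p (Subgroup.centralizer ({y} : Set G))) :
    ∃ y : G, y ∉ N ∧ IsMulCommutative (Subgroup.centralizer ({y} : Set G)) := by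
  by_contra hcon
  push Not at hcon
  classical
  haveI : Fintype G := Fintype.ofFinite G
  haveI : Fintype (Sylow p G) := Fintype.ofFinite _
  let P0 : Sylow p G := Classical.arbitrary _
  let f : G → Sylow p G := fun y =>
    if h : y ∉ N then sylowOf hGp y (hco y h) (hpg y h) else P0
  set s := p ^ (Nat.card G).factorization p with hs
  have hspos : 0 < s := pow_pos (Fact.out : p.Prime).pos _
  have hcardP : ∀ P : Sylow p G, Nat.card (P : Subgroup G) = s := fun P => P.card_eq_multiplicity
  set T : Finset G := Finset.univ.filter (fun y : G => y ∉ N) with hT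
  -- fibre bound
  have hfib : ∀ P : Sylow p G, 2 * (T.filter (fun y => f y = P)).card < s := by
    intro P
    by_cases hemp : (T.filter (fun y => f y = P)) = ∅
    · rw [hemp]; simpa using hspos
    obtain ⟨y0, hy0⟩ := Finset.nonempty_iff_ne_empty.mpr hemp
    rw [Finset.mem_filter, hT, Finset.mem_filter] at hy0
    obtain ⟨⟨-, hy0N⟩, hfy0⟩ := hy0
    have hPy0 : (P : Subgroup G) = Subgroup.centralizer ({y0} : Set G) := by
      rw [← hfy0]
      simp only [f, dif_pos hy0N]
      rfl
    set ZP : Subgroup G := (P : Subgroup G) ⊓ Subgroup.centralizer ((P : Subgroup G) : Set G) with hZP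
    have hZne : ZP ≠ (P : Subgroup G) := by
      intro hEq
      have hle : (P : Subgroup G) ≤ Subgroup.centralizer ((P : Subgroup G) : Set G) :=
        le_trans (le_of_eq hEq.symm)
          (inf_le_right : (P : Subgroup G) ⊓ Subgroup.centralizer ((P : Subgroup G) : Set G) ≤ _)
      have hcomm := Subgroup.le_centralizer_iff_isMulCommutative.mp hle
      rw [hPy0] at hcomm
      exact hcon y0 hy0N hcomm
    have h2 : 2 * Nat.card ZP ≤ s := by
      rw [← hcardP P]
      exact two_mul_card_le_of_lt (H := ZP) (K := (P : Subgroup G)) inf_le_left hZne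
    -- the fibre sits inside `ZP` minus `1`
    have hsub : (T.filter (fun y => f y = P)) ⊆ (Finset.univ.filter (fun y : G => y ∈ ZP)).erase 1 := by
      intro y hy
      rw [Finset.mem_filter, hT, Finset.mem_filter] at hy
      obtain ⟨⟨-, hyN⟩, hfy⟩ := hy
      have hPy : (P : Subgroup G) = Subgroup.centralizer ({y} : Set G) := by
        rw [← hfy]
        simp only [f, dif_pos hyN]
        rfl
      rw [Finset.mem_erase, Finset.mem_filter]
      refine ⟨?_, Finset.mem_univ _, ?_⟩
      · rintro rfl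
        exact hyN N.one_mem
      · rw [hZP, Subgroup.mem_inf]
        constructor
        · rw [hPy, Subgroup.mem_centralizer_singleton_iff]
        · rw [Subgroup.mem_centralizer_iff]
          intro g hg
          have hg' : g ∈ Subgroup.centralizer ({y} : Set G) := by
            rw [← hPy]; exact hg
          rw [Subgroup.mem_centralizer_singleton_iff] at hg'
          exact hg'
    have hcardZ : (Finset.univ.filter (fun y : G => y ∈ ZP)).card = Nat.card ZP := by
      rw [Nat.card_eq_fintype_card, Fintype.card_subtype]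
    have h1mem : (1 : G) ∈ (Finset.univ.filter (fun y : G => y ∈ ZP)) := by
      rw [Finset.mem_filter]; exact ⟨Finset.mem_univ _, ZP.one_mem⟩
    have hle := Finset.card_le_card hsub
    rw [Finset.card_erase_of_mem h1mem, hcardZ] at hle
    have hZpos : 0 < Nat.card ZP := Nat.card_pos
    omega
  -- the sum over the fibres
  have hsum : T.card = ∑ P : Sylow p G, (T.filter (fun y => f y = P)).card :=
    Finset.card_eq_sum_card_fiberwise (fun _ _ => Finset.mem_univ _)
  have hlt : 2 * T.card < Nat.card (Sylow p G) * s := by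
    rw [hsum, Finset.mul_sum]
    calc ∑ P : Sylow p G, 2 * (T.filter (fun y => f y = P)).card
        < ∑ _P : Sylow p G, s :=
          Finset.sum_lt_sum_of_nonempty Finset.univ_nonempty (fun P _ => hfib P)
      _ = Nat.card (Sylow p G) * s := by
          rw [Finset.sum_const, Finset.card_univ, smul_eq_mul, Nat.card_eq_fintype_card]
  -- the number of Sylow subgroups
  have hsyl : Nat.card (Sylow p G) * s ≤ Nat.card G := by
    have h1 : Nat.card (Sylow p G) = (Subgroup.normalizer ((P0 : Subgroup G) : Set G)).index :=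
      P0.card_eq_index_normalizer
    have h2 : (Subgroup.normalizer ((P0 : Subgroup G) : Set G)).index ∣ (P0 : Subgroup G).index :=
      Subgroup.index_dvd_of_le Subgroup.le_normalizer
    have h3 : (P0 : Subgroup G).index * Nat.card (P0 : Subgroup G) = Nat.card G :=
      Subgroup.index_mul_card _
    have h4 : 0 < (P0 : Subgroup G).index := Nat.pos_of_ne_zero Subgroup.index_ne_zero_of_finite
    have h5 : Nat.card (Sylow p G) ≤ (P0 : Subgroup G).index := by
      rw [h1]; exact Nat.le_of_dvd h4 h2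
    calc Nat.card (Sylow p G) * s ≤ (P0 : Subgroup G).index * s := Nat.mul_le_mul_right _ h5
      _ = Nat.card G := by rw [← hcardP P0, h3]
  -- the complement of `N`
  have hTcard : T.card + Nat.card N = Nat.card G := by
    have h1 := Finset.card_filter_add_card_filter_not (s := (Finset.univ : Finset G))
      (fun y : G => y ∈ N)
    have h2 : (Finset.univ.filter (fun y : G => y ∈ N)).card = Nat.card N := by
      rw [Nat.card_eq_fintype_card, Fintype.card_subtype]
    rw [h2, Finset.card_univ, ← Nat.card_eq_fintype_card] at h1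
    rw [hT]
    omega
  have hNhalf : 2 * Nat.card N ≤ Nat.card G := by
    have := two_mul_card_le_of_lt (le_top : N ≤ ⊤) hN
    rwa [Subgroup.card_top] at this
  omega

end Cfsg.Agent.Helper17.S3903Aux
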