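import Mathlib
import Cfsg.Agent.Helper26.S3911Defs
import Cfsg.Agent.Helper17.S3913Defs
import Cfsg.Agent.S0044

/-! S3913 piece ENDQ (helper17), core: the quaternion case is impossible, with the pieces FHALL, NSYL, IRR as hypotheses. -/

set_option linter.style.haveILetI false

set_option autoImplicit false

namespace Cfsg.Agent.S3913P

open Cfsg.Agent.S3911P Cfsg.Agent.S3913P

open scoped commutatorElement

/-- `QuaternionGroup 2` is not commutative. -/
theorem ENDQ_aux_q8 : ¬ ∀ a b : QuaternionGroup 2, a * b = b * a := by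
  intro h
  have := h (QuaternionGroup.a 1) (QuaternionGroup.xa 0)
  revert this
  decide

theorem ENDQ_aux_core {G : Type*} [Group G] [Finite G] (hsol : Group.IsSolvable G)
    (hFH : ∀ a ∈ Cfsg.fittingSubgroup G, ∀ b ∈ Cfsg.fittingSubgroup G, a * b = b * a)
    (hNS : ∀ (p : ℕ) [Fact p.Prime], Cfsg.pCore p G ≠ ⊥ →
      (∀ a ∈ Cfsg.pCore p G, ∀ b ∈ Cfsg.pCore p G, a * b = b * a) ∧ (∀ a ∈ Cfsg.pCore p G, a ^ p = 1))
    (hIRR : ∀ (F Q : Subgroup G) [F.Normal]
      (_ : (F ⊔ Q).Normal) (N : Subgroup G) [N.Normal] (_ : ∀ a ∈ N, ∀ b ∈ N, a * b = b * a)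
      (_ : F ≤ Subgroup.centralizer (N : Set G)) (p : ℕ) [Fact p.Prime] (_ : ∀ v ∈ N, v ^ p = 1)
      (W : Subgroup G) (_ : W ≤ N) (_ : W ≠ ⊥) (_ : W ≠ N)
      (_ : Q ≤ Subgroup.normalizer (W : Set G)),
      ∀ a ∈ Q, ∀ b ∈ Q, ∀ x ∈ N, ⁅a, b⁆ * x = x * ⁅a, b⁆)
    (P : Sylow 2 (G ⧸ Cfsg.fittingSubgroup G))
    (e : ↥(P : Subgroup (G ⧸ Cfsg.fittingSubgroup G)) ≃* QuaternionGroup 2)
    (hPn : (P : Subgroup (G ⧸ Cfsg.fittingSubgroup G)).Normal)
    (W : Subgroup G) (hWF : W ≤ Cfsg.fittingSubgroup G)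
    (hPW : (P : Subgroup (G ⧸ Cfsg.fittingSubgroup G)) ≤
      (Subgroup.normalizer (W : Set G)).map (QuotientGroup.mk' (Cfsg.fittingSubgroup G)))
    (hmid : ∀ (p : ℕ) [Fact p.Prime], Cfsg.pCore p G ≠ ⊥ →
      W ⊓ Cfsg.pCore p G ≠ ⊥ ∧ W ⊓ Cfsg.pCore p G ≠ Cfsg.pCore p G) : False := by
  classical
  set F := Cfsg.fittingSubgroup G with hF
  have hFab := hFH
  set Q : Subgroup G := (P : Subgroup (G ⧸ F)).comap (QuotientGroup.mk' F) with hQ
  haveI hQn : Q.Normal := hPn.comap _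
  have hFQ : F ≤ Q := by
    intro f hf
    rw [hQ, Subgroup.mem_comap]
    have : (QuotientGroup.mk' F) f = 1 := by
      rw [QuotientGroup.mk'_apply, QuotientGroup.eq_one_iff]; exact hf
    rw [this]; exact one_mem _
  have hFQn : (F ⊔ Q).Normal := by
    rw [sup_eq_right.mpr hFQ]; exact hQn
  -- F ≤ N(W)
  have hFX : F ≤ Subgroup.normalizer (W : Set G) := by
    intro f hf
    rw [Subgroup.mem_normalizer_iff]
    intro w
    have key : ∀ w ∈ W, f * w * f⁻¹ = w := by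
      intro w hw
      have := hFab f hf w (hWF hw)
      rw [this, mul_inv_cancel_right]
    constructor
    · intro hw; rw [key w hw]; exact hw
    · intro hw
      have h2 : f⁻¹ * (f * w * f⁻¹) * f⁻¹⁻¹ = f * w * f⁻¹ := by
        have := hFab f⁻¹ (inv_mem hf) (f * w * f⁻¹) (hWF hw)
        rw [this, mul_inv_cancel_right]
      have h3 : f⁻¹ * (f * w * f⁻¹) * f⁻¹⁻¹ = w := by group
      rw [← h3, h2]; exact hw
  -- Q ≤ N(W)
  have hQX : Q ≤ Subgroup.normalizer (W : Set G) := by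
    intro a ha
    rw [hQ, Subgroup.mem_comap] at ha
    obtain ⟨x, hx, hxa⟩ := hPW ha
    have h1 : x⁻¹ * a ∈ F := by
      rw [QuotientGroup.mk'_apply, QuotientGroup.mk'_apply] at hxa
      exact QuotientGroup.eq.mp hxa
    have : a = x * (x⁻¹ * a) := by group
    rw [this]
    exact mul_mem hx (hFX h1)
  -- commutators of Q centralise every O_p
  have hcomm : ∀ a ∈ Q, ∀ b ∈ Q, ∀ (p : ℕ) [Fact p.Prime], ∀ x ∈ Cfsg.pCore p G,
      ⁅a, b⁆ * x = x * ⁅a, b⁆ := by
    intro a ha b hb p _ x hx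
    by_cases hp : Cfsg.pCore p G = ⊥
    · rw [hp, Subgroup.mem_bot] at hx
      rw [hx, mul_one, one_mul]
    · obtain ⟨hNab, hNp⟩ := hNS p hp
      have hNF : Cfsg.pCore p G ≤ F := Cfsg.Agent.Helper7.pCore_le_fittingSubgroup p
      have hFN : F ≤ Subgroup.centralizer (Cfsg.pCore p G : Set G) := by
        intro f hf
        rw [Subgroup.mem_centralizer_iff]
        intro y hy
        exact hFab y (hNF hy) f hf
      obtain ⟨h1, h2⟩ := hmid p hp
      have hQW' : Q ≤ Subgroup.normalizer ((W ⊓ Cfsg.pCore p G : Subgroup G) : Set G) := by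
        intro c hc
        have hcW := hQX hc
        rw [Subgroup.mem_normalizer_iff] at hcW ⊢
        intro w
        rw [Subgroup.mem_inf, Subgroup.mem_inf, ← hcW w]
        have hn : (Cfsg.pCore p G).Normal := inferInstance
        constructor
        · rintro ⟨hw1, hw2⟩
          exact ⟨hw1, hn.conj_mem _ hw2 _⟩
        · rintro ⟨hw1, hw2⟩
          refine ⟨hw1, ?_⟩
          have := hn.conj_mem _ hw2 c⁻¹
          have h3 : c⁻¹ * (c * w * c⁻¹) * c⁻¹⁻¹ = w := by group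
          rw [h3] at this; exact this
      exact hIRR F Q hFQn (Cfsg.pCore p G) hNab hFN p hNp (W ⊓ Cfsg.pCore p G) inf_le_right h1 h2
        hQW' a ha b hb x hx
  -- commutators of Q lie in C(F) ≤ F
  have hcF : ∀ a ∈ Q, ∀ b ∈ Q, ⁅a, b⁆ ∈ F := by
    intro a ha b hb
    haveI := hsol
    apply Cfsg.Agent.S0044.result
    have hle : F ≤ Subgroup.centralizer ({⁅a, b⁆} : Set G) := by
      rw [hF, Cfsg.Agent.Helper7.fittingSubgroup_eq_pCoreSup, Cfsg.Agent.Helper7.pCoreSup_le_iff]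
      intro p hp x hx
      haveI : Fact p.Prime := ⟨hp⟩
      rw [Subgroup.mem_centralizer_iff]
      intro y hy
      rw [Set.mem_singleton_iff] at hy
      rw [hy]
      exact hcomm a ha b hb p x hx
    rw [Subgroup.mem_centralizer_iff]
    intro y hy
    have := hle hy
    rw [Subgroup.mem_centralizer_iff] at this
    exact (this _ rfl).symm
  -- P is commutative
  apply ENDQ_aux_q8
  intro u v
  obtain ⟨⟨u', hu'⟩, rfl⟩ := e.surjective u
  obtain ⟨⟨v', hv'⟩, rfl⟩ := e.surjective v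
  rw [← map_mul, ← map_mul]
  congr 1
  apply Subtype.ext
  show u' * v' = v' * u'
  obtain ⟨a, rfl⟩ := QuotientGroup.mk'_surjective F u'
  obtain ⟨b, rfl⟩ := QuotientGroup.mk'_surjective F v'
  have ha : a ∈ Q := hu'
  have hb : b ∈ Q := hv'
  have h1 := hcF a ha b hb
  rw [← map_mul, ← map_mul]
  rw [QuotientGroup.mk'_apply, QuotientGroup.mk'_apply, QuotientGroup.eq]
  have : (a * b)⁻¹ * (b * a) = ⁅b⁻¹, a⁻¹⁆ := by
    rw [commutatorElement_def]; group
  rw [this]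
  have hb' : b⁻¹ ∈ Q := inv_mem hb
  have ha' : a⁻¹ ∈ Q := inv_mem ha
  exact hcF _ hb' _ ha'

end Cfsg.Agent.S3913P
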