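import Mathlib
import Cfsg.Agent.Helper26.S3911Defs
import Cfsg.Agent.Helper17.S3913Defs
import Cfsg.Agent.Helper17.S3913ENDQCore
import Cfsg.Agent.Helper3.S3913NSYL
import Cfsg.Agent.Helper3.S3913FHALL
import Cfsg.Agent.Helper11.S3913IRR

/-! S3913 piece ENDQ (helper17): the quaternion case is impossible. -/

set_option autoImplicit false

namespace Cfsg.Agent.S3913P

open Cfsg.Agent.S3911P Cfsg.Agent.S3913P

open scoped commutatorElement

theorem ENDQ {G : Type*} [Group G] [Finite G] (hB : BProp G) (hsol : Group.IsSolvable G) (hred : Red G)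
    (P : Sylow 2 (G ⧸ Cfsg.fittingSubgroup G))
    (e : ↥(P : Subgroup (G ⧸ Cfsg.fittingSubgroup G)) ≃* QuaternionGroup 2)
    (hPn : (P : Subgroup (G ⧸ Cfsg.fittingSubgroup G)).Normal)
    (W : Subgroup G) (hWF : W ≤ Cfsg.fittingSubgroup G)
    (hPW : (P : Subgroup (G ⧸ Cfsg.fittingSubgroup G)) ≤
      (Subgroup.normalizer (W : Set G)).map (QuotientGroup.mk' (Cfsg.fittingSubgroup G)))
    (hmid : ∀ (p : ℕ) [Fact p.Prime], Cfsg.pCore p G ≠ ⊥ →
      W ⊓ Cfsg.pCore p G ≠ ⊥ ∧ W ⊓ Cfsg.pCore p G ≠ Cfsg.pCore p G) : False :=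
  ENDQ_aux_core hsol (FHALL hB hsol hred).1
    (fun p _ hp => ⟨(NSYL hB hsol hred p hp).2.1, (NSYL hB hsol hred p hp).2.2.1⟩)
    (fun F Q _ hFQ N _ hNab hFN p _ hNp W hWN hW1 hW2 hQW =>
      IRR hB F Q hFQ N hNab hFN p hNp W hWN hW1 hW2 hQW)
    P e hPn W hWF hPW hmid

end Cfsg.Agent.S3913P
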