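import Mathlib
import Cfsg.Agent.Helper26.S3911Defs
import Cfsg.Agent.Helper17.S3913Defs

/-! S3913 piece ENDZ (helper17), core: the Z-group case, with the piece NHALL as a hypothesis. -/

set_option autoImplicit false
set_option linter.style.haveILetI false

namespace Cfsg.Agent.S3913P

open Cfsg.Agent.S3911P Cfsg.Agent.S3913P

universe u

/-- `|f(A)| · |A ∩ ker f| = |A|`. -/
theorem ENDZ_aux_card {G H : Type*} [Group G] [Group H] (f : G →* H) (A : Subgroup G) :
    Nat.card ↥(A.map f) * Nat.card ↥(A ⊓ f.ker : Subgroup G) = Nat.card ↥A := by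
  have h1 := (f.subgroupMap A).ker.card_mul_index
  have h2 : (f.subgroupMap A).ker.index = Nat.card ↥(A.map f) := by
    rw [Subgroup.index_ker, MonoidHom.range_eq_top.mpr (f.subgroupMap_surjective A)]
    exact Nat.card_congr Subgroup.topEquiv.toEquiv
  have h3 : Nat.card ↥(f.subgroupMap A).ker = Nat.card ↥(A ⊓ f.ker : Subgroup G) := by
    have e1 : (f.subgroupMap A).ker = (A ⊓ f.ker).subgroupOf A := by
      ext ⟨x, hx⟩
      rw [MonoidHom.mem_ker, Subgroup.mem_subgroupOf, Subgroup.mem_inf, MonoidHom.mem_ker]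
      constructor
      · intro h
        refine ⟨hx, ?_⟩
        have := congrArg Subtype.val h
        exact this
      · rintro ⟨-, h⟩
        apply Subtype.ext
        exact h
    rw [e1]
    exact Nat.card_congr (Subgroup.subgroupOfEquivOfLe inf_le_left).toEquiv
  rw [← h1, h2, h3, mul_comm]

/-- `A` normalises `A ⊓ F` for `F` normal. -/
theorem ENDZ_aux_norm {G : Type*} [Group G] (A F : Subgroup G) [hn : F.Normal] :
    A ≤ Subgroup.normalizer ((A ⊓ F : Subgroup G) : Set G) := by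
  intro a ha
  rw [Subgroup.mem_normalizer_iff]
  intro w
  rw [Subgroup.mem_inf, Subgroup.mem_inf]
  constructor
  · rintro ⟨h1, h2⟩
    exact ⟨mul_mem (mul_mem ha h1) (inv_mem ha), hn.conj_mem _ h2 _⟩
  · rintro ⟨h1, h2⟩
    have e : w = a⁻¹ * (a * w * a⁻¹) * a⁻¹⁻¹ := by group
    refine ⟨?_, ?_⟩
    · rw [e]; exact mul_mem (mul_mem (inv_mem ha) h1) (inv_mem (inv_mem ha))
    · rw [e]; exact hn.conj_mem _ h2 _

/-- An abelian subgroup `F` normalises each of its subgroups. -/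
theorem ENDZ_aux_abnorm {G : Type*} [Group G] (F W : Subgroup G)
    (hFab : ∀ a ∈ F, ∀ b ∈ F, a * b = b * a) (hWF : W ≤ F) :
    F ≤ Subgroup.normalizer (W : Set G) := by
  intro f hf
  rw [Subgroup.mem_normalizer_iff]
  intro w
  have key : ∀ w ∈ W, f * w * f⁻¹ = w := by
    intro w hw
    have := hFab f hf w (hWF hw)
    rw [this, mul_inv_cancel_right]
  constructor
  · intro hw; rw [key w hw]; exact hw
  · intro hw
    have h2 : f⁻¹ * (f * w * f⁻¹) * f⁻¹⁻¹ = f * w * f⁻¹ := by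
      have := hFab f⁻¹ (inv_mem hf) (f * w * f⁻¹) (hWF hw)
      rw [this, mul_inv_cancel_right]
    have h3 : f⁻¹ * (f * w * f⁻¹) * f⁻¹⁻¹ = w := by group
    rw [← h3, h2]; exact hw

/-- composition of conjugations. -/
theorem ENDZ_aux_conj_conj {G : Type*} [Group G] (A : Subgroup G) (x g : G) :
    (A.map (MulAut.conj x).toMonoidHom).map (MulAut.conj g).toMonoidHom =
      A.map (MulAut.conj (g * x)).toMonoidHom := by
  rw [Subgroup.map_map]
  congr 1
  ext y
  simp [MulAut.conj_apply, mul_assoc]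

theorem ENDZ_aux_core {G : Type u} [Group G] [Finite G] (F : Subgroup G) [F.Normal]
    (hFab : ∀ a ∈ F, ∀ b ∈ F, a * b = b * a)
    (hNH : ∀ A B : Subgroup G, A ⊔ F = B ⊔ F → A ⊓ F = B ⊓ F →
      ∃ g : G, B = A.map (MulAut.conj g).toMonoidHom)
    (hZS : ∀ (X : Type u) [Group X] [Finite X] [IsZGroup X], SProp X)
    (A B : Subgroup G) (h : Nat.card ↥A = Nat.card ↥B) (hinf : A ⊓ F = B ⊓ F)
    (hZ : IsZGroup ↥((Subgroup.normalizer ((A ⊓ F : Subgroup G) : Set G)).map (QuotientGroup.mk' F))) :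
    ∃ g : G, B = A.map (MulAut.conj g).toMonoidHom := by
  classical
  set W : Subgroup G := A ⊓ F with hW
  set X : Subgroup G := Subgroup.normalizer (W : Set G) with hX
  set π := QuotientGroup.mk' F with hπ
  have hker : π.ker = F := QuotientGroup.ker_mk' F
  have hAX : A ≤ X := ENDZ_aux_norm A F
  have hBX : B ≤ X := by
    have := ENDZ_aux_norm B F
    rw [← hinf] at this
    exact this
  have hFX : F ≤ X := ENDZ_aux_abnorm F W hFab inf_le_right
  set Xb : Subgroup (G ⧸ F) := X.map π with hXb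
  have hAb : A.map π ≤ Xb := Subgroup.map_mono hAX
  have hBb : B.map π ≤ Xb := Subgroup.map_mono hBX
  -- cardinalities
  have hcA := ENDZ_aux_card π A
  have hcB := ENDZ_aux_card π B
  rw [hker] at hcA hcB
  rw [← hinf] at hcB
  have hWpos : 0 < Nat.card ↥(A ⊓ F : Subgroup G) := Nat.card_pos
  have hcard : Nat.card ↥(A.map π) = Nat.card ↥(B.map π) := by
    have : Nat.card ↥(A.map π) * Nat.card ↥(A ⊓ F : Subgroup G) =
        Nat.card ↥(B.map π) * Nat.card ↥(A ⊓ F : Subgroup G) := by rw [hcA, hcB, h]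
    exact Nat.eq_of_mul_eq_mul_right hWpos this
  have hcard' : Nat.card ↥((A.map π).subgroupOf Xb) = Nat.card ↥((B.map π).subgroupOf Xb) := by
    rw [Nat.card_congr (Subgroup.subgroupOfEquivOfLe hAb).toEquiv,
      Nat.card_congr (Subgroup.subgroupOfEquivOfLe hBb).toEquiv, hcard]
  haveI := hZ
  obtain ⟨⟨xb, hxb⟩, hconj⟩ := hZS ↥Xb _ _ hcard'
  obtain ⟨x, hxX, rfl⟩ := hxb
  -- `B ⊔ F = A^x ⊔ F`
  have hsup : A.map (MulAut.conj x).toMonoidHom ⊔ F = B ⊔ F := by
    apply le_antisymm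
    · apply sup_le _ le_sup_right
      rintro _ ⟨a, ha, rfl⟩
      have h1 : (⟨π x, ⟨x, hxX, rfl⟩⟩ : ↥Xb) * ⟨π a, hAb ⟨a, ha, rfl⟩⟩ * (⟨π x, ⟨x, hxX, rfl⟩⟩ : ↥Xb)⁻¹ ∈
          (B.map π).subgroupOf Xb := by
        rw [hconj]
        refine ⟨⟨π a, hAb ⟨a, ha, rfl⟩⟩, ?_, rfl⟩
        rw [SetLike.mem_coe, Subgroup.mem_subgroupOf]
        exact ⟨a, ha, rfl⟩
      rw [Subgroup.mem_subgroupOf] at h1
      obtain ⟨b, hb, hb'⟩ := h1
      have h2 : π b = π (x * a * x⁻¹) := by
        rw [hb']; simp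
      have h3 : b⁻¹ * (x * a * x⁻¹) ∈ F := by
        rw [hπ, QuotientGroup.mk'_apply, QuotientGroup.mk'_apply] at h2
        exact QuotientGroup.eq.mp h2
      have h4 : (MulAut.conj x).toMonoidHom a = b * (b⁻¹ * (x * a * x⁻¹)) := by
        simp [MulAut.conj_apply]
      rw [h4]
      exact mul_mem (Subgroup.mem_sup_left hb) (Subgroup.mem_sup_right h3)
    · apply sup_le _ le_sup_right
      intro b hb
      have h1 : (⟨π b, hBb ⟨b, hb, rfl⟩⟩ : ↥Xb) ∈ (B.map π).subgroupOf Xb := by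
        rw [Subgroup.mem_subgroupOf]
        exact ⟨b, hb, rfl⟩
      rw [hconj] at h1
      obtain ⟨⟨c, hcX⟩, hc, hc'⟩ := h1
      rw [SetLike.mem_coe, Subgroup.mem_subgroupOf] at hc
      obtain ⟨a, ha, rfl⟩ := hc
      have h2 : π (x * a * x⁻¹) = π b := by
        have := congrArg Subtype.val hc'
        simp only [MulEquiv.toMonoidHom_eq_coe, MonoidHom.coe_coe, MulAut.conj_apply] at this
        rw [map_mul, map_mul, map_inv]
        exact this
      have h3 : (x * a * x⁻¹)⁻¹ * b ∈ F := by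
        rw [hπ, QuotientGroup.mk'_apply, QuotientGroup.mk'_apply] at h2
        exact QuotientGroup.eq.mp h2
      have h4 : b = (x * a * x⁻¹) * ((x * a * x⁻¹)⁻¹ * b) := by group
      rw [h4]
      refine mul_mem (Subgroup.mem_sup_left ⟨a, ha, ?_⟩) (Subgroup.mem_sup_right h3)
      simp [MulAut.conj_apply]
  -- `A^x ⊓ F = B ⊓ F`
  have hinf' : A.map (MulAut.conj x).toMonoidHom ⊓ F = B ⊓ F := by
    rw [← hinf]
    have hn : F.Normal := inferInstance
    have hxW : x ∈ Subgroup.normalizer (W : Set G) := hxX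
    rw [Subgroup.mem_normalizer_iff] at hxW
    ext y
    constructor
    · rintro ⟨⟨a, ha, rfl⟩, hy2⟩
      have haF : a ∈ F := by
        have := hn.conj_mem _ hy2 x⁻¹
        simp only [MulEquiv.toMonoidHom_eq_coe, MonoidHom.coe_coe, MulAut.conj_apply] at this
        have e : x⁻¹ * (x * a * x⁻¹) * x⁻¹⁻¹ = a := by group
        rw [e] at this; exact this
      have : x * a * x⁻¹ ∈ W := (hxW a).mp ⟨ha, haF⟩
      simpa [MulAut.conj_apply] using this
    · intro hy
      have hyW : y ∈ W := hy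
      have h1 : x⁻¹ * y * x ∈ W := by
        rw [hxW (x⁻¹ * y * x)]
        have e : x * (x⁻¹ * y * x) * x⁻¹ = y := by group
        rw [e]; exact hyW
      refine ⟨⟨x⁻¹ * y * x, h1.1, ?_⟩, hy.2⟩
      simp only [MulEquiv.toMonoidHom_eq_coe, MonoidHom.coe_coe, MulAut.conj_apply]
      group
  obtain ⟨g, hg⟩ := hNH _ _ hsup hinf'
  exact ⟨g * x, by rw [hg, ENDZ_aux_conj_conj]⟩

end Cfsg.Agent.S3913P
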