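import Mathlib
import Cfsg.Agent.Helper26.S3911Defs
import Cfsg.Agent.Helper17.S3913Defs
import Cfsg.Agent.Helper17.S3913ENDZCore
import Cfsg.Agent.Helper8.S3913NHALL

/-! S3913 piece ENDZ (helper17): the Z-group case. -/

set_option autoImplicit false

namespace Cfsg.Agent.S3913P

open Cfsg.Agent.S3911P Cfsg.Agent.S3913P

universe u

theorem ENDZ {G : Type u} [Group G] [Finite G] (F : Subgroup G) [F.Normal]
    (hFab : ∀ a ∈ F, ∀ b ∈ F, a * b = b * a) (hF : (Nat.card ↥F).Coprime F.index)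
    (hZS : ∀ (X : Type u) [Group X] [Finite X] [IsZGroup X], SProp X)
    (A B : Subgroup G) (h : Nat.card ↥A = Nat.card ↥B) (hinf : A ⊓ F = B ⊓ F)
    (hZ : IsZGroup ↥((Subgroup.normalizer ((A ⊓ F : Subgroup G) : Set G)).map (QuotientGroup.mk' F))) :
    ∃ g : G, B = A.map (MulAut.conj g).toMonoidHom :=
  ENDZ_aux_core F hFab (fun A B => NHALL F hFab hF A B) hZS A B h hinf hZ

end Cfsg.Agent.S3913P
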