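import Mathlib
import Cfsg.Agent.Helper26.S3911Defs
import Cfsg.Agent.Helper17.S3913Defs
import Cfsg.Agent.Helper8.S3913AQ
import Cfsg.Agent.S0044
import Cfsg.Agent.S3908
import Cfsg.Agent.S3909

/-! S3913 piece SYLB (helper17), core: if `O_r(K) = 1` the Sylow `r`-subgroups are cyclic; the pieces SYLA, AC2, QG2
are hypotheses. -/

set_option autoImplicit false
set_option linter.style.haveILetI false

namespace Cfsg.Agent.S3913P

open Cfsg.Agent.S3911P Cfsg.Agent.S3913P

open scoped commutatorElement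

universe u

/-- if `a ≡ x^{-m}` and `b ≡ x^{-n}` modulo the normal subgroup `C`, then `[a,b] ∈ C`. -/
theorem SYLB_aux_comm_mem {K : Type*} [Group K] (C : Subgroup K) [C.Normal] (x a b : K) (m n : ℕ)
    (ha : a * x ^ m ∈ C) (hb : b * x ^ n ∈ C) : ⁅a, b⁆ ∈ C := by
  set φ := QuotientGroup.mk' C with hφ
  have hker : ∀ y : K, φ y = 1 ↔ y ∈ C := fun y => by
    rw [hφ, QuotientGroup.mk'_apply, QuotientGroup.eq_one_iff]
  rw [← hker, map_commutatorElement, commutatorElement_eq_one_iff_commute]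
  have ha' : φ a = ((φ x) ^ m)⁻¹ := by
    rw [eq_inv_iff_mul_eq_one, ← map_pow, ← map_mul, hker]; exact ha
  have hb' : φ b = ((φ x) ^ n)⁻¹ := by
    rw [eq_inv_iff_mul_eq_one, ← map_pow, ← map_mul, hker]; exact hb
  rw [ha', hb']
  exact ((Commute.refl (φ x)).pow_pow m n).inv_inv

/-- `r ∤ |F(K)|` if `O_r(K) = 1`. -/
theorem SYLB_aux_coprime {K : Type u} [Group K] [Finite K] (r : ℕ) [Fact r.Prime]
    (hr : Cfsg.pCore r K = ⊥) : ¬ r ∣ Nat.card ↥(Cfsg.fittingSubgroup K) := by
  intro hdvd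
  haveI : Group.IsNilpotent ↥(Cfsg.fittingSubgroup K) := Cfsg.Agent.Helper7.fittingSubgroup_isNilpotent
  let S : Sylow r ↥(Cfsg.fittingSubgroup K) := default
  have hSn : (S : Subgroup ↥(Cfsg.fittingSubgroup K)).Normal := inferInstance
  haveI := Sylow.characteristic_of_normal S hSn
  have hle : (S : Subgroup ↥(Cfsg.fittingSubgroup K)).map (Cfsg.fittingSubgroup K).subtype ≤ Cfsg.pCore r K :=
    Cfsg.Agent.Helper14.le_pCore r inferInstance (S.2.map _)
  rw [hr, le_bot_iff] at hle
  have : (S : Subgroup ↥(Cfsg.fittingSubgroup K)) = ⊥ :=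
    (Subgroup.map_eq_bot_iff_of_injective _ (Cfsg.fittingSubgroup K).subtype_injective).mp hle
  exact S.ne_bot_of_dvd_card hdvd this

/-- `QuaternionGroup n`, `2 ≤ n`, is not commutative. -/
theorem SYLB_aux_quat {n : ℕ} (hn : 2 ≤ n) :
    ¬ ∀ a b : QuaternionGroup n, a * b = b * a := by
  intro h
  have h1 := h (QuaternionGroup.a 1) (QuaternionGroup.xa 0)
  rw [QuaternionGroup.a_mul_xa, QuaternionGroup.xa_mul_a] at h1
  have h2 : (0 : ZMod (2 * n)) - 1 = 0 + 1 := by
    injection h1
  have h3 : ((2 : ℕ) : ZMod (2 * n)) = 0 := by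
    have : (1 : ZMod (2 * n)) + 1 = 0 := by
      have := h2
      rw [zero_sub, zero_add] at this
      calc (1 : ZMod (2 * n)) + 1 = -1 + 1 := by rw [this]
        _ = 0 := by ring
    push_cast
    rw [← this]; norm_num
  rw [ZMod.natCast_eq_zero_iff] at h3
  have := Nat.le_of_dvd (by norm_num) h3
  omega

theorem SYLB_aux_core {K : Type u} [Group K] [Finite K] (hB : BProp K) (hsol : Group.IsSolvable K)
    (hSYLA : ∀ (q : ℕ) [Fact q.Prime], Cfsg.pCore q K ≠ ⊥ → ∀ Pq : Sylow q K,
      IsCyclic ↥(Pq : Subgroup K) ∨ (q = 2 ∧ Nonempty (↥(Pq : Subgroup K) ≃* QuaternionGroup 2)))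
    (hAC2 : ∀ (P C : Subgroup K), P ≤ Subgroup.normalizer (C : Set K) → IsCyclic ↥C →
      ∀ (q : ℕ) [Fact q.Prime], IsPGroup q ↥C → (Nat.card ↥P).Coprime q →
      ∃ x ∈ P, ∀ y ∈ P, ∃ m : ℕ, y * x ^ m ∈ Subgroup.centralizer (C : Set K))
    (hQG2 : ∀ (Pq : Subgroup K) (_ : ↥Pq ≃* QuaternionGroup 2) (T : Subgroup ↥Pq), IsCyclic ↥T ∨ T = ⊤)
    (r : ℕ) [Fact r.Prime] (hr : Cfsg.pCore r K = ⊥) (P : Sylow r K) : IsCyclic ↥(P : Subgroup K) := by
  classical
  have hrp : r.Prime := Fact.out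
  set Φ := Cfsg.fittingSubgroup K with hΦ
  have hrΦ : ¬ r ∣ Nat.card ↥Φ := SYLB_aux_coprime r hr
  -- P ⊓ Φ = ⊥
  have hPΦ : ∀ d ∈ (P : Subgroup K), d ∈ Φ → d = 1 := by
    intro d hdP hdΦ
    obtain ⟨k, hk⟩ := P.2 ⟨d, hdP⟩
    have hk' : d ^ r ^ k = 1 := by
      have := congrArg Subtype.val hk
      simpa using this
    have h1 : orderOf d ∣ r ^ k := orderOf_dvd_of_pow_eq_one hk'
    obtain ⟨j, -, hj⟩ := (Nat.dvd_prime_pow hrp).mp h1
    have h2 : orderOf d ∣ Nat.card ↥Φ := Subgroup.orderOf_dvd_natCard Φ hdΦ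
    rcases Nat.eq_zero_or_pos j with hj0 | hjpos
    · rw [hj0, pow_zero] at hj
      exact orderOf_eq_one_iff.mp hj
    · exfalso
      apply hrΦ
      refine dvd_trans ?_ h2
      rw [hj]
      exact dvd_pow_self r hjpos.ne'
  -- an element of P centralising all O_q is trivial
  have hkey : ∀ c ∈ (P : Subgroup K),
      (∀ (q : ℕ) [Fact q.Prime], c ∈ Subgroup.centralizer (Cfsg.pCore q K : Set K)) → c = 1 := by
    intro c hcP hc
    apply hPΦ c hcP
    haveI := hsol
    apply Cfsg.Agent.S0044.result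
    have hle : Φ ≤ Subgroup.centralizer ({c} : Set K) := by
      rw [hΦ, Cfsg.Agent.Helper7.fittingSubgroup_eq_pCoreSup, Cfsg.Agent.Helper7.pCoreSup_le_iff]
      intro p hp x hx
      haveI : Fact p.Prime := ⟨hp⟩
      rw [Subgroup.mem_centralizer_iff]
      intro y hy
      rw [Set.mem_singleton_iff] at hy
      rw [hy]
      have := hc p
      rw [Subgroup.mem_centralizer_iff] at this
      exact (this x hx).symm
    rw [Subgroup.mem_centralizer_iff]
    intro y hy
    have := hle hy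
    rw [Subgroup.mem_centralizer_iff] at this
    exact (this _ rfl).symm
  -- Step 1: P acts on every O_q through a cyclic group
  have hstep1 : ∀ (q : ℕ) [Fact q.Prime], ∃ x ∈ (P : Subgroup K), ∀ y ∈ (P : Subgroup K), ∃ m : ℕ,
      y * x ^ m ∈ Subgroup.centralizer (Cfsg.pCore q K : Set K) := by
    intro q _
    have hqp : q.Prime := Fact.out
    by_cases hq : Cfsg.pCore q K = ⊥
    · refine ⟨1, one_mem _, fun y _ => ⟨0, ?_⟩⟩
      rw [hq, Subgroup.mem_centralizer_iff]
      intro h hh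
      rw [SetLike.mem_coe, Subgroup.mem_bot] at hh
      rw [hh, one_mul, mul_one]
    · have hqr : q ≠ r := by
        rintro rfl
        exact hq hr
      have hPnorm : (P : Subgroup K) ≤ Subgroup.normalizer ((Cfsg.pCore q K : Subgroup K) : Set K) := by
        rw [Subgroup.normalizer_eq_top]; exact le_top
      have hcardP : ∃ k, Nat.card ↥(P : Subgroup K) = r ^ k := IsPGroup.exists_card_eq P.2
      obtain ⟨k, hk⟩ := hcardP
      have hcop : (Nat.card ↥(P : Subgroup K)).Coprime q := by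
        rw [hk]
        exact Nat.Coprime.pow_left k ((Nat.coprime_primes hrp hqp).mpr (Ne.symm hqr))
      let Pq : Sylow q K := default
      have hle : Cfsg.pCore q K ≤ (Pq : Subgroup K) := Cfsg.Agent.Helper14.pCore_le_sylow q Pq
      have hcyc_case : IsCyclic ↥(Cfsg.pCore q K) →
          ∃ x ∈ (P : Subgroup K), ∀ y ∈ (P : Subgroup K), ∃ m : ℕ,
            y * x ^ m ∈ Subgroup.centralizer (Cfsg.pCore q K : Set K) := fun hcyc =>
        hAC2 (P : Subgroup K) (Cfsg.pCore q K) hPnorm hcyc q (Cfsg.Agent.Helper14.pCore_isPGroup q) hcop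
      rcases hSYLA q hq Pq with hc | ⟨hq2, ⟨e⟩⟩
      · apply hcyc_case
        haveI := hc
        exact Subgroup.isCyclic_of_le hle
      · rcases hQG2 (Pq : Subgroup K) e ((Cfsg.pCore q K).subgroupOf (Pq : Subgroup K)) with hc | htop
        · apply hcyc_case
          haveI := hc
          exact (Subgroup.subgroupOfEquivOfLe hle).isCyclic.mp inferInstance
        · have heq : Cfsg.pCore q K = (Pq : Subgroup K) := by
            apply le_antisymm hle
            rw [← Subgroup.subgroupOf_eq_top]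
            exact htop
          have e' : ↥(Cfsg.pCore q K) ≃* QuaternionGroup 2 := (MulEquiv.subgroupCongr heq).trans e
          have hodd : Odd (Nat.card ↥(P : Subgroup K)) := by
            rw [hk]
            apply Odd.pow
            rcases hrp.eq_two_or_odd' with h2 | h2
            · exact absurd (h2 ▸ hq2 : q = r) hqr
            · exact h2
          exact AQ (P : Subgroup K) (Cfsg.pCore q K) hPnorm e' hodd
  -- Step 2: P is abelian
  have hab : ∀ a ∈ (P : Subgroup K), ∀ b ∈ (P : Subgroup K), a * b = b * a := by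
    intro a ha b hb
    have h1 : ⁅a, b⁆ = 1 := by
      apply hkey
      · rw [commutatorElement_def]
        exact mul_mem (mul_mem (mul_mem ha hb) (inv_mem ha)) (inv_mem hb)
      · intro q _
        obtain ⟨x, -, hx⟩ := hstep1 q
        obtain ⟨m, hm⟩ := hx a ha
        obtain ⟨n, hn⟩ := hx b hb
        exact SYLB_aux_comm_mem _ x a b m n hm hn
    rw [commutatorElement_eq_one_iff_mul_comm] at h1
    exact h1
  -- Step 3: if P is not cyclic, it has exponent r
  by_contra hnc
  have hexp : ∀ x ∈ (P : Subgroup K), x ^ r = 1 := by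
    obtain ⟨h2, hodd⟩ := Cfsg.Agent.S3908.result hB
    rcases hrp.eq_two_or_odd' with hr2 | hrodd
    · subst hr2
      rcases h2 P with hc | hel | ⟨k, ⟨e⟩⟩
      · exact absurd hc hnc
      · exact hel.2
      · exfalso
        rcases Nat.eq_zero_or_pos k with hk0 | hkpos
        · subst hk0
          apply hnc
          haveI : IsCyclic (QuaternionGroup (2 ^ 0)) := by
            rw [pow_zero]; exact QuaternionGroup.quaternionGroup_one_isCyclic
          exact e.isCyclic.mpr inferInstance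
        · have h2k : 2 ≤ 2 ^ k := by
            calc 2 = 2 ^ 1 := by norm_num
              _ ≤ 2 ^ k := Nat.pow_le_pow_right (by norm_num) hkpos
          apply SYLB_aux_quat h2k
          intro u v
          obtain ⟨⟨u', hu'⟩, rfl⟩ := e.surjective u
          obtain ⟨⟨v', hv'⟩, rfl⟩ := e.surjective v
          rw [← map_mul, ← map_mul]
          congr 1
          apply Subtype.ext
          exact hab u' hu' v' hv'
    · have hne : r ≠ 2 := by
        rintro rfl
        exact absurd hrodd (by decide)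
      rcases hodd r hne P with hc | he
      · exact absurd hc hnc
      · exact he
  -- Step 4: every C_P(O_q) is nontrivial
  have hCne : ∀ (q : ℕ) [Fact q.Prime], ∃ a ∈ (P : Subgroup K), a ≠ 1 ∧
      a ∈ Subgroup.centralizer (Cfsg.pCore q K : Set K) := by
    intro q _
    by_contra hcon
    push Not at hcon
    obtain ⟨x, hxP, hx⟩ := hstep1 q
    apply hnc
    refine ⟨⟨⟨x, hxP⟩, fun ⟨y, hy⟩ => ?_⟩⟩
    obtain ⟨m, hm⟩ := hx y hy
    have h1 : y * x ^ m = 1 := by
      by_contra hne
      exact hcon (y * x ^ m) (mul_mem hy (pow_mem hxP m)) hne hm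
    refine ⟨-(m : ℤ), ?_⟩
    apply Subtype.ext
    show ((⟨x, hxP⟩ : ↥(P : Subgroup K)) ^ (-(m : ℤ)) : ↥(P : Subgroup K)).1 = y
    rw [Subgroup.coe_zpow, zpow_neg, zpow_natCast]
    exact (eq_inv_of_mul_eq_one_left h1).symm
  -- some O_q is not centralised by P
  have hex : ∃ (q : ℕ) (_ : Fact q.Prime), ∃ b ∈ (P : Subgroup K),
      b ∉ Subgroup.centralizer (Cfsg.pCore q K : Set K) := by
    by_contra hcon
    push Not at hcon
    apply hnc
    have hbot : ∀ c ∈ (P : Subgroup K), c = 1 := fun c hc =>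
      hkey c hc (fun q hq => hcon q hq c hc)
    haveI : Subsingleton ↥(P : Subgroup K) :=
      ⟨fun ⟨a, ha⟩ ⟨b, hb⟩ => Subtype.ext ((hbot a ha).trans (hbot b hb).symm)⟩
    infer_instance
  obtain ⟨q, hqF, b, hbP, hbC⟩ := hex
  obtain ⟨a, haP, ha1, haC⟩ := hCne q
  apply hbC
  have hoa : orderOf a = r := orderOf_eq_prime (hexp a haP) ha1
  have hb1 : b ≠ 1 := by
    rintro rfl
    exact hbC (one_mem _)
  have hob : orderOf b = r := orderOf_eq_prime (hexp b hbP) hb1
  exact (Cfsg.Agent.S3909.result hB (Subgroup.centralizer (Cfsg.pCore q K : Set K))).1 b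
    ⟨a, haC, hoa.trans hob.symm⟩

end Cfsg.Agent.S3913P
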