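import Mathlib
import Cfsg.Agent.Helper26.S3911Defs
import Cfsg.Agent.Helper17.S3913Defs
import Cfsg.Agent.Helper17.S3913SYLBCore
import Cfsg.Agent.Helper1.S3913SYLA
import Cfsg.Agent.Helper22.S3913AC2
import Cfsg.Agent.Helper21.S3913QG2

/-! S3913 piece SYLB (helper17): if `O_r(K) = 1` the Sylow `r`-subgroups are cyclic. -/

set_option autoImplicit false

namespace Cfsg.Agent.S3913P

open Cfsg.Agent.S3911P Cfsg.Agent.S3913P

universe u

theorem SYLB {K : Type u} [Group K] [Finite K] (hB : BProp K) (hsol : Group.IsSolvable K) (hNC : NC K)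
    (r : ℕ) [Fact r.Prime] (hr : Cfsg.pCore r K = ⊥) (P : Sylow r K) : IsCyclic ↥(P : Subgroup K) :=
  SYLB_aux_core hB hsol (fun q _ hq Pq => SYLA hB hsol hNC q hq Pq)
    (fun P C hPC hC q _ hCq hcop => AC2 P C hPC hC q hCq hcop)
    (fun _ e T => QG2 e T) r hr P

end Cfsg.Agent.S3913P
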