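import Mathlib
import Cfsg.Agent.Helper26.S3911Defs
import Cfsg.Agent.Helper17.S3913Defs
import Cfsg.Agent.Helper10.S3913TRS
import Cfsg.Agent.Helper10.S3913ZMIN
import Cfsg.Agent.Helper3.S3913PRIME
import Cfsg.Agent.Helper6.S3913RED1
import Cfsg.Agent.Helper3.S3913NSYL
import Cfsg.Agent.Helper3.S3913FHALL
import Cfsg.Agent.Helper8.S3913WLOGW
import Cfsg.Agent.Helper21.S3913MID
import Cfsg.Agent.Helper1.S3913NCK
import Cfsg.Agent.Helper1.S3913SYLA
import Cfsg.Agent.Helper17.S3913SYLB
import Cfsg.Agent.Helper27.S3913Q8N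
import Cfsg.Agent.Helper9.S3913ZQUOT
import Cfsg.Agent.Helper17.S3913ENDZ
import Cfsg.Agent.Helper17.S3913ENDQ
import Cfsg.Agent.S3912

/-! S3913 (helper17): the assemblies ZSP, STRK and MAIN (induction on the order) from the pieces of the board
`s3913pieces` (blueprint: `departures/helper17_S3913_blueprint.md`). -/

set_option autoImplicit false

namespace Cfsg.Agent.S3913P

open Cfsg.Agent.S3911P

universe u

/-- ZSP: a finite group with cyclic Sylow subgroups has `SProp`. -/
theorem ZSP : ∀ (n : ℕ) (X : Type u) [Group X] [Finite X] [IsZGroup X], Nat.card X = n → SProp X := by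
  intro n
  induction n using Nat.strong_induction_on with
  | _ n ih =>
  intro X _ _ _ hcard
  by_cases hX : Nontrivial X
  · obtain ⟨M, q, hMn, hq, hMq, habs⟩ := ZMIN (X := X)
    haveI := hMn
    have hlt : Nat.card (X ⧸ M) < n := by
      rw [← hcard, Subgroup.card_eq_card_quotient_mul_card_subgroup M, hMq]
      have hpos : 0 < Nat.card (X ⧸ M) := Nat.card_pos
      have := hq.two_le
      nlinarith
    have hquot : SProp (X ⧸ M) := ih _ hlt (X ⧸ M) rfl
    exact PRIME inferInstance M q hq hMq habs hquot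
  · rw [not_nontrivial_iff_subsingleton] at hX
    intro A B _
    refine ⟨1, ?_⟩
    have hA : A = ⊥ := Subsingleton.elim _ _
    have hB : B = ⊥ := Subsingleton.elim _ _
    rw [hA, hB, Subgroup.map_bot]

/-- ZSP', the form used by ENDZ. -/
theorem ZSP' (X : Type u) [Group X] [Finite X] [IsZGroup X] : SProp X := ZSP _ X rfl

/-- STRK: the Sylow subgroups of a solvable B-group with `NC` are cyclic or quaternion of order `8`. -/
theorem STRK {K : Type u} [Group K] [Finite K] (hB : BProp K) (hsol : Group.IsSolvable K) (hNC : NC K) :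
    CycQ K := by
  intro r _ P
  by_cases hr : Cfsg.pCore r K = ⊥
  · exact Or.inl (SYLB hB hsol hNC r hr P)
  · exact SYLA hB hsol hNC r hr P

/-- conjugating twice -/
theorem conj_trans {G : Type*} [Group G] {A B C : Subgroup G} {g h : G}
    (h1 : B = A.map (MulAut.conj g).toMonoidHom) (h2 : C = B.map (MulAut.conj h).toMonoidHom) :
    C = A.map (MulAut.conj (h * g)).toMonoidHom := by
  rw [h2, h1, Subgroup.map_map]
  congr 1
  ext x
  simp [mul_assoc]

theorem card_conj {G : Type*} [Group G] (A : Subgroup G) (g : G) :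
    Nat.card ↥(A.map (MulAut.conj g).toMonoidHom) = Nat.card ↥A :=
  (Nat.card_congr (A.equivMapOfInjective _ (MulAut.conj g).injective).toEquiv).symm

/-- MAIN: induction on the order. -/
theorem MAIN : ∀ (n : ℕ) (G : Type u) [Group G] [Finite G], Nat.card G = n → BProp G →
    Group.IsSolvable G → SProp G := by
  intro n
  induction n using Nat.strong_induction_on with
  | _ n ih =>
  intro G _ _ hcard hB hsol
  haveI := hsol
  -- the quotients
  have hquot : ∀ (M : Subgroup G) [M.Normal], M ≠ ⊥ → SProp (G ⧸ M) := by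
    intro M _ hM
    have hlt : Nat.card (G ⧸ M) < n := by
      rw [← hcard, Subgroup.card_eq_card_quotient_mul_card_subgroup M]
      have hpos : 0 < Nat.card (G ⧸ M) := Nat.card_pos
      have h1 : 1 < Nat.card ↥M := by
        rw [Subgroup.one_lt_card_iff_ne_bot]; exact hM
      nlinarith
    exact ih _ hlt (G ⧸ M) rfl (Cfsg.Agent.S3912P.MAIN _ G hB hsol M rfl) inferInstance
  by_cases hred : Red G
  · intro A B hAB
    -- the Fitting subgroup
    obtain ⟨hFab, hFhall⟩ := FHALL hB hsol hred
    obtain ⟨g, hg⟩ := WLOGW hB (Cfsg.fittingSubgroup G) hFab hFhall A B hAB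
    set A' := A.map (MulAut.conj g).toMonoidHom with hA'
    have hA'B : Nat.card ↥A' = Nat.card ↥B := (card_conj A g).trans hAB
    suffices h : ∃ k : G, B = A'.map (MulAut.conj k).toMonoidHom by
      obtain ⟨k, hk⟩ := h
      exact ⟨k * g, conj_trans hA' hk⟩
    by_cases hmid : ∀ (p : ℕ) [Fact p.Prime], Cfsg.pCore p G ≠ ⊥ →
        A' ⊓ Cfsg.pCore p G ≠ ⊥ ∧ A' ⊓ Cfsg.pCore p G ≠ Cfsg.pCore p G
    · -- the structure of `G ⧸ F`
      have hBK : BProp (G ⧸ Cfsg.fittingSubgroup G) :=
        Cfsg.Agent.S3912P.MAIN _ G hB hsol (Cfsg.fittingSubgroup G) rfl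
      have hsolK : Group.IsSolvable (G ⧸ Cfsg.fittingSubgroup G) := inferInstance
      have hNC : NC (G ⧸ Cfsg.fittingSubgroup G) := NCK hB hsol hred
      have hK : CycQ (G ⧸ Cfsg.fittingSubgroup G) := STRK hBK hsolK hNC
      by_cases hZ : IsZGroup ↥((Subgroup.normalizer ((A' ⊓ Cfsg.fittingSubgroup G : Subgroup G) : Set G)).map
          (QuotientGroup.mk' (Cfsg.fittingSubgroup G)))
      · exact ENDZ (Cfsg.fittingSubgroup G) hFab hFhall (fun X _ _ _ => ZSP' X) A' B hA'B hg hZ
      · exfalso
        obtain ⟨P, ⟨e⟩, hPX⟩ := ZQUOT hK _ hZ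
        have hPn := Q8N hBK hsolK hNC P e
        refine ENDQ hB hsol hred P e hPn (A' ⊓ Cfsg.fittingSubgroup G) inf_le_right hPX ?_
        intro p _ hp
        have hle : Cfsg.pCore p G ≤ Cfsg.fittingSubgroup G :=
          Cfsg.Agent.Helper7.pCore_le_fittingSubgroup p
        have heq : A' ⊓ Cfsg.fittingSubgroup G ⊓ Cfsg.pCore p G = A' ⊓ Cfsg.pCore p G := by
          rw [inf_assoc, inf_eq_right.mpr hle]
        rw [heq]
        exact hmid p hp
    · push Not at hmid
      obtain ⟨p, hpp, hp, hnot⟩ := hmid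
      haveI := hpp
      refine MID hB hsol hred p hp (hquot _ hp) A' B hA'B ?_
      rintro ⟨h1, h2⟩
      exact h2 (hnot h1)
  · -- a normal subgroup of prime order
    unfold Red at hred
    push Not at hred
    obtain ⟨N, hNn, hNp⟩ := hred
    haveI := hNn
    have hNbot : N ≠ ⊥ := by
      intro h
      rw [h, Subgroup.card_bot] at hNp
      exact Nat.not_prime_one hNp
    exact RED1 hB hsol N hNp (hquot N hNbot)

end Cfsg.Agent.S3913P
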