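import Mathlib
import Cfsg.Agent.Helper26.S4057Defs
import Cfsg.Agent.Helper9.S4057CLASS2

set_option autoImplicit false

/-! # S4057 piece EXP: class at most two, generated by elements of order `p` (`p` odd) ⇒ exponent `p` -/

namespace Cfsg.Agent.S4057P

open scoped commutatorElement

/-- if `⁅y, x⁆` commutes with `y` then `⁅y ^ m, x⁆ = ⁅y, x⁆ ^ m` -/
theorem EXP_aux_comm_pow {G : Type*} [Group G] (x y : G) (h : Commute ⁅y, x⁆ y) (m : ℕ) :
    ⁅y ^ m, x⁆ = ⁅y, x⁆ ^ m := by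
  induction m with
  | zero => simp
  | succ m ih =>
    have e : ⁅y ^ (m + 1), x⁆ = y * ⁅y ^ m, x⁆ * y⁻¹ * ⁅y, x⁆ := by
      rw [pow_succ']
      simp only [commutatorElement_def]
      group
    rw [e, ih]
    have hc : Commute (⁅y, x⁆ ^ m) y := h.pow_left m
    have : y * ⁅y, x⁆ ^ m * y⁻¹ = ⁅y, x⁆ ^ m := by
      rw [← hc.eq, mul_assoc, mul_inv_cancel, mul_one]
    rw [this, pow_succ]

theorem EXP {G : Type*} [Group G] {p : ℕ} [Fact p.Prime] (hp : p ≠ 2) (R : Subgroup G)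
    (hcl : ∀ x ∈ R, ∀ y ∈ R, ∀ z ∈ R, ⁅x, y⁆ * z = z * ⁅x, y⁆)
    (T : Set G) (hT : ∀ t ∈ T, t ^ p = 1) (hgen : Subgroup.closure T = R) :
    ∀ x ∈ R, x ^ p = 1 := by
  intro x hx
  have hTR : T ⊆ R := by
    rw [← hgen]; exact Subgroup.subset_closure
  have key : ∀ x ∈ Subgroup.closure T, x ∈ R ∧ x ^ p = 1 := by
    intro x hx
    induction hx using Subgroup.closure_induction with
    | mem t ht => exact ⟨hTR ht, hT t ht⟩
    | one => exact ⟨R.one_mem, one_pow p⟩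
    | mul a b _ _ ha hb =>
      obtain ⟨haR, hap⟩ := ha
      obtain ⟨hbR, hbp⟩ := hb
      refine ⟨R.mul_mem haR hbR, ?_⟩
      have h1 : Commute ⁅b, a⁆ a := hcl b hbR a haR a haR
      have h2 : Commute ⁅b, a⁆ b := hcl b hbR a haR b hbR
      have h3 : ⁅b, a⁆ ^ p = 1 := by
        rw [← EXP_aux_comm_pow a b h2 p, hbp]
        simp
      rw [CLASS2P hp a b h1 h2 h3, hap, hbp, one_mul]
    | inv a _ ha =>
      obtain ⟨haR, hap⟩ := ha
      exact ⟨R.inv_mem haR, by rw [inv_pow, hap, inv_one]⟩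
  rw [← hgen] at hx
  exact (key x hx).2

end Cfsg.Agent.S4057P
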