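import Mathlib
import Cfsg.Agent.Helper26.S4057Defs
import Cfsg.Agent.Helper7.S4057REP
import Cfsg.Agent.Helper23.S4057UTGEN

set_option autoImplicit false

/-! # S4057 piece QUOT: generators of `H` modulo `H ⊓ C_P(N)` -/

namespace Cfsg.Agent.S4057P

open scoped commutatorElement

theorem QUOT {P : Type*} [Group P] [Finite P] {p : ℕ} [Fact p.Prime] (hP : IsPGroup p P)
    (N : Subgroup P) [N.Normal] (hN : ElAb p N) (n : ℕ) (hcard : Nat.card N = p ^ n)
    (H : Subgroup P) :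
    ∃ S : Finset P, S.card ≤ n ^ 2 / 4 ∧ (S : Set P) ⊆ H ∧
      Subgroup.closure (S : Set P) ⊔ (H ⊓ Subgroup.centralizer (N : Set P)) = H := by
  classical
  obtain ⟨ρ, hUT, hker⟩ := REP hP N hN n hcard
  -- the restriction to `H` and the induced injective map on the quotient by its kernel
  obtain ⟨ρH, hρH⟩ : ∃ ρH : ↥H →* Matrix (Fin n) (Fin n) (ZMod p), ρH = ρ.comp H.subtype := ⟨_, rfl⟩
  obtain ⟨ρQ, hρQ⟩ : ∃ ρQ : ↥H ⧸ ρH.ker →* Matrix (Fin n) (Fin n) (ZMod p),
      ρQ = QuotientGroup.lift ρH.ker ρH le_rfl := ⟨_, rfl⟩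
  have hρQmk : ∀ h : ↥H, ρQ (QuotientGroup.mk h) = ρH h := by
    intro h
    rw [hρQ]
    rfl
  have hinj : Function.Injective ρQ := by
    intro a b hab
    obtain ⟨x, rfl⟩ := QuotientGroup.mk_surjective a
    obtain ⟨y, rfl⟩ := QuotientGroup.mk_surjective b
    rw [hρQmk, hρQmk] at hab
    rw [QuotientGroup.eq, MonoidHom.mem_ker, map_mul, ← hab, ← map_mul, inv_mul_cancel, map_one]
  have hUT' : ∀ q : ↥H ⧸ ρH.ker, IsUT (ρQ q) := by
    intro q
    obtain ⟨h, rfl⟩ := QuotientGroup.mk_surjective q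
    rw [hρQmk, hρH]
    exact hUT _
  obtain ⟨SQ, hSQc, hSQ⟩ := UTGEN ρQ hinj hUT'
  -- lift the generators
  obtain ⟨SH, hSH⟩ : ∃ SH : Finset ↥H, SH = SQ.image (fun q => q.out) := ⟨_, rfl⟩
  have hSHc : SH.card ≤ n ^ 2 / 4 := by
    rw [hSH]; exact Finset.card_image_le.trans hSQc
  have hL : Subgroup.closure (SH : Set ↥H) ⊔ ρH.ker = ⊤ := by
    have hK : ρH.ker ≤ Subgroup.closure (SH : Set ↥H) ⊔ ρH.ker := le_sup_right
    have hmap : (Subgroup.closure (SH : Set ↥H) ⊔ ρH.ker).map (QuotientGroup.mk' ρH.ker) = ⊤ := by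
      rw [eq_top_iff, ← hSQ, Subgroup.closure_le]
      intro q hq
      refine ⟨q.out, ?_, ?_⟩
      · apply (le_sup_left : Subgroup.closure (SH : Set ↥H) ≤ _)
        apply Subgroup.subset_closure
        rw [hSH]
        exact Finset.mem_coe.2 (Finset.mem_image_of_mem _ (Finset.mem_coe.1 hq))
      · exact QuotientGroup.out_eq' q
    have h1 := Subgroup.comap_map_eq_self (f := QuotientGroup.mk' ρH.ker)
      (H := Subgroup.closure (SH : Set ↥H) ⊔ ρH.ker) (by rw [QuotientGroup.ker_mk']; exact hK)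
    rw [hmap, Subgroup.comap_top] at h1
    exact h1.symm
  -- the kernel is `H ⊓ C_P(N)`
  have hkermap : ρH.ker.map H.subtype = H ⊓ Subgroup.centralizer (N : Set P) := by
    ext x
    constructor
    · rintro ⟨h, hh, rfl⟩
      have hh' : ρH h = 1 := MonoidHom.mem_ker.1 hh
      rw [hρH] at hh'
      exact ⟨h.2, (hker _).1 hh'⟩
    · rintro ⟨hxH, hxC⟩
      refine ⟨⟨x, hxH⟩, ?_, rfl⟩
      apply MonoidHom.mem_ker.2
      rw [hρH]
      exact (hker _).2 hxC
  refine ⟨SH.image H.subtype, Finset.card_image_le.trans hSHc, ?_, ?_⟩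
  · intro x hx
    rw [Finset.mem_coe, Finset.mem_image] at hx
    obtain ⟨h, _, rfl⟩ := hx
    exact h.2
  · have h2 := congrArg (Subgroup.map H.subtype) hL
    rw [Subgroup.map_sup, MonoidHom.map_closure, hkermap, ← MonoidHom.range_eq_map,
      Subgroup.range_subtype] at h2
    rw [Finset.coe_image]
    exact h2

end Cfsg.Agent.S4057P
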