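import Mathlib
import Cfsg.Agent.Helper27.S4150Defs

/-!
# S4150 piece ARITH13: pure arithmetic
-/

set_option autoImplicit false

namespace Cfsg.Agent.S4150P

/-- ARITH13 [S]: pure arithmetic (`u ≤ 720`, `interval_cases`/`decide`). -/
theorem ARITH13.main (u s n r k : ℕ) (hdvd : 1716 * u ∣ Nat.factorial 13) (hu : u ≤ 720)
    (h13 : 132 * u = s * n) (hn : n % 13 = 1) (hs : s ∣ 12) (hs1 : s ≠ 1)
    (h11 : u = r * k) (hk : k % 11 = 1) (hr : r ∣ 10) (hr2 : ¬ Even r) (hr1 : r = 1 → k = 1) :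
    u = 1 ∨ u = 60 := by
  have hr' : r = 1 ∨ r = 5 := by
    have hle : r ≤ 10 := Nat.le_of_dvd (by norm_num) hr
    interval_cases r <;> first | omega | (exfalso; exact hr2 (by decide))
  rcases hr' with rfl | rfl
  · left
    rw [h11, hr1 rfl]
  · have hf : Nat.factorial 13 = 1716 * 3628800 := by decide
    rw [hf] at hdvd
    have hdvd' : u ∣ 3628800 := Nat.dvd_of_mul_dvd_mul_left (by norm_num) hdvd
    have hs' : s = 2 ∨ s = 3 ∨ s = 4 ∨ s = 6 ∨ s = 12 := by
      have hle : s ≤ 12 := Nat.le_of_dvd (by norm_num) hs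
      interval_cases s <;> omega
    obtain ⟨j, rfl⟩ : ∃ j, k = 11 * j + 1 := ⟨k / 11, by omega⟩
    have hj : j ≤ 13 := by omega
    subst h11
    interval_cases j
    all_goals first
      | (right; rfl)
      | (exfalso; revert hdvd'; decide)
      | (exfalso; rcases hs' with rfl | rfl | rfl | rfl | rfl <;> omega)

end Cfsg.Agent.S4150P
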