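import Mathlib
import Cfsg.Agent.Helper27.S4150Defs

/-!
# S4150 piece CARD: order of a `k`-transitive group
-/

set_option autoImplicit false

namespace Cfsg.Agent.S4150P

open Equiv Equiv.Perm MulAction

section
variable {α : Type*} [Fintype α] [DecidableEq α]

/-- CARD [M]: order of a `k`-transitive group (orbit-stabiliser on `Fin k ↪ α`). -/
theorem CARD.main (H : Subgroup (Perm α)) {k : ℕ} (hk : IsMultiplyPretransitive H α k)
    (S : Finset α) (hS : S.card = k) :
    Nat.card H = (Fintype.card α).descFactorial k * Nat.card (ptStab H S) := by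
  classical
  let x : Fin k ↪ α :=
    (S.equivFinOfCardEq hS).symm.toEmbedding.trans (Function.Embedding.subtype _)
  have hx1 : ∀ i, x i ∈ S := fun i => ((S.equivFinOfCardEq hS).symm i).2
  have hx2 : ∀ a ∈ S, ∃ i, x i = a := by
    intro a ha
    refine ⟨S.equivFinOfCardEq hS ⟨a, ha⟩, ?_⟩
    simp [x]
  have h1 : (stabilizer H x).index = Nat.card (Fin k ↪ α) :=
    @MulAction.index_stabilizer_of_transitive H _ _ _ x hk
  have h2 : Nat.card (Fin k ↪ α) = (Fintype.card α).descFactorial k := by
    rw [Nat.card_eq_fintype_card, Fintype.card_embedding_eq, Fintype.card_fin]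
  have h3 := Subgroup.card_mul_index (stabilizer H x)
  have hfix : ∀ g : H, g ∈ stabilizer H x ↔ ∀ a ∈ S, (g : Perm α) a = a := by
    intro g
    rw [MulAction.mem_stabilizer_iff]
    constructor
    · intro hg a ha
      obtain ⟨i, rfl⟩ := hx2 a ha
      have := DFunLike.congr_fun hg i
      exact this
    · intro hg
      ext i
      exact hg (x i) (hx1 i)
  have h4 : Nat.card (stabilizer H x) = Nat.card (ptStab H S) := by
    apply Nat.card_congr
    refine ⟨fun g => ⟨g.1.1, g.1.2, (hfix g.1).1 g.2⟩,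
      fun g => ⟨⟨g.1, g.2.1⟩, (hfix ⟨g.1, g.2.1⟩).2 g.2.2⟩, ?_, ?_⟩
    · intro g
      rfl
    · intro g
      rfl
  rw [← h3, h1, h2, h4, mul_comm]

end

end Cfsg.Agent.S4150P
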