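import Mathlib

/-!
# Two primes in `(n, 2n]` for `n ≥ 6`

Adaptation of Mathlib's proof of Bertrand's postulate.
-/

namespace Cfsg.Agent.Helper17.TwoPrimes

open Real in
/-- Real inequality with one extra factor `2x`. -/
theorem real_main_inequality2 {x : ℝ} (x_large : (512 : ℝ) ≤ x) :
    x * (2 * x) ^ (√(2 * x) + 1) * 4 ^ (2 * x / 3) ≤ 4 ^ x := by
  let f : ℝ → ℝ := fun x => log x + √(2 * x) * log (2 * x) + log (2 * x) - log 4 / 3 * x
  have hf' : ∀ x, 0 < x → 0 < x * (2 * x) ^ (√(2 * x) + 1) / 4 ^ (x / 3) := fun x h =>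
    div_pos (mul_pos h (rpow_pos_of_pos (mul_pos two_pos h) _)) (rpow_pos_of_pos four_pos _)
  have hf : ∀ x, 0 < x → f x = log (x * (2 * x) ^ (√(2 * x) + 1) / 4 ^ (x / 3)) := by
    intro x h5
    have h6 := mul_pos (zero_lt_two' ℝ) h5
    have h7 := rpow_pos_of_pos h6 (√(2 * x) + 1)
    rw [log_div (mul_pos h5 h7).ne' (rpow_pos_of_pos four_pos _).ne', log_mul h5.ne' h7.ne',
      log_rpow h6, log_rpow zero_lt_four]
    simp only [f]
    ring
  have h5 : 0 < x := lt_of_lt_of_le (by norm_num1) x_large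
  have h4x : (4 : ℝ) ^ x = 4 ^ (x / 3) * 4 ^ (2 * x / 3) := by
    rw [← rpow_add four_pos]
    congr 1
    ring
  rw [h4x]
  apply mul_le_mul_of_nonneg_right _ (rpow_pos_of_pos four_pos _).le
  rw [← div_le_one (rpow_pos_of_pos four_pos _), ← log_nonpos_iff (hf' x h5).le, ← hf x h5]
  have h : ConcaveOn ℝ (Set.Ioi 0.5) f := by
    apply ConcaveOn.sub
    · apply ConcaveOn.add
      · apply ConcaveOn.add
        · exact strictConcaveOn_log_Ioi.concaveOn.subset
            (Set.Ioi_subset_Ioi (by norm_num)) (convex_Ioi 0.5)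
        convert!
          ((strictConcaveOn_sqrt_mul_log_Ioi.concaveOn.comp_linearMap ((2 : ℝ) • LinearMap.id)))
          using 1
        ext x
        simp only [Set.mem_Ioi, Set.mem_preimage, LinearMap.smul_apply,
          LinearMap.id_coe, id_eq, smul_eq_mul]
        rw [← mul_lt_mul_iff_right₀ (two_pos)]
        norm_num1
        rfl
      · have := (strictConcaveOn_log_Ioi.concaveOn.comp_linearMap ((2 : ℝ) • LinearMap.id))
        refine this.subset ?_ (convex_Ioi 0.5)
        intro y hy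
        simp only [Set.mem_Ioi, Set.mem_preimage, LinearMap.smul_apply,
          LinearMap.id_coe, id_eq, smul_eq_mul] at hy ⊢
        linarith
    apply ConvexOn.smul
    · refine div_nonneg (log_nonneg (by norm_num1)) (by norm_num1)
    · exact convexOn_id (convex_Ioi (0.5 : ℝ))
  suffices ∃ x1 x2, 0.5 < x1 ∧ x1 < x2 ∧ x2 ≤ x ∧ 0 ≤ f x1 ∧ f x2 ≤ 0 by
    obtain ⟨x1, x2, h1, h2, h0, h3, h4⟩ := this
    exact (h.right_le_of_le_left'' h1 ((h1.trans h2).trans_le h0) h2 h0 (h4.trans h3)).trans h4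
  refine ⟨18, 512, by norm_num1, by norm_num1, x_large, ?_, ?_⟩
  · have : √(2 * 18 : ℝ) = 6 := (sqrt_eq_iff_mul_self_eq_of_pos (by norm_num1)).mpr (by norm_num1)
    rw [hf _ (by norm_num1), log_nonneg_iff (by positivity), this, one_le_div (by positivity)]
    have e1 : ((6 : ℝ) + 1) = ((7 : ℕ) : ℝ) := by norm_num
    have e2 : ((18 : ℝ) / 3) = ((6 : ℕ) : ℝ) := by norm_num
    rw [e1, e2, rpow_natCast, rpow_natCast]
    norm_num1
  · have : √(2 * 512) = 32 :=
      (sqrt_eq_iff_mul_self_eq_of_pos (by norm_num1)).mpr (by norm_num1)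
    rw [hf _ (by norm_num1), log_nonpos_iff (hf' _ (by norm_num1)).le, this,
        div_le_one (by positivity)]
    have e1 : ((32 : ℝ) + 1) = ((33 : ℕ) : ℝ) := by norm_num
    rw [e1, rpow_natCast]
    calc (512 : ℝ) * (2 * 512) ^ 33 ≤ (4 : ℝ) ^ ((170 : ℕ) : ℝ) := by
          rw [rpow_natCast]; norm_num1
      _ ≤ (4 : ℝ) ^ ((512 : ℝ) / 3) := by
          apply rpow_le_rpow_of_exponent_le (by norm_num1)
          norm_num1

open Nat

theorem main_inequality2 {n : ℕ} (n_large : 512 ≤ n) :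
    n * (2 * n) ^ (sqrt (2 * n) + 1) * 4 ^ (2 * n / 3) ≤ 4 ^ n := by
  rw [← @cast_le ℝ]
  simp only [cast_mul, cast_pow, ← Real.rpow_natCast, cast_ofNat, cast_add, cast_one]
  refine _root_.trans ?_ (real_main_inequality2 (by exact_mod_cast n_large))
  gcongr
  · have n2_pos : 0 < 2 * n := by positivity
    exact mod_cast n2_pos
  · exact_mod_cast Real.nat_sqrt_le_real_sqrt
  · norm_num1
  · exact cast_div_le.trans (by norm_cast)

/-- The part of the factorisation of the central binomial coefficient over small primes. -/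
theorem small_part_le (n : ℕ) (n_pos : 0 < n) :
    ∏ p ∈ Finset.range (2 * n / 3 + 1), p ^ (centralBinom n).factorization p
      ≤ (2 * n) ^ sqrt (2 * n) * 4 ^ (2 * n / 3) := by
  have n2_pos : 1 ≤ 2 * n := mul_pos (zero_lt_two' ℕ) n_pos
  let S := {p ∈ Finset.range (2 * n / 3 + 1) | Nat.Prime p}
  let f x := x ^ n.centralBinom.factorization x
  have : ∏ x ∈ S, f x = ∏ x ∈ Finset.range (2 * n / 3 + 1), f x := by
    refine Finset.prod_filter_of_ne fun p _ h => ?_
    contrapose h; dsimp only [f]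
    rw [factorization_eq_zero_of_not_prime n.centralBinom h, _root_.pow_zero]
  change ∏ x ∈ Finset.range (2 * n / 3 + 1), f x ≤ _
  rw [← this, ← Finset.prod_filter_mul_prod_filter_not S (· ≤ sqrt (2 * n))]
  apply mul_le_mul'
  · refine (Finset.prod_le_prod' fun p _ => (?_ : f p ≤ 2 * n)).trans ?_
    · exact pow_factorization_choose_le (mul_pos two_pos n_pos)
    have : (Finset.Icc 1 (sqrt (2 * n))).card = sqrt (2 * n) := by rw [card_Icc, Nat.add_sub_cancel]
    rw [Finset.prod_const]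
    refine pow_right_mono₀ n2_pos ((Finset.card_le_card fun x hx => ?_).trans this.le)
    obtain ⟨h1, h2⟩ := Finset.mem_filter.1 hx
    exact Finset.mem_Icc.mpr ⟨(Finset.mem_filter.1 h1).2.one_lt.le, h2⟩
  · refine le_trans ?_ (primorial_le_four_pow (2 * n / 3))
    refine (Finset.prod_le_prod' fun p hp => (?_ : f p ≤ p)).trans ?_
    · obtain ⟨h1, h2⟩ := Finset.mem_filter.1 hp
      refine (pow_right_mono₀ (Finset.mem_filter.1 h1).2.one_lt.le ?_).trans (pow_one p).le
      exact Nat.factorization_choose_le_one (sqrt_lt'.mp <| not_le.1 h2)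
    refine Finset.prod_le_prod_of_subset_of_one_le' (Finset.filter_subset _ _) ?_
    exact fun p hp _ => (Finset.mem_filter.1 hp).2.one_lt.le

theorem centralBinom_le_of_one_prime (n : ℕ) (n_large : 2 < n) (p₀ : ℕ)
    (h : ∀ p : ℕ, p.Prime → n < p → p ≤ 2 * n → p = p₀) :
    centralBinom n ≤ (2 * n) ^ (sqrt (2 * n) + 1) * 4 ^ (2 * n / 3) := by
  have n_pos : 0 < n := (Nat.zero_le _).trans_lt n_large
  let f : ℕ → ℕ := fun x => x ^ n.centralBinom.factorization x
  have hle : 2 * n / 3 + 1 ≤ 2 * n + 1 := by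
    have := Nat.div_le_self (2 * n) 3
    omega
  have hsplit : centralBinom n = (∏ p ∈ Finset.range (2 * n / 3 + 1), f p) *
      ∏ p ∈ Finset.Ico (2 * n / 3 + 1) (2 * n + 1), f p := by
    rw [Finset.prod_range_mul_prod_Ico f hle]
    exact (n.prod_pow_factorization_centralBinom).symm
  have hone : ∀ p ∈ Finset.Ico (2 * n / 3 + 1) (2 * n + 1), p ≠ p₀ → f p = 1 := by
    intro p hp hne
    rw [Finset.mem_Ico] at hp
    by_cases hpp : p.Prime
    · rcases le_or_gt p n with hpn | hpn
      · have h3 : 2 * n < 3 * p := by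
          have : 2 * n / 3 < p := hp.1
          rw [Nat.div_lt_iff_lt_mul (by norm_num)] at this
          omega
        simp only [f]
        rw [factorization_centralBinom_of_two_mul_self_lt_three_mul n_large hpn h3, pow_zero]
      · exact absurd (h p hpp hpn (by omega)) hne
    · simp only [f]
      rw [factorization_eq_zero_of_not_prime n.centralBinom hpp, pow_zero]
  have hbig : ∏ p ∈ Finset.Ico (2 * n / 3 + 1) (2 * n + 1), f p ≤ 2 * n := by
    by_cases hmem : p₀ ∈ Finset.Ico (2 * n / 3 + 1) (2 * n + 1)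
    · rw [Finset.prod_eq_single_of_mem p₀ hmem (fun b hb hne => hone b hb hne)]
      exact pow_factorization_choose_le (mul_pos two_pos n_pos)
    · rw [Finset.prod_eq_one (fun p hp => hone p hp (fun e => hmem (e ▸ hp)))]
      omega
  rw [hsplit, pow_succ]
  calc (∏ p ∈ Finset.range (2 * n / 3 + 1), f p) * ∏ p ∈ Finset.Ico (2 * n / 3 + 1) (2 * n + 1), f p
      ≤ ((2 * n) ^ sqrt (2 * n) * 4 ^ (2 * n / 3)) * (2 * n) :=
        Nat.mul_le_mul (small_part_le n n_pos) hbig
    _ = (2 * n) ^ sqrt (2 * n) * (2 * n) * 4 ^ (2 * n / 3) := by ring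

theorem exists_two_primes_large (n : ℕ) (n_large : 512 ≤ n) :
    ∃ p q : ℕ, p.Prime ∧ q.Prime ∧ n < p ∧ p < q ∧ q ≤ 2 * n := by
  by_contra hcon
  obtain ⟨p₀, hp₀, h1, h2⟩ := Nat.exists_prime_lt_and_le_two_mul n (by omega)
  have huniq : ∀ p : ℕ, p.Prime → n < p → p ≤ 2 * n → p = p₀ := by
    intro p hp hnp hp2
    by_contra hne
    rcases lt_or_gt_of_ne hne with hlt | hlt
    · exact hcon ⟨p, p₀, hp, hp₀, hnp, hlt, h2⟩
    · exact hcon ⟨p₀, p, hp₀, hp, h1, hlt, hp2⟩
  have hcb := centralBinom_le_of_one_prime n (by omega) p₀ huniq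
  have hlow : 4 ^ n < n * n.centralBinom :=
    Nat.four_pow_lt_mul_centralBinom n (le_trans (by norm_num1) n_large)
  have hup : n * n.centralBinom ≤ 4 ^ n := by
    calc n * n.centralBinom ≤ n * ((2 * n) ^ (sqrt (2 * n) + 1) * 4 ^ (2 * n / 3)) :=
          Nat.mul_le_mul_left _ hcb
      _ = n * (2 * n) ^ (sqrt (2 * n) + 1) * 4 ^ (2 * n / 3) := by ring
      _ ≤ 4 ^ n := main_inequality2 n_large
  omega

theorem chain_step (a b c : ℕ) (hb : b.Prime) (hc : c.Prime) (hbc : b < c) (hca : c ≤ 2 * a)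
    (n : ℕ) (h1 : a ≤ n) (h2 : n < b) :
    ∃ p q : ℕ, p.Prime ∧ q.Prime ∧ n < p ∧ p < q ∧ q ≤ 2 * n :=
  ⟨b, c, hb, hc, h2, hbc, by omega⟩

/-- For `n ≥ 6` there are two primes in `(n, 2n]`. -/
theorem exists_two_primes (n : ℕ) (hn : 6 ≤ n) :
    ∃ p q : ℕ, p.Prime ∧ q.Prime ∧ n < p ∧ p < q ∧ q ≤ 2 * n := by
  rcases lt_or_ge n 7 with h | h
  · exact chain_step 6 7 11 (by norm_num) (by norm_num) (by norm_num) (by norm_num) n hn h
  rcases lt_or_ge n 11 with h' | h'
  · exact chain_step 7 11 13 (by norm_num) (by norm_num) (by norm_num) (by norm_num) n h h'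
  rcases lt_or_ge n 17 with h | h
  · exact chain_step 11 17 19 (by norm_num) (by norm_num) (by norm_num) (by norm_num) n h' h
  rcases lt_or_ge n 29 with h' | h'
  · exact chain_step 17 29 31 (by norm_num) (by norm_num) (by norm_num) (by norm_num) n h h'
  rcases lt_or_ge n 47 with h | h
  · exact chain_step 29 47 53 (by norm_num) (by norm_num) (by norm_num) (by norm_num) n h' h
  rcases lt_or_ge n 83 with h' | h'
  · exact chain_step 47 83 89 (by norm_num) (by norm_num) (by norm_num) (by norm_num) n h h'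
  rcases lt_or_ge n 157 with h | h
  · exact chain_step 83 157 163 (by norm_num) (by norm_num) (by norm_num) (by norm_num) n h' h
  rcases lt_or_ge n 311 with h' | h'
  · exact chain_step 157 311 313 (by norm_num) (by norm_num) (by norm_num) (by norm_num) n h h'
  rcases lt_or_ge n 617 with h | h
  · exact chain_step 311 617 619 (by norm_num) (by norm_num) (by norm_num) (by norm_num) n h' h
  exact exists_two_primes_large n (by omega)

/-- For `N ≥ 11` there are two primes `p < q` in `(N/2, N]`. -/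
theorem exists_two_primes_half (N : ℕ) (hN : 11 ≤ N) :
    ∃ p q : ℕ, p.Prime ∧ q.Prime ∧ N < 2 * p ∧ p < q ∧ q ≤ N := by
  rcases Nat.lt_or_ge N 12 with h | h
  · exact ⟨7, 11, by norm_num, by norm_num, by omega, by norm_num, by omega⟩
  obtain ⟨p, q, hp, hq, h1, h2, h3⟩ := exists_two_primes (N / 2) (by omega)
  exact ⟨p, q, hp, hq, by omega, h2, by omega⟩

end Cfsg.Agent.Helper17.TwoPrimes
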