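import Mathlib
import Cfsg.Agent.Helper17.TwoPrimes

/-!
# S4150 piece PRIMES: two primes `p + 4 ≤ q` in `(m/2, m]` for `m ≥ 17`

Three primes in `(n, 2n]` for `n ≥ 648` (adaptation of Mathlib's proof of Bertrand's postulate,
on top of `Helper17.TwoPrimes`), and a finite chain below.
-/

namespace Cfsg.Agent.S4150P

namespace PRIMES

open Real in
/-- Real inequality with two extra factors `2x`. -/
theorem real_main_inequality3 {x : ℝ} (x_large : (648 : ℝ) ≤ x) :
    x * (2 * x) ^ (√(2 * x) + 2) * 4 ^ (2 * x / 3) ≤ 4 ^ x := by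
  let f : ℝ → ℝ := fun x =>
    log x + √(2 * x) * log (2 * x) + log (2 * x) + log (2 * x) - log 4 / 3 * x
  have hf' : ∀ x, 0 < x → 0 < x * (2 * x) ^ (√(2 * x) + 2) / 4 ^ (x / 3) := fun x h =>
    div_pos (mul_pos h (rpow_pos_of_pos (mul_pos two_pos h) _)) (rpow_pos_of_pos four_pos _)
  have hf : ∀ x, 0 < x → f x = log (x * (2 * x) ^ (√(2 * x) + 2) / 4 ^ (x / 3)) := by
    intro x h5
    have h6 := mul_pos (zero_lt_two' ℝ) h5
    have h7 := rpow_pos_of_pos h6 (√(2 * x) + 2)
    rw [log_div (mul_pos h5 h7).ne' (rpow_pos_of_pos four_pos _).ne', log_mul h5.ne' h7.ne',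
      log_rpow h6, log_rpow zero_lt_four]
    simp only [f]
    ring
  have h5 : 0 < x := lt_of_lt_of_le (by norm_num1) x_large
  have h4x : (4 : ℝ) ^ x = 4 ^ (x / 3) * 4 ^ (2 * x / 3) := by
    rw [← rpow_add four_pos]
    congr 1
    ring
  rw [h4x]
  apply mul_le_mul_of_nonneg_right _ (rpow_pos_of_pos four_pos _).le
  rw [← div_le_one (rpow_pos_of_pos four_pos _), ← log_nonpos_iff (hf' x h5).le, ← hf x h5]
  have hlog2 : ConcaveOn ℝ (Set.Ioi 0.5) (fun x : ℝ => log (2 * x)) := by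
    have := (strictConcaveOn_log_Ioi.concaveOn.comp_linearMap ((2 : ℝ) • LinearMap.id))
    refine this.subset ?_ (convex_Ioi 0.5)
    intro y hy
    simp only [Set.mem_Ioi, Set.mem_preimage, LinearMap.smul_apply,
      LinearMap.id_coe, id_eq, smul_eq_mul] at hy ⊢
    linarith
  have h : ConcaveOn ℝ (Set.Ioi 0.5) f := by
    apply ConcaveOn.sub
    · apply ConcaveOn.add
      · apply ConcaveOn.add
        · apply ConcaveOn.add
          · exact strictConcaveOn_log_Ioi.concaveOn.subset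
              (Set.Ioi_subset_Ioi (by norm_num)) (convex_Ioi 0.5)
          convert!
            ((strictConcaveOn_sqrt_mul_log_Ioi.concaveOn.comp_linearMap ((2 : ℝ) • LinearMap.id)))
            using 1
          ext x
          simp only [Set.mem_Ioi, Set.mem_preimage, LinearMap.smul_apply,
            LinearMap.id_coe, id_eq, smul_eq_mul]
          rw [← mul_lt_mul_iff_right₀ (two_pos)]
          norm_num1
          rfl
        · exact hlog2
      · exact hlog2
    apply ConvexOn.smul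
    · refine div_nonneg (log_nonneg (by norm_num1)) (by norm_num1)
    · exact convexOn_id (convex_Ioi (0.5 : ℝ))
  suffices ∃ x1 x2, 0.5 < x1 ∧ x1 < x2 ∧ x2 ≤ x ∧ 0 ≤ f x1 ∧ f x2 ≤ 0 by
    obtain ⟨x1, x2, h1, h2, h0, h3, h4⟩ := this
    exact (h.right_le_of_le_left'' h1 ((h1.trans h2).trans_le h0) h2 h0 (h4.trans h3)).trans h4
  refine ⟨18, 648, by norm_num1, by norm_num1, x_large, ?_, ?_⟩
  · have : √(2 * 18 : ℝ) = 6 := (sqrt_eq_iff_mul_self_eq_of_pos (by norm_num1)).mpr (by norm_num1)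
    rw [hf _ (by norm_num1), log_nonneg_iff (by positivity), this, one_le_div (by positivity)]
    have e1 : ((6 : ℝ) + 2) = ((8 : ℕ) : ℝ) := by norm_num
    have e2 : ((18 : ℝ) / 3) = ((6 : ℕ) : ℝ) := by norm_num
    rw [e1, e2, rpow_natCast, rpow_natCast]
    norm_num1
  · have : √(2 * 648) = 36 :=
      (sqrt_eq_iff_mul_self_eq_of_pos (by norm_num1)).mpr (by norm_num1)
    rw [hf _ (by norm_num1), log_nonpos_iff (hf' _ (by norm_num1)).le, this,
        div_le_one (by positivity)]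
    have e1 : ((36 : ℝ) + 2) = ((38 : ℕ) : ℝ) := by norm_num
    have e2 : ((648 : ℝ) / 3) = ((216 : ℕ) : ℝ) := by norm_num
    rw [e1, e2, rpow_natCast, rpow_natCast]
    norm_num1

open Nat

theorem main_inequality3 {n : ℕ} (n_large : 648 ≤ n) :
    n * (2 * n) ^ (sqrt (2 * n) + 2) * 4 ^ (2 * n / 3) ≤ 4 ^ n := by
  rw [← @cast_le ℝ]
  simp only [cast_mul, cast_pow, ← Real.rpow_natCast, cast_ofNat, cast_add]
  refine _root_.trans ?_ (real_main_inequality3 (by exact_mod_cast n_large))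
  gcongr
  · have n2_pos : 0 < 2 * n := by positivity
    exact mod_cast n2_pos
  · exact_mod_cast Real.nat_sqrt_le_real_sqrt
  · norm_num1
  · exact cast_div_le.trans (by norm_cast)

theorem centralBinom_le_of_two_primes (n : ℕ) (n_large : 2 < n) (p₀ p₁ : ℕ)
    (h : ∀ p : ℕ, p.Prime → n < p → p ≤ 2 * n → p = p₀ ∨ p = p₁) :
    centralBinom n ≤ (2 * n) ^ (sqrt (2 * n) + 2) * 4 ^ (2 * n / 3) := by
  have n_pos : 0 < n := (Nat.zero_le _).trans_lt n_large
  let f : ℕ → ℕ := fun x => x ^ n.centralBinom.factorization x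
  have hle : 2 * n / 3 + 1 ≤ 2 * n + 1 := by
    have := Nat.div_le_self (2 * n) 3
    omega
  have hsplit : centralBinom n = (∏ p ∈ Finset.range (2 * n / 3 + 1), f p) *
      ∏ p ∈ Finset.Ico (2 * n / 3 + 1) (2 * n + 1), f p := by
    rw [Finset.prod_range_mul_prod_Ico f hle]
    exact (n.prod_pow_factorization_centralBinom).symm
  have hfle : ∀ p, f p ≤ 2 * n := fun p =>
    pow_factorization_choose_le (mul_pos two_pos n_pos)
  have hone : ∀ p ∈ Finset.Ico (2 * n / 3 + 1) (2 * n + 1), p ≠ p₀ → p ≠ p₁ → f p = 1 := by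
    intro p hp hne hne'
    rw [Finset.mem_Ico] at hp
    by_cases hpp : p.Prime
    · rcases le_or_gt p n with hpn | hpn
      · have h3 : 2 * n < 3 * p := by
          have : 2 * n / 3 < p := hp.1
          rw [Nat.div_lt_iff_lt_mul (by norm_num)] at this
          omega
        simp only [f]
        rw [factorization_centralBinom_of_two_mul_self_lt_three_mul n_large hpn h3, pow_zero]
      · rcases h p hpp hpn (by omega) with e | e
        · exact absurd e hne
        · exact absurd e hne'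
    · simp only [f]
      rw [factorization_eq_zero_of_not_prime n.centralBinom hpp, pow_zero]
  have hbig : ∏ p ∈ Finset.Ico (2 * n / 3 + 1) (2 * n + 1), f p ≤ (2 * n) * (2 * n) := by
    classical
    have hsub : ∏ p ∈ Finset.Ico (2 * n / 3 + 1) (2 * n + 1), f p
        = ∏ p ∈ (Finset.Ico (2 * n / 3 + 1) (2 * n + 1)).filter (fun p => p = p₀ ∨ p = p₁),
            f p := by
      symm
      apply Finset.prod_filter_of_ne
      intro p hp hfp
      by_contra hcon
      push Not at hcon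
      exact hfp (hone p hp hcon.1 hcon.2)
    rw [hsub]
    have hss : (Finset.Ico (2 * n / 3 + 1) (2 * n + 1)).filter (fun p => p = p₀ ∨ p = p₁)
        ⊆ ({p₀, p₁} : Finset ℕ) := by
      intro p hp
      rw [Finset.mem_filter] at hp
      simp only [Finset.mem_insert, Finset.mem_singleton]
      exact hp.2
    calc ∏ p ∈ (Finset.Ico (2 * n / 3 + 1) (2 * n + 1)).filter (fun p => p = p₀ ∨ p = p₁), f p
        ≤ ∏ _p ∈ (Finset.Ico (2 * n / 3 + 1) (2 * n + 1)).filter (fun p => p = p₀ ∨ p = p₁),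
            (2 * n) := Finset.prod_le_prod' (fun p _ => hfle p)
      _ = (2 * n) ^ ((Finset.Ico (2 * n / 3 + 1) (2 * n + 1)).filter
            (fun p => p = p₀ ∨ p = p₁)).card := by rw [Finset.prod_const]
      _ ≤ (2 * n) ^ 2 := by
          apply Nat.pow_le_pow_right (by omega)
          exact (Finset.card_le_card hss).trans Finset.card_le_two
      _ = (2 * n) * (2 * n) := by ring
  rw [hsplit]
  calc (∏ p ∈ Finset.range (2 * n / 3 + 1), f p) * ∏ p ∈ Finset.Ico (2 * n / 3 + 1) (2 * n + 1), f p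
      ≤ ((2 * n) ^ sqrt (2 * n) * 4 ^ (2 * n / 3)) * ((2 * n) * (2 * n)) :=
        Nat.mul_le_mul (Cfsg.Agent.Helper17.TwoPrimes.small_part_le n n_pos) hbig
    _ = (2 * n) ^ (sqrt (2 * n) + 2) * 4 ^ (2 * n / 3) := by ring

theorem exists_three_primes_large (n : ℕ) (n_large : 648 ≤ n) :
    ∃ p r q : ℕ, p.Prime ∧ r.Prime ∧ q.Prime ∧ n < p ∧ p < r ∧ r < q ∧ q ≤ 2 * n := by
  by_contra hcon
  obtain ⟨p₀, p₁, hp₀, hp₁, h1, h2, h3⟩ :=
    Cfsg.Agent.Helper17.TwoPrimes.exists_two_primes n (by omega)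
  have huniq : ∀ p : ℕ, p.Prime → n < p → p ≤ 2 * n → p = p₀ ∨ p = p₁ := by
    intro p hp hnp hp2
    by_contra hne
    push Not at hne
    rcases lt_or_gt_of_ne hne.1 with hlt | hlt
    · exact hcon ⟨p, p₀, p₁, hp, hp₀, hp₁, hnp, hlt, h2, h3⟩
    · rcases lt_or_gt_of_ne hne.2 with hlt' | hlt'
      · exact hcon ⟨p₀, p, p₁, hp₀, hp, hp₁, h1, hlt, hlt', h3⟩
      · exact hcon ⟨p₀, p₁, p, hp₀, hp₁, hp, h1, h2, hlt', hp2⟩
  have hcb := centralBinom_le_of_two_primes n (by omega) p₀ p₁ huniq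
  have hlow : 4 ^ n < n * n.centralBinom :=
    Nat.four_pow_lt_mul_centralBinom n (le_trans (by norm_num1) n_large)
  have hup : n * n.centralBinom ≤ 4 ^ n := by
    calc n * n.centralBinom ≤ n * ((2 * n) ^ (sqrt (2 * n) + 2) * 4 ^ (2 * n / 3)) :=
          Nat.mul_le_mul_left _ hcb
      _ = n * (2 * n) ^ (sqrt (2 * n) + 2) * 4 ^ (2 * n / 3) := by ring
      _ ≤ 4 ^ n := main_inequality3 n_large
  omega

theorem chain_step (a b d : ℕ) (hb : b.Prime) (hd : d.Prime) (hbd : b + 4 ≤ d) (hda : d ≤ 2 * a)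
    (n : ℕ) (h1 : a ≤ n) (h2 : n < b) :
    ∃ p q : ℕ, p.Prime ∧ q.Prime ∧ n < p ∧ p + 4 ≤ q ∧ q ≤ 2 * n :=
  ⟨b, d, hb, hd, h2, hbd, by omega⟩

/-- For `n ≥ 9` there are primes `p`, `q` in `(n, 2n]` with `p + 4 ≤ q`. -/
theorem exists_gap_primes (n : ℕ) (hn : 9 ≤ n) :
    ∃ p q : ℕ, p.Prime ∧ q.Prime ∧ n < p ∧ p + 4 ≤ q ∧ q ≤ 2 * n := by
  rcases lt_or_ge n 11 with h | h
  · exact chain_step 9 11 17 (by norm_num) (by norm_num) (by norm_num) (by norm_num) n hn h
  rcases lt_or_ge n 13 with h' | h'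
  · exact chain_step 11 13 17 (by norm_num) (by norm_num) (by norm_num) (by norm_num) n h h'
  rcases lt_or_ge n 17 with h | h
  · exact chain_step 13 17 23 (by norm_num) (by norm_num) (by norm_num) (by norm_num) n h' h
  rcases lt_or_ge n 23 with h' | h'
  · exact chain_step 17 23 29 (by norm_num) (by norm_num) (by norm_num) (by norm_num) n h h'
  rcases lt_or_ge n 37 with h | h
  · exact chain_step 23 37 41 (by norm_num) (by norm_num) (by norm_num) (by norm_num) n h' h
  rcases lt_or_ge n 67 with h' | h'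
  · exact chain_step 37 67 71 (by norm_num) (by norm_num) (by norm_num) (by norm_num) n h h'
  rcases lt_or_ge n 127 with h | h
  · exact chain_step 67 127 131 (by norm_num) (by norm_num) (by norm_num) (by norm_num) n h' h
  rcases lt_or_ge n 241 with h' | h'
  · exact chain_step 127 241 251 (by norm_num) (by norm_num) (by norm_num) (by norm_num) n h h'
  rcases lt_or_ge n 467 with h | h
  · exact chain_step 241 467 479 (by norm_num) (by norm_num) (by norm_num) (by norm_num) n h' h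
  rcases lt_or_ge n 919 with h' | h'
  · exact chain_step 467 919 929 (by norm_num) (by norm_num) (by norm_num) (by norm_num) n h h'
  obtain ⟨p, r, q, hp, hr, hq, h1, h2, h3, h4⟩ := exists_three_primes_large n (by omega)
  refine ⟨p, q, hp, hq, h1, ?_, h4⟩
  have hpo : p % 2 = 1 := by
    rcases hp.eq_two_or_odd with e | e
    · omega
    · exact e
  have hro : r % 2 = 1 := by
    rcases hr.eq_two_or_odd with e | e
    · omega
    · exact e
  have hqo : q % 2 = 1 := by
    rcases hq.eq_two_or_odd with e | e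
    · omega
    · exact e
  omega

/-- **S4150 piece PRIMES.** For `m ≥ 17` there are primes `p`, `q` with `m / 2 < p`,
`p + 4 ≤ q ≤ m`. -/
theorem exists_pair (m : ℕ) (hm : 17 ≤ m) :
    ∃ p q : ℕ, p.Prime ∧ q.Prime ∧ m < 2 * p ∧ p + 4 ≤ q ∧ q ≤ m := by
  rcases Nat.lt_or_ge m 18 with h | h
  · exact ⟨11, 17, by norm_num, by norm_num, by omega, by norm_num, by omega⟩
  obtain ⟨p, q, hp, hq, h1, h2, h3⟩ := exists_gap_primes (m / 2) (by omega)
  exact ⟨p, q, hp, hq, by omega, h2, by omega⟩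

end PRIMES

end Cfsg.Agent.S4150P
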