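import Mathlib
import Cfsg.Agent.Helper26.S4395Defs
import Cfsg.Agent.Helper20.S4394GSb

/-!
# S4395 piece FIBb (board `s4395pieces`, helper17)

`Y = (y₁, y₂)` normalizes the fibre product `Γ`, `Γ` is a `p`-group and `[Γ, Y]` projects onto `P₁`, `P₂`.
-/

set_option autoImplicit false

namespace Cfsg.Agent.S4395P

open Cfsg Cfsg.Agent.S4394P

/-- auxiliary: image of the fibre product under the first projection. -/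
theorem FIBb_aux_fst (p q r : ℕ) {F : Type*} [Field F] (ζ : F)
    {X₁ X₂ : Type*} [Group X₁] [Group X₂]
    (P₁ : Subgroup X₁) (y₁ : X₁) (lam₁ : X₁ → F)
    (P₂ : Subgroup X₂) (y₂ : X₂) (lam₂ : X₂ → F) (h₂ : NFData p q r ζ P₂ y₂ lam₂)
    (Γ : Subgroup (X₁ × X₂))
    (hΓ : ∀ g : X₁ × X₂, g ∈ Γ ↔ g.1 ∈ P₁ ∧ g.2 ∈ P₂ ∧ lam₁ g.1 = lam₂ g.2) :
    Γ.map (MonoidHom.fst X₁ X₂) = P₁ := by
  apply le_antisymm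
  · rintro _ ⟨g, hg, rfl⟩
    exact ((hΓ g).mp hg).1
  · intro u hu
    obtain ⟨v, hv, hlv⟩ := h₂.surj (lam₁ u)
    exact ⟨(u, v), (hΓ (u, v)).mpr ⟨hu, hv, hlv.symm⟩, rfl⟩

/-- auxiliary: image of the fibre product under the second projection. -/
theorem FIBb_aux_snd (p q r : ℕ) {F : Type*} [Field F] (ζ : F)
    {X₁ X₂ : Type*} [Group X₁] [Group X₂]
    (P₁ : Subgroup X₁) (y₁ : X₁) (lam₁ : X₁ → F) (h₁ : NFData p q r ζ P₁ y₁ lam₁)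
    (P₂ : Subgroup X₂) (lam₂ : X₂ → F)
    (Γ : Subgroup (X₁ × X₂))
    (hΓ : ∀ g : X₁ × X₂, g ∈ Γ ↔ g.1 ∈ P₁ ∧ g.2 ∈ P₂ ∧ lam₁ g.1 = lam₂ g.2) :
    Γ.map (MonoidHom.snd X₁ X₂) = P₂ := by
  apply le_antisymm
  · rintro _ ⟨g, hg, rfl⟩
    exact ((hΓ g).mp hg).2.1
  · intro v hv
    obtain ⟨u, hu, hlu⟩ := h₁.surj (lam₂ v)
    exact ⟨(u, v), (hΓ (u, v)).mpr ⟨hu, hv, hlu⟩, rfl⟩

/-- FIBb (M/L): `Y = (y₁, y₂)` normalizes `Γ`, `Γ` is a `p`-group, and `P₃ = [Γ, Y]` projects onto `P₁`, `P₂`. -/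
theorem FIBb (p q r : ℕ) [Fact p.Prime] [Fact q.Prime] (hpq : p ≠ q) {F : Type*} [Field F] (ζ : F)
    {X₁ X₂ : Type*} [Group X₁] [Finite X₁] [Group X₂] [Finite X₂]
    (P₁ : Subgroup X₁) (y₁ : X₁) (lam₁ : X₁ → F) (h₁ : NFData p q r ζ P₁ y₁ lam₁)
    (P₂ : Subgroup X₂) (y₂ : X₂) (lam₂ : X₂ → F) (h₂ : NFData p q r ζ P₂ y₂ lam₂)
    (Γ : Subgroup (X₁ × X₂))
    (hΓ : ∀ g : X₁ × X₂, g ∈ Γ ↔ g.1 ∈ P₁ ∧ g.2 ∈ P₂ ∧ lam₁ g.1 = lam₂ g.2) :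
    (Subgroup.zpowers ((y₁, y₂) : X₁ × X₂) ≤ Subgroup.normalizer (Γ : Set (X₁ × X₂))) ∧
    IsPGroup p Γ ∧
    (⁅Γ, Subgroup.zpowers ((y₁, y₂) : X₁ × X₂)⁆).map (MonoidHom.fst X₁ X₂) = P₁ ∧
    (⁅Γ, Subgroup.zpowers ((y₁, y₂) : X₁ × X₂)⁆).map (MonoidHom.snd X₁ X₂) = P₂ := by
  refine ⟨?_, ?_, ?_, ?_⟩
  · -- normalizer
    rw [Subgroup.zpowers_le]
    apply GSb_aux_normalizer
    intro g hg
    obtain ⟨hg1, hg2, hgl⟩ := (hΓ g).mp hg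
    rw [hΓ]
    refine ⟨?_, ?_, ?_⟩
    · simpa using h₁.sch.nrm g.1 hg1
    · simpa using h₂.sch.nrm g.2 hg2
    · have e1 : ((y₁, y₂) * g * (y₁, y₂)⁻¹ : X₁ × X₂).1 = y₁ * g.1 * y₁⁻¹ := by simp
      have e2 : ((y₁, y₂) * g * (y₁, y₂)⁻¹ : X₁ × X₂).2 = y₂ * g.2 * y₂⁻¹ := by simp
      rw [e1, e2, h₁.equiv g.1 hg1, h₂.equiv g.2 hg2, hgl]
  · -- p-group
    intro g
    obtain ⟨hg1, hg2, -⟩ := (hΓ g.1).mp g.2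
    obtain ⟨k₁, hk₁⟩ := h₁.sch.pgrp ⟨g.1.1, hg1⟩
    obtain ⟨k₂, hk₂⟩ := h₂.sch.pgrp ⟨g.1.2, hg2⟩
    have hk₁' : g.1.1 ^ p ^ k₁ = 1 := by
      have := congrArg Subtype.val hk₁
      simpa using this
    have hk₂' : g.1.2 ^ p ^ k₂ = 1 := by
      have := congrArg Subtype.val hk₂
      simpa using this
    refine ⟨k₁ + k₂, ?_⟩
    apply Subtype.ext
    rw [Subgroup.coe_pow, Subgroup.coe_one]
    apply Prod.ext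
    · rw [Prod.pow_fst, Prod.fst_one, pow_add, pow_mul, hk₁', one_pow]
    · rw [Prod.pow_snd, Prod.snd_one, pow_add, mul_comm, pow_mul, hk₂', one_pow]
  · rw [Subgroup.map_commutator, FIBb_aux_fst p q r ζ P₁ y₁ lam₁ P₂ y₂ lam₂ h₂ Γ hΓ,
      MonoidHom.map_zpowers]
    exact (GSb h₁.sch).2.2.2
  · rw [Subgroup.map_commutator, FIBb_aux_snd p q r ζ P₁ y₁ lam₁ h₁ P₂ lam₂ Γ hΓ,
      MonoidHom.map_zpowers]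
    exact (GSb h₂.sch).2.2.2

end Cfsg.Agent.S4395P
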