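import Mathlib
import Cfsg.Agent.Helper26.S4395Defs
import Cfsg.Agent.Helper20.S4394GSb
import Cfsg.Agent.Helper9.NPCSub
import Cfsg.Agent.Helper19.S4395NILPN
import Cfsg.Agent.Helper17.S4395FIBb
import Cfsg.Agent.Helper20.S4395QPN
import Cfsg.Agent.Helper8.S4395FIBc

/-!
# S4395 piece FIBd (board `s4395pieces`, helper17)

The fibre product cover `X₃ = [Γ, Y]⟨Y⟩` is minimal non-`p`-nilpotent.
-/

set_option autoImplicit false

namespace Cfsg.Agent.S4395P

open Cfsg Cfsg.Agent.S4394P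

/-- auxiliary: a central factor can be dropped from a commutator. -/
theorem FIBd_aux_comm {G : Type*} [Group G] (z k b : G) (hz : ∀ x : G, z * x = x * z) :
    z * k * b * (z * k)⁻¹ * b⁻¹ = k * b * k⁻¹ * b⁻¹ := by
  have h1 : (z * k)⁻¹ = k⁻¹ * z⁻¹ := mul_inv_rev z k
  have hzi : ∀ x : G, z⁻¹ * x = x * z⁻¹ := by
    intro x
    have := hz x
    calc z⁻¹ * x = z⁻¹ * (x * z) * z⁻¹ := by group
      _ = z⁻¹ * (z * x) * z⁻¹ := by rw [this]
      _ = x * z⁻¹ := by group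
  calc z * k * b * (z * k)⁻¹ * b⁻¹ = z * k * b * k⁻¹ * z⁻¹ * b⁻¹ := by rw [h1]; group
    _ = z * k * b * k⁻¹ * (z⁻¹ * b⁻¹) := by group
    _ = z * k * b * k⁻¹ * (b⁻¹ * z⁻¹) := by rw [hzi b⁻¹]
    _ = z * (k * b * k⁻¹ * b⁻¹) * z⁻¹ := by group
    _ = (k * b * k⁻¹ * b⁻¹) * z * z⁻¹ := by rw [hz (k * b * k⁻¹ * b⁻¹)]
    _ = k * b * k⁻¹ * b⁻¹ := by group

/-- FIBd (L): `X₃` is minimal non-`p`-nilpotent. -/
theorem FIBd (p q r : ℕ) [Fact p.Prime] [Fact q.Prime] (hpq : p ≠ q) {F : Type*} [Field F] (ζ : F)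
    {X₁ X₂ : Type*} [Group X₁] [Finite X₁] [Group X₂] [Finite X₂]
    (P₁ : Subgroup X₁) (y₁ : X₁) (lam₁ : X₁ → F) (h₁ : NFData p q r ζ P₁ y₁ lam₁)
    (P₂ : Subgroup X₂) (y₂ : X₂) (lam₂ : X₂ → F) (h₂ : NFData p q r ζ P₂ y₂ lam₂)
    (Γ : Subgroup (X₁ × X₂))
    (hΓ : ∀ g : X₁ × X₂, g ∈ Γ ↔ g.1 ∈ P₁ ∧ g.2 ∈ P₂ ∧ lam₁ g.1 = lam₂ g.2)
    (X₃ : Subgroup (X₁ × X₂))
    (hX₃ : X₃ = ⁅Γ, Subgroup.zpowers ((y₁, y₂) : X₁ × X₂)⁆ ⊔ Subgroup.zpowers ((y₁, y₂) : X₁ × X₂)) :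
    MNP p ↥X₃ := by
  classical
  have hp : p.Prime := Fact.out
  have hq : q.Prime := Fact.out
  obtain ⟨hnorm, hΓp, hfst, hsnd⟩ := FIBb p q r hpq ζ P₁ y₁ lam₁ h₁ P₂ y₂ lam₂ h₂ Γ hΓ
  obtain ⟨hcard, ⟨t, ht⟩, htop1, htop2, hcen1, hcen2⟩ :=
    FIBc p q r hpq ζ P₁ y₁ lam₁ h₁ P₂ y₂ lam₂ h₂ Γ hΓ X₃ hX₃
  set Y : X₁ × X₂ := (y₁, y₂) with hY
  set P₃ : Subgroup (X₁ × X₂) := ⁅Γ, Subgroup.zpowers Y⁆ with hP₃
  have hP₃X : P₃ ≤ X₃ := by rw [hX₃]; exact le_sup_left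
  have hYX : Y ∈ X₃ := by
    rw [hX₃]; exact (le_sup_right : Subgroup.zpowers Y ≤ _) (Subgroup.mem_zpowers Y)
  -- the projection
  let ψ : ↥X₃ →* X₁ := (MonoidHom.fst X₁ X₂).comp X₃.subtype
  have hψ : ∀ g : ↥X₃, ψ g = (g : X₁ × X₂).1 := fun g => rfl
  have hψsurj : Function.Surjective ψ := by
    intro x
    have : x ∈ X₃.map (MonoidHom.fst X₁ X₂) := by rw [htop1]; exact Subgroup.mem_top x
    obtain ⟨g, hg, hgx⟩ := this
    exact ⟨⟨g, hg⟩, hgx⟩
  -- order of Y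
  have hYpow : Y ^ q ^ r = 1 := by
    apply Prod.ext
    · rw [Prod.pow_fst, Prod.fst_one, ← h₁.ord]; exact pow_orderOf_eq_one y₁
    · rw [Prod.pow_snd, Prod.snd_one, ← h₂.ord]; exact pow_orderOf_eq_one y₂
  have hYord : orderOf Y ∣ q ^ r := orderOf_dvd_of_pow_eq_one hYpow
  have hqp : Nat.Coprime q p := (Nat.coprime_primes hq hp).mpr (Ne.symm hpq)
  have hYcop : ∀ s : ℕ, Nat.Coprime (p ^ s) (orderOf Y) := by
    intro s
    apply Nat.Coprime.coprime_dvd_right hYord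
    exact Nat.Coprime.pow _ _ hqp.symm
  refine ⟨?_, ?_⟩
  · -- not p-nilpotent
    intro hnpc
    have h1 : Cfsg.HasNormalPComplement p X₁ := QPN ψ hψsurj hnpc
    have hP₁n : P₁.Normal := h₁.normal
    obtain ⟨u, hu, hne⟩ := h₁.sch.nc
    exact hne (Cfsg.Agent.Helper9.commute_of_hasNormalPComplement h1 P₁ h₁.sch.pgrp y₁
      h₁.sch.cop u hu)
  · intro K hK
    let f : ↥K →* X₁ := ψ.comp K.subtype
    have hf : ∀ k : ↥K, f k = ((k : ↥X₃) : X₁ × X₂).1 := fun k => rfl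
    by_cases hr : f.range = ⊤
    · -- then K = ⊤
      exfalso
      apply hK
      -- decomposition of elements of X₃
      have hdec : ∀ x : X₁ × X₂, x ∈ X₃ → ∃ z k : X₁ × X₂, z ∈ X₃ ∧ z.1 = 1 ∧
          k ∈ K.map X₃.subtype ∧ x = z * k := by
        intro x hx
        have : x.1 ∈ f.range := by rw [hr]; exact Subgroup.mem_top _
        obtain ⟨k, hk⟩ := this
        refine ⟨x * ((k : ↥X₃) : X₁ × X₂)⁻¹, ((k : ↥X₃) : X₁ × X₂), ?_, ?_, ?_, ?_⟩
        · exact X₃.mul_mem hx (X₃.inv_mem (k : ↥X₃).2)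
        · rw [Prod.fst_mul, Prod.fst_inv, ← hf k, hk, mul_inv_cancel]
        · exact ⟨(k : ↥X₃), k.2, rfl⟩
        · group
      -- the kernel of ψ is a p-group
      have hkercard : ∃ s : ℕ, Nat.card ψ.ker = p ^ s := by
        have h1 : Nat.card ψ.ker * Nat.card X₁ = Nat.card ↥X₃ := by
          have h2 := Subgroup.card_mul_index ψ.ker
          rw [Subgroup.index_ker, MonoidHom.range_eq_top.mpr hψsurj, Subgroup.card_top] at h2
          exact h2
        rw [hcard, ht, h₁.card] at h1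
        have hq0 : 0 < q ^ r := pow_pos hq.pos r
        have h3 : Nat.card ψ.ker * Nat.card P₁ = p ^ t := by
          have : Nat.card ψ.ker * Nat.card P₁ * q ^ r = p ^ t * q ^ r := by
            rw [← h1]; ring
          exact Nat.eq_of_mul_eq_mul_right hq0 this
        have h4 : Nat.card ψ.ker ∣ p ^ t := Dvd.intro _ h3
        obtain ⟨s, -, hs⟩ := (Nat.dvd_prime_pow hp).mp h4
        exact ⟨s, hs⟩
      obtain ⟨s, hs⟩ := hkercard
      have hzpow : ∀ z : X₁ × X₂, z ∈ X₃ → z.1 = 1 → z ^ p ^ s = 1 := by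
        intro z hz hz1
        have hzk : (⟨z, hz⟩ : ↥X₃) ∈ ψ.ker := by
          rw [MonoidHom.mem_ker, hψ]; exact hz1
        have h5 : (⟨⟨z, hz⟩, hzk⟩ : ↥ψ.ker) ^ Nat.card ψ.ker = 1 := pow_card_eq_one'
        rw [hs] at h5
        have h6 := congrArg (fun w : ↥ψ.ker => (((w : ↥X₃)) : X₁ × X₂)) h5
        simpa using h6
      set K' : Subgroup (X₁ × X₂) := K.map X₃.subtype with hK'
      -- Y ∈ K'
      have hYK : Y ∈ K' := by
        obtain ⟨z, k, hzX, hz1, hkK, hYzk⟩ := hdec Y hYX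
        have hzc := hcen1 z hzX hz1
        have hcomm : Commute z k := hzc k
        have h7 : Y ^ p ^ s = k ^ p ^ s := by
          rw [hYzk, hcomm.mul_pow, hzpow z hzX hz1, one_mul]
        obtain ⟨m, hm⟩ := exists_pow_eq_self_of_coprime (hYcop s)
        rw [← hm, h7]
        exact K'.pow_mem (K'.pow_mem hkK _) _
      have hzY : Subgroup.zpowers Y ≤ K' := Subgroup.zpowers_le.mpr hYK
      -- P₃ ≤ K'
      have hPP : ⁅P₃, Subgroup.zpowers Y⁆ = P₃ := by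
        apply Cfsg.Agent.Lead.coprime_commutator_commutator (Subgroup.zpowers Y) Γ hnorm
        · obtain ⟨n, hn⟩ := IsPGroup.exists_card_eq hΓp
          rw [hn, Nat.card_zpowers]
          exact (hYcop n).symm
        · left
          apply Group.isSolvable_of_comm
          intro a b
          obtain ⟨i, hi⟩ := Subgroup.mem_zpowers_iff.mp a.2
          obtain ⟨j, hj⟩ := Subgroup.mem_zpowers_iff.mp b.2
          apply Subtype.ext
          rw [Subgroup.coe_mul, Subgroup.coe_mul, ← hi, ← hj]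
          exact (Commute.zpow_zpow_self Y i j).eq
      have hP₃K : P₃ ≤ K' := by
        rw [← hPP, Subgroup.commutator_le]
        intro a ha b hb
        obtain ⟨z, k, hzX, hz1, hkK, hazk⟩ := hdec a (hP₃X ha)
        rw [commutatorElement_def, hazk, FIBd_aux_comm z k b (hcen1 z hzX hz1)]
        have hbK := hzY hb
        exact K'.mul_mem (K'.mul_mem (K'.mul_mem hkK hbK) (K'.inv_mem hkK)) (K'.inv_mem hbK)
      have hX₃K : X₃ ≤ K' := by
        rw [hX₃]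
        exact sup_le hP₃K hzY
      rw [eq_top_iff]
      intro x _
      obtain ⟨k, hk, hkx⟩ := hX₃K x.2
      have : k = x := Subtype.ext hkx
      rw [← this]; exact hk
    · -- K maps onto a proper, hence nilpotent, subgroup of X₁
      have hnil : Group.IsNilpotent ↥f.range := h₁.mnn.2 f.range hr
      have hker : f.rangeRestrict.ker ≤ Subgroup.center ↥K := by
        intro k hk
        rw [MonoidHom.ker_rangeRestrict, MonoidHom.mem_ker, hf] at hk
        rw [Subgroup.mem_center_iff]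
        intro g
        have := hcen1 ((k : ↥X₃) : X₁ × X₂) (k : ↥X₃).2 hk ((g : ↥X₃) : X₁ × X₂)
        apply Subtype.ext
        apply Subtype.ext
        simp only [Subgroup.coe_mul]
        exact this.symm
      have hKnil : Group.IsNilpotent ↥K :=
        @Subgroup.isNilpotent_of_ker_le_center _ _ _ _ f.rangeRestrict hker hnil
      exact NILPN hKnil

end Cfsg.Agent.S4395P
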