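import Mathlib
import Cfsg.Agent.Helper26.S4395Defs

/-!
# S4395 piece NPN (board `s4395pieces`, helper17)

A normal Sylow `p`-subgroup commutes elementwise with a normal `p`-complement.
-/

set_option autoImplicit false

namespace Cfsg.Agent.S4395P

open Cfsg

/-- NPN (S/M): normal Sylow `p` + normal `p`-complement ⇒ the Sylow `p`-subgroup commutes
elementwise with the complement. -/
theorem NPN {p : ℕ} [Fact p.Prime] {A : Type*} [Group A] [Finite A] (P : Sylow p A)
    (hP : (P : Subgroup A).Normal) (h : Cfsg.HasNormalPComplement p A) :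
    ∃ N : Subgroup A, N.Normal ∧ N.IsComplement' (P : Subgroup A) ∧
      ∀ u ∈ (P : Subgroup A), ∀ n ∈ N, u * n = n * u := by
  obtain ⟨P', N, hN, hc⟩ := h
  -- all Sylow subgroups coincide with the normal one
  have hPP' : P' = P := by
    have : (P : Subgroup A).Normal := hP
    obtain ⟨g, hg⟩ := MulAction.exists_smul_eq A P P'
    rw [← hg]
    exact Sylow.smul_eq_of_normal
  subst hPP'
  refine ⟨N, hN, hc, ?_⟩
  intro u hu n hn
  have hdisj : N ⊓ (P' : Subgroup A) = ⊥ := hc.disjoint.eq_bot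
  -- the commutator lies in both
  have h1 : u * n * u⁻¹ * n⁻¹ ∈ N := by
    have : u * n * u⁻¹ ∈ N := hN.conj_mem n hn u
    exact N.mul_mem this (N.inv_mem hn)
  have h2 : u * n * u⁻¹ * n⁻¹ ∈ (P' : Subgroup A) := by
    have : n * u⁻¹ * n⁻¹ ∈ (P' : Subgroup A) := hP.conj_mem u⁻¹ ((P' : Subgroup A).inv_mem hu) n
    have h3 := (P' : Subgroup A).mul_mem hu this
    have e : u * (n * u⁻¹ * n⁻¹) = u * n * u⁻¹ * n⁻¹ := by group
    rwa [e] at h3
  have h3 : u * n * u⁻¹ * n⁻¹ ∈ N ⊓ (P' : Subgroup A) := Subgroup.mem_inf.mpr ⟨h1, h2⟩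
  rw [hdisj, Subgroup.mem_bot] at h3
  calc u * n = (u * n * u⁻¹ * n⁻¹) * (n * u) := by group
    _ = n * u := by rw [h3, one_mul]

end Cfsg.Agent.S4395P
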