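import Mathlib
import Cfsg.Prelude.Def_Transfer
import Cfsg.Agent.Helper4.S4404Defs
import Cfsg.Agent.Helper4.S4404PWU
import Cfsg.Agent.Helper4.S4404EXFIX
import Cfsg.Agent.Helper26.Basic

/-!
# Board `s4404pieces`, row EXL32 (`split_of_fpf_three`)

`z` acts on `U` (elementary abelian of order `16`) with `z³ = 1` and without fixed points, so `u · u^z · u^{z²} = 1` and the
"lines" `L(u) = ⟨u, u^z⟩` (`u ≠ 1`) are exactly the `z`-invariant subgroups of order `4` of `U`; each `u ≠ 1` lies in exactly one line,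
so there are `15 / 3 = 5` lines.  The `3`-group `G₀` commutes with `z` on `U`, hence permutes the lines; the number of fixed lines is
`≡ 5` mod `3`, so at least two lines are `G₀`-invariant, and two distinct lines meet trivially.
-/

set_option autoImplicit false
set_option linter.unusedVariables false
set_option linter.unusedSectionVars false

namespace Cfsg.Agent.S4404P

open Subgroup

variable {S : Type*} [Group S] [Finite S]

omit [Finite S] in
theorem EXL32_aux_sq (M : Subgroup S) (hM : Cfsg.IsElementaryAbelian 2 M) (u : S) (hu : u ∈ M) : u * u = 1 := by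
  have := hM.2 u hu
  rwa [pow_two] at this

omit [Finite S] in
theorem EXL32_aux_comm (M : Subgroup S) (hM : Cfsg.IsElementaryAbelian 2 M) (u v : S) (hu : u ∈ M) (hv : v ∈ M) :
    u * v = v * u := by
  have : IsMulCommutative ↥M := hM.1
  exact congrArg Subtype.val (mul_comm' (⟨u, hu⟩ : ↥M) ⟨v, hv⟩)

omit [Finite S] in
/-- the powers of an involution. -/
theorem EXL32_aux_mem_zpowers (a x : S) (ha : a * a = 1) (hx : x ∈ zpowers a) : x = 1 ∨ x = a := by
  obtain ⟨k, rfl⟩ := mem_zpowers_iff.mp hx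
  have h2 : a ^ (2 : ℤ) = 1 := by rw [zpow_two]; exact ha
  have hk := Int.emod_add_mul_ediv k 2
  rcases Int.emod_two_eq_zero_or_one k with h | h
  · left
    rw [← hk, h, zero_add, zpow_mul, h2, one_zpow]
  · right
    rw [← hk, h, zpow_add, zpow_one, zpow_mul, h2, one_zpow, mul_one]

omit [Finite S] in
/-- an element of `U` fixed by `z` is trivial. -/
theorem EXL32_aux_fix (U : Subgroup S) (z : S) (hzfix : U ⊓ centralizer (zpowers z : Set S) = ⊥) (u : S)
    (hu : u ∈ U) (h : z * u * z⁻¹ = u) : u = 1 := by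
  have h1 : u ∈ U ⊓ centralizer (zpowers z : Set S) := by
    refine mem_inf.mpr ⟨hu, ?_⟩
    rw [mem_centralizer_iff]
    intro h' hh'
    obtain ⟨k, rfl⟩ := mem_zpowers_iff.mp hh'
    have hc : Commute z u := by
      unfold Commute SemiconjBy
      calc z * u = z * u * z⁻¹ * z := by group
        _ = u * z := by rw [h]
    exact (hc.zpow_left k).eq
  rw [hzfix] at h1
  exact mem_bot.mp h1

omit [Finite S] in
/-- the "norm" `u · u^z · u^{z²}` is trivial. -/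
theorem EXL32_aux_norm (M : Subgroup S) (hM : Cfsg.IsElementaryAbelian 2 M) (U : Subgroup S) (hUM : U ≤ M) (z : S)
    (hzN : z ∈ normalizer (U : Set S)) (hz3 : z ^ 3 ∈ centralizer (U : Set S))
    (hzfix : U ⊓ centralizer (zpowers z : Set S) = ⊥) (u : S) (hu : u ∈ U) :
    u * (z * u * z⁻¹) * (z * (z * u * z⁻¹) * z⁻¹) = 1 := by
  have hv : z * u * z⁻¹ ∈ U := (mem_normalizer_iff.mp hzN u).mp hu
  have hw : z * (z * u * z⁻¹) * z⁻¹ ∈ U := (mem_normalizer_iff.mp hzN _).mp hv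
  have h3 : z * (z * (z * u * z⁻¹) * z⁻¹) * z⁻¹ = u := by
    have e3 : z ^ 3 = z * z * z := by rw [pow_succ, pow_two]
    have h : u * (z * z * z) = (z * z * z) * u := e3 ▸ (mem_centralizer_iff.mp hz3) u hu
    calc z * (z * (z * u * z⁻¹) * z⁻¹) * z⁻¹ = (z * z * z) * u * (z * z * z)⁻¹ := by group
      _ = u * (z * z * z) * (z * z * z)⁻¹ := by rw [h]
      _ = u := by group
  apply EXL32_aux_fix U z hzfix _ (mul_mem (mul_mem hu hv) hw)
  calc z * (u * (z * u * z⁻¹) * (z * (z * u * z⁻¹) * z⁻¹)) * z⁻¹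
      = (z * u * z⁻¹) * (z * (z * u * z⁻¹) * z⁻¹) * (z * (z * (z * u * z⁻¹) * z⁻¹) * z⁻¹) := by group
    _ = (z * u * z⁻¹) * (z * (z * u * z⁻¹) * z⁻¹) * u := by rw [h3]
    _ = u * ((z * u * z⁻¹) * (z * (z * u * z⁻¹) * z⁻¹)) :=
        EXL32_aux_comm M hM _ _ (hUM (mul_mem hv hw)) (hUM hu)
    _ = u * (z * u * z⁻¹) * (z * (z * u * z⁻¹) * z⁻¹) := by group

/-- the line through `u`. -/
def EXL32_aux_L (z u : S) : Subgroup S := zpowers u ⊔ zpowers (z * u * z⁻¹)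

omit [Finite S] in
theorem EXL32_aux_mem_L (z u : S) : u ∈ EXL32_aux_L z u :=
  (le_sup_left : zpowers u ≤ _) (mem_zpowers u)

omit [Finite S] in
theorem EXL32_aux_mem_L' (z u : S) : z * u * z⁻¹ ∈ EXL32_aux_L z u :=
  (le_sup_right : zpowers (z * u * z⁻¹) ≤ _) (mem_zpowers _)

omit [Finite S] in
theorem EXL32_aux_L_le (z u : S) (X : Subgroup S) (h1 : u ∈ X) (h2 : z * u * z⁻¹ ∈ X) : EXL32_aux_L z u ≤ X :=
  sup_le ((zpowers_le).mpr h1) ((zpowers_le).mpr h2)

/-- a line has order `4`. -/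
theorem EXL32_aux_card_L (M : Subgroup S) (hM : Cfsg.IsElementaryAbelian 2 M) (U : Subgroup S) (hUM : U ≤ M) (z : S)
    (hzN : z ∈ normalizer (U : Set S)) (hzfix : U ⊓ centralizer (zpowers z : Set S) = ⊥) (u : S) (hu : u ∈ U)
    (hu1 : u ≠ 1) : Nat.card ↥(EXL32_aux_L z u) = 4 := by
  have hv : z * u * z⁻¹ ∈ U := (mem_normalizer_iff.mp hzN u).mp hu
  have hv1 : z * u * z⁻¹ ≠ 1 := by
    intro h
    apply hu1
    calc u = z⁻¹ * (z * u * z⁻¹) * z := by group
      _ = 1 := by rw [h]; group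
  have hnorm : zpowers u ≤ normalizer ((zpowers (z * u * z⁻¹) : Subgroup S) : Set S) :=
    (PWU_aux_le_centralizer M hM _ _ ((zpowers_le).mpr (hUM hu)) ((zpowers_le).mpr (hUM hv))).trans
      (centralizer_le_normalizer _)
  have h := Cfsg.Agent.Helper26.card_sup_mul_card_inf hnorm
  have hinf : zpowers u ⊓ zpowers (z * u * z⁻¹) = ⊥ := by
    rw [eq_bot_iff]
    intro x hx
    rw [mem_bot]
    rcases EXL32_aux_mem_zpowers u x (EXL32_aux_sq M hM u (hUM hu)) (mem_inf.mp hx).1 with h1 | h1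
    · exact h1
    · rcases EXL32_aux_mem_zpowers _ x (EXL32_aux_sq M hM _ (hUM hv)) (mem_inf.mp hx).2 with h2 | h2
      · exact h2
      · exfalso
        exact hu1 (EXL32_aux_fix U z hzfix u hu (h2.symm.trans h1))
  have ho : ∀ a : S, a ∈ M → a ≠ 1 → Nat.card ↥(zpowers a) = 2 := by
    intro a ha ha1
    rw [Nat.card_zpowers]
    exact orderOf_eq_prime (hM.2 a ha) ha1
  rw [hinf, card_bot, mul_one, ho u (hUM hu) hu1, ho _ (hUM hv) hv1] at h
  exact h

/-- a line is `z`-invariant. -/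
theorem EXL32_aux_L_norm (M : Subgroup S) (hM : Cfsg.IsElementaryAbelian 2 M) (U : Subgroup S) (hUM : U ≤ M) (z : S)
    (hzN : z ∈ normalizer (U : Set S)) (hz3 : z ^ 3 ∈ centralizer (U : Set S))
    (hzfix : U ⊓ centralizer (zpowers z : Set S) = ⊥) (u : S) (hu : u ∈ U) :
    z ∈ normalizer ((EXL32_aux_L z u : Subgroup S) : Set S) := by
  apply mem_normalizer_fintype
  intro n hn
  have hmap : (EXL32_aux_L z u).map (MulAut.conj z).toMonoidHom ≤ EXL32_aux_L z u := by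
    unfold EXL32_aux_L
    rw [Subgroup.map_sup, MonoidHom.map_zpowers, MonoidHom.map_zpowers]
    apply sup_le
    · exact (zpowers_le).mpr (EXL32_aux_mem_L' z u)
    · apply (zpowers_le).mpr
      have h1 := EXL32_aux_norm M hM U hUM z hzN hz3 hzfix u hu
      have h2 : z * (z * u * z⁻¹) * z⁻¹ = (u * (z * u * z⁻¹))⁻¹ := eq_inv_of_mul_eq_one_right h1
      show z * (z * u * z⁻¹) * z⁻¹ ∈ EXL32_aux_L z u
      rw [h2]
      exact inv_mem (mul_mem (EXL32_aux_mem_L z u) (EXL32_aux_mem_L' z u))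
  exact hmap ⟨n, hn, rfl⟩

/-- a `z`-invariant subgroup of order `4` of `U` is the line through each of its nontrivial elements. -/
theorem EXL32_aux_uniq (M : Subgroup S) (hM : Cfsg.IsElementaryAbelian 2 M) (U : Subgroup S) (hUM : U ≤ M) (z : S)
    (hzN : z ∈ normalizer (U : Set S)) (hzfix : U ⊓ centralizer (zpowers z : Set S) = ⊥)
    (X : Subgroup S) (hXU : X ≤ U) (hX4 : Nat.card ↥X = 4) (hXz : z ∈ normalizer (X : Set S))
    (x : S) (hx : x ∈ X) (hx1 : x ≠ 1) : EXL32_aux_L z x = X := by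
  apply eq_of_le_of_card_ge (EXL32_aux_L_le z x X hx ((mem_normalizer_iff.mp hXz x).mp hx))
  rw [hX4, EXL32_aux_card_L M hM U hUM z hzN hzfix x (hXU hx) hx1]

/-- the set of lines: the `z`-invariant subgroups of order `4` of `U`. -/
def EXL32_aux_Lines (U : Subgroup S) (z : S) : Set (Subgroup S) :=
  {X | X ≤ U ∧ Nat.card ↥X = 4 ∧ z ∈ normalizer (X : Set S)}

/-- `G₀` permutes the lines. -/
theorem EXL32_aux_conj_mem (G₀ U : Subgroup S) (hN : G₀ ≤ normalizer (U : Set S)) (z : S)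
    (hcomm : ∀ g ∈ G₀, ∀ u ∈ U, g * (z * u * z⁻¹) * g⁻¹ = z * (g * u * g⁻¹) * z⁻¹)
    (g : S) (hg : g ∈ G₀) (X : Subgroup S) (hX : X ∈ EXL32_aux_Lines U z) :
    X.map (MulAut.conj g).toMonoidHom ∈ EXL32_aux_Lines U z := by
  obtain ⟨hXU, hX4, hXz⟩ := hX
  refine ⟨?_, ?_, ?_⟩
  · rintro _ ⟨x, hx, rfl⟩
    exact (mem_normalizer_iff.mp (hN hg) x).mp (hXU hx)
  · rw [← hX4]
    exact (Nat.card_congr (X.equivMapOfInjective _ (MulAut.conj g).injective).toEquiv).symm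
  · apply mem_normalizer_fintype
    rintro _ ⟨x, hx, rfl⟩
    refine ⟨z * x * z⁻¹, (mem_normalizer_iff.mp hXz x).mp hx, ?_⟩
    exact hcomm g hg x (hXU hx)

/-- the action of `G₀` on the lines. -/
@[reducible] def EXL32_aux_act (G₀ U : Subgroup S) (hN : G₀ ≤ normalizer (U : Set S)) (z : S)
    (hcomm : ∀ g ∈ G₀, ∀ u ∈ U, g * (z * u * z⁻¹) * g⁻¹ = z * (g * u * g⁻¹) * z⁻¹) :
    MulAction ↥G₀ ↥(EXL32_aux_Lines U z) where
  smul g X := ⟨X.1.map (MulAut.conj (g : S)).toMonoidHom, EXL32_aux_conj_mem G₀ U hN z hcomm g g.2 X.1 X.2⟩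
  one_smul X := by
    apply Subtype.ext
    show X.1.map (MulAut.conj ((1 : ↥G₀) : S)).toMonoidHom = X.1
    ext y
    simp [Subgroup.mem_map]
  mul_smul g h X := by
    apply Subtype.ext
    show X.1.map (MulAut.conj ((g * h : ↥G₀) : S)).toMonoidHom =
      (X.1.map (MulAut.conj (h : S)).toMonoidHom).map (MulAut.conj (g : S)).toMonoidHom
    rw [Subgroup.map_map]
    congr 1
    ext y
    simp [mul_assoc]

omit [Finite S] in
theorem EXL32_aux_card_ne_one (X : Subgroup S) [Finite ↥X] :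
    Nat.card {x : S // x ∈ X ∧ x ≠ 1} + 1 = Nat.card ↥X := by
  classical
  have e : {x : S // x ∈ X ∧ x ≠ 1} ≃ {x : ↥X // x ≠ 1} :=
    { toFun := fun x => ⟨⟨x.1, x.2.1⟩, fun h => x.2.2 (congrArg Subtype.val h)⟩
      invFun := fun x => ⟨x.1.1, x.1.2, fun h => x.2 (Subtype.ext h)⟩
      left_inv := fun x => rfl
      right_inv := fun x => rfl }
  rw [Nat.card_congr e]
  have := Fintype.ofFinite ↥X
  rw [Nat.card_eq_fintype_card, Nat.card_eq_fintype_card, Fintype.card_subtype_compl, Fintype.card_subtype_eq]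
  have : 0 < Fintype.card ↥X := Fintype.card_pos
  omega

/-- there are five lines. -/
theorem EXL32_aux_card_Lines (M : Subgroup S) (hM : Cfsg.IsElementaryAbelian 2 M) (U : Subgroup S) (hUM : U ≤ M) (z : S)
    (hzN : z ∈ normalizer (U : Set S)) (hz3 : z ^ 3 ∈ centralizer (U : Set S))
    (hzfix : U ⊓ centralizer (zpowers z : Set S) = ⊥) (hcard : Nat.card ↥U = 16) :
    Nat.card ↥(EXL32_aux_Lines U z) = 5 := by
  classical
  have := Fintype.ofFinite ↥(EXL32_aux_Lines U z)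
  let f : {u : S // u ∈ U ∧ u ≠ 1} → ↥(EXL32_aux_Lines U z) := fun u =>
    ⟨EXL32_aux_L z u.1, EXL32_aux_L_le z u.1 U u.2.1 ((mem_normalizer_iff.mp hzN _).mp u.2.1),
      EXL32_aux_card_L M hM U hUM z hzN hzfix u.1 u.2.1 u.2.2,
      EXL32_aux_L_norm M hM U hUM z hzN hz3 hzfix u.1 u.2.1⟩
  have hfib : ∀ X : ↥(EXL32_aux_Lines U z), Nat.card {u : {u : S // u ∈ U ∧ u ≠ 1} // f u = X} = 3 := by
    intro X
    have e : {u : {u : S // u ∈ U ∧ u ≠ 1} // f u = X} ≃ {x : S // x ∈ X.1 ∧ x ≠ 1} :=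
      { toFun := fun u => ⟨u.1.1, by
          have h := congrArg Subtype.val u.2
          change EXL32_aux_L z u.1.1 = X.1 at h
          rw [← h]
          exact EXL32_aux_mem_L z u.1.1, u.1.2.2⟩
        invFun := fun x => ⟨⟨x.1, X.2.1 x.2.1, x.2.2⟩, Subtype.ext
          (EXL32_aux_uniq M hM U hUM z hzN hzfix X.1 X.2.1 X.2.2.1 X.2.2.2 x.1 x.2.1 x.2.2)⟩
        left_inv := fun u => rfl
        right_inv := fun x => rfl }
    rw [Nat.card_congr e]
    have h1 := EXL32_aux_card_ne_one X.1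
    rw [X.2.2.1] at h1
    omega
  have h1 : Nat.card {u : S // u ∈ U ∧ u ≠ 1} = Nat.card ↥(EXL32_aux_Lines U z) * 3 := by
    rw [← Nat.card_congr (Equiv.sigmaFiberEquiv f), Nat.card_sigma]
    simp only [hfib, Finset.sum_const, Finset.card_univ, smul_eq_mul, Nat.card_eq_fintype_card]
  have h2 := EXL32_aux_card_ne_one U
  rw [hcard] at h2
  omega

/-- EXL32 : `r = 3`, `|U| = 16`, `z` of order `3` on `U` without fixed points: the five "lines" `{1,u,u^z,u^{z²}}` are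
permuted by the `3`-group `G₀`, so two of them are `G₀`-invariant. -/
theorem split_of_fpf_three (M : Subgroup S) [M.Normal] (hM : Cfsg.IsElementaryAbelian 2 M)
    (G₀ U : Subgroup S) (hG₀ : IsPGroup 3 ↥G₀) (hUM : U ≤ M)
    (hN : G₀ ≤ normalizer (U : Set S)) (hcard : Nat.card ↥U = 16) (z : S) (hz : z ∈ G₀)
    (hz3 : z ^ 3 ∈ centralizer (U : Set S))
    (hcomm : ∀ g ∈ G₀, ∀ u ∈ U, g * (z * u * z⁻¹) * g⁻¹ = z * (g * u * g⁻¹) * z⁻¹)
    (hzfix : U ⊓ centralizer (zpowers z : Set S) = ⊥) :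
    ∃ X₁ X₂ : Subgroup S, X₁ ≤ U ∧ X₂ ≤ U ∧ G₀ ≤ normalizer (X₁ : Set S) ∧ G₀ ≤ normalizer (X₂ : Set S) ∧
      X₁ ⊓ X₂ = ⊥ ∧ Nat.card ↥X₁ = 4 ∧ Nat.card ↥X₂ = 4 := by
  classical
  have hzN : z ∈ normalizer (U : Set S) := hN hz
  have : Fact (Nat.Prime 3) := ⟨Nat.prime_three⟩
  let act := EXL32_aux_act G₀ U hN z hcomm
  have hsmul : ∀ (g : ↥G₀) (X : ↥(EXL32_aux_Lines U z)),
      (g • X : ↥(EXL32_aux_Lines U z)).1 = X.1.map (MulAut.conj (g : S)).toMonoidHom := fun _ _ => rfl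
  have hmod := hG₀.card_modEq_card_fixedPoints ↥(EXL32_aux_Lines U z)
  rw [EXL32_aux_card_Lines M hM U hUM z hzN hz3 hzfix hcard] at hmod
  have hle : Nat.card ↥(MulAction.fixedPoints ↥G₀ ↥(EXL32_aux_Lines U z)) ≤ 5 := by
    rw [← EXL32_aux_card_Lines M hM U hUM z hzN hz3 hzfix hcard]
    exact Nat.card_le_card_of_injective _ Subtype.val_injective
  have h2 : 1 < Nat.card ↥(MulAction.fixedPoints ↥G₀ ↥(EXL32_aux_Lines U z)) := by
    unfold Nat.ModEq at hmod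
    interval_cases (Nat.card ↥(MulAction.fixedPoints ↥G₀ ↥(EXL32_aux_Lines U z))) <;> omega
  have hnt := Finite.one_lt_card_iff_nontrivial.mp h2
  obtain ⟨X₁, X₂, hne⟩ := exists_pair_ne ↥(MulAction.fixedPoints ↥G₀ ↥(EXL32_aux_Lines U z))
  have hinv : ∀ X : ↥(MulAction.fixedPoints ↥G₀ ↥(EXL32_aux_Lines U z)),
      G₀ ≤ normalizer ((X.1.1 : Subgroup S) : Set S) := by
    intro X
    apply EXFIX_aux_normalizer
    intro g hg x hx
    have h1 := congrArg Subtype.val (X.2 ⟨g, hg⟩)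
    rw [hsmul] at h1
    rw [← h1]
    exact ⟨x, hx, rfl⟩
  refine ⟨X₁.1.1, X₂.1.1, X₁.1.2.1, X₂.1.2.1, hinv X₁, hinv X₂, ?_, X₁.1.2.2.1, X₂.1.2.2.1⟩
  by_contra hbot
  obtain ⟨⟨x, hx⟩, hx1⟩ := (Subgroup.ne_bot_iff_exists_ne_one).mp hbot
  have hx1' : x ≠ 1 := fun h => hx1 (Subtype.ext h)
  have e1 := EXL32_aux_uniq M hM U hUM z hzN hzfix X₁.1.1 X₁.1.2.1 X₁.1.2.2.1 X₁.1.2.2.2 x (mem_inf.mp hx).1 hx1'
  have e2 := EXL32_aux_uniq M hM U hUM z hzN hzfix X₂.1.1 X₂.1.2.1 X₂.1.2.2.1 X₂.1.2.2.2 x (mem_inf.mp hx).2 hx1'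
  exact hne (Subtype.ext (Subtype.ext (e1.symm.trans e2)))

end Cfsg.Agent.S4404P
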