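import Cfsg.Agent.Helper4.S4404EXZ

/-! Board `s4404pieces`, row EXZ: helper4 landed `exists_central_on` at the same minute
(`Cfsg.Agent.Helper4.S4404EXZ`); this module only re-imports it, so that both module names give the same theorem
and there is no duplicate declaration. -/
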