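import Mathlib
import Cfsg.Prelude.Def_Transfer
import Cfsg.Agent.Helper4.S4404Defs
import Cfsg.Agent.Helper4.S4404W
import Cfsg.Agent.Helper4.S4404PWU
import Cfsg.Agent.Helper9.S4404WLE
import Cfsg.Agent.S0055
import Cfsg.Agent.Helper26.Basic

/-!
# Board `s4404pieces`, row IIBU (`two_b_setup`)

`Γ = ⟨x, g⁻¹xg⟩ ≤ P⟨x⟩` has odd order, `U = [M,x][M,g⁻¹xg] = [M,Γ]` has order at most `16`, is normalised by `Γ` with `C_U(Γ) = 1`
(coprime action, `S0055`), `u = x⁻¹g⁻¹xg ∈ Γ ∩ P ⊴ Γ` and `[M,u] ≤ [M,Γ] ≤ U`.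
-/

set_option autoImplicit false
set_option linter.unusedVariables false
set_option linter.unusedSectionVars false

namespace Cfsg.Agent.S4404P

open Subgroup
open scoped commutatorElement

variable {S : Type*} [Group S] [Finite S]

/-- a group of odd order has order coprime to that of an elementary abelian `2`-group. -/
theorem IIBU_aux_coprime (M : Subgroup S) (hM : Cfsg.IsElementaryAbelian 2 M) (Γ : Subgroup S)
    (hΓ : Odd (Nat.card ↥Γ)) : (Nat.card ↥Γ).Coprime (Nat.card ↥M) := by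
  have : Fact (Nat.Prime 2) := ⟨Nat.prime_two⟩
  obtain ⟨j, hj⟩ := IsPGroup.iff_card.mp (PWU_aux_isPGroup M hM)
  rw [hj]
  apply Nat.Coprime.pow_right
  exact Nat.coprime_two_right.mpr hΓ

/-- the fixed points of a group `Γ` of odd order on `[M, Γ]` are trivial. -/
theorem IIBU_aux_fix (M : Subgroup S) [M.Normal] (hM : Cfsg.IsElementaryAbelian 2 M) (Γ : Subgroup S)
    (hΓ : Odd (Nat.card ↥Γ)) (U : Subgroup S) (hUM : U ≤ M) (hU : U ≤ ⁅M, Γ⁆) :
    U ⊓ centralizer (Γ : Set S) = ⊥ := by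
  have : IsMulCommutative ↥M := hM.1
  have hAV : Γ ≤ normalizer (M : Set S) := by
    rw [normalizer_eq_top]; exact le_top
  have h := (Cfsg.Agent.S0055.result Γ M hAV (IIBU_aux_coprime M hM Γ hΓ)).1
  rw [eq_bot_iff, ← h]
  intro x hx
  exact ⟨⟨hUM hx.1, hx.2⟩, hU hx.1⟩

omit [Finite S] in
/-- if the generators of `Γ` act trivially on `M / U` and `Γ` normalises `U` then `[M, Γ] ≤ U`. -/
theorem IIBU_aux_comm_le (M U : Subgroup S) (T : Set S) (hN : closure T ≤ normalizer (U : Set S))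
    (hT : ∀ t ∈ T, ∀ m ∈ M, ⁅m, t⁆ ∈ U) : ⁅M, closure T⁆ ≤ U := by
  rw [commutator_le]
  intro m hm γ hγ
  revert m
  induction hγ using closure_induction with
  | mem t ht => exact fun m hm => hT t ht m hm
  | one => intro m hm; rw [commutatorElement_one_right]; exact one_mem U
  | mul a b ha hb iha ihb =>
    intro m hm
    have h1 : ⁅m, a * b⁆ = ⁅m, a⁆ * (a * ⁅m, b⁆ * a⁻¹) := by
      simp only [commutatorElement_def]; group
    rw [h1]
    exact mul_mem (iha m hm) ((mem_normalizer_iff.mp (hN ha) _).mp (ihb m hm))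
  | inv a ha iha =>
    intro m hm
    have h1 : ⁅m, a⁻¹⁆ = a⁻¹ * (⁅m, a⁆)⁻¹ * a⁻¹⁻¹ := by
      simp only [commutatorElement_def]; group
    rw [h1]
    exact (mem_normalizer_iff.mp (inv_mem (hN ha)) _).mp (inv_mem (iha m hm))

/-- IIBU : set-up.  `Γ = ⟨x, g⁻¹xg⟩`, `U = [M,x][M,g⁻¹xg]`, `u = x⁻¹ g⁻¹ x g`. -/
theorem two_b_setup (M : Subgroup S) [M.Normal] (hM : Cfsg.IsElementaryAbelian 2 M) (x : S) (hxo : Odd (orderOf x))
    (hW : Nat.card ↥(Wc M x) = 4)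
    (p : ℕ) [Fact p.Prime] (hp2 : p ≠ 2) (P : Subgroup S) (hP : IsPGroup p ↥P) (hxP : x ∈ normalizer (P : Set S))
    (g : S) (hg : g ∈ P) :
    Odd (Nat.card ↥(closure ({x, g⁻¹ * x * g} : Set S))) ∧
      Nat.card ↥(Wc M x ⊔ Wc M (g⁻¹ * x * g) : Subgroup S) ≤ 16 ∧
      closure ({x, g⁻¹ * x * g} : Set S) ≤ normalizer ((Wc M x ⊔ Wc M (g⁻¹ * x * g) : Subgroup S) : Set S) ∧
      (Wc M x ⊔ Wc M (g⁻¹ * x * g)) ⊓ centralizer (closure ({x, g⁻¹ * x * g} : Set S) : Set S) = ⊥ ∧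
      x⁻¹ * (g⁻¹ * x * g) ∈ closure ({x, g⁻¹ * x * g} : Set S) ⊓ P ∧
      closure ({x, g⁻¹ * x * g} : Set S) ≤ normalizer ((closure ({x, g⁻¹ * x * g} : Set S) ⊓ P : Subgroup S) : Set S) ∧
      Wc M (x⁻¹ * (g⁻¹ * x * g)) ≤ Wc M x ⊔ Wc M (g⁻¹ * x * g) := by
  have hp : p.Prime := Fact.out
  have hUM : Wc M x ⊔ Wc M (g⁻¹ * x * g) ≤ M := sup_le (Wc_le M _) (Wc_le M _)
  have hx : x ∈ closure ({x, g⁻¹ * x * g} : Set S) := subset_closure (by simp)
  have hy : g⁻¹ * x * g ∈ closure ({x, g⁻¹ * x * g} : Set S) := subset_closure (by simp)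
  -- (1) odd order
  have hodd : Odd (Nat.card ↥(closure ({x, g⁻¹ * x * g} : Set S))) := by
    have hzN : zpowers x ≤ normalizer (P : Set S) := (zpowers_le).mpr hxP
    have h := Cfsg.Agent.Helper26.card_sup_mul_card_inf hzN
    have hPodd : Odd (Nat.card ↥P) := by
      obtain ⟨n, hn⟩ := IsPGroup.iff_card.mp hP
      rw [hn]
      exact (hp.odd_of_ne_two hp2).pow
    have hzodd : Odd (Nat.card ↥(zpowers x)) := by
      rw [Nat.card_zpowers]; exact hxo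
    have hKodd : Odd (Nat.card ↥(zpowers x ⊔ P : Subgroup S)) :=
      Odd.of_dvd_nat (hzodd.mul hPodd) (Dvd.intro _ h)
    have hle : closure ({x, g⁻¹ * x * g} : Set S) ≤ zpowers x ⊔ P := by
      rw [closure_le]
      have hxK : x ∈ zpowers x ⊔ P := (le_sup_left : zpowers x ≤ _) (mem_zpowers x)
      have hgK : g ∈ zpowers x ⊔ P := (le_sup_right : P ≤ _) hg
      intro t ht
      rcases ht with rfl | rfl
      · exact hxK
      · exact mul_mem (mul_mem (inv_mem hgK) hxK) hgK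
    exact Odd.of_dvd_nat hKodd (card_dvd_of_le hle)
  -- (3) normalisation
  have hN : closure ({x, g⁻¹ * x * g} : Set S) ≤
      normalizer ((Wc M x ⊔ Wc M (g⁻¹ * x * g) : Subgroup S) : Set S) := by
    rw [closure_le]
    intro t ht
    rcases ht with rfl | rfl
    · exact mem_normalizer_of_Wc_le M _ _ hUM le_sup_left
    · exact mem_normalizer_of_Wc_le M _ _ hUM le_sup_right
  -- `U ≤ [M, Γ]`
  have hU : Wc M x ⊔ Wc M (g⁻¹ * x * g) ≤ ⁅M, closure ({x, g⁻¹ * x * g} : Set S)⁆ := by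
    apply sup_le
    · exact commutator_mono le_rfl ((zpowers_le).mpr hx)
    · exact commutator_mono le_rfl ((zpowers_le).mpr hy)
  -- `[M, Γ] ≤ U`
  have hU' : ⁅M, closure ({x, g⁻¹ * x * g} : Set S)⁆ ≤ Wc M x ⊔ Wc M (g⁻¹ * x * g) := by
    apply IIBU_aux_comm_le M _ _ hN
    intro t ht m hm
    rcases ht with rfl | rfl
    · exact (le_sup_left : Wc M t ≤ _) (commutator_mem_commutator hm (mem_zpowers _))
    · exact (le_sup_right : Wc M (g⁻¹ * x * g) ≤ _) (commutator_mem_commutator hm (mem_zpowers _))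
  -- (5) `u ∈ Γ ⊓ P`
  have hu : x⁻¹ * (g⁻¹ * x * g) ∈ closure ({x, g⁻¹ * x * g} : Set S) ⊓ P := by
    refine mem_inf.mpr ⟨mul_mem (inv_mem hx) hy, ?_⟩
    have h1 : x⁻¹ * g⁻¹ * x⁻¹⁻¹ ∈ P := (mem_normalizer_iff.mp (inv_mem hxP) _).mp (inv_mem hg)
    have h2 : x⁻¹ * (g⁻¹ * x * g) = (x⁻¹ * g⁻¹ * x⁻¹⁻¹) * g := by group
    rw [h2]
    exact mul_mem h1 hg
  refine ⟨hodd, ?_, hN, IIBU_aux_fix M hM _ hodd _ hUM hU, hu, ?_, ?_⟩
  · -- (2) `|U| ≤ 16`
    have hnorm : Wc M x ≤ normalizer ((Wc M (g⁻¹ * x * g) : Subgroup S) : Set S) :=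
      (PWU_aux_le_centralizer M hM _ _ (Wc_le M _) (Wc_le M _)).trans (centralizer_le_normalizer _)
    have h := Cfsg.Agent.Helper26.card_sup_mul_card_inf hnorm
    have hc2 : Nat.card ↥(Wc M (g⁻¹ * x * g)) = 4 := by
      rw [Wc_conj, ← hW]
      exact (Nat.card_congr ((Wc M x).equivMapOfInjective _ (MulAut.conj g⁻¹).injective).toEquiv).symm
    rw [hW, hc2] at h
    have hpos : 0 < Nat.card ↥(Wc M x ⊓ Wc M (g⁻¹ * x * g) : Subgroup S) := Nat.card_pos
    calc Nat.card ↥(Wc M x ⊔ Wc M (g⁻¹ * x * g) : Subgroup S)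
        ≤ Nat.card ↥(Wc M x ⊔ Wc M (g⁻¹ * x * g) : Subgroup S) *
          Nat.card ↥(Wc M x ⊓ Wc M (g⁻¹ * x * g) : Subgroup S) := Nat.le_mul_of_pos_right _ hpos
      _ = 16 := h
  · -- (6) `Γ ≤ N(Γ ⊓ P)`
    have hNP : closure ({x, g⁻¹ * x * g} : Set S) ≤ normalizer (P : Set S) := by
      rw [closure_le]
      have hgN : g ∈ normalizer (P : Set S) := le_normalizer hg
      intro t ht
      rcases ht with rfl | rfl
      · exact hxP
      · exact mul_mem (mul_mem (inv_mem hgN) hxP) hgN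
    intro γ hγ
    rw [mem_normalizer_iff]
    intro h
    have h1 := mem_normalizer_iff.mp (le_normalizer hγ) h
    have h2 := mem_normalizer_iff.mp (hNP hγ) h
    rw [mem_inf, mem_inf, h1, h2]
  · -- (7) `[M, u] ≤ U`
    exact (commutator_mono le_rfl ((zpowers_le).mpr (mem_inf.mp hu).1)).trans hU'

end Cfsg.Agent.S4404P
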