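import Mathlib
import Cfsg.Prelude.Def_Transfer
import Cfsg.Agent.Helper4.S4404Defs
import Cfsg.Agent.Helper9.NormalPSq

/-!
# Board `s4404pieces`, row NE3

An `r`-group (`r` odd) containing an `E_{r³}` has a normal one: `S0100` (`Helper9.card_le_sq_of_no_normal_rank_three`)
applied inside `↥P`.
-/

set_option autoImplicit false
set_option linter.unusedVariables false

namespace Cfsg.Agent.S4404P

open Subgroup

variable {S : Type*} [Group S] [Finite S]

omit [Finite S] in
/-- the image in `S` of a normal elementary abelian subgroup `A` of `↥P`. -/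
theorem NE3_aux_map (r : ℕ) (P : Subgroup S) (A : Subgroup ↥P) (hAn : A.Normal) (hAc : IsMulCommutative ↥A)
    (hAe : ∀ a ∈ A, a ^ r = 1) :
    A.map P.subtype ≤ P ∧ P ≤ normalizer ((A.map P.subtype : Subgroup S) : Set S) ∧
      Cfsg.IsElementaryAbelian r (A.map P.subtype) ∧ Nat.card ↥(A.map P.subtype) = Nat.card ↥A := by
  refine ⟨Subgroup.map_subtype_le A, ?_, ⟨?_, ?_⟩, ?_⟩
  · have h1 := Subgroup.le_normalizer_map (H := A) P.subtype
    have h2 : normalizer (A : Set ↥P) = ⊤ := Subgroup.normalizer_eq_top_iff.mpr hAn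
    rw [h2, ← MonoidHom.range_eq_map, Subgroup.range_subtype] at h1
    exact h1
  · have := hAc
    infer_instance
  · rintro b ⟨a, ha, rfl⟩
    have h := hAe a ha
    have h2 := congrArg (fun x : ↥P => (x : S)) h
    simpa using h2
  · exact (Nat.card_congr (A.equivMapOfInjective P.subtype P.subtype_injective).toEquiv).symm

/-- NE3 (`S0100` in `↥P`): an `r`-group (`r` odd) containing an `E_{r³}` has a normal one. -/
theorem exists_normal_e3 (r : ℕ) [Fact r.Prime] (hr2 : r ≠ 2) (P : Subgroup S) (hP : IsPGroup r ↥P)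
    (h : HasE3 r P) :
    ∃ B : Subgroup S, B ≤ P ∧ P ≤ normalizer (B : Set S) ∧ Cfsg.IsElementaryAbelian r B ∧ Nat.card ↥B = r ^ 3 := by
  have hr : r.Prime := Fact.out
  by_contra hno
  obtain ⟨B₀, hB₀P, ⟨hB₀c, hB₀e⟩, hB₀card⟩ := h
  have hkey : ∀ A : Subgroup ↥P, A.Normal → IsMulCommutative ↥A → (∀ a ∈ A, a ^ r = 1) →
      Nat.card ↥A ≠ r ^ 3 := by
    intro A hAn hAc hAe hcard
    obtain ⟨h1, h2, h3, h4⟩ := NE3_aux_map r P A hAn hAc hAe
    exact hno ⟨A.map P.subtype, h1, h2, h3, h4.trans hcard⟩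
  have hEc : IsMulCommutative ↥(B₀.subgroupOf P) := by
    have := hB₀c
    infer_instance
  have hEe : ∀ e ∈ B₀.subgroupOf P, e ^ r = 1 := by
    intro e he
    have h1 := hB₀e (e : S) (mem_subgroupOf.mp he)
    apply Subtype.ext
    simpa using h1
  have hle := Cfsg.Agent.Helper9.card_le_sq_of_no_normal_rank_three hr2 hP hkey (B₀.subgroupOf P) hEc hEe
  have hcard : Nat.card ↥(B₀.subgroupOf P) = r ^ 3 := by
    rw [← hB₀card]
    exact Nat.card_congr (Subgroup.subgroupOfEquivOfLe hB₀P).toEquiv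
  rw [hcard] at hle
  have h3 : r ^ 2 < r ^ 3 := Nat.pow_lt_pow_right hr.one_lt (by norm_num)
  omega

end Cfsg.Agent.S4404P
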