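import Mathlib
import Cfsg.Agent.Helper6.S4414Defs

/-! Board `s4414pieces`, row LAT2 (`WQ_map`): the image of `W_Q` under `σ g` is `W_{gQ}` for a graded family. -/

set_option autoImplicit false
set_option linter.unusedSectionVars false
set_option linter.unusedVariables false

namespace Cfsg.Agent.S4414P

open Module TensorProduct Cfsg.Agent.Helper5.FrobMod Cfsg.Agent.S4414P

variable {K : Type*} [Field K] {W : Type*} [AddCommGroup W] [Module K W]
variable {G : Type*} [Group G] (σ : Representation K G W)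

variable {I : Type*}

/-- for a graded family, `σ g` maps `W_i` ONTO `W_{g i}`. -/
theorem LAT2_aux_map_eq [MulAction G I] {Wf : I → Submodule K W} (hG : Graded σ Wf) (g : G) (i : I) :
    (Wf i).map (σ g) = Wf (g • i) := by
  apply le_antisymm (hG.map g i)
  intro w hw
  have h1 : σ g⁻¹ w ∈ Wf (g⁻¹ • g • i) := hG.map g⁻¹ (g • i) ⟨w, hw, rfl⟩
  rw [inv_smul_smul] at h1
  refine ⟨σ g⁻¹ w, h1, ?_⟩
  have h2 : σ g (σ g⁻¹ w) = (σ g * σ g⁻¹) w := rfl
  rw [h2, ← map_mul, mul_inv_cancel, map_one]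
  rfl

/-- LAT (S/M): `Submodule.map_iSup` and `Graded.map` for `g` and `g⁻¹`. -/
theorem WQ_map [MulAction G I] {Wf : I → Submodule K W} (hG : Graded σ Wf) (g : G) (Q : Set I) :
    (WQ Wf Q).map (σ g) = WQ Wf ((fun i => g • i) '' Q) := by
  unfold WQ
  rw [Submodule.map_iSup]
  simp_rw [Submodule.map_iSup, LAT2_aux_map_eq σ hG g]
  rw [iSup_image]

end Cfsg.Agent.S4414P
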