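import Mathlib
import Cfsg.Agent.Helper6.S4414Defs

/-!
# Board `s4414pieces`, row TRANSFER: core

If `w ∈ W_i` is nonzero and fixed by the stabiliser of `i` in `H`, then the sum of the (finitely many, pairwise distinct)
vectors `σ h w`, `h ∈ H`, is a nonzero `H`-fixed vector: `σ g` permutes these vectors, and the summand `w` lies in `W_i` while all
others lie in `⨆ j ≠ i, W_j`.
-/

set_option autoImplicit false
set_option linter.unusedSectionVars false
set_option linter.unusedVariables false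

namespace Cfsg.Agent.S4414P

open Module TensorProduct Cfsg.Agent.Helper5.FrobMod Cfsg.Agent.S4414P

variable {K : Type*} [Field K] {W : Type*} [AddCommGroup W] [Module K W]
variable {G : Type*} [Group G] (σ : Representation K G W)

variable {I : Type*}

/-- TRANSFER, core: a nonzero vector of `W_i` fixed by the stabiliser of `i` in `H` gives a nonzero `H`-fixed vector. -/
theorem TRANSFER_aux_sumcore [Finite G] [MulAction G I] {Wf : I → Submodule K W} (hG : Graded σ Wf) (H : Subgroup G)
    {i : I} {w : W} (hw : w ∈ Wf i) (hw0 : w ≠ 0) (hwfix : w ∈ fixOf σ (H ⊓ MulAction.stabilizer G i)) :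
    fixOf σ H ≠ ⊥ := by
  classical
  have := Fintype.ofFinite ↥H
  -- the finite set of translates of `w`
  obtain ⟨X, hX⟩ : ∃ X : Finset W, X = (Finset.univ : Finset ↥H).image (fun h : ↥H => σ (h : G) w) := ⟨_, rfl⟩
  have hmemX : ∀ u, u ∈ X ↔ ∃ h : ↥H, σ (h : G) w = u := by
    intro u
    rw [hX, Finset.mem_image]
    constructor
    · rintro ⟨h, -, rfl⟩; exact ⟨h, rfl⟩
    · rintro ⟨h, rfl⟩; exact ⟨h, Finset.mem_univ _, rfl⟩
  have hwX : w ∈ X := (hmemX w).mpr ⟨1, by simp⟩
  -- `σ g` permutes `X`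
  have hperm : ∀ g ∈ H, X.image (σ g) = X := by
    intro g hg
    apply Finset.eq_of_subset_of_card_le
    · intro u hu
      obtain ⟨u', hu', rfl⟩ := Finset.mem_image.mp hu
      obtain ⟨h, rfl⟩ := (hmemX u').mp hu'
      refine (hmemX _).mpr ⟨⟨g, hg⟩ * h, ?_⟩
      show σ (g * (h : G)) w = σ g (σ (h : G) w)
      rw [map_mul]; rfl
    · rw [Finset.card_image_of_injective _ (rho_injective σ g)]
  -- the sum
  have hvfix : (∑ u ∈ X, u) ∈ fixOf σ H := by
    rw [mem_fixOf]
    intro g hg
    rw [map_sum]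
    conv_rhs => rw [← hperm g hg]
    rw [Finset.sum_image]
    intro a _ b _ hab
    exact rho_injective σ g hab
  have hv0 : (∑ u ∈ X, u) ≠ 0 := by
    intro h0
    rw [← Finset.add_sum_erase X (fun u => u) hwX] at h0
    have hrest : (∑ u ∈ X.erase w, u) ∈ ⨆ j, ⨆ (_ : j ≠ i), Wf j := by
      apply Submodule.sum_mem
      intro u hu
      obtain ⟨hne, huX⟩ := Finset.mem_erase.mp hu
      obtain ⟨h, rfl⟩ := (hmemX u).mp huX
      have hmove : (h : G) • i ≠ i := by
        intro hfix
        apply hne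
        exact hwfix (h : G) ⟨h.2, MulAction.mem_stabilizer_iff.mpr hfix⟩
      have h1 : σ (h : G) w ∈ Wf ((h : G) • i) := hG.map (h : G) i ⟨w, hw, rfl⟩
      exact (le_iSup₂ (f := fun j (_ : j ≠ i) => Wf j) ((h : G) • i) hmove) h1
    have hw' : w ∈ ⨆ j, ⨆ (_ : j ≠ i), Wf j := by
      have e : w = -(∑ u ∈ X.erase w, u) := eq_neg_of_add_eq_zero_left h0
      rw [e]
      exact Submodule.neg_mem _ hrest
    exact hw0 ((Submodule.disjoint_def.mp (hG.ind i)) w hw hw')
  exact (Submodule.ne_bot_iff _).mpr ⟨_, hvfix, hv0⟩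

end Cfsg.Agent.S4414P
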