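import Mathlib
import Cfsg.Agent.Helper6.S4414Defs
import Cfsg.Agent.Helper17.S4414TRANSFERcore
import Cfsg.Agent.Helper21.S4414FIX2

/-! Board `s4414pieces`, row TRANSFER (wrapper of `TRANSFER_aux_sumcore` with FIX2). -/

set_option autoImplicit false
set_option linter.unusedSectionVars false
set_option linter.unusedVariables false

namespace Cfsg.Agent.S4414P

open Module TensorProduct Cfsg.Agent.Helper5.FrobMod Cfsg.Agent.S4414P

variable {K : Type*} [Field K] {W : Type*} [AddCommGroup W] [Module K W]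
variable {G : Type*} [Group G] (σ : Representation K G W)

variable {I : Type*}

/-- TRANSFER (M): if the stabiliser of `i` in `H` is a `2`-group and `Wf i ≠ 0` then `H` has a nonzero fixed vector. -/
theorem TRANSFER [CharP K 2] [Finite G] [MulAction G I] {Wf : I → Submodule K W} (hG : Graded σ Wf) (H : Subgroup G)
    {i : I} (hi : Wf i ≠ ⊥) (hst : IsPGroup 2 ↥(H ⊓ MulAction.stabilizer G i)) : fixOf σ H ≠ ⊥ := by
  have hinv : Inv σ (H ⊓ MulAction.stabilizer G i) (Wf i) := by
    intro b hb x hx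
    have h1 : σ b x ∈ Wf (b • i) := hG.map b i ⟨x, hx, rfl⟩
    rwa [MulAction.mem_stabilizer_iff.mp hb.2] at h1
  obtain ⟨w, hw, hw0, hwfix⟩ := FIX2 σ (H ⊓ MulAction.stabilizer G i) hst (Wf i) hi hinv
  exact TRANSFER_aux_sumcore σ hG H hw hw0 hwfix

end Cfsg.Agent.S4414P
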