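import Mathlib
import Cfsg.Prelude.Def_Transfer
import Cfsg.Prelude.Def_Solvable
import Cfsg.Agent.Helper11.S4409Defs
import Cfsg.Agent.Helper9.S4415Defs
import Cfsg.Agent.Helper15.S4404CNT

/-! Board `s4415pieces`, row E3 (`type_of_A`): a member of `𝒜(R)` is elementary abelian or quaternion. -/

set_option autoImplicit false
set_option linter.unusedVariables false
set_option linter.unusedSectionVars false

namespace Cfsg.Agent.S4415P

open Subgroup
open Cfsg.Agent.S4409P (Zc Fr Der IsV4 IsQ8 SpecialInt IsAb)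

variable {S : Type*} [Group S] [Finite S] {E : Type*} [AddCommGroup E] [Module (ZMod 3) E] [Finite E]

/-- a group of order `2` inside `S`: its nonidentity element. -/
theorem E3_aux_two (Z : Subgroup S) (hZ : Nat.card ↥Z = 2) :
    ∃ ζ ∈ Z, ζ ≠ 1 ∧ ζ * ζ = 1 ∧ ∀ z ∈ Z, z = 1 ∨ z = ζ := by
  obtain ⟨y, hy, hu⟩ := (Nat.card_eq_two_iff' (1 : ↥Z)).mp hZ
  have hall : ∀ z ∈ Z, z = 1 ∨ z = (y : S) := by
    intro z hz
    by_cases h1 : z = 1
    · exact Or.inl h1
    · right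
      have : (⟨z, hz⟩ : ↥Z) = y := hu _ (by
        intro h; apply h1; exact congrArg Subtype.val h)
      exact congrArg Subtype.val this
  have hy1 : (y : S) ≠ 1 := by
    intro h; apply hy; exact Subtype.ext h
  refine ⟨(y : S), y.2, hy1, ?_, hall⟩
  rcases hall _ (Z.mul_mem y.2 y.2) with h | h
  · exact h
  · exfalso; apply hy1
    have : (y : S) * (y : S) = (y : S) * 1 := by rw [h, mul_one]
    exact mul_left_cancel this

/-- E3, step (a): squares of elements of `A` lie in `Z(R)` (no use of `B`). -/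
theorem E3_aux_sq (R A : Subgroup S) (hZ : Nat.card ↥(Zc R) = 2) (hle : A ≤ R) (hcomm : ⁅A, R⁆ ≤ Zc R) :
    ∀ x ∈ A, x * x ∈ Zc R := by
  obtain ⟨ζ, hζZ, hζ1, hζζ, hall⟩ := E3_aux_two (Zc R) hZ
  intro x hx
  have hxR : x ∈ R := hle hx
  refine ⟨R.mul_mem hxR hxR, ?_⟩
  show x * x ∈ centralizer (R : Set S)
  rw [Subgroup.mem_centralizer_iff]
  intro r hr
  obtain ⟨k, hkdef⟩ : ∃ k, k = x * r * x⁻¹ * r⁻¹ := ⟨_, rfl⟩
  have hk : k ∈ Zc R := by
    rw [hkdef]; exact hcomm (Subgroup.commutator_mem_commutator hx hr)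
  have hkk : k * k = 1 := by
    rcases hall _ hk with h | h
    · rw [h, mul_one]
    · rw [h, hζζ]
  have hkx : x * k = k * x := (Subgroup.mem_centralizer_iff.mp hk.2) x hxR
  have hxr : x * r = k * r * x := by
    rw [hkdef]; group
  calc r * (x * x) = k * k * r * (x * x) := by rw [hkk, one_mul]
    _ = k * (k * r * x) * x := by group
    _ = k * (x * r) * x := by rw [← hxr]
    _ = (k * x) * r * x := by group
    _ = (x * k) * r * x := by rw [hkx]
    _ = x * (k * r * x) := by group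
    _ = x * (x * r) := by rw [← hxr]
    _ = x * x * r := by group

/-- E3, step (b): `C_A(b) = Z(R)` (count mod `3`). -/
theorem E3_aux_fix (b : S) (B R A : Subgroup S) (hb : zpowers b = B) (hB : Nat.card ↥B = 3) (hZ : Nat.card ↥(Zc R) = 2)
    (hBZ : B ≤ centralizer ((Zc R : Subgroup S) : Set S)) (hA : InA B R A) :
    ∀ x ∈ A, b * x = x * b → x ∈ Zc R := by
  have : Fact (Nat.Prime 3) := ⟨by norm_num⟩
  have hp : IsPGroup 3 ↥B := IsPGroup.of_card (n := 1) (by rw [hB]; norm_num)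
  have hmod := Cfsg.Agent.S4404P.card_modEq_card_cent 3 B A hp hA.norm
  rw [hA.card] at hmod
  have hZK : Zc R ≤ A ⊓ centralizer (B : Set S) := by
    refine le_inf hA.zle ?_
    exact Subgroup.le_centralizer_iff.mp hBZ
  have hdvd : Nat.card ↥(A ⊓ centralizer (B : Set S)) ∣ 8 := by
    rw [← hA.card]; exact Subgroup.card_dvd_of_le inf_le_left
  have hcases : Nat.card ↥(A ⊓ centralizer (B : Set S)) = 2 ∨ Nat.card ↥(A ⊓ centralizer (B : Set S)) = 8 := by
    have hle : Nat.card ↥(A ⊓ centralizer (B : Set S)) ≤ 8 := Nat.le_of_dvd (by norm_num) hdvd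
    unfold Nat.ModEq at hmod
    interval_cases h : Nat.card ↥(A ⊓ centralizer (B : Set S)) <;> simp_all
  have hK2 : Nat.card ↥(A ⊓ centralizer (B : Set S)) = 2 := by
    rcases hcases with h | h
    · exact h
    · exfalso
      apply hA.nontriv
      have : A ⊓ centralizer (B : Set S) = A :=
        Subgroup.eq_of_le_of_card_ge inf_le_left (by rw [h, hA.card])
      have hAB : A ≤ centralizer (B : Set S) := by
        rw [← this]; exact inf_le_right
      exact Subgroup.le_centralizer_iff.mp hAB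
  have hEq : Zc R = A ⊓ centralizer (B : Set S) :=
    Subgroup.eq_of_le_of_card_ge hZK (by rw [hK2, hZ])
  intro x hx hbx
  rw [hEq]
  refine ⟨hx, ?_⟩
  show x ∈ centralizer (B : Set S)
  rw [Subgroup.mem_centralizer_iff]
  intro h hh
  rw [← hb] at hh
  obtain ⟨n, rfl⟩ := Subgroup.mem_zpowers_iff.mp hh
  have : Commute b x := hbx
  exact (this.zpow_left n).eq

/-- E3 : a member of `𝒜(R)` is elementary abelian or quaternion. -/
theorem type_of_A (b : S) (B R A : Subgroup S) (hb : zpowers b = B) (hB : Nat.card ↥B = 3) (hZ : Nat.card ↥(Zc R) = 2)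
    (hBZ : B ≤ centralizer ((Zc R : Subgroup S) : Set S)) (hA : InA B R A) :
    (∀ x ∈ A, x * x = 1) ∨ IsQ8 A := by
  obtain ⟨ζ, hζZ, hζ1, hζζ, hall⟩ := E3_aux_two (Zc R) hZ
  have hsq := E3_aux_sq R A hZ hA.le hA.comm
  have hfix := E3_aux_fix b B R A hb hB hZ hBZ hA
  have hbB : b ∈ B := by rw [← hb]; exact Subgroup.mem_zpowers b
  have hb3 : b ^ 3 = 1 := by
    have : orderOf b = 3 := by rw [← Nat.card_zpowers, hb, hB]
    rw [← this]; exact pow_orderOf_eq_one b
  have hZsq : ∀ ε ∈ Zc R, ε * ε = 1 := by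
    intro ε hε
    rcases hall _ hε with h | h
    · rw [h, mul_one]
    · rw [h, hζζ]
  obtain ⟨c, hcdef⟩ : ∃ c : S → S, ∀ x, c x = b * x * b⁻¹ := ⟨fun x => b * x * b⁻¹, fun _ => rfl⟩
  have hc_mul : ∀ x y, c (x * y) = c x * c y := by
    intro x y; rw [hcdef, hcdef, hcdef]; group
  have hc_inv : ∀ x, c x⁻¹ = (c x)⁻¹ := by
    intro x; rw [hcdef, hcdef]; group
  have hc3 : ∀ x, c (c (c x)) = x := by
    intro x
    rw [hcdef, hcdef, hcdef]
    have hbbb : b * b * b = 1 := by rw [← hb3, pow_succ, pow_two]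
    have : b * (b * (b * x * b⁻¹) * b⁻¹) * b⁻¹ = (b * b * b) * x * (b * b * b)⁻¹ := by group
    rw [this, hbbb]; simp
  have hc_inj : ∀ x y, c x = c y → x = y := by
    intro x y h
    rw [hcdef, hcdef] at h
    exact mul_left_cancel (mul_right_cancel h)
  have hcZ : ∀ z ∈ Zc R, c z = z := by
    intro z hz
    have := (Subgroup.mem_centralizer_iff.mp (hBZ hbB)) z hz
    rw [hcdef, ← this]; group
  have hcA : ∀ x ∈ A, c x ∈ A := by
    intro x hx
    rw [hcdef]
    exact (Subgroup.mem_normalizer_iff.mp (hA.norm hbB) x).mp hx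
  have hcZ' : ∀ y, c y ∈ Zc R → y ∈ Zc R := by
    intro y hy
    have h1 : c y = c (c y) := (hcZ _ hy).symm
    have h2 := hc_inj _ _ h1
    rw [h2]; exact hy
  -- every element outside `Z` is moved off its coset
  have hgen : ∀ x ∈ A, x ∉ Zc R → ∀ ε ∈ Zc R, c x ≠ x * ε := by
    intro x hx hxZ ε hε h
    have h2 : c (c x) = x := by
      rw [h, hc_mul, h, hcZ _ hε, mul_assoc, hZsq ε hε, mul_one]
    have h3 : c x = x := by
      have := hc3 x
      rw [h2] at this; exact this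
    apply hxZ
    apply hfix x hx
    rw [hcdef] at h3
    calc b * x = b * x * b⁻¹ * b := by group
      _ = x * b := by rw [h3]
  have hcardQ : Nat.card (↥A ⧸ (Zc R).subgroupOf A) = 4 := by
    have h1 := Subgroup.card_eq_card_quotient_mul_card_subgroup ((Zc R).subgroupOf A)
    have h2 : Nat.card ↥((Zc R).subgroupOf A) = 2 := by
      rw [Nat.card_congr (Subgroup.subgroupOfEquivOfLe hA.zle).toEquiv, hZ]
    rw [hA.card, h2] at h1
    omega
  have hcover : ∀ x ∈ A, x ∉ Zc R → ∀ y ∈ A,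
      y ∈ Zc R ∨ x⁻¹ * y ∈ Zc R ∨ (c x)⁻¹ * y ∈ Zc R ∨ (c (c x))⁻¹ * y ∈ Zc R := by
    intro x hx hxZ y hy
    classical
    by_contra hcon
    push_neg at hcon
    obtain ⟨n0, n1, n2, n3⟩ := hcon
    have key : ∀ (u v : ↥A), (QuotientGroup.mk u : ↥A ⧸ (Zc R).subgroupOf A) = QuotientGroup.mk v ↔
        (u : S)⁻¹ * (v : S) ∈ Zc R := by
      intro u v
      rw [QuotientGroup.eq]; rfl
    have d12 : x⁻¹ * c x ∉ Zc R := by
      intro h
      exact hgen x hx hxZ _ h (by group)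
    have d01 : ¬ ((1 : ↥A) : S)⁻¹ * x ∈ Zc R := by
      simpa using hxZ
    have d02 : ¬ ((1 : ↥A) : S)⁻¹ * c x ∈ Zc R := by
      intro h; apply hxZ; apply hcZ'; simpa using h
    have d03 : ¬ ((1 : ↥A) : S)⁻¹ * c (c x) ∈ Zc R := by
      intro h; apply hxZ; apply hcZ'; apply hcZ'; simpa using h
    have d04 : ¬ ((1 : ↥A) : S)⁻¹ * y ∈ Zc R := by
      simpa using n0
    have d23 : (c x)⁻¹ * c (c x) ∉ Zc R := by
      intro h
      apply d12; apply hcZ'
      rw [hc_mul, hc_inv]; exact h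
    have d13 : x⁻¹ * c (c x) ∉ Zc R := by
      intro h
      have h1 : c (c x) = x * (x⁻¹ * c (c x)) := by group
      have h2 : x = c x * (x⁻¹ * c (c x)) := by
        have := congrArg c h1
        rw [hc3, hc_mul, hcZ _ h] at this
        exact this
      refine hgen x hx hxZ (x⁻¹ * c (c x))⁻¹ ((Zc R).inv_mem h) ?_
      calc c x = c x * (x⁻¹ * c (c x)) * (x⁻¹ * c (c x))⁻¹ := by group
        _ = x * (x⁻¹ * c (c x))⁻¹ := by rw [← h2]
    haveI : Fintype (↥A ⧸ (Zc R).subgroupOf A) := Fintype.ofFinite _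
    obtain ⟨q0, hq0⟩ : ∃ q : ↥A ⧸ (Zc R).subgroupOf A, q = QuotientGroup.mk (1 : ↥A) := ⟨_, rfl⟩
    obtain ⟨q1, hq1⟩ : ∃ q : ↥A ⧸ (Zc R).subgroupOf A, q = QuotientGroup.mk (⟨x, hx⟩ : ↥A) := ⟨_, rfl⟩
    obtain ⟨q2, hq2⟩ : ∃ q : ↥A ⧸ (Zc R).subgroupOf A, q = QuotientGroup.mk (⟨c x, hcA x hx⟩ : ↥A) := ⟨_, rfl⟩
    obtain ⟨q3, hq3⟩ : ∃ q : ↥A ⧸ (Zc R).subgroupOf A, q = QuotientGroup.mk (⟨c (c x), hcA _ (hcA x hx)⟩ : ↥A) :=
      ⟨_, rfl⟩
    obtain ⟨q4, hq4⟩ : ∃ q : ↥A ⧸ (Zc R).subgroupOf A, q = QuotientGroup.mk (⟨y, hy⟩ : ↥A) := ⟨_, rfl⟩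
    have e01 : q0 ≠ q1 := by rw [hq0, hq1, Ne, key]; exact d01
    have e02 : q0 ≠ q2 := by rw [hq0, hq2, Ne, key]; exact d02
    have e03 : q0 ≠ q3 := by rw [hq0, hq3, Ne, key]; exact d03
    have e04 : q0 ≠ q4 := by rw [hq0, hq4, Ne, key]; exact d04
    have e12 : q1 ≠ q2 := by rw [hq1, hq2, Ne, key]; exact d12
    have e13 : q1 ≠ q3 := by rw [hq1, hq3, Ne, key]; exact d13
    have e14 : q1 ≠ q4 := by rw [hq1, hq4, Ne, key]; exact n1
    have e23 : q2 ≠ q3 := by rw [hq2, hq3, Ne, key]; exact d23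
    have e24 : q2 ≠ q4 := by rw [hq2, hq4, Ne, key]; exact n2
    have e34 : q3 ≠ q4 := by rw [hq3, hq4, Ne, key]; exact n3
    have c2 : ({q3, q4} : Finset (↥A ⧸ (Zc R).subgroupOf A)).card = 2 := Finset.card_pair e34
    have c3 : ({q2, q3, q4} : Finset (↥A ⧸ (Zc R).subgroupOf A)).card = 3 := by
      rw [Finset.card_insert_of_notMem (by simp [e23, e24]), c2]
    have c4 : ({q1, q2, q3, q4} : Finset (↥A ⧸ (Zc R).subgroupOf A)).card = 4 := by
      rw [Finset.card_insert_of_notMem (by simp [e12, e13, e14]), c3]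
    have c5 : ({q0, q1, q2, q3, q4} : Finset (↥A ⧸ (Zc R).subgroupOf A)).card = 5 := by
      rw [Finset.card_insert_of_notMem (by simp [e01, e02, e03, e04]), c4]
    have hle := Finset.card_le_univ ({q0, q1, q2, q3, q4} : Finset (↥A ⧸ (Zc R).subgroupOf A))
    rw [c5, ← Nat.card_eq_fintype_card, hcardQ] at hle
    omega
  have hsqconst : ∀ x ∈ A, x ∉ Zc R → ∀ y ∈ A, y ∉ Zc R → y * y = x * x := by
    intro x hx hxZ y hy hyZ
    have hmulZ : ∀ u ∈ A, ∀ ε ∈ Zc R, (u * ε) * (u * ε) = u * u := by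
      intro u hu ε hε
      have hcomm : u * ε = ε * u := (Subgroup.mem_centralizer_iff.mp hε.2) u (hA.le hu)
      calc (u * ε) * (u * ε) = u * (ε * u) * ε := by group
        _ = u * (u * ε) * ε := by rw [hcomm]
        _ = u * u * (ε * ε) := by group
        _ = u * u := by rw [hZsq ε hε, mul_one]
    have hcsq : ∀ u ∈ A, c u * c u = u * u := by
      intro u hu
      rw [← hc_mul, hcZ _ (hsq u hu)]
    rcases hcover x hx hxZ y hy with h | h | h | h
    · exact absurd h hyZ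
    · have e : y = x * (x⁻¹ * y) := by group
      rw [e, hmulZ x hx _ h]
    · have e : y = c x * ((c x)⁻¹ * y) := by group
      rw [e, hmulZ (c x) (hcA x hx) _ h, hcsq x hx]
    · have e : y = c (c x) * ((c (c x))⁻¹ * y) := by group
      rw [e, hmulZ _ (hcA _ (hcA x hx)) _ h, hcsq _ (hcA x hx), hcsq x hx]
  by_cases hex : ∃ x ∈ A, x ∉ Zc R
  · obtain ⟨x, hx, hxZ⟩ := hex
    rcases hall _ (hsq x hx) with h1 | h1
    · left
      intro y hy
      by_cases hyZ : y ∈ Zc R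
      · exact hZsq y hyZ
      · rw [hsqconst x hx hxZ y hy hyZ, h1]
    · right
      refine ⟨hA.card, ζ, hA.zle hζZ, hζ1, hζζ, ?_⟩
      intro y hy
      by_cases hyZ : y ∈ Zc R
      · rcases hall _ hyZ with h | h
        · exact Or.inl h
        · exact Or.inr (Or.inl h)
      · right; right
        rw [hsqconst x hx hxZ y hy hyZ, h1]
  · left
    push_neg at hex
    intro y hy
    exact hZsq y (hex y hy)

end Cfsg.Agent.S4415P
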