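import Mathlib

set_option autoImplicit false

namespace Cfsg.Agent.S4700P

universe u

variable {G : Type u} [Group G]

section A
variable [Finite G]

theorem QCNT.card_sylow_sub (p : ℕ) [Fact p.Prime] (P : Sylow p G) (M : Subgroup G)
    (hPM : (P : Subgroup G) ≤ M) :
    Nat.card (Sylow p M) = (Subgroup.normalizer ((P : Subgroup G) : Set G)).relIndex M := by
  have h := Sylow.card_eq_index_normalizer (P.subtype hPM)
  rw [h, Subgroup.relIndex, Subgroup.subgroupOf_normalizer_eq hPM]
  rfl

omit [Finite G] in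
theorem QCNT.normalizer_le_comap (N : Subgroup G) [N.Normal] (P : Subgroup G) :
    Subgroup.normalizer (P : Set G) ≤
      (Subgroup.normalizer ((P.map (QuotientGroup.mk' N) : Subgroup (G ⧸ N)) : Set (G ⧸ N))).comap
        (QuotientGroup.mk' N) := by
  intro g hg
  rw [Subgroup.mem_comap]
  have h1 : (QuotientGroup.mk' N) g ∈ (Subgroup.normalizer (P : Set G)).map (QuotientGroup.mk' N) :=
    Subgroup.mem_map_of_mem _ hg
  exact Subgroup.le_normalizer_map (QuotientGroup.mk' N) h1

/-- QCNT -/
theorem card_sylow_quotient (p : ℕ) [Fact p.Prime] (N : Subgroup G) [N.Normal] :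
    ∃ k : ℕ, k % p = 1 ∧ Nat.card (Sylow p G) = Nat.card (Sylow p (G ⧸ N)) * k := by
  classical
  obtain ⟨P⟩ : Nonempty (Sylow p G) := inferInstance
  have hπ : Function.Surjective (QuotientGroup.mk' N) := QuotientGroup.mk'_surjective N
  have hle := QCNT.normalizer_le_comap N (P : Subgroup G)
  have hPM : (P : Subgroup G) ≤ _ := Subgroup.le_normalizer.trans hle
  have hidx := Subgroup.index_comap_of_surjective
    (Subgroup.normalizer ((((P : Subgroup G).map (QuotientGroup.mk' N) : Subgroup (G ⧸ N))) :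
      Set (G ⧸ N))) hπ
  have h1 : Nat.card (Sylow p G) = (Subgroup.normalizer ((P : Subgroup G) : Set G)).index :=
    Sylow.card_eq_index_normalizer P
  have h2 : Nat.card (Sylow p (G ⧸ N)) =
      (Subgroup.normalizer ((((P : Subgroup G).map (QuotientGroup.mk' N) : Subgroup (G ⧸ N))) :
        Set (G ⧸ N))).index :=
    Sylow.card_eq_index_normalizer (P.mapSurjective hπ)
  have h3 := Subgroup.relIndex_mul_index hle
  have h4 := QCNT.card_sylow_sub p P _ hPM
  have h5 := card_sylow_modEq_one p
    ((Subgroup.normalizer ((((P : Subgroup G).map (QuotientGroup.mk' N) : Subgroup (G ⧸ N))) :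
      Set (G ⧸ N))).comap (QuotientGroup.mk' N))
  refine ⟨(Subgroup.normalizer ((P : Subgroup G) : Set G)).relIndex
    ((Subgroup.normalizer ((((P : Subgroup G).map (QuotientGroup.mk' N) : Subgroup (G ⧸ N))) :
      Set (G ⧸ N))).comap (QuotientGroup.mk' N)), ?_, ?_⟩
  · have hp : 1 < p := (Fact.out : p.Prime).one_lt
    rw [h4, Nat.ModEq, Nat.mod_eq_of_lt hp] at h5
    exact h5
  · rw [h1, h2, ← hidx, ← h3, mul_comm]

end A

end Cfsg.Agent.S4700P
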