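import Mathlib
import Cfsg.Prelude.Def_RootSubgroups
import Cfsg.Agent.Helper25.RootInvA
import Cfsg.Agent.Helper16.BaerSuzuki
import Cfsg.Agent.Helper4.ThreeTransO2

set_option autoImplicit false

namespace Cfsg.Agent.S5046P

variable {G : Type*} [Group G]

/-- AB: if moreover squares of non-commuting products are in Δ and some set of elements normalising Δ is transitive
on Δ, then Δ is commutative. -/
theorem AB [Finite G] (Δ : Set G) (hN : IsPGroup 2 ↥(Subgroup.closure Δ))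
    (hinv : ∀ e ∈ Δ, e * e = 1)
    (hP : ∀ e ∈ Δ, ∀ f ∈ Δ, e * f ≠ f * e → (e * f) ^ 2 ∈ Δ)
    (hT : ∀ e ∈ Δ, ∀ f ∈ Δ, ∃ g : G, (∀ s ∈ Δ, g * s * g⁻¹ ∈ Δ) ∧ g * e * g⁻¹ = f) :
    ∀ e ∈ Δ, ∀ f ∈ Δ, e * f = f * e := by
  intro e0 he0 f0 hf0
  by_contra hne
  have hs0 : (e0 * f0) ^ 2 ∈ Δ := hP e0 he0 f0 hf0 hne
  have he0i : e0⁻¹ = e0 := inv_eq_of_mul_eq_one_left (hinv e0 he0)
  have hf0i : f0⁻¹ = f0 := inv_eq_of_mul_eq_one_left (hinv f0 hf0)
  -- every element of Δ is a commutator of elements of Δ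
  have hcomm : ∀ b ∈ Δ, ∃ u ∈ Δ, ∃ v ∈ Δ, b = u * v * u⁻¹ * v⁻¹ := by
    intro b hb
    obtain ⟨g, hg, hgb⟩ := hT _ hs0 b hb
    refine ⟨g * e0 * g⁻¹, hg e0 he0, g * f0 * g⁻¹, hg f0 hf0, ?_⟩
    rw [← hgb]
    have : (e0 * f0) ^ 2 = e0 * f0 * e0⁻¹ * f0⁻¹ := by
      rw [he0i, hf0i, pow_two]; simp [mul_assoc]
    rw [this]
    simp [mul_assoc]
  have : Fact (Nat.Prime 2) := Nat.fact_prime_two
  have : Group.IsNilpotent ↥(Subgroup.closure Δ) := hN.isNilpotent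
  have : Nontrivial ↥(Subgroup.closure Δ) := by
    refine ⟨⟨⟨e0, Subgroup.subset_closure he0⟩, 1, ?_⟩⟩
    intro h
    have h1 : e0 = 1 := congrArg Subtype.val h
    exact hne (by rw [h1]; simp)
  have hlt : commutator ↥(Subgroup.closure Δ) < ⊤ := Group.IsSolvable.commutator_lt_top_of_nontrivial ↥(Subgroup.closure Δ)
  have htop : commutator ↥(Subgroup.closure Δ) = ⊤ := by
    rw [eq_top_iff]
    have hgen : Subgroup.closure (((↑) : ↥(Subgroup.closure Δ) → G) ⁻¹' Δ) = ⊤ :=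
      Subgroup.closure_closure_coe_preimage
    rw [← hgen, Subgroup.closure_le]
    intro b hb
    obtain ⟨u, hu, v, hv, huv⟩ := hcomm (b : G) hb
    have hu' : u ∈ Subgroup.closure Δ := Subgroup.subset_closure hu
    have hv' : v ∈ Subgroup.closure Δ := Subgroup.subset_closure hv
    have hb' : b = (⟨u, hu'⟩ : ↥(Subgroup.closure Δ)) * ⟨v, hv'⟩ * (⟨u, hu'⟩)⁻¹ * (⟨v, hv'⟩)⁻¹ := by
      apply Subtype.ext
      rw [huv]
      rfl
    rw [hb', ← commutatorElement_def, commutator_def]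
    exact Subgroup.commutator_mem_commutator (Subgroup.mem_top _) (Subgroup.mem_top _)
  exact (ne_of_lt hlt) htop

end Cfsg.Agent.S5046P
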