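import Mathlib
import Cfsg.Prelude.Def_RootSubgroups
import Cfsg.Agent.Helper25.RootInvA
import Cfsg.Agent.Helper16.BaerSuzuki
import Cfsg.Agent.Helper4.ThreeTransO2

set_option autoImplicit false

namespace Cfsg.Agent.S5046P

/-- ABG (Baer–Suzuki): a finite group generated by a conjugation-closed set of involutions, any two of which
have product of order dividing 4, is a 2-group. -/
theorem ABG {H : Type*} [Group H] [Finite H] (S : Set H) (hgen : Subgroup.closure S = ⊤)
    (hinv : ∀ s ∈ S, s * s = 1) (hconj : ∀ s ∈ S, ∀ g : H, g * s * g⁻¹ ∈ S)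
    (h4 : ∀ s ∈ S, ∀ t ∈ S, (s * t) ^ 4 = 1) : IsPGroup 2 H := by
  have hle : (⊤ : Subgroup H) ≤ (⨅ P : Sylow 2 H, (P : Subgroup H) : Subgroup H) := by
    rw [← hgen, Subgroup.closure_le]
    intro s hs
    refine Cfsg.Agent.Helper16.baer_suzuki_elt 2 s ?_
    intro g
    have hg : g * s * g⁻¹ ∈ S := hconj s hs g
    refine Cfsg.Agent.Helper4.ThreeTransO2.isPGroup_two_of_dihedral s (g * s * g⁻¹)
      (hinv s hs) (hinv _ hg) 2 ?_
    have := h4 s hs _ hg
    simpa using this
  have hP : IsPGroup 2 (⨅ P : Sylow 2 H, (P : Subgroup H) : Subgroup H) :=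
    Cfsg.Agent.Helper16.iInf_sylow_isPGroup 2
  have htop : IsPGroup 2 (⊤ : Subgroup H) := hP.to_le hle
  intro g
  obtain ⟨k, hk⟩ := htop ⟨g, Subgroup.mem_top g⟩
  refine ⟨k, ?_⟩
  have := congrArg Subtype.val hk
  simpa using this

end Cfsg.Agent.S5046P
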