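import Mathlib
import Cfsg.Prelude.Def_RootSubgroups
import Cfsg.Agent.Helper25.RootInvA
import Cfsg.Agent.Helper16.BaerSuzuki
import Cfsg.Agent.Helper4.ThreeTransO2
import Cfsg.Agent.Helper17.S5046ABG

set_option autoImplicit false

namespace Cfsg.Agent.S5046P

variable {G : Type*} [Group G]

theorem ABN_aux_conj (Δ : Set G) (hinv : ∀ e ∈ Δ, e * e = 1)
    (hconj : ∀ e ∈ Δ, ∀ f ∈ Δ, f * e * f⁻¹ ∈ Δ) :
    ∀ g ∈ Subgroup.closure Δ, (∀ e ∈ Δ, g * e * g⁻¹ ∈ Δ) ∧ (∀ e ∈ Δ, g⁻¹ * e * g ∈ Δ) := by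
  intro g hg
  induction hg using Subgroup.closure_induction with
  | mem f hf =>
    have hfi : f⁻¹ = f := inv_eq_of_mul_eq_one_left (hinv f hf)
    refine ⟨fun e he => hconj e he f hf, fun e he => ?_⟩
    have := hconj e he f hf
    rw [hfi] at this ⊢
    exact this
  | one => exact ⟨fun e he => by simpa using he, fun e he => by simpa using he⟩
  | mul u v _ _ hu hv =>
    refine ⟨fun e he => ?_, fun e he => ?_⟩
    · have : u * v * e * (u * v)⁻¹ = u * (v * e * v⁻¹) * u⁻¹ := by simp [mul_assoc]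
      rw [this]; exact hu.1 _ (hv.1 e he)
    · have : (u * v)⁻¹ * e * (u * v) = v⁻¹ * (u⁻¹ * e * u) * v := by simp [mul_assoc]
      rw [this]; exact hv.2 _ (hu.2 e he)
  | inv u _ hu =>
    refine ⟨fun e he => ?_, fun e he => ?_⟩
    · have := hu.2 e he
      simpa using this
    · have := hu.1 e he
      simpa using this

/-- ABN: the same inside a group: the closure of Δ is a 2-group. -/
theorem ABN [Finite G] (Δ : Set G) (hinv : ∀ e ∈ Δ, e * e = 1)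
    (hconj : ∀ e ∈ Δ, ∀ f ∈ Δ, f * e * f⁻¹ ∈ Δ) (h4 : ∀ e ∈ Δ, ∀ f ∈ Δ, (e * f) ^ 4 = 1) :
    IsPGroup 2 ↥(Subgroup.closure Δ) := by
  have hgen : Subgroup.closure (((↑) : ↥(Subgroup.closure Δ) → G) ⁻¹' Δ) = ⊤ :=
    Subgroup.closure_closure_coe_preimage
  have h1 : ∀ s ∈ (((↑) : ↥(Subgroup.closure Δ) → G) ⁻¹' Δ), s * s = 1 := by
    intro s hs
    have := hinv (s : G) hs
    exact Subtype.ext (by simpa using this)
  have h2 : ∀ s ∈ (((↑) : ↥(Subgroup.closure Δ) → G) ⁻¹' Δ), ∀ g : ↥(Subgroup.closure Δ),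
      g * s * g⁻¹ ∈ (((↑) : ↥(Subgroup.closure Δ) → G) ⁻¹' Δ) := by
    intro s hs g
    have := (ABN_aux_conj Δ hinv hconj (g : G) g.2).1 (s : G) hs
    simpa using this
  have h3 : ∀ s ∈ (((↑) : ↥(Subgroup.closure Δ) → G) ⁻¹' Δ),
      ∀ t ∈ (((↑) : ↥(Subgroup.closure Δ) → G) ⁻¹' Δ), (s * t) ^ 4 = 1 := by
    intro s hs t ht
    have := h4 (s : G) hs (t : G) ht
    exact Subtype.ext (by simpa using this)
  exact ABG _ hgen h1 h2 h3

end Cfsg.Agent.S5046P
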