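import Mathlib
import Cfsg.Prelude.Def_FusionSystem
import Cfsg.Agent.Helper18.S5113Defs
import Cfsg.Agent.Helper1.S5113R3

set_option autoImplicit false
set_option linter.unusedSectionVars false
set_option linter.unusedVariables false

namespace Cfsg.Agent.S5113P

open Cfsg Cfsg.FusionSystem Cfsg.Agent.Helper25 Cfsg.Agent.Helper25.Park Cfsg.Agent.Helper26.CB

universe u

variable {Ω : Type u} [Group Ω] {S : Subgroup Ω} {X : Type u}

/-- conjugating by an element of `S` does not decrease the order of `N_S`. -/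
theorem PICK.aux_card [Finite S] (Q0 : Subgroup Ω) (u : Ω) (hu : u ∈ S) :
    Nat.card (normalizerIn S Q0) ≤
      Nat.card (normalizerIn S (Q0.map (MulAut.conj u⁻¹).toMonoidHom)) := by
  have hmem : ∀ n : ↥(normalizerIn S Q0),
      u⁻¹ * (n : Ω) * u ∈ normalizerIn S (Q0.map (MulAut.conj u⁻¹).toMonoidHom) := by
    intro n
    refine ⟨S.mul_mem (S.mul_mem (S.inv_mem hu) n.2.1) hu, ?_⟩
    have h1 : (MulAut.conj u⁻¹).toMonoidHom (n : Ω) ∈
        (Subgroup.normalizer (Q0 : Set Ω)).map (MulAut.conj u⁻¹).toMonoidHom :=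
      Subgroup.mem_map_of_mem _ n.2.2
    rw [Subgroup.map_equiv_normalizer_eq] at h1
    have e : (MulAut.conj u⁻¹).toMonoidHom (n : Ω) = u⁻¹ * (n : Ω) * u := by
      simp
    rw [e] at h1
    exact h1
  have : Finite ↥(normalizerIn S (Q0.map (MulAut.conj u⁻¹).toMonoidHom)) :=
    Finite.of_injective (Subgroup.inclusion (inf_le_left : normalizerIn S _ ≤ S))
      (Subgroup.inclusion_injective _)
  apply Nat.card_le_card_of_injective (fun n : ↥(normalizerIn S Q0) => (⟨u⁻¹ * (n : Ω) * u, hmem n⟩ :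
    ↥(normalizerIn S (Q0.map (MulAut.conj u⁻¹).toMonoidHom))))
  intro n n' h
  have h1 : u⁻¹ * (n : Ω) * u = u⁻¹ * (n' : Ω) * u := congrArg Subtype.val h
  apply Subtype.ext
  exact mul_left_cancel (mul_right_cancel h1)

/-- PICK: every subgroup of `T` is `E`-conjugate to a subgroup fully normalized in `F`. -/
theorem PICK [Finite S] [Finite X] (p : ℕ) [Fact p.Prime] (hS : IsPGroup p S)
    (a : ↥(S.prod S) →* Equiv.Perm X) (x₀ : X) (F : FusionSystem S)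
    (hTD : ∀ x, TD F (stab a x))
    (hst : ∀ K K' : Subgroup ↥(S.prod S), GConj (prodSystem F F) K K' → mark a K = mark a K')
    (hx₀ : ∀ k ∈ graphSub (1 : MulAut ↥S), a k x₀ = x₀) (hidx : ¬ p ∣ (H0 a x₀).index)
    {T : Subgroup Ω} (hTS : T ≤ S) (hfoc : F.focalSubgroup ≤ T)
    (E : FusionSystem T) (hE : ∀ P : Subgroup Ω, E.Hom P = EHom a x₀ F hTD T P)
    {P : Subgroup Ω} (hPT : P ≤ T) :
    ∃ Q : Subgroup Ω, E.IsConj P Q ∧ F.IsFullyNormalized Q := by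
  have hp : p.Prime := Fact.out
  have hPS : P ≤ S := hPT.trans hTS
  obtain ⟨Q0, hPQ0, hQ0⟩ := exists_isConj_fullyNormalized F hPS
  obtain ⟨φ0, hφ0, hr0⟩ := hPQ0
  have hφ0S : ∀ x, φ0 x ∈ S := (F.le_of_mem hφ0).2
  have hφ0Q : ∀ x : P, φ0 x ∈ Q0 := fun x => hr0 ▸ ⟨x, rfl⟩
  have hQ0S : Q0 ≤ S := hQ0.1
  obtain ⟨g, hg⟩ := exists_cen_conj a F hst hPS hφ0 hφ0S
  obtain ⟨s, hs⟩ := QuotientGroup.mk_surjective (trf a x₀ F hTD g)
  have hs' : Abelianization.of s = trf a x₀ F hTD g := hs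
  -- the exponent
  obtain ⟨n, hn⟩ := hS s
  have hord : orderOf s ∣ p ^ n := orderOf_dvd_of_pow_eq_one hn
  have hcop : Nat.Coprime (H0 a x₀).index (orderOf s) :=
    Nat.Coprime.coprime_dvd_right hord
      (Nat.Coprime.pow_right n ((Nat.Prime.coprime_iff_not_dvd hp).2 hidx).symm)
  obtain ⟨k2, hk2⟩ := exists_pow_eq_self_of_coprime hcop
  obtain ⟨u, hu⟩ : ∃ u : ↥S, u = s ^ k2 := ⟨_, rfl⟩
  have huk : Abelianization.of u ^ (H0 a x₀).index = Abelianization.of s := by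
    rw [← map_pow, hu, ← pow_mul, mul_comm, pow_mul, hk2]
  -- `m = (iota u)⁻¹ * g ∈ M`
  have hm : (iota a u)⁻¹ * g ∈ MM a x₀ F hTD T := by
    rw [mem_MM, map_mul, map_inv, ← hs', ← huk]
    exact R3 a x₀ F hTD hfoc u
  -- the map
  have hψF : (conjHom Q0 ((u : Ω)⁻¹)).comp (φ0.codRestrict Q0 hφ0Q) ∈ F.Hom P :=
    F.comp_mem hφ0 (F.conj_mem hQ0S (S.inv_mem u.2)) hφ0Q
  obtain ⟨ψ, hψ⟩ : ∃ ψ : P →* Ω, ψ = (conjHom Q0 ((u : Ω)⁻¹)).comp (φ0.codRestrict Q0 hφ0Q) :=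
    ⟨_, rfl⟩
  have hψx : ∀ x : P, ψ x = (u : Ω)⁻¹ * φ0 x * (u : Ω) := by
    intro x
    rw [hψ]
    simp [conjHom]
  rw [← hψ] at hψF
  have hψT : ∀ x : P, ψ x ∈ T := by
    intro x
    have h1 : (x : Ω)⁻¹ * ψ x ∈ F.focalSubgroup :=
      Subgroup.subset_closure ⟨P, ψ, x, hψF, rfl⟩
    have h2 := T.mul_mem (hPT x.2) (hfoc h1)
    rwa [mul_inv_cancel_left] at h2
  have hψE : ψ ∈ E.Hom P := by
    rw [hE]
    refine ⟨hψF, hPT, hψT, (iota a u)⁻¹ * g, hm, ?_⟩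
    intro x hx hψxS
    have e1 : (⟨ψ x, hψxS⟩ : ↥S) = u⁻¹ * ⟨φ0 x, hφ0S x⟩ * u := by
      apply Subtype.ext
      exact hψx x
    rw [e1, map_mul, map_mul, map_inv, hg x]
    group
  have hrange : ψ.range = Q0.map (MulAut.conj (u : Ω)⁻¹).toMonoidHom := by
    ext y
    constructor
    · rintro ⟨x, rfl⟩
      refine ⟨φ0 x, hφ0Q x, ?_⟩
      rw [hψx]
      simp
    · rintro ⟨q, hq, rfl⟩
      have hq' : q ∈ φ0.range := hr0.symm ▸ hq
      obtain ⟨x, rfl⟩ := hq'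
      refine ⟨x, ?_⟩
      rw [hψx]
      simp
  refine ⟨Q0.map (MulAut.conj (u : Ω)⁻¹).toMonoidHom, ⟨ψ, hψE, hrange⟩, ?_⟩
  -- fully normalized
  have hQ0Q1 : F.IsConj Q0 (Q0.map (MulAut.conj (u : Ω)⁻¹).toMonoidHom) := by
    refine ⟨conjHom Q0 ((u : Ω)⁻¹), F.conj_mem hQ0S (S.inv_mem u.2), ?_⟩
    unfold conjHom
    rw [MonoidHom.range_comp, Subgroup.range_subtype]
  refine ⟨(isConj_le F hQ0Q1).2, ?_⟩
  intro R hR
  exact (hQ0.2 R (isConj_trans F hQ0Q1 hR)).trans (PICK.aux_card Q0 (u : Ω) u.2)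

end Cfsg.Agent.S5113P
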