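import Mathlib
import Cfsg.Prelude.Def_FusionSystem
import Cfsg.Agent.Helper18.S5113Defs

set_option autoImplicit false

namespace Cfsg.Agent.S5113P

open Cfsg Cfsg.FusionSystem Cfsg.Agent.Helper25 Cfsg.Agent.Helper25.Park Cfsg.Agent.Helper26.CB

universe u

/-- TRANS: transitivity of `p`-power index. -/
theorem TRANS {Ω : Type u} [Group Ω] {S T₁ T : Subgroup Ω} (p : ℕ)
    (F : FusionSystem S) (E₁ : FusionSystem T₁) (E : FusionSystem T)
    (h₁ : E₁.HasPPowerIndexIn F p) (h₂ : E.HasPPowerIndexIn E₁ p)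
    (hT : F.hyperfocalSubgroup p ≤ T) : E.HasPPowerIndexIn F p := by
  have hTT₁ : T ≤ T₁ := (E₁.le_of_mem (h₂.1 T (E.conj_mem le_rfl (one_mem T)))).1
  refine ⟨fun P φ h => h₁.1 P (h₂.1 P h), hT, ?_⟩
  intro P hPT
  have A₁ := h₁.2.2 P (hPT.trans hTT₁)
  have A₂ := h₂.2.2 P hPT
  refine le_trans ?_ A₂
  rw [Subgroup.map_le_iff_le_comap]
  unfold pResidual
  rw [Subgroup.closure_le]
  intro α hα
  have hα' : Nat.Coprime (orderOf α) p := hα
  have hαE : (α : MulAut P) ∈ E₁.autGroup P :=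
    A₁ (Subgroup.mem_map_of_mem _ (Subgroup.subset_closure hα))
  rw [SetLike.mem_coe, Subgroup.mem_comap]
  refine ⟨⟨(α : MulAut P), hαE⟩, Subgroup.subset_closure ?_, rfl⟩
  show Nat.Coprime (orderOf (⟨(α : MulAut P), hαE⟩ : ↥(E₁.autGroup P))) p
  rw [Subgroup.orderOf_mk, Subgroup.orderOf_coe]
  exact hα'

end Cfsg.Agent.S5113P
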