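import Mathlib
import Cfsg.Agent.Helper25.S5165.Defs

/-! S5165 piece NONTRIV (driver helper25): `Bsub ⊓ A(X) ≠ ⊥` when there are at least two little blocks.
Self-contained: `base (single i 1 + single j 1) = base (single i 1) * base (single j 1)` and the two factors are
conjugate under `lift (swap i j)`, so the product is even. -/

set_option autoImplicit false
set_option linter.unusedSectionVars false
set_option linter.unusedVariables false

namespace Cfsg.Agent.S5165P

open Equiv

section chapA

variable {p : ℕ} [Fact p.Prime] {I : Type} [Fintype I] [DecidableEq I] {r : ℕ}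

namespace NONTRIV

theorem base_add' (f g : I → ZMod p) : base (r := r) (f + g) = base f * base g := by
  have h := (baseHom (p := p) (I := I) (r := r)).map_mul (Multiplicative.ofAdd f) (Multiplicative.ofAdd g)
  simpa only [baseHom_apply, toAdd_mul, toAdd_ofAdd] using h

theorem single_swap (i j k : I) :
    (Pi.single i (1 : ZMod p) : I → ZMod p) (Equiv.swap i j k) = (Pi.single j (1 : ZMod p) : I → ZMod p) k := by
  by_cases hkj : k = j
  · subst hkj
    rw [Equiv.swap_apply_right, Pi.single_eq_same, Pi.single_eq_same]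
  · rw [Pi.single_eq_of_ne hkj]
    apply Pi.single_eq_of_ne
    intro h
    apply hkj
    have := congrArg (Equiv.swap i j) h
    rw [Equiv.swap_apply_self, Equiv.swap_apply_left] at this
    exact this

theorem lift_swap_conj (i j : I) :
    lift (Equiv.swap i j) * base (r := r) (Pi.single i (1 : ZMod p)) * (lift (Equiv.swap i j))⁻¹ =
      base (Pi.single j (1 : ZMod p)) := by
  rw [← map_inv, Equiv.swap_inv]
  ext x
  rcases x with ⟨k, y⟩ | k
  · simp only [Equiv.Perm.coe_mul, Function.comp_apply, lift_inl, base_inl]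
    rw [Equiv.swap_apply_self, single_swap]
  · simp only [Equiv.Perm.coe_mul, Function.comp_apply, lift_inr, base_inr]

theorem sign_base_single (i j : I) :
    Equiv.Perm.sign (base (r := r) (Pi.single i (1 : ZMod p))) =
      Equiv.Perm.sign (base (r := r) (Pi.single j (1 : ZMod p))) := by
  rw [← lift_swap_conj (p := p) (r := r) i j, map_mul, map_mul, map_inv]
  rw [mul_comm, ← mul_assoc, inv_mul_cancel, one_mul]

theorem sign_base_pair (i j : I) :
    Equiv.Perm.sign (base (r := r)
      ((Pi.single i (1 : ZMod p) : I → ZMod p) + (Pi.single j (1 : ZMod p) : I → ZMod p))) = 1 := by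
  rw [base_add', map_mul, sign_base_single (p := p) (r := r) i j]
  exact Int.units_mul_self _

theorem base_pair_ne_one {i j : I} (hij : i ≠ j) :
    base (r := r)
      ((Pi.single i (1 : ZMod p) : I → ZMod p) + (Pi.single j (1 : ZMod p) : I → ZMod p)) ≠ 1 := by
  intro h
  have h1 := congrArg (fun g : Perm (X p I r) => g (Sum.inl (i, 0))) h
  simp only [base_inl, Pi.add_apply, Pi.single_eq_same, Pi.single_eq_of_ne hij, add_zero, zero_add,
    Equiv.Perm.coe_one, id_eq, Sum.inl.injEq, Prod.mk.injEq, true_and] at h1
  exact one_ne_zero h1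

end NONTRIV

theorem NONTRIV.ne_bot (hI : 2 ≤ Fintype.card I) :
    Bsub p I r ⊓ alternatingGroup (X p I r) ≠ ⊥ := by
  obtain ⟨i, j, hij⟩ := Fintype.one_lt_card_iff.1 (by omega : 1 < Fintype.card I)
  intro hbot
  have hmem : base (r := r)
      ((Pi.single i (1 : ZMod p) : I → ZMod p) + (Pi.single j (1 : ZMod p) : I → ZMod p)) ∈
      Bsub p I r ⊓ alternatingGroup (X p I r) := by
    refine ⟨mem_Bsub.2 ⟨_, rfl⟩, ?_⟩
    exact Equiv.Perm.mem_alternatingGroup.2 (NONTRIV.sign_base_pair i j)
  rw [hbot, Subgroup.mem_bot] at hmem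
  exact NONTRIV.base_pair_ne_one hij hmem

end chapA

end Cfsg.Agent.S5165P
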