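import Mathlib
import Cfsg.Agent.Helper26.S5320.Defs

/-! S5320 piece GELA (driver helper26): `gE' = emb (y, y) * gE`, and `gE`, `gE'` are `2`-elements. -/

set_option autoImplicit false
set_option linter.unusedSectionVars false
set_option linter.unusedVariables false
set_option linter.unusedSimpArgs false

namespace Cfsg.Agent.S5320P

open Matrix

variable {F : Type*} [Field F]

namespace GELA

/-- `K u 1 = embM u u` (own copy) -/
theorem K_one_right' (u : M2 F) : K u (1 : M2 F) = embM u u := by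
  unfold K embM
  congr 1 <;>
  · ext i j
    fin_cases i <;> fin_cases j <;> simp [Matrix.diagonal_apply, Matrix.one_apply]

theorem qy_mul (h2 : (2 : F) ≠ 0) {a b : F} (hab : a ^ 2 + b ^ 2 = -1) :
    qyM a b * (1 + qiM a b) = 1 + qjM := by
  unfold qyM qiM qjM
  ext i j
  fin_cases i <;> fin_cases j <;>
    simp [Matrix.mul_apply, Fin.sum_univ_two, Matrix.one_apply] <;> field_simp <;>
    first
      | linear_combination (2 : F) * hab
      | linear_combination (-2 : F) * hab
      | linear_combination hab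
      | linear_combination -hab

theorem qiM_sq {a b : F} (hab : a ^ 2 + b ^ 2 = -1) : qiM a b * qiM a b = -1 := by
  unfold qiM
  ext i j
  fin_cases i <;> fin_cases j <;>
    simp [Matrix.mul_apply, Fin.sum_univ_two, Matrix.one_apply] <;>
    first
      | linear_combination hab
      | linear_combination -hab
      | ring

theorem qjM_sq : (qjM : M2 F) * qjM = -1 := by
  unfold qjM
  ext i j
  fin_cases i <;> fin_cases j <;>
    simp [Matrix.mul_apply, Fin.sum_univ_two, Matrix.one_apply]

theorem hM_sq (h2 : (2 : F) ≠ 0) : (hM : M2 F) * hM = (2 : F)⁻¹ • qjM := by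
  unfold hM qjM
  ext i j
  fin_cases i <;> fin_cases j <;>
    simp [Matrix.mul_apply, Fin.sum_univ_two] <;> field_simp <;> ring

theorem one_add_sq {x : M2 F} (hx : x * x = -1) : (1 + x) * (1 + x) = (2 : F) • x := by
  rw [mul_add, add_mul, add_mul, one_mul, mul_one, one_mul, hx, two_smul]
  abel

theorem K_neg_neg (u h : M2 F) : K (-u) (-h) = K u h := by
  have h1 : (-u : M2 F) = (-1 : F) • u := by rw [neg_one_smul]
  have h2 : (-h : M2 F) = (-1 : F) • h := by rw [neg_one_smul]
  rw [h1, h2, K_smul_left, K_smul_right, smul_smul]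
  simp

/-- `K (1 + x) hM` has fourth power `1` when `x² = -1` -/
theorem pow_four (h2 : (2 : F) ≠ 0) {x : M2 F} (hx : x * x = -1) :
    (K (1 + x) (hM : M2 F)) * K (1 + x) hM * (K (1 + x) hM * K (1 + x) hM) = 1 := by
  have e : K (1 + x) (hM : M2 F) * K (1 + x) hM = K x qjM := by
    rw [K_mul, one_add_sq hx, hM_sq h2, K_smul_left, K_smul_right, smul_smul,
      mul_inv_cancel₀ h2, one_smul]
  rw [e, K_mul, hx, qjM_sq, K_neg_neg, K_one]

theorem isTwoElt_of_pow_four {G : Type*} [Group G] (g : G) (h : g * g * (g * g) = 1) :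
    ∃ k : ℕ, orderOf g = 2 ^ k := by
  have h4 : g ^ 4 = 1 := by
    have e : g ^ 4 = g * g * (g * g) := by
      simp [pow_succ, mul_assoc]
    rw [e, h]
  have hd : orderOf g ∣ 2 ^ 2 := by
    have := orderOf_dvd_of_pow_eq_one h4
    simpa using this
  obtain ⟨k, -, hk⟩ := (Nat.dvd_prime_pow Nat.prime_two).1 hd
  exact ⟨k, hk⟩

end GELA

theorem GELA.eq_mul (h2 : (2 : F) ≠ 0) {a b : F} (hab : a ^ 2 + b ^ 2 = -1) :
    (gE' h2 : Gt F) = emb (qy a b hab h2, qy a b hab h2) * gE a b hab h2 := by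
  apply Subtype.ext
  show K (1 + qjM) (hM : M2 F) = embM (qyM a b) (qyM a b) * K (1 + qiM a b) hM
  rw [← GELA.K_one_right', K_mul, one_mul, GELA.qy_mul h2 hab]

theorem GELA.isTwoElt (h2 : (2 : F) ≠ 0) {a b : F} (hab : a ^ 2 + b ^ 2 = -1) :
    (∃ k : ℕ, orderOf (gE a b hab h2) = 2 ^ k) ∧ ∃ k : ℕ, orderOf (gE' h2 : Gt F) = 2 ^ k := by
  constructor
  · apply GELA.isTwoElt_of_pow_four
    apply Subtype.ext
    exact GELA.pow_four h2 (GELA.qiM_sq hab)
  · apply GELA.isTwoElt_of_pow_four
    apply Subtype.ext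
    exact GELA.pow_four h2 GELA.qjM_sq

end Cfsg.Agent.S5320P
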