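import Mathlib
import Cfsg.Agent.Helper23.S5320EMB
import Cfsg.Agent.Helper23.S5320SWMEM

/-! S5320 piece SWCARD (driver helper26): `|Q ≀ 2| = 2 |Q|²`. -/

set_option autoImplicit false
set_option linter.unusedSectionVars false
set_option linter.unusedVariables false
set_option linter.unusedSimpArgs false

namespace Cfsg.Agent.S5320P

open Matrix

variable {F : Type*} [Field F]

namespace SWCARD

theorem card_Bs (Q : Subgroup (L F)) : Nat.card (Bs Q) = Nat.card Q ^ 2 := by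
  unfold Bs
  rw [Subgroup.card_map_of_injective emb_injective, Nat.card_congr (Subgroup.prodEquiv Q Q).toEquiv,
    Nat.card_prod, sq]

theorem coe_SW (Q : Subgroup (L F)) :
    ((SW Q : Subgroup (Gt F)) : Set (Gt F)) =
      (Bs Q : Set (Gt F)) ∪ (fun x => x * (sig : Gt F)) '' (Bs Q : Set (Gt F)) := by
  ext x
  rw [SetLike.mem_coe, mem_SW_iff, Set.mem_union, SetLike.mem_coe, mem_Bs_iff, Set.mem_image]
  constructor
  · rintro ⟨a, ha, b, hb, h1 | h1⟩
    · exact Or.inl ⟨a, ha, b, hb, h1⟩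
    · exact Or.inr ⟨emb (a, b), (mem_Bs_iff Q _).2 ⟨a, ha, b, hb, rfl⟩, h1.symm⟩
  · rintro (⟨a, ha, b, hb, h1⟩ | ⟨y, hy, h1⟩)
    · exact ⟨a, ha, b, hb, Or.inl h1⟩
    · obtain ⟨a, ha, b, hb, h2⟩ := (mem_Bs_iff Q y).1 hy
      exact ⟨a, ha, b, hb, Or.inr (by rw [← h1, h2])⟩

theorem disjoint_Bs (Q : Subgroup (L F)) :
    Disjoint (Bs Q : Set (Gt F)) ((fun x => x * (sig : Gt F)) '' (Bs Q : Set (Gt F))) := by
  rw [Set.disjoint_left]
  rintro x hx ⟨y, hy, h1⟩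
  obtain ⟨a, -, b, -, h2⟩ := (mem_Bs_iff Q x).1 hx
  obtain ⟨c, -, d, -, h3⟩ := (mem_Bs_iff Q y).1 hy
  apply sig_not_mem_range (F := F)
  refine ⟨(c, d)⁻¹ * (a, b), ?_⟩
  rw [map_mul, map_inv, ← h2, ← h3, ← h1]
  group

end SWCARD

/-- SWCARD (M; uses EMB, SWMEM): `|Q ≀ 2| = 2 |Q|²`. -/
theorem card_SW (Q : Subgroup (L F)) [Finite Q] : Nat.card (SW Q) = 2 * Nat.card Q ^ 2 := by
  have hfin : (Bs Q : Set (Gt F)).Finite := by
    have : Finite (Bs Q) := by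
      unfold Bs
      have : Finite (Q.prod Q) := Finite.of_equiv _ (Subgroup.prodEquiv Q Q).toEquiv.symm
      exact Finite.of_surjective (fun x : Q.prod Q => (⟨emb x.1, ⟨x.1, x.2, rfl⟩⟩ : (Q.prod Q).map emb))
        (by
          rintro ⟨y, x, hx, rfl⟩
          exact ⟨⟨x, hx⟩, rfl⟩)
    exact Set.toFinite _
  have h1 : Nat.card (SW Q) = Set.ncard ((SW Q : Subgroup (Gt F)) : Set (Gt F)) := rfl
  have h2 : Nat.card (Bs Q) = Set.ncard ((Bs Q : Subgroup (Gt F)) : Set (Gt F)) := rfl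
  rw [h1, SWCARD.coe_SW, Set.ncard_union_eq (SWCARD.disjoint_Bs Q) hfin (hfin.image _),
    Set.ncard_image_of_injective _ (mul_left_injective (sig : Gt F)), ← h2, SWCARD.card_Bs]
  ring

end Cfsg.Agent.S5320P
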