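import Mathlib
import Cfsg.Prelude.Def_GeometricClasses
import Cfsg.Agent.Helper19.Mono.Defs

/-! S5634 (monomial half, driver helper19): auxiliary lemmas of helper17 for the pieces ALLNZ and BIG
(`A`-supported matrices, diagonal conjugation). -/

set_option autoImplicit false
set_option linter.unusedSectionVars false

namespace Cfsg.Agent.MonoP

open Matrix

variable {ι : Type} [Fintype ι] [DecidableEq ι] {K : Type*} [Field K] [Fintype K]

namespace H17

theorem suppOn_one (A : Finset ι) : SuppOn A (1 : Matrix ι ι K) := fun _ _ _ => rfl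

theorem suppOn_mul {A : Finset ι} {g h : Matrix ι ι K} (hg : SuppOn A g) (hh : SuppOn A h) :
    SuppOn A (g * h) := by
  intro i j hij
  rw [Matrix.mul_apply]
  rcases hij with hi | hj
  · have : ∀ k, g i k * h k j = (1 : Matrix ι ι K) i k * h k j := by
      intro k
      rw [hg i k (Or.inl hi)]
    rw [Finset.sum_congr rfl (fun k _ => this k), ← Matrix.mul_apply, Matrix.one_mul]
    exact hh i j (Or.inl hi)
  · have : ∀ k, g i k * h k j = g i k * (1 : Matrix ι ι K) k j := by
      intro k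
      rw [hh k j (Or.inr hj)]
    rw [Finset.sum_congr rfl (fun k _ => this k), ← Matrix.mul_apply, Matrix.mul_one]
    exact hg i j (Or.inr hj)

theorem val_inv_mul (g : GL ι K) : ((g⁻¹ : GL ι K) : Matrix ι ι K) * (g : Matrix ι ι K) = 1 := by
  rw [← Units.val_mul, inv_mul_cancel, Units.val_one]

theorem val_mul_inv (g : GL ι K) : (g : Matrix ι ι K) * ((g⁻¹ : GL ι K) : Matrix ι ι K) = 1 := by
  rw [← Units.val_mul, mul_inv_cancel, Units.val_one]

theorem suppOn_inv {A : Finset ι} {g : GL ι K} (hg : SuppOn A (g : Matrix ι ι K)) :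
    SuppOn A ((g⁻¹ : GL ι K) : Matrix ι ι K) := by
  intro i j hij
  rcases hij with hi | hj
  · -- row `i` of `g` is `e_i`
    have h1 : ((g : Matrix ι ι K) * ((g⁻¹ : GL ι K) : Matrix ι ι K)) i j = (1 : Matrix ι ι K) i j := by
      rw [val_mul_inv]
    rw [Matrix.mul_apply] at h1
    have : ∀ k, (g : Matrix ι ι K) i k * ((g⁻¹ : GL ι K) : Matrix ι ι K) k j =
        (1 : Matrix ι ι K) i k * ((g⁻¹ : GL ι K) : Matrix ι ι K) k j := by
      intro k
      rw [hg i k (Or.inl hi)]
    rw [Finset.sum_congr rfl (fun k _ => this k), ← Matrix.mul_apply, Matrix.one_mul] at h1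
    exact h1
  · have h1 : (((g⁻¹ : GL ι K) : Matrix ι ι K) * (g : Matrix ι ι K)) i j = (1 : Matrix ι ι K) i j := by
      rw [val_inv_mul]
    rw [Matrix.mul_apply] at h1
    have : ∀ k, ((g⁻¹ : GL ι K) : Matrix ι ι K) i k * (g : Matrix ι ι K) k j =
        ((g⁻¹ : GL ι K) : Matrix ι ι K) i k * (1 : Matrix ι ι K) k j := by
      intro k
      rw [hg k j (Or.inr hj)]
    rw [Finset.sum_congr rfl (fun k _ => this k), ← Matrix.mul_apply, Matrix.mul_one] at h1
    exact h1

theorem suppOn_diagonal {A : Finset ι} {d : ι → K} (hd : ∀ i, i ∉ A → d i = 1) :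
    SuppOn A (Matrix.diagonal d) := by
  intro i j hij
  by_cases h : i = j
  · subst h
    rw [Matrix.diagonal_apply_eq, Matrix.one_apply_eq]
    rcases hij with hi | hi <;> exact hd i hi
  · rw [Matrix.diagonal_apply_ne _ h, Matrix.one_apply_ne h]

theorem isMono_diagonal (d : ι → K) : IsMono (Matrix.diagonal d) :=
  ⟨1, fun i j hij => Matrix.diagonal_apply_ne _ (by simpa using hij)⟩

theorem dg_mem {H : Subgroup (GL ι K)} (hmon : MonoLE H) (d : ι → Kˣ) : dg d ∈ H :=
  hmon _ (by rw [dg_val]; exact isMono_diagonal _)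

theorem suppOn_dg {A : Finset ι} {d : ι → Kˣ} (hd : ∀ i, i ∉ A → d i = 1) :
    SuppOn A ((dg d : GL ι K) : Matrix ι ι K) := by
  rw [dg_val]
  apply suppOn_diagonal
  intro i hi
  rw [hd i hi, Units.val_one]

/-- entries of a conjugate of a diagonal matrix -/
theorem conj_diag_apply (g h : Matrix ι ι K) (d : ι → K) (i k : ι) :
    (g * Matrix.diagonal d * h) i k = ∑ r, g i r * d r * h r k := by
  rw [Matrix.mul_apply]
  apply Finset.sum_congr rfl
  intro r _
  rw [Matrix.mul_diagonal]

/-- the columns of an invertible matrix are linearly independent -/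
theorem eq_zero_of_mulVec (g : GL ι K) {a : ι → K} (h : (g : Matrix ι ι K) *ᵥ a = 0) : a = 0 := by
  have := congrArg (fun v => ((g⁻¹ : GL ι K) : Matrix ι ι K) *ᵥ v) h
  simp only [Matrix.mulVec_mulVec, val_inv_mul, Matrix.one_mulVec, Matrix.mulVec_zero] at this
  exact this

/-- the rows of an invertible matrix are non-zero -/
theorem exists_row_ne_zero (g : GL ι K) (i : ι) : ∃ j, (g : Matrix ι ι K) i j ≠ 0 := by
  by_contra h
  push Not at h
  have h1 : ((g : Matrix ι ι K) * ((g⁻¹ : GL ι K) : Matrix ι ι K)) i i = 1 := by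
    rw [val_mul_inv, Matrix.one_apply_eq]
  rw [Matrix.mul_apply] at h1
  simp only [h, zero_mul, Finset.sum_const_zero] at h1
  exact zero_ne_one h1

/-- in a monomial matrix, two non-zero entries of a row are in the same column -/
theorem col_eq_of_isMono {x : Matrix ι ι K} (hx : IsMono x) {i k₁ k₂ : ι} (h1 : x i k₁ ≠ 0)
    (h2 : x i k₂ ≠ 0) : k₁ = k₂ := by
  obtain ⟨σ, hσ⟩ := hx
  have e1 : i = σ k₁ := by
    by_contra h
    exact h1 (hσ i k₁ h)
  have e2 : i = σ k₂ := by
    by_contra h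
    exact h2 (hσ i k₂ h)
  exact σ.injective (e1.symm.trans e2)

/-- in a monomial matrix, two non-zero entries of a column are in the same row -/
theorem row_eq_of_isMono {x : Matrix ι ι K} (hx : IsMono x) {i₁ i₂ k : ι} (h1 : x i₁ k ≠ 0)
    (h2 : x i₂ k ≠ 0) : i₁ = i₂ := by
  obtain ⟨σ, hσ⟩ := hx
  have e1 : i₁ = σ k := by
    by_contra h
    exact h1 (hσ i₁ k h)
  have e2 : i₂ = σ k := by
    by_contra h
    exact h2 (hσ i₂ k h)
  exact e1.trans e2.symm

end H17

end Cfsg.Agent.MonoP
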