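import Mathlib
import Cfsg.Prelude.Def_GeometricClasses
import Cfsg.Agent.Helper19.Mono.Defs
import Cfsg.Agent.Helper17.S5634MonoLib

/-! S5634 piece ALLNZ (driver helper19): all entries of a non-monomial `A`-supported `g ∈ H` inside the
`A × A` block are non-zero. -/

set_option autoImplicit false
set_option linter.unusedSectionVars false

namespace Cfsg.Agent.MonoP

open Matrix

variable {ι : Type} [Fintype ι] [DecidableEq ι] {K : Type*} [Field K] [Fintype K]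

namespace ALLNZ

/-- step (1): conjugating a diagonal matrix fixing column `j` gives a monomial matrix -/
theorem star {H : Subgroup (GL ι K)} (hmon : MonoLE H) {A : Finset ι}
    (hB : ∀ y : GL ι K, y ∈ H → SuppOn A (y : Matrix ι ι K) →
      (∃ k ∈ A, ∃ k' : ι, ∀ i, i ≠ k' → (y : Matrix ι ι K) i k = 0) → IsMono (y : Matrix ι ι K))
    {g : GL ι K} (hg : g ∈ H) (hA : SuppOn A (g : Matrix ι ι K)) {j : ι} (hj : j ∈ A)
    (d : ι → Kˣ) (hd1 : ∀ i, (g : Matrix ι ι K) i j ≠ 0 → d i = 1) (hd2 : ∀ i, i ∉ A → d i = 1) :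
    ∃ (σ : Equiv.Perm ι) (y : Matrix ι ι K), ∀ i k,
      ((d i : Kˣ) : K) * (g : Matrix ι ι K) i k = (g : Matrix ι ι K) i (σ k) * y (σ k) k := by
  obtain ⟨yy, hyy⟩ : ∃ yy : GL ι K, yy = g⁻¹ * dg d * g := ⟨_, rfl⟩
  have hyH : yy ∈ H := by
    rw [hyy]
    exact H.mul_mem (H.mul_mem (H.inv_mem hg) (H17.dg_mem hmon d)) hg
  have hyA : SuppOn A (yy : Matrix ι ι K) := by
    rw [hyy, Units.val_mul, Units.val_mul]
    exact H17.suppOn_mul (H17.suppOn_mul (H17.suppOn_inv hA) (H17.suppOn_dg hd2)) hA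
  have hcol : ∀ i, i ≠ j → (yy : Matrix ι ι K) i j = 0 := by
    intro i hij
    rw [hyy, Units.val_mul, Units.val_mul, dg_val, H17.conj_diag_apply]
    have : ∀ r, ((g⁻¹ : GL ι K) : Matrix ι ι K) i r * ((d r : Kˣ) : K) * (g : Matrix ι ι K) r j =
        ((g⁻¹ : GL ι K) : Matrix ι ι K) i r * (g : Matrix ι ι K) r j := by
      intro r
      by_cases h : (g : Matrix ι ι K) r j = 0
      · rw [h, mul_zero, mul_zero]
      · rw [hd1 r h, Units.val_one, mul_one]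
    rw [Finset.sum_congr rfl (fun r _ => this r), ← Matrix.mul_apply, H17.val_inv_mul,
      Matrix.one_apply_ne hij]
  obtain ⟨σ, hσ⟩ := hB yy hyH hyA ⟨j, hj, j, hcol⟩
  refine ⟨σ, (yy : Matrix ι ι K), ?_⟩
  intro i k
  have h1 : ((dg d : GL ι K) : Matrix ι ι K) * (g : Matrix ι ι K) =
      (g : Matrix ι ι K) * (yy : Matrix ι ι K) := by
    rw [hyy, Units.val_mul, Units.val_mul, ← Matrix.mul_assoc, ← Matrix.mul_assoc,
      H17.val_mul_inv, Matrix.one_mul]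
  have h2 := congrFun (congrFun h1 i) k
  rw [dg_val, Matrix.diagonal_mul, Matrix.mul_apply] at h2
  rw [h2]
  apply Finset.sum_eq_single (σ k)
  · intro m _ hm
    rw [hσ m k hm, mul_zero]
  · intro h
    exact absurd (Finset.mem_univ _) h

/-- step (1) for `d1 i₀ η` -/
theorem col {H : Subgroup (GL ι K)} (hmon : MonoLE H) {A : Finset ι}
    (hB : ∀ y : GL ι K, y ∈ H → SuppOn A (y : Matrix ι ι K) →
      (∃ k ∈ A, ∃ k' : ι, ∀ i, i ≠ k' → (y : Matrix ι ι K) i k = 0) → IsMono (y : Matrix ι ι K))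
    {g : GL ι K} (hg : g ∈ H) (hA : SuppOn A (g : Matrix ι ι K)) {j : ι} (hj : j ∈ A) (k : ι)
    {i₀ : ι} (hi₀A : i₀ ∈ A) (h0j : (g : Matrix ι ι K) i₀ j = 0) (η : Kˣ) :
    ∃ (m : ι) (c : K), (∀ i, i ≠ i₀ → (g : Matrix ι ι K) i k = (g : Matrix ι ι K) i m * c) ∧
      (η : K) * (g : Matrix ι ι K) i₀ k = (g : Matrix ι ι K) i₀ m * c := by
  obtain ⟨σ, y, h⟩ := star hmon hB hg hA hj (Function.update (fun _ => (1 : Kˣ)) i₀ η)
    (by
      intro i hi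
      have : i ≠ i₀ := by
        rintro rfl
        exact hi h0j
      rw [Function.update_of_ne this])
    (by
      intro i hi
      have : i ≠ i₀ := by
        rintro rfl
        exact hi hi₀A
      rw [Function.update_of_ne this])
  refine ⟨σ k, y (σ k) k, ?_, ?_⟩
  · intro i hi
    have := h i k
    rw [Function.update_of_ne hi, Units.val_one, one_mul] at this
    exact this
  · have := h i₀ k
    rw [Function.update_self] at this
    exact this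

/-- step (2): the supports of the columns in `A` are nested -/
theorem sub (hK : 4 ≤ Fintype.card K) {H : Subgroup (GL ι K)} (hmon : MonoLE H) {A : Finset ι}
    (hB : ∀ y : GL ι K, y ∈ H → SuppOn A (y : Matrix ι ι K) →
      (∃ k ∈ A, ∃ k' : ι, ∀ i, i ≠ k' → (y : Matrix ι ι K) i k = 0) → IsMono (y : Matrix ι ι K))
    {g : GL ι K} (hg : g ∈ H) (hA : SuppOn A (g : Matrix ι ι K))
    (hnm : ¬ IsMono (g : Matrix ι ι K)) {j k : ι} (hj : j ∈ A) (hk : k ∈ A) {i₀ : ι}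
    (h0k : (g : Matrix ι ι K) i₀ k ≠ 0) : (g : Matrix ι ι K) i₀ j ≠ 0 := by
  classical
  intro h0j
  have hi₀A : i₀ ∈ A := by
    by_contra h
    have := hA i₀ k (Or.inl h)
    rw [this, Matrix.one_apply_ne (fun e : i₀ = k => h (e.symm ▸ hk))] at h0k
    exact h0k rfl
  obtain ⟨i₁, hi₁0, hi₁⟩ : ∃ i₁, i₁ ≠ i₀ ∧ (g : Matrix ι ι K) i₁ k ≠ 0 := by
    by_contra h
    push Not at h
    exact hnm (hB g hg hA ⟨k, hk, i₀, h⟩)
  obtain ⟨η₁, η₂, η₃, h12, h13, h23⟩ : ∃ a b c : Kˣ, a ≠ b ∧ a ≠ c ∧ b ≠ c := by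
    apply Fintype.two_lt_card_iff.1
    rw [Fintype.card_units]
    omega
  obtain ⟨m₁, c₁, ha₁, hb₁⟩ := col hmon hB hg hA hj k hi₀A h0j η₁
  obtain ⟨m₂, c₂, ha₂, hb₂⟩ := col hmon hB hg hA hj k hi₀A h0j η₂
  obtain ⟨m₃, c₃, ha₃, hb₃⟩ := col hmon hB hg hA hj k hi₀A h0j η₃
  -- distinct units give distinct columns
  have hdist : ∀ (η η' : Kˣ) (m m' : ι) (c c' : K),
      (∀ i, i ≠ i₀ → (g : Matrix ι ι K) i k = (g : Matrix ι ι K) i m * c) →
      (η : K) * (g : Matrix ι ι K) i₀ k = (g : Matrix ι ι K) i₀ m * c →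
      (∀ i, i ≠ i₀ → (g : Matrix ι ι K) i k = (g : Matrix ι ι K) i m' * c') →
      (η' : K) * (g : Matrix ι ι K) i₀ k = (g : Matrix ι ι K) i₀ m' * c' → η ≠ η' → m ≠ m' := by
    intro η η' m m' c c' ha hb ha' hb' hne hm
    subst hm
    have e1 := ha i₁ hi₁0
    have e2 := ha' i₁ hi₁0
    have hgm : (g : Matrix ι ι K) i₁ m ≠ 0 := by
      intro h
      rw [h, zero_mul] at e1
      exact hi₁ e1
    have hcc : c = c' := by
      rw [e1] at e2
      exact mul_left_cancel₀ hgm e2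
    rw [hcc] at hb
    rw [← hb'] at hb
    have := mul_right_cancel₀ h0k hb
    exact hne (Units.ext this)
  have hm12 : m₁ ≠ m₂ := hdist η₁ η₂ m₁ m₂ c₁ c₂ ha₁ hb₁ ha₂ hb₂ h12
  have hm13 : m₁ ≠ m₃ := hdist η₁ η₃ m₁ m₃ c₁ c₃ ha₁ hb₁ ha₃ hb₃ h13
  have hm23 : m₂ ≠ m₃ := hdist η₂ η₃ m₂ m₃ c₂ c₃ ha₂ hb₂ ha₃ hb₃ h23
  have hc₁ : c₁ ≠ 0 := by
    intro h
    have := ha₁ i₁ hi₁0
    rw [h, mul_zero] at this
    exact hi₁ this
  -- the linear relation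
  obtain ⟨β₁, hβ₁⟩ : ∃ β₁ : K, β₁ = (η₂ : K) - η₃ := ⟨_, rfl⟩
  obtain ⟨β₂, hβ₂⟩ : ∃ β₂ : K, β₂ = (η₃ : K) - η₁ := ⟨_, rfl⟩
  obtain ⟨β₃, hβ₃⟩ : ∃ β₃ : K, β₃ = (η₁ : K) - η₂ := ⟨_, rfl⟩
  have hβ₁0 : β₁ ≠ 0 := by
    rw [hβ₁]
    intro h
    exact h23 (Units.ext (sub_eq_zero.1 h))
  have hrel : ∀ i, β₁ * c₁ * (g : Matrix ι ι K) i m₁ + β₂ * c₂ * (g : Matrix ι ι K) i m₂ +
      β₃ * c₃ * (g : Matrix ι ι K) i m₃ = 0 := by
    intro i
    by_cases hi : i = i₀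
    · subst hi
      have : β₁ * c₁ * (g : Matrix ι ι K) i m₁ + β₂ * c₂ * (g : Matrix ι ι K) i m₂ +
          β₃ * c₃ * (g : Matrix ι ι K) i m₃ =
          β₁ * ((g : Matrix ι ι K) i m₁ * c₁) + β₂ * ((g : Matrix ι ι K) i m₂ * c₂) +
          β₃ * ((g : Matrix ι ι K) i m₃ * c₃) := by ring
      rw [this, ← hb₁, ← hb₂, ← hb₃, hβ₁, hβ₂, hβ₃]
      ring
    · have : β₁ * c₁ * (g : Matrix ι ι K) i m₁ + β₂ * c₂ * (g : Matrix ι ι K) i m₂ +
          β₃ * c₃ * (g : Matrix ι ι K) i m₃ =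
          β₁ * ((g : Matrix ι ι K) i m₁ * c₁) + β₂ * ((g : Matrix ι ι K) i m₂ * c₂) +
          β₃ * ((g : Matrix ι ι K) i m₃ * c₃) := by ring
      rw [this, ← ha₁ i hi, ← ha₂ i hi, ← ha₃ i hi, hβ₁, hβ₂, hβ₃]
      ring
  obtain ⟨a, hadef⟩ : ∃ a : ι → K, a = fun m =>
      (if m = m₁ then β₁ * c₁ else 0) + (if m = m₂ then β₂ * c₂ else 0) +
        (if m = m₃ then β₃ * c₃ else 0) := ⟨_, rfl⟩
  have hga : (g : Matrix ι ι K) *ᵥ a = 0 := by
    funext i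
    rw [Matrix.mulVec, dotProduct, hadef]
    simp only [mul_add, mul_ite, mul_zero, Finset.sum_add_distrib, Finset.sum_ite_eq',
      Finset.mem_univ, if_true, Pi.zero_apply]
    rw [← hrel i]
    ring
  have ha0 := H17.eq_zero_of_mulVec g hga
  have := congrFun ha0 m₁
  rw [hadef] at this
  simp only [if_true, if_neg hm12, if_neg hm13, add_zero, Pi.zero_apply] at this
  rcases mul_eq_zero.1 this with h | h
  · exact hβ₁0 h
  · exact hc₁ h

end ALLNZ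

/-- ALLNZ (L): all entries of a non-monomial `A`-supported `g ∈ H` inside the `A × A` block are non-zero. -/
theorem ALLNZ.ne_zero (hK : 4 ≤ Fintype.card K) (H : Subgroup (GL ι K)) (hmon : MonoLE H) (A : Finset ι)
    (hB : ∀ y : GL ι K, y ∈ H → SuppOn A (y : Matrix ι ι K) →
      (∃ k ∈ A, ∃ k' : ι, ∀ i, i ≠ k' → (y : Matrix ι ι K) i k = 0) → IsMono (y : Matrix ι ι K))
    (g : GL ι K) (hg : g ∈ H) (hA : SuppOn A (g : Matrix ι ι K)) (hnm : ¬ IsMono (g : Matrix ι ι K)) :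
    ∀ i ∈ A, ∀ k ∈ A, (g : Matrix ι ι K) i k ≠ 0 := by
  intro i hi k hk
  obtain ⟨j', hj'⟩ := H17.exists_row_ne_zero g i
  have hj'A : j' ∈ A := by
    by_contra h
    have := hA i j' (Or.inr h)
    rw [this, Matrix.one_apply_ne (fun e : i = j' => h (e ▸ hi))] at hj'
    exact hj' rfl
  exact ALLNZ.sub hK hmon hB hg hA hnm hk hj'A hj'

end Cfsg.Agent.MonoP
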