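import Mathlib
import Cfsg.Prelude.Def_GeometricClasses
import Cfsg.Agent.Helper19.Mono.Defs
import Cfsg.Agent.Helper24.S5634DUAL
import Cfsg.Agent.Helper17.S5634MonoLib

/-! S5634 piece BIG (driver helper19): a non-monomial `A`-supported element with `|A| ≥ 3` is impossible
when all non-monomial `A`-supported elements have no zero in the block. -/

set_option autoImplicit false
set_option linter.unusedSectionVars false

namespace Cfsg.Agent.MonoP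

open Matrix

variable {ι : Type} [Fintype ι] [DecidableEq ι] {K : Type*} [Field K] [Fintype K]

namespace BIG

/-- entries of `g * dg d * g⁻¹` -/
theorem conj_apply (g : GL ι K) (d : ι → Kˣ) (i k : ι) :
    ((g * dg d * g⁻¹ : GL ι K) : Matrix ι ι K) i k = (1 : Matrix ι ι K) i k +
      ∑ r, (((d r : Kˣ) : K) - 1) *
        ((g : Matrix ι ι K) i r * ((g⁻¹ : GL ι K) : Matrix ι ι K) r k) := by
  rw [Units.val_mul, Units.val_mul, dg_val, H17.conj_diag_apply]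
  have : ∀ r, (g : Matrix ι ι K) i r * ((d r : Kˣ) : K) * ((g⁻¹ : GL ι K) : Matrix ι ι K) r k =
      (g : Matrix ι ι K) i r * ((g⁻¹ : GL ι K) : Matrix ι ι K) r k +
        (((d r : Kˣ) : K) - 1) * ((g : Matrix ι ι K) i r * ((g⁻¹ : GL ι K) : Matrix ι ι K) r k) := by
    intro r
    ring
  rw [Finset.sum_congr rfl (fun r _ => this r), Finset.sum_add_distrib, ← Matrix.mul_apply,
    H17.val_mul_inv]

theorem conj_mem {H : Subgroup (GL ι K)} (hmon : MonoLE H) {g : GL ι K} (hg : g ∈ H)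
    (d : ι → Kˣ) : g * dg d * g⁻¹ ∈ H :=
  H.mul_mem (H.mul_mem hg (H17.dg_mem hmon d)) (H.inv_mem hg)

theorem conj_suppOn {A : Finset ι} {g : GL ι K} (hA : SuppOn A (g : Matrix ι ι K))
    {d : ι → Kˣ} (hd : ∀ i, i ∉ A → d i = 1) :
    SuppOn A ((g * dg d * g⁻¹ : GL ι K) : Matrix ι ι K) := by
  rw [Units.val_mul, Units.val_mul]
  exact H17.suppOn_mul (H17.suppOn_mul hA (H17.suppOn_dg hd)) (H17.suppOn_inv hA)

/-- a good parameter -/
theorem exists_tau (hK : 5 ≤ Fintype.card K) (a b a' b' : K) (hb : b ≠ 0) (hb' : b' ≠ 0) :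
    ∃ τ : K, τ ≠ 0 ∧ τ ≠ 1 ∧ τ * a - b ≠ 0 ∧ τ * a' - b' ≠ 0 := by
  classical
  have hcard : ({0, 1, b / a, b' / a'} : Finset K).card < (Finset.univ : Finset K).card := by
    rw [Finset.card_univ]
    exact lt_of_le_of_lt Finset.card_le_four (by omega)
  obtain ⟨τ, -, hτ⟩ := Finset.exists_mem_notMem_of_card_lt_card hcard
  simp only [Finset.mem_insert, Finset.mem_singleton, not_or] at hτ
  obtain ⟨h0, h1, h2, h3⟩ := hτ
  refine ⟨τ, h0, h1, ?_, ?_⟩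
  · intro h
    by_cases ha : a = 0
    · rw [ha, mul_zero, zero_sub, neg_eq_zero] at h
      exact hb h
    · apply h2
      rw [eq_div_iff ha]
      exact sub_eq_zero.1 h
  · intro h
    by_cases ha : a' = 0
    · rw [ha, mul_zero, zero_sub, neg_eq_zero] at h
      exact hb' h
    · apply h3
      rw [eq_div_iff ha]
      exact sub_eq_zero.1 h

end BIG

/-- BIG (L): `|A| ≥ 3` is impossible. -/
theorem BIG.false (hK : 5 ≤ Fintype.card K) (H : Subgroup (GL ι K)) (hmon : MonoLE H) (A : Finset ι)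
    (h3 : 3 ≤ A.card)
    (hNZ : ∀ y : GL ι K, y ∈ H → SuppOn A (y : Matrix ι ι K) → ¬ IsMono (y : Matrix ι ι K) →
      ∀ i ∈ A, ∀ k ∈ A, (y : Matrix ι ι K) i k ≠ 0)
    (g : GL ι K) (hg : g ∈ H) (hA : SuppOn A (g : Matrix ι ι K)) (hnm : ¬ IsMono (g : Matrix ι ι K)) :
    False := by
  classical
  obtain ⟨a₁, a₂, a₃, ha₁, ha₂, ha₃, h12, h13, h23⟩ :=
    Finset.two_lt_card_iff.1 (by omega : 2 < A.card)
  have hg' : g⁻¹ ∈ H := H.inv_mem hg
  have hA' : SuppOn A ((g⁻¹ : GL ι K) : Matrix ι ι K) := H17.suppOn_inv hA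
  have hnm' : ¬ IsMono ((g⁻¹ : GL ι K) : Matrix ι ι K) := fun h => hnm ((DUAL.isMono_inv g).1 h)
  have hnz := hNZ g hg hA hnm
  have hnz' := hNZ g⁻¹ hg' hA' hnm'
  -- `λ_{ir} = 1`
  have hlam : ∀ i ∈ A, ∀ r ∈ A,
      (g : Matrix ι ι K) i r * ((g⁻¹ : GL ι K) : Matrix ι ι K) r i = 1 := by
    intro i hi r hr
    by_contra hne
    obtain ⟨lam, hlamdef⟩ : ∃ lam : K,
      lam = (g : Matrix ι ι K) i r * ((g⁻¹ : GL ι K) : Matrix ι ι K) r i := ⟨_, rfl⟩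
    rw [← hlamdef] at hne
    have hlam0 : lam ≠ 0 := by
      rw [hlamdef]
      exact mul_ne_zero (hnz i hi r hr) (hnz' r hr i hi)
    have hε0 : 1 - lam⁻¹ ≠ 0 := by
      intro h
      apply hne
      have h1 : lam⁻¹ = 1 := (sub_eq_zero.1 h).symm
      have h2 := inv_inv lam
      rw [h1, inv_one] at h2
      exact h2.symm
    obtain ⟨ε, hεdef⟩ : ∃ ε : Kˣ, ε = Units.mk0 _ hε0 := ⟨_, rfl⟩
    have hεval : ((ε : Kˣ) : K) - 1 = -lam⁻¹ := by
      rw [hεdef, Units.val_mk0]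
      ring
    have hε1 : ((ε : Kˣ) : K) - 1 ≠ 0 := by
      rw [hεval]
      exact neg_ne_zero.2 (inv_ne_zero hlam0)
    obtain ⟨d, hddef⟩ : ∃ d : ι → Kˣ, d = Function.update (fun _ => (1 : Kˣ)) r ε := ⟨_, rfl⟩
    have hd : ∀ i, i ∉ A → d i = 1 := by
      intro i' hi'
      have : i' ≠ r := by
        rintro rfl
        exact hi' hr
      rw [hddef, Function.update_of_ne this]
    have hxH := BIG.conj_mem hmon hg d
    have hxA := BIG.conj_suppOn hA hd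
    have hx : ∀ i' k', ((g * dg d * g⁻¹ : GL ι K) : Matrix ι ι K) i' k' = (1 : Matrix ι ι K) i' k' +
        (((ε : Kˣ) : K) - 1) *
          ((g : Matrix ι ι K) i' r * ((g⁻¹ : GL ι K) : Matrix ι ι K) r k') := by
      intro i' k'
      rw [BIG.conj_apply]
      congr 1
      rw [Fintype.sum_eq_single r]
      · rw [hddef, Function.update_self]
      · intro r' hr'
        rw [hddef, Function.update_of_ne hr', Units.val_one, sub_self, zero_mul]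
    have hxnm : ¬ IsMono ((g * dg d * g⁻¹ : GL ι K) : Matrix ι ι K) := by
      intro hm
      have e1 : ((g * dg d * g⁻¹ : GL ι K) : Matrix ι ι K) a₁ a₂ ≠ 0 := by
        rw [hx, Matrix.one_apply_ne h12, zero_add]
        exact mul_ne_zero hε1 (mul_ne_zero (hnz a₁ ha₁ r hr) (hnz' r hr a₂ ha₂))
      have e2 : ((g * dg d * g⁻¹ : GL ι K) : Matrix ι ι K) a₁ a₃ ≠ 0 := by
        rw [hx, Matrix.one_apply_ne h13, zero_add]
        exact mul_ne_zero hε1 (mul_ne_zero (hnz a₁ ha₁ r hr) (hnz' r hr a₃ ha₃))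
      exact h23 (H17.col_eq_of_isMono hm e1 e2)
    apply hNZ _ hxH hxA hxnm i hi i hi
    rw [hx, Matrix.one_apply_eq, ← hlamdef, hεval, neg_mul, inv_mul_cancel₀ hlam0]
    ring
  -- the second conjugation
  obtain ⟨c₁, hc₁⟩ : ∃ c : K,
    c = (g : Matrix ι ι K) a₁ a₁ * ((g⁻¹ : GL ι K) : Matrix ι ι K) a₁ a₂ := ⟨_, rfl⟩
  obtain ⟨c₂, hc₂⟩ : ∃ c : K,
    c = (g : Matrix ι ι K) a₁ a₂ * ((g⁻¹ : GL ι K) : Matrix ι ι K) a₂ a₂ := ⟨_, rfl⟩
  obtain ⟨c₁', hc₁'⟩ : ∃ c : K,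
    c = (g : Matrix ι ι K) a₁ a₁ * ((g⁻¹ : GL ι K) : Matrix ι ι K) a₁ a₃ := ⟨_, rfl⟩
  obtain ⟨c₂', hc₂'⟩ : ∃ c : K,
    c = (g : Matrix ι ι K) a₁ a₂ * ((g⁻¹ : GL ι K) : Matrix ι ι K) a₂ a₃ := ⟨_, rfl⟩
  have hc₁0 : c₁ ≠ 0 := by
    rw [hc₁]; exact mul_ne_zero (hnz a₁ ha₁ a₁ ha₁) (hnz' a₁ ha₁ a₂ ha₂)
  have hc₁'0 : c₁' ≠ 0 := by
    rw [hc₁']; exact mul_ne_zero (hnz a₁ ha₁ a₁ ha₁) (hnz' a₁ ha₁ a₃ ha₃)
  obtain ⟨τ, hτ0, hτ1, hτa, hτb⟩ := BIG.exists_tau hK (c₁ - c₂) c₁ (c₁' - c₂') c₁' hc₁0 hc₁'0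
  have hτ1' : 1 - τ ≠ 0 := fun h => hτ1 (sub_eq_zero.1 h).symm
  obtain ⟨d, hddef⟩ : ∃ d : ι → Kˣ, d = Function.update
    (Function.update (fun _ => (1 : Kˣ)) a₁ (Units.mk0 τ hτ0)) a₂ (Units.mk0 (1 - τ) hτ1') :=
    ⟨_, rfl⟩
  have hd : ∀ i, i ∉ A → d i = 1 := by
    intro i' hi'
    have e1 : i' ≠ a₁ := by
      rintro rfl
      exact hi' ha₁
    have e2 : i' ≠ a₂ := by
      rintro rfl
      exact hi' ha₂
    rw [hddef, Function.update_of_ne e2, Function.update_of_ne e1]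
  have hd1 : ((d a₁ : Kˣ) : K) = τ := by
    rw [hddef, Function.update_of_ne h12, Function.update_self, Units.val_mk0]
  have hd2 : ((d a₂ : Kˣ) : K) = 1 - τ := by
    rw [hddef, Function.update_self, Units.val_mk0]
  have hxH := BIG.conj_mem hmon hg d
  have hxA := BIG.conj_suppOn hA hd
  have hx : ∀ i' k', ((g * dg d * g⁻¹ : GL ι K) : Matrix ι ι K) i' k' = (1 : Matrix ι ι K) i' k' +
      ((τ - 1) * ((g : Matrix ι ι K) i' a₁ * ((g⁻¹ : GL ι K) : Matrix ι ι K) a₁ k') +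
        (1 - τ - 1) * ((g : Matrix ι ι K) i' a₂ * ((g⁻¹ : GL ι K) : Matrix ι ι K) a₂ k')) := by
    intro i' k'
    rw [BIG.conj_apply]
    congr 1
    rw [Fintype.sum_eq_add a₁ a₂ h12]
    · rw [hd1, hd2]
    · intro r' hr'
      rw [hddef, Function.update_of_ne hr'.2, Function.update_of_ne hr'.1, Units.val_one, sub_self,
        zero_mul]
  have e1 : ((g * dg d * g⁻¹ : GL ι K) : Matrix ι ι K) a₁ a₂ ≠ 0 := by
    rw [hx, Matrix.one_apply_ne h12, zero_add, ← hc₁, ← hc₂]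
    intro h
    apply hτa
    rw [← h]
    ring
  have e2 : ((g * dg d * g⁻¹ : GL ι K) : Matrix ι ι K) a₁ a₃ ≠ 0 := by
    rw [hx, Matrix.one_apply_ne h13, zero_add, ← hc₁', ← hc₂']
    intro h
    apply hτb
    rw [← h]
    ring
  have hxnm : ¬ IsMono ((g * dg d * g⁻¹ : GL ι K) : Matrix ι ι K) :=
    fun hm => h23 (H17.col_eq_of_isMono hm e1 e2)
  apply hNZ _ hxH hxA hxnm a₁ ha₁ a₁ ha₁
  rw [hx, Matrix.one_apply_eq, hlam a₁ ha₁ a₁ ha₁, hlam a₁ ha₁ a₂ ha₂]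
  ring

end Cfsg.Agent.MonoP
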