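import Cfsg.Agent.Helper24.S5637.Defs

set_option autoImplicit false
set_option linter.unusedSectionVars false
set_option linter.unusedVariables false

/-! # S5637 piece ALG3 -/

namespace Cfsg.Agent.S5637P

open Matrix Kronecker Cfsg.Agent.Helper28.SLMax Cfsg.Agent.S5634P
open scoped MatrixGroups

variable {F : Type*} [Field F] {n a b : ℕ} (e : Fin n ≃ Fin a × Fin b)

/-- private copy of EXPERP2: two linear conditions on `F^m`, `m ≥ 3`, have a non-zero solution. -/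
theorem ALG3.experp2 {m : ℕ} (hm : 3 ≤ m) (x y : Fin m → F) :
    ∃ ψ : Fin m → F, ψ ≠ 0 ∧ ψ ⬝ᵥ x = 0 ∧ ψ ⬝ᵥ y = 0 := by
  let f : (Fin m → F) →ₗ[F] (Fin 2 → F) :=
    { toFun := fun ψ => ![ψ ⬝ᵥ x, ψ ⬝ᵥ y]
      map_add' := by
        intro ψ φ
        ext i
        fin_cases i <;> simp [add_dotProduct]
      map_smul' := by
        intro c ψ
        ext i
        fin_cases i <;> simp [smul_dotProduct] }
  have hlt : Module.finrank F (Fin 2 → F) < Module.finrank F (Fin m → F) := by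
    rw [Module.finrank_fin_fun, Module.finrank_fin_fun]
    omega
  have hker : LinearMap.ker f ≠ ⊥ := LinearMap.ker_ne_bot_of_finrank_lt hlt
  obtain ⟨ψ, hψ, hne⟩ := (Submodule.ne_bot_iff _).1 hker
  refine ⟨ψ, hne, ?_, ?_⟩
  · have := congrFun (LinearMap.mem_ker.1 hψ) 0
    simpa [f] using this
  · have := congrFun (LinearMap.mem_ker.1 hψ) 1
    simpa [f] using this

/-- conjugation of a matrix by `E u μ` with `μ u = 0`. -/
theorem ALG3.conj_formula (A : Matrix (Fin a) (Fin a) F) (u μ : Fin a → F) :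
    E u μ * A * E (-u) μ = A + vecMulVec u (μ ᵥ* A) - vecMulVec (A *ᵥ u) μ
      - (μ ⬝ᵥ (A *ᵥ u)) • vecMulVec u μ := by
  unfold E
  rw [Matrix.add_mul, Matrix.one_mul, Matrix.mul_add, Matrix.mul_one, Matrix.add_mul,
    Matrix.vecMulVec_mul, Matrix.mul_vecMulVec, Matrix.vecMulVec_mul_vecMulVec]
  simp only [Matrix.mulVec_neg, Matrix.vecMulVec_neg, Matrix.neg_vecMulVec, dotProduct_neg,
    Matrix.dotProduct_mulVec, neg_smul, Matrix.vecMulVec_smul]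
  abel

theorem ALG3 (ha : 3 ≤ a) (𝔄 : Submodule F (Matrix (Fin a) (Fin a) F))
    (hconj : ∀ A ∈ 𝔄, ∀ u μ : Fin a → F, μ ⬝ᵥ u = 0 → E u μ * A * E (-u) μ ∈ 𝔄)
    (A : Matrix (Fin a) (Fin a) F) (hA : A ∈ 𝔄) (u : Fin a → F)
    (hu : A *ᵥ u ∉ Submodule.span F {u}) :
    ∃ u μ : Fin a → F, u ≠ 0 ∧ μ ≠ 0 ∧ μ ⬝ᵥ u = 0 ∧ vecMulVec u μ ∈ 𝔄 := by
  have hu0 : u ≠ 0 := by
    rintro rfl
    apply hu
    rw [Matrix.mulVec_zero]
    exact Submodule.zero_mem _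
  obtain ⟨μ, hμ0, hμu, hμAu⟩ := ALG3.experp2 ha u (A *ᵥ u)
  obtain ⟨μ₂, h21, h20⟩ := exists_dual_pair (A *ᵥ u) u hu
  have hPmem : vecMulVec u (μ ᵥ* A) - vecMulVec (A *ᵥ u) μ ∈ 𝔄 := by
    have h1 := hconj A hA u μ hμu
    rw [ALG3.conj_formula, hμAu, zero_smul, sub_zero] at h1
    have h2 := 𝔄.sub_mem h1 hA
    convert h2 using 1
    abel
  have hvm : ∀ (x y z : Fin a → F), vecMulVec x y *ᵥ z = (y ⬝ᵥ z) • x := by
    intro x y z
    rw [Matrix.vecMulVec_mulVec]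
    ext i
    simp [mul_comm]
  have hmv : ∀ (x y z : Fin a → F), z ᵥ* vecMulVec x y = (z ⬝ᵥ x) • y := by
    intro x y z
    rw [Matrix.vecMul_vecMulVec]
  have hPu : (vecMulVec u (μ ᵥ* A) - vecMulVec (A *ᵥ u) μ) *ᵥ u = 0 := by
    rw [Matrix.sub_mulVec, hvm, hvm, hμu, zero_smul, sub_zero, ← Matrix.dotProduct_mulVec, hμAu,
      zero_smul]
  have hμ₂P : μ₂ ᵥ* (vecMulVec u (μ ᵥ* A) - vecMulVec (A *ᵥ u) μ) = -μ := by
    rw [Matrix.vecMul_sub, hmv, hmv, h20, h21, zero_smul, one_smul, zero_sub]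
  have h3 := hconj _ hPmem u μ₂ h20
  rw [ALG3.conj_formula, hPu, hμ₂P] at h3
  have h4 := 𝔄.sub_mem hPmem h3
  refine ⟨u, μ, hu0, hμ0, hμu, ?_⟩
  convert h4 using 1
  simp [Matrix.vecMulVec_neg]

end Cfsg.Agent.S5637P
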