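import Cfsg.Agent.Helper24.S5637.Defs
import Cfsg.Agent.Helper26.S5637TRANSPAIR3

set_option autoImplicit false
set_option linter.unusedSectionVars false
set_option linter.unusedVariables false

/-! # S5637 piece ALGAPPLY -/

namespace Cfsg.Agent.S5637P

open Matrix Kronecker Cfsg.Agent.Helper28.SLMax Cfsg.Agent.S5634P
open scoped MatrixGroups

variable {F : Type*} [Field F] {n a b : ℕ} (e : Fin n ≃ Fin a × Fin b)

theorem ALGAPPLY.dact_one {m : ℕ} (ψ : Fin m → F) : dact (1 : GL (Fin m) F) ψ = ψ := by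
  unfold dact
  rw [inv_one, Units.val_one, Matrix.vecMul_one]

theorem ALGAPPLY (ha : 2 ≤ a) (hb : 3 ≤ b)
    (hALG : ∀ 𝔄 : Submodule F (Matrix (Fin a) (Fin a) F),
      (∀ A ∈ 𝔄, ∀ u μ : Fin a → F, μ ⬝ᵥ u = 0 → E u μ * A * E (-u) μ ∈ 𝔄) →
      ∀ A : Matrix (Fin a) (Fin a) F, A ∈ 𝔄 →
        (¬ ∃ c : F, A = c • (1 : Matrix (Fin a) (Fin a) F)) →
        ∃ u μ : Fin a → F, u ≠ 0 ∧ μ ≠ 0 ∧ μ ⬝ᵥ u = 0 ∧ vecMulVec u μ ∈ 𝔄)
    (M : Subgroup (GL (Fin n) F)) (hM : HS e ≤ M) {w ψ : Fin b → F} (hw : w ≠ 0) (hψ : ψ ≠ 0)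
    (h : ψ ⬝ᵥ w = 0) (A : Matrix (Fin a) (Fin a) F) (hA : GG e A w ψ ∈ M)
    (hns : ¬ ∃ c : F, A = c • (1 : Matrix (Fin a) (Fin a) F)) : DP e M := by
  -- scalar closure
  have hsmul : ∀ (c : F) (B : Matrix (Fin a) (Fin a) F), GG e B w ψ ∈ M → GG e (c • B) w ψ ∈ M := by
    intro c B hB
    by_cases hc : c = 0
    · rw [hc, zero_smul, GG_zero]
      exact M.one_mem
    have hcw : c • w ≠ 0 := smul_ne_zero hc hw
    have h' : ψ ⬝ᵥ (c • w) = 0 := by rw [dotProduct_smul, h, smul_zero]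
    obtain ⟨D, hD1, hD2, hD3⟩ := TRANSPAIR3 hb hw hψ hcw hψ h h'
    have hk : krg e 1 D ∈ M := hM (krg_one_left_mem_HS e D hD1)
    have hconj := M.mul_mem (M.mul_mem hk hB) (M.inv_mem hk)
    rw [GG_conj, hD2, hD3, inv_one, Units.val_one, Matrix.one_mul, Matrix.mul_one,
      ← GG_smul_left] at hconj
    exact hconj
  let 𝔄 : Submodule F (Matrix (Fin a) (Fin a) F) :=
    { carrier := {B | GG e B w ψ ∈ M}
      zero_mem' := by
        show GG e 0 w ψ ∈ M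
        rw [GG_zero]
        exact M.one_mem
      add_mem' := by
        intro B B' hB hB'
        show GG e (B + B') w ψ ∈ M
        rw [← GG_mul e _ _ h]
        exact M.mul_mem hB hB'
      smul_mem' := by
        intro c B hB
        exact hsmul c B hB }
  have hmem : ∀ B, B ∈ 𝔄 ↔ GG e B w ψ ∈ M := fun B => Iff.rfl
  have hinv : ∀ B ∈ 𝔄, ∀ u μ : Fin a → F, μ ⬝ᵥ u = 0 → E u μ * B * E (-u) μ ∈ 𝔄 := by
    intro B hB u μ hμu
    rw [hmem] at hB ⊢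
    have hdet : ((EE u μ : GL (Fin a) F) : Matrix (Fin a) (Fin a) F).det = 1 := by
      rw [EE_val0 hμu, E_det, hμu, add_zero]
    have hk : krg e (EE u μ) 1 ∈ M := hM (krg_one_right_mem_HS e (EE u μ) hdet)
    have hconj := M.mul_mem (M.mul_mem hk hB) (M.inv_mem hk)
    have hμu' : μ ⬝ᵥ (-u) = 0 := by rw [dotProduct_neg, hμu, neg_zero]
    rw [GG_conj, EE.inv hμu, EE_val0 hμu, EE_val0 hμu', Units.val_one, Matrix.one_mulVec,
      ALGAPPLY.dact_one] at hconj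
    exact hconj
  obtain ⟨u, μ, hu, hμ, hμu, hmem'⟩ := hALG 𝔄 hinv A ((hmem A).2 hA) hns
  rw [hmem, GG_vecMulVec e u μ h] at hmem'
  exact ⟨u, μ, w, ψ, hu, hμ, hw, hψ, hμu, h, hmem'⟩

end Cfsg.Agent.S5637P
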