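import Cfsg.Agent.Helper24.S5637.Defs

set_option autoImplicit false
set_option linter.unusedSectionVars false
set_option linter.unusedVariables false

/-! # S5637 piece CLASSIFB -/

namespace Cfsg.Agent.S5637P

open Matrix Kronecker Cfsg.Agent.Helper28.SLMax Cfsg.Agent.S5634P
open scoped MatrixGroups

variable {F : Type*} [Field F] {n a b : ℕ} (e : Fin n ≃ Fin a × Fin b)

theorem CLASSIFB (A : GL (Fin a) F) (B : GL (Fin b) F) (S : Submodule F (Fin n → F))
    (hS : Module.finrank F S = a)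
    (hy : ∀ x : Fin n → F, ((krg e A B : GL (Fin n) F) : Matrix (Fin n) (Fin n) F) *ᵥ x - x ∈ S)
    (hsc : ∃ c : F, (A : Matrix (Fin a) (Fin a) F) = c • (1 : Matrix (Fin a) (Fin a) F))
    (hne : krg e A B ≠ 1) : ∃ w₁ : Fin b → F, w₁ ≠ 0 ∧ S = Vw e w₁ := by
  obtain ⟨c, hc⟩ := hsc
  have hform : ∀ (u : Fin a → F) (w₀ : Fin b → F),
      ((krg e A B : GL (Fin n) F) : Matrix (Fin n) (Fin n) F) *ᵥ tn e u w₀ - tn e u w₀ =
        tn e u (c • ((B : Matrix (Fin b) (Fin b) F) *ᵥ w₀) - w₀) := by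
    intro u w₀
    rw [krg_mulVec_tn, hc, Matrix.smul_mulVec, Matrix.one_mulVec, tn_smul_left, tn_sub_right,
      tn_smul_right]
  have hex : ∃ w₀ : Fin b → F, c • ((B : Matrix (Fin b) (Fin b) F) *ᵥ w₀) - w₀ ≠ 0 := by
    by_contra hcon
    push Not at hcon
    apply hne
    apply gl_ext_tn e
    intro u w₀
    have := hform u w₀
    rw [hcon w₀, tn_zero_right, sub_eq_zero] at this
    rw [this, Units.val_one, Matrix.one_mulVec]
  obtain ⟨w₀, hw₀⟩ := hex
  refine ⟨_, hw₀, ?_⟩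
  have hle : Vw e (c • ((B : Matrix (Fin b) (Fin b) F) *ᵥ w₀) - w₀) ≤ S := by
    intro x hx
    obtain ⟨u, rfl⟩ := (mem_Vw e).1 hx
    rw [← hform u w₀]
    exact hy _
  have hfin : Module.finrank F ↥(Vw e (c • ((B : Matrix (Fin b) (Fin b) F) *ᵥ w₀) - w₀)) =
      Module.finrank F ↥S := by
    rw [finrank_Vw e hw₀, hS]
  exact (Submodule.eq_of_le_of_finrank_eq hle hfin).symm

end Cfsg.Agent.S5637P
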