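import Mathlib
import Cfsg.Agent.Helper9.S5650.Defs
import Cfsg.Agent.Helper9.S5650.Lib
import Cfsg.Agent.Helper28.SpMax
import Cfsg.Agent.S0765

/-! S5650 piece GENSP (driver helper9): if all transvections with rational centre are in `M` then `Sp ≤ M`. -/

set_option autoImplicit false

namespace Cfsg.Agent.S5650P

open Matrix Cfsg.Agent.Helper28

variable {F : Type*} [Field F] {m : ℕ}

namespace GENSP

theorem T_e_mulVec (i : Fin m) (c : F) (x : Vec m F) :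
    T (e i) c *ᵥ x = x + (c * x (Sum.inr i)) • e i := by
  rw [T_mulVec, om_e_right]

theorem T_f_mulVec (i : Fin m) (c : F) (x : Vec m F) :
    T (f i) c *ᵥ x = x - (c * x (Sum.inl i)) • f i := by
  rw [T_mulVec, om_f_right, mul_neg, neg_smul, sub_eq_add_neg]

theorem e_inl (i : Fin m) : (e i : Vec m F) (Sum.inl i) = 1 := by simp [e]

theorem e_of_ne (i : Fin m) {k : Fin m ⊕ Fin m} (hk : k ≠ Sum.inl i) : (e i : Vec m F) k = 0 := by
  simp [e, hk]

theorem f_inr (i : Fin m) : (f i : Vec m F) (Sum.inr i) = 1 := by simp [f]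

theorem f_of_ne (i : Fin m) {k : Fin m ⊕ Fin m} (hk : k ≠ Sum.inr i) : (f i : Vec m F) k = 0 := by
  simp [f, hk]

theorem T_e_inl (i : Fin m) (c : F) (x : Vec m F) :
    (T (e i) c *ᵥ x) (Sum.inl i) = x (Sum.inl i) + c * x (Sum.inr i) := by
  rw [T_e_mulVec, Pi.add_apply, Pi.smul_apply, e_inl, smul_eq_mul, mul_one]

theorem T_e_of_ne (i : Fin m) (c : F) (x : Vec m F) {k : Fin m ⊕ Fin m} (hk : k ≠ Sum.inl i) :
    (T (e i) c *ᵥ x) k = x k := by
  rw [T_e_mulVec, Pi.add_apply, Pi.smul_apply, e_of_ne i hk, smul_zero, add_zero]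

theorem T_f_inr (i : Fin m) (c : F) (x : Vec m F) :
    (T (f i) c *ᵥ x) (Sum.inr i) = x (Sum.inr i) - c * x (Sum.inl i) := by
  rw [T_f_mulVec, Pi.sub_apply, Pi.smul_apply, f_inr, smul_eq_mul, mul_one]

theorem T_f_of_ne (i : Fin m) (c : F) (x : Vec m F) {k : Fin m ⊕ Fin m} (hk : k ≠ Sum.inr i) :
    (T (f i) c *ᵥ x) k = x k := by
  rw [T_f_mulVec, Pi.sub_apply, Pi.smul_apply, f_of_ne i hk, smul_zero, sub_zero]

/-- one coordinate pair is made rational by a product of transvections with centres `e i`, `f i` -/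
theorem pair_fix (F₀ : Subfield F) (M : Subgroup (GLm m F))
    (hKT : ∀ (c : F) (u : Vec m F), Rat F₀ u → T u c ∈ MS M) (i : Fin m) (x : Vec m F) :
    ∃ A ∈ MS M, (∀ k, k ≠ Sum.inl i → k ≠ Sum.inr i → (A *ᵥ x) k = x k) ∧
      (A *ᵥ x) (Sum.inl i) ∈ F₀ ∧ (A *ᵥ x) (Sum.inr i) ∈ F₀ := by
  have hne : (Sum.inl i : Fin m ⊕ Fin m) ≠ Sum.inr i := by simp
  have hne' : (Sum.inr i : Fin m ⊕ Fin m) ≠ Sum.inl i := by simp
  by_cases hb : x (Sum.inr i) = 0
  · by_cases ha : x (Sum.inl i) = 0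
    · refine ⟨1, one_mem_MS M, fun k _ _ => by rw [Matrix.one_mulVec], ?_, ?_⟩
      · rw [Matrix.one_mulVec, ha]; exact F₀.zero_mem
      · rw [Matrix.one_mulVec, hb]; exact F₀.zero_mem
    · -- `(a, 0)`, `a ≠ 0`
      set y := T (f i) (-(x (Sum.inl i))⁻¹) *ᵥ x with hy
      have hy1 : y (Sum.inl i) = x (Sum.inl i) := T_f_of_ne i _ x hne
      have hy2 : y (Sum.inr i) = 1 := by
        rw [hy, T_f_inr, hb, neg_mul, inv_mul_cancel₀ ha]; ring
      refine ⟨T (e i) (1 - x (Sum.inl i)) * T (f i) (-(x (Sum.inl i))⁻¹),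
        MS_mul (hKT _ _ (Rat.basis_e F₀ i)) (hKT _ _ (Rat.basis_f F₀ i)), ?_, ?_, ?_⟩
      · intro k hk1 hk2
        rw [← Matrix.mulVec_mulVec, T_e_of_ne i _ _ hk1, T_f_of_ne i _ _ hk2]
      · rw [← Matrix.mulVec_mulVec, ← hy, T_e_inl, hy1, hy2]
        have : x (Sum.inl i) + (1 - x (Sum.inl i)) * 1 = 1 := by ring
        rw [this]; exact F₀.one_mem
      · rw [← Matrix.mulVec_mulVec, ← hy, T_e_of_ne i _ _ hne', hy2]; exact F₀.one_mem
  · -- `(a, b)`, `b ≠ 0`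
    set y := T (e i) ((1 - x (Sum.inl i)) * (x (Sum.inr i))⁻¹) *ᵥ x with hy
    have hy1 : y (Sum.inl i) = 1 := by
      rw [hy, T_e_inl, mul_assoc, inv_mul_cancel₀ hb]; ring
    have hy2 : y (Sum.inr i) = x (Sum.inr i) := T_e_of_ne i _ x hne'
    refine ⟨T (f i) (x (Sum.inr i)) * T (e i) ((1 - x (Sum.inl i)) * (x (Sum.inr i))⁻¹),
      MS_mul (hKT _ _ (Rat.basis_f F₀ i)) (hKT _ _ (Rat.basis_e F₀ i)), ?_, ?_, ?_⟩
    · intro k hk1 hk2
      rw [← Matrix.mulVec_mulVec, T_f_of_ne i _ _ hk2, T_e_of_ne i _ _ hk1]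
    · rw [← Matrix.mulVec_mulVec, ← hy, T_f_of_ne i _ _ hne, hy1]; exact F₀.one_mem
    · rw [← Matrix.mulVec_mulVec, ← hy, T_f_inr, hy1, hy2]
      have : x (Sum.inr i) - x (Sum.inr i) * 1 = 0 := by ring
      rw [this]; exact F₀.zero_mem

/-- the coordinate pairs in a finite set are made rational -/
theorem set_fix (F₀ : Subfield F) (M : Subgroup (GLm m F))
    (hKT : ∀ (c : F) (u : Vec m F), Rat F₀ u → T u c ∈ MS M) (x : Vec m F) (s : Finset (Fin m)) :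
    ∃ A ∈ MS M, ∀ i ∈ s, (A *ᵥ x) (Sum.inl i) ∈ F₀ ∧ (A *ᵥ x) (Sum.inr i) ∈ F₀ := by
  classical
  induction s using Finset.induction_on with
  | empty => exact ⟨1, one_mem_MS M, fun i hi => absurd hi (Finset.notMem_empty i)⟩
  | insert i s his ih =>
    obtain ⟨A, hA, hAs⟩ := ih
    obtain ⟨B, hB, hoff, hB1, hB2⟩ := pair_fix F₀ M hKT i (A *ᵥ x)
    refine ⟨B * A, MS_mul hB hA, ?_⟩
    intro j hj
    rw [← Matrix.mulVec_mulVec]
    rcases Finset.mem_insert.1 hj with rfl | hjs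
    · exact ⟨hB1, hB2⟩
    · have hji : j ≠ i := fun h => his (h ▸ hjs)
      have h1 : (Sum.inl j : Fin m ⊕ Fin m) ≠ Sum.inl i := fun h => hji (Sum.inl.inj h)
      have h2 : (Sum.inl j : Fin m ⊕ Fin m) ≠ Sum.inr i := by simp
      have h3 : (Sum.inr j : Fin m ⊕ Fin m) ≠ Sum.inl i := by simp
      have h4 : (Sum.inr j : Fin m ⊕ Fin m) ≠ Sum.inr i := fun h => hji (Sum.inr.inj h)
      rw [hoff _ h1 h2, hoff _ h3 h4]
      exact hAs j hjs

/-- every vector is moved to a rational vector by an element of `M` -/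
theorem exists_rat (F₀ : Subfield F) (M : Subgroup (GLm m F))
    (hKT : ∀ (c : F) (u : Vec m F), Rat F₀ u → T u c ∈ MS M) (x : Vec m F) :
    ∃ A ∈ MS M, Rat F₀ (A *ᵥ x) := by
  obtain ⟨A, hA, h⟩ := set_fix F₀ M hKT x Finset.univ
  refine ⟨A, hA, ?_⟩
  rintro (i | i)
  · exact (h i (Finset.mem_univ i)).1
  · exact (h i (Finset.mem_univ i)).2

/-- all transvections are in `M` -/
theorem all_T (F₀ : Subfield F) (M : Subgroup (GLm m F)) (hMsp : M ≤ Cfsg.spGL m F)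
    (hKT : ∀ (c : F) (u : Vec m F), Rat F₀ u → T u c ∈ MS M) (x : Vec m F) (c : F) :
    T x c ∈ MS M := by
  obtain ⟨A, ⟨g, hg, rfl⟩, hr⟩ := exists_rat F₀ M hKT x
  have h1 := MS_conj_T hMsp (M.inv_mem hg) (hKT c _ hr)
  rw [Matrix.mulVec_mulVec, inv_mul_coe, Matrix.one_mulVec] at h1
  exact h1

end GENSP

theorem GENSP.spGL_le (F₀ : Subfield F) (M : Subgroup (GLm m F)) (hMsp : M ≤ Cfsg.spGL m F)
    (h : KT F₀ M = Set.univ) : Cfsg.spGL m F ≤ M := by
  have hKT : ∀ (c : F) (u : Vec m F), Rat F₀ u → T u c ∈ MS M := by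
    intro c u hu
    have hc : c ∈ KT F₀ M := by rw [h]; trivial
    exact hc u hu
  have hall := GENSP.all_T F₀ M hMsp hKT
  intro g hg
  obtain ⟨A, rfl⟩ := SpMax.exists_of_mem_spGL g hg
  have hA : A ∈ Subgroup.closure {A : Matrix.symplecticGroup (Fin m) F |
      ∃ (w : Fin m ⊕ Fin m → F) (c : F),
        (A : Matrix (Fin m ⊕ Fin m) (Fin m ⊕ Fin m) F) = Cfsg.sympTransvection m w c} := by
    rw [Cfsg.Agent.S0765.result]; trivial
  have hle : Subgroup.closure {A : Matrix.symplecticGroup (Fin m) F |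
      ∃ (w : Fin m ⊕ Fin m → F) (c : F),
        (A : Matrix (Fin m ⊕ Fin m) (Fin m ⊕ Fin m) F) = Cfsg.sympTransvection m w c} ≤
      M.comap SpMax.toGL := by
    rw [Subgroup.closure_le]
    rintro B ⟨w, c, hB⟩
    obtain ⟨g', hg', hval⟩ := hall w c
    show SpMax.toGL B ∈ M
    have hBg : SpMax.toGL B = g' := by
      apply Units.ext
      rw [SpMax.toGL_val, hval]
      exact hB
    rw [hBg]
    exact hg'
  exact hle hA

end Cfsg.Agent.S5650P
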