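import Mathlib
import Cfsg.Agent.Helper9.S5650.Defs
import Cfsg.Agent.Helper9.S5650.Lib

/-! S5650 piece PROPER (driver helper9): the standard subfield group does not contain `Sp`. -/

set_option autoImplicit false

namespace Cfsg.Agent.S5650P

open Matrix Cfsg.Agent.Helper28

variable {F : Type*} [Field F] {m : ℕ}

namespace PROPER

/-- entries of a matrix through its action on the standard basis -/
theorem entry_eq (A : Mat m F) (k l : Fin m ⊕ Fin m) : A k l = (A *ᵥ Pi.single l 1) k := by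
  rw [Matrix.mulVec_single_one]
  rfl

theorem T_e_entry_inl_inl (i : Fin m) (c : F) : T (e i : Vec m F) c (Sum.inl i) (Sum.inl i) = 1 := by
  rw [entry_eq (T (e i : Vec m F) c), T_mulVec]
  have h : om (Pi.single (Sum.inl i) 1 : Vec m F) (e i) = 0 := om_e_e i i
  rw [h, mul_zero, zero_smul, add_zero, Pi.single_eq_same]

theorem T_e_entry_inl_inr (i : Fin m) (c : F) : T (e i : Vec m F) c (Sum.inl i) (Sum.inr i) = c := by
  rw [entry_eq (T (e i : Vec m F) c), T_mulVec]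
  have h : om (Pi.single (Sum.inr i) 1 : Vec m F) (e i) = 1 := by
    have := om_f_e (F := F) i i
    rw [if_pos rfl] at this
    exact this
  rw [h, mul_one]
  simp [e]

end PROPER

theorem PROPER.exists_not_inN (hm : 2 ≤ m) (F₀ : Subfield F) (θ : F) (hθ : θ ∉ F₀) :
    ∃ g : GLm m F, g ∈ Cfsg.spGL m F ∧ ¬ InN F₀ (g : Mat m F) := by
  have hm0 : 0 < m := by omega
  refine ⟨Tg (e ⟨0, hm0⟩) θ, Tg_mem_spGL _ _, ?_⟩
  rintro ⟨z, hz0, hz⟩
  rw [Tg_val] at hz
  have h1 := hz (Sum.inl ⟨0, hm0⟩) (Sum.inl ⟨0, hm0⟩)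
  have h2 := hz (Sum.inl ⟨0, hm0⟩) (Sum.inr ⟨0, hm0⟩)
  rw [Matrix.smul_apply, PROPER.T_e_entry_inl_inl, smul_eq_mul, mul_one] at h1
  rw [Matrix.smul_apply, PROPER.T_e_entry_inl_inr, smul_eq_mul] at h2
  apply hθ
  have h3 : θ = z⁻¹ * (z * θ) := by
    rw [← mul_assoc, inv_mul_cancel₀ hz0, one_mul]
  rw [h3]
  exact F₀.mul_mem (F₀.inv_mem h1) h2

end Cfsg.Agent.S5650P
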