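import Mathlib
import Cfsg.Prelude.Def_GeometricClasses
import Cfsg.Agent.Helper29.S5655.Defs

/-!
S5655 (half k ≥ 2): piece BRIDGE1.
-/

set_option autoImplicit false

namespace Cfsg.Agent.S5655P

open Matrix Module
open Cfsg.Agent.S2644 Cfsg.Agent.Helper2.SUGen Cfsg.Agent.Helper28.SimMax Cfsg.Agent.S5658P

variable {K : Type*} [Field K] {q n t k : ℕ}

local notation "h" => Cfsg.hermForm n K q
local notation "T" => Cfsg.unitaryTransvection n q

theorem BRIDGE1.card_eq {B : Fin t → Submodule K (Fin n → K)} (hD : Cfsg.Geo.IsMDecomposition k B) :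
    n = t * k := by
  classical
  have hI : DirectSum.IsInternal B :=
    (DirectSum.isInternal_submodule_iff_iSupIndep_and_iSup_eq_top B).mpr ⟨hD.indep, hD.iSup_eq_top⟩
  have e := LinearEquiv.ofBijective (DirectSum.coeLinearMap B) hI
  have h1 := e.finrank_eq
  rw [Module.finrank_directSum, Module.finrank_fintype_fun_eq_card, Fintype.card_fin] at h1
  rw [← h1]
  simp [hD.finrank_eq]

/-- piece BRIDGE1 (M): the frozen hypotheses give the working ones. -/
theorem BRIDGE1.ud [Fintype K] (hK : Fintype.card K = q ^ 2) (hn : 13 ≤ n) (hk : 2 ≤ k)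
    {B : Fin t → Submodule K (Fin n → K)}
    (hD : Cfsg.Geo.IsNondegenerateMDecomposition (Cfsg.hermForm n K q) k B) : UD q k B := by
  classical
  have hntk : n = t * k := BRIDGE1.card_eq hD.decomp
  refine ⟨hD.decomp.two_le, hk, ?_, hD.decomp.finrank_eq, ?_, ?_, ?_⟩
  · by_contra hcon
    push Not at hcon
    have h1 : k ≤ 2 := by omega
    have h2 : t ≤ 2 := by omega
    have : t * k ≤ 2 * 2 := Nat.mul_le_mul h2 h1
    omega
  · intro i y hy hall
    by_contra hy0
    obtain ⟨-, x, hx, hne⟩ := hD.nondegenerate i y hy hy0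
    exact hne (hall x hx)
  · intro i j hij u hu v hv
    exact hD.orthogonal i j hij u hu v hv
  · intro v
    have hv : v ∈ ⨆ i ∈ (Finset.univ : Finset (Fin t)), B i := by
      have : (⨆ i ∈ (Finset.univ : Finset (Fin t)), B i) = ⨆ i, B i := by simp
      rw [this, hD.decomp.iSup_eq_top]
      exact Submodule.mem_top
    obtain ⟨μ, hμ⟩ := (Submodule.mem_iSup_finset_iff_exists_sum B v).1 hv
    exact ⟨fun i => (μ i : Fin n → K), fun i => (μ i).2, hμ⟩

/-- the Frobenius datum of a field with `q ^ 2` elements -/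
theorem BRIDGE1.frob [Fintype K] (hK : Fintype.card K = q ^ 2) : Nonempty (Frob K q) := by
  classical
  obtain ⟨σ, hσ, hσ2⟩ := Cfsg.Agent.Helper28.exists_frob hK
  refine ⟨⟨σ, hσ, hσ2, ?_⟩⟩
  intro hid
  have hq2 : 2 ≤ q := by
    have h1 : 1 < Fintype.card K := Fintype.one_lt_card
    rw [hK] at h1
    by_contra hlt
    push Not at hlt
    interval_cases q <;> simp at h1
  have hall : ∀ x : K, x ^ q = x := fun x => by rw [← hσ, hid]; rfl
  have hdeg := FiniteField.X_pow_card_sub_X_natDegree_eq K (p := q) (by omega)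
  have hne : (Polynomial.X ^ q - Polynomial.X : Polynomial K) ≠ 0 := by
    intro h0
    rw [h0, Polynomial.natDegree_zero] at hdeg
    omega
  have hsub : (Finset.univ : Finset K).val ⊆ (Polynomial.X ^ q - Polynomial.X : Polynomial K).roots := by
    intro x _
    rw [Polynomial.mem_roots hne, Polynomial.IsRoot]
    simp [hall x]
  have := Polynomial.card_le_degree_of_subset_roots hsub
  rw [Finset.card_univ, hK, hdeg] at this
  nlinarith

end Cfsg.Agent.S5655P
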