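import Mathlib
import Cfsg.Prelude.Def_GeometricClasses
import Cfsg.Agent.Helper29.S5655.Defs

/-!
S5655 (half k ≥ 2): piece BRIDGE2.
-/

set_option autoImplicit false

namespace Cfsg.Agent.S5655P

open Matrix Module
open Cfsg.Agent.S2644 Cfsg.Agent.Helper2.SUGen Cfsg.Agent.Helper28.SimMax Cfsg.Agent.S5658P

variable {K : Type*} [Field K] {q n t k : ℕ}

local notation "h" => Cfsg.hermForm n K q
local notation "T" => Cfsg.unitaryTransvection n q

/-- piece BRIDGE2 (M): the frozen stabiliser in the working vocabulary. -/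
theorem BRIDGE2.mem_iff [Fintype K] (hK : Fintype.card K = q ^ 2)
    {B : Fin t → Submodule K (Fin n → K)} (hB : UD q k B)
    (g : Matrix.GeneralLinearGroup (Fin n) K) :
    g ∈ Cfsg.Geo.decompositionStabilizer B ⊓
        (Cfsg.GU n K q ⊓ Cfsg.Geo.specialLinear (Fin n) K) ↔
      (g : Matrix (Fin n) (Fin n) K) ∈ HH q B := by
  classical
  rw [Subgroup.mem_inf, mem_G_iff]
  constructor
  · rintro ⟨⟨σ, hσ⟩, hP, hdet⟩
    refine ⟨hP, hdet, σ, fun i x hx => ?_⟩
    rw [← hσ i]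
    exact ⟨x, hx, Matrix.toLin'_apply _ _⟩
  · rintro ⟨hP, hdet, σ, hσ⟩
    refine ⟨⟨σ, fun i => ?_⟩, hP, hdet⟩
    have hle : (B i).map (Matrix.toLin' (g : Matrix (Fin n) (Fin n) K)) ≤ B (σ i) := by
      rintro _ ⟨x, hx, rfl⟩
      rw [Matrix.toLin'_apply]
      exact hσ i x hx
    have h1 : ((g⁻¹ : Matrix.GeneralLinearGroup (Fin n) K) : Matrix (Fin n) (Fin n) K) *
        (g : Matrix (Fin n) (Fin n) K) = 1 := inv_mul_coe g
    have h2 : (g : Matrix (Fin n) (Fin n) K) *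
        ((g⁻¹ : Matrix.GeneralLinearGroup (Fin n) K) : Matrix (Fin n) (Fin n) K) = 1 := mul_inv_coe g
    have hfin : finrank K ↥((B i).map (Matrix.toLin' (g : Matrix (Fin n) (Fin n) K))) =
        finrank K ↥(B (σ i)) := by
      have := LinearEquiv.finrank_map_eq (Matrix.toLin'OfInv h1 h2) (B i)
      rw [hB.finrank_eq (σ i), ← hB.finrank_eq i, ← this]
      rfl
    exact Submodule.eq_of_le_of_finrank_eq hle hfin

end Cfsg.Agent.S5655P
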