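import Mathlib
import Cfsg.Agent.Helper7.S5655.Defs
import Cfsg.Agent.Helper7.S5655.MonoLib
import Cfsg.Agent.Helper7.S5655.Defs2

/-! # S5655 `k = 1`: piece CHAR -/

set_option autoImplicit false

namespace Cfsg.Agent.S5655K1

open Matrix
open Cfsg.Agent.S2644 Cfsg.Agent.Helper2.SUGen Cfsg.Agent.Helper28.SimMax Cfsg.Agent.MonoP

variable {K : Type*} [Field K] {q n : ℕ}

local notation "h" => Cfsg.hermForm n K q
local notation "T" => Cfsg.unitaryTransvection n q

/-- CHAR (S): for `q` odd, `2 ≠ 0` in `K` (the characteristic `p` divides `q`: `|K| = q²` is a power of `p`). -/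
theorem CHAR.two_ne_zero [Fintype K] (hK : Fintype.card K = q ^ 2) (hodd : Odd q) : (2 : K) ≠ 0 := by
  intro h2
  obtain ⟨p, hp⟩ := CharP.exists K
  obtain ⟨m, hpp, hcard⟩ := FiniteField.card K p
  have h2' : ((2 : ℕ) : K) = 0 := by exact_mod_cast h2
  have hdvd : p ∣ 2 := (CharP.cast_eq_zero_iff K p 2).1 h2'
  have hp2 : p = 2 := (Nat.prime_dvd_prime_iff_eq hpp Nat.prime_two).1 hdvd
  subst hp2
  rw [hK] at hcard
  have h3 : 2 ∣ q ^ 2 := by
    rw [hcard]
    exact dvd_pow_self 2 m.pos.ne'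
  have h4 : 2 ∣ q := Nat.Prime.dvd_of_dvd_pow Nat.prime_two h3
  rcases hodd with ⟨k, rfl⟩
  omega

/-- CHAR2 (S): for `q` even, `2 = 0` in `K`. -/
theorem CHAR.two_eq_zero [Fintype K] (hK : Fintype.card K = q ^ 2) (heven : Even q) : (2 : K) = 0 := by
  obtain ⟨p, hp⟩ := CharP.exists K
  obtain ⟨m, hpp, hcard⟩ := FiniteField.card K p
  rw [hK] at hcard
  have h2q : 2 ∣ q := even_iff_two_dvd.1 heven
  have h3 : 2 ∣ p ^ (m : ℕ) := by
    rw [← hcard]
    exact dvd_pow h2q (by norm_num)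
  have h4 : 2 ∣ p := Nat.Prime.dvd_of_dvd_pow Nat.prime_two h3
  have hp2 : 2 = p := (Nat.prime_dvd_prime_iff_eq Nat.prime_two hpp).1 h4
  subst hp2
  have := CharP.cast_eq_zero K 2
  exact_mod_cast this

end Cfsg.Agent.S5655K1
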