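import Mathlib
import Cfsg.Prelude.Def_GeometricClasses
import Cfsg.Agent.Helper7.S5655.Defs
import Cfsg.Agent.Helper28.S5655GDefs

/-! S5655 (k = 1), chapter TRANSPORT: piece CONJSTAB. -/

set_option autoImplicit false

namespace Cfsg.Agent.S5655K1

open Matrix
open Cfsg.Agent.S2644 Cfsg.Agent.Helper2.SUGen Cfsg.Agent.Helper28.SimMax Cfsg.Agent.MonoP

variable {K : Type*} [Field K] {q n : ℕ}

local notation "h" => Cfsg.hermForm n K q
local notation "T" => Cfsg.unitaryTransvection n q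

theorem CONJSTAB.map_mul (a b : Matrix.GeneralLinearGroup (Fin n) K)
    (S : Submodule K (Fin n → K)) :
    S.map (Matrix.toLin' ((a * b : Matrix.GeneralLinearGroup (Fin n) K) : Matrix (Fin n) (Fin n) K)) =
      (S.map (Matrix.toLin' (b : Matrix (Fin n) (Fin n) K))).map
        (Matrix.toLin' (a : Matrix (Fin n) (Fin n) K)) := by
  rw [Units.val_mul, Matrix.toLin'_mul, Submodule.map_comp]

theorem CONJSTAB.map_one (S : Submodule K (Fin n → K)) :
    S.map (Matrix.toLin' ((1 : Matrix.GeneralLinearGroup (Fin n) K) : Matrix (Fin n) (Fin n) K)) =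
      S := by
  rw [Units.val_one, Matrix.toLin'_one, Submodule.map_id]

theorem CONJSTAB.map_inv_map (a : Matrix.GeneralLinearGroup (Fin n) K)
    (S : Submodule K (Fin n → K)) :
    (S.map (Matrix.toLin' (a : Matrix (Fin n) (Fin n) K))).map
        (Matrix.toLin' ((a⁻¹ : Matrix.GeneralLinearGroup (Fin n) K) : Matrix (Fin n) (Fin n) K)) =
      S := by
  rw [← CONJSTAB.map_mul, inv_mul_cancel, CONJSTAB.map_one]

theorem CONJSTAB.map_map_inv (a : Matrix.GeneralLinearGroup (Fin n) K)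
    (S : Submodule K (Fin n → K)) :
    (S.map (Matrix.toLin' ((a⁻¹ : Matrix.GeneralLinearGroup (Fin n) K) :
        Matrix (Fin n) (Fin n) K))).map (Matrix.toLin' (a : Matrix (Fin n) (Fin n) K)) = S := by
  rw [← CONJSTAB.map_mul, mul_inv_cancel, CONJSTAB.map_one]

/-- CONJSTAB (M): conjugation by `g` carries the stabiliser of the frame `Dd` to that of its image. -/
theorem CONJSTAB.map_eq {t : ℕ} (e : Fin n ≃ Fin t) (Dd : Fin t → Submodule K (Fin n → K))
    (g : Matrix.GeneralLinearGroup (Fin n) K)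
    (hg : ∀ i, Dd (e i) = (gStdFrame n K i).map (Matrix.toLin' (g : Matrix (Fin n) (Fin n) K))) :
    (Cfsg.Geo.decompositionStabilizer (gStdFrame n K)).map (MulAut.conj g).toMonoidHom =
      Cfsg.Geo.decompositionStabilizer Dd := by
  have hg' : ∀ j, Dd j = (gStdFrame n K (e.symm j)).map
      (Matrix.toLin' (g : Matrix (Fin n) (Fin n) K)) := by
    intro j
    rw [← hg, Equiv.apply_symm_apply]
  ext x
  constructor
  · rintro ⟨y, ⟨σ, hσ⟩, rfl⟩
    refine ⟨e.symm.trans (σ.trans e), fun j => ?_⟩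
    show (Dd j).map (Matrix.toLin' ((g * y * g⁻¹ : Matrix.GeneralLinearGroup (Fin n) K) :
      Matrix (Fin n) (Fin n) K)) = Dd (e (σ (e.symm j)))
    rw [hg' j, CONJSTAB.map_mul, CONJSTAB.map_inv_map, CONJSTAB.map_mul, hσ, ← hg]
  · rintro ⟨τ, hτ⟩
    refine ⟨g⁻¹ * x * g, ⟨e.trans (τ.trans e.symm), fun i => ?_⟩, ?_⟩
    · show (gStdFrame n K i).map (Matrix.toLin' ((g⁻¹ * x * g :
        Matrix.GeneralLinearGroup (Fin n) K) : Matrix (Fin n) (Fin n) K)) =
          gStdFrame n K (e.symm (τ (e i)))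
      rw [CONJSTAB.map_mul, ← hg, CONJSTAB.map_mul, hτ, hg' (τ (e i)), CONJSTAB.map_inv_map]
    · show g * (g⁻¹ * x * g) * g⁻¹ = x
      group

end Cfsg.Agent.S5655K1
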