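import Mathlib
import Cfsg.Agent.Helper7.S5655.Defs
import Cfsg.Agent.Helper7.S5655.MonoLib
import Cfsg.Agent.Helper7.S5655.Defs2

/-! # S5655 `k = 1`: piece CT (the conjugate transpose) -/

set_option autoImplicit false

namespace Cfsg.Agent.S5655K1

open Matrix
open Cfsg.Agent.S2644 Cfsg.Agent.Helper2.SUGen Cfsg.Agent.Helper28.SimMax Cfsg.Agent.MonoP

variable {K : Type*} [Field K] {q n : ℕ}

local notation "h" => Cfsg.hermForm n K q
local notation "T" => Cfsg.unitaryTransvection n q

theorem CT.mulVec_single_apply (B : Matrix (Fin n) (Fin n) K) (j k : Fin n) :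
    (B *ᵥ Pi.single j 1) k = B k j := by
  simp

/-- CT (S-M): entries of `ct A * X` are values of the form on columns. -/
theorem CT.mul_apply (D : Frob K q) (A X : Matrix (Fin n) (Fin n) K) (i j : Fin n) :
    (ct D A * X) i j = h (X *ᵥ Pi.single j 1) (A *ᵥ Pi.single i 1) := by
  rw [h_apply_sigma D, Matrix.mul_apply]
  apply Finset.sum_congr rfl
  intro k _
  rw [CT.mulVec_single_apply, CT.mulVec_single_apply, ct_apply, mul_comm]

/-- CT (S-M): the conjugate transpose of an isometry is its inverse. -/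
theorem CT.mul_self (D : Frob K q) {A : Matrix (Fin n) (Fin n) K} (hA : Pres (q := q) A) :
    ct D A * A = 1 ∧ A * ct D A = 1 := by
  have h1 : ct D A * A = 1 := by
    ext i j
    rw [CT.mul_apply, hA, Cfsg.Agent.S5658P.h_single_right D, Matrix.one_apply, Pi.single_apply]
  exact ⟨h1, mul_eq_one_comm.1 h1⟩

/-- CT (S): the inverse of an element of `M ≤ SU` is in `M`, and is an isometry. -/
theorem CT.mem (D : Frob K q) {M : Subgroup (Matrix.GeneralLinearGroup (Fin n) K)} (hM : M ≤ SUG n K q)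
    {A : Matrix (Fin n) (Fin n) K} (hA : A ∈ MS M) : ct D A ∈ MS M ∧ Pres (q := q) (ct D A) := by
  have hP : Pres (q := q) A := Cfsg.Agent.S5658P.pres_of_MS hM hA
  have h1 : ct D A ∈ MS M := Cfsg.Agent.Helper28.UPair.InM.inv hA (CT.mul_self D hP).2
  exact ⟨h1, Cfsg.Agent.S5658P.pres_of_MS hM h1⟩

/-- CT (S): conjugates stay in `M`. -/
theorem CT.conj_mem (D : Frob K q) {M : Subgroup (Matrix.GeneralLinearGroup (Fin n) K)} (hM : M ≤ SUG n K q)
    {A X : Matrix (Fin n) (Fin n) K} (hA : A ∈ MS M) (hX : X ∈ MS M) : ct D A * X * A ∈ MS M :=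
  MS_mul (MS_mul (CT.mem D hM hA).1 hX) hA

/-- CT (S): `IsMono (ct A) ↔ IsMono A`. -/
theorem CT.isMono_iff (D : Frob K q) (A : Matrix (Fin n) (Fin n) K) : IsMono (ct D A) ↔ IsMono A := by
  constructor
  · rintro ⟨s, hs⟩
    refine ⟨s⁻¹, fun i j hij => ?_⟩
    have hji : j ≠ s i := by
      intro hh
      apply hij
      simp [hh]
    have := hs j i hji
    rw [ct_apply] at this
    exact (map_eq_zero D.σ).1 this
  · rintro ⟨s, hs⟩
    refine ⟨s⁻¹, fun i j hij => ?_⟩
    have hji : j ≠ s i := by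
      intro hh
      apply hij
      simp [hh]
    rw [ct_apply, hs j i hji, map_zero]

end Cfsg.Agent.S5655K1
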