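import Mathlib
import Cfsg.Agent.Helper7.S5655.Defs4
import Cfsg.Agent.Helper7.S5655.MonoLib

/-! # S5655 `k = 1`, chapter P2: piece EMBMUL -/

set_option autoImplicit false

namespace Cfsg.Agent.S5655K1

open Matrix
open Cfsg.Agent.S2644 Cfsg.Agent.Helper2.SUGen Cfsg.Agent.Helper28.SimMax Cfsg.Agent.MonoP

variable {K : Type*} [Field K] {q n : ℕ}

local notation "h" => Cfsg.hermForm n K q
local notation "T" => Cfsg.unitaryTransvection n q
local notation "h₂" => Cfsg.hermForm 2 K q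
local notation "T₂" => Cfsg.unitaryTransvection 2 q

/-- EMBMUL (M): `emb2` is multiplicative for an orthonormal pair. -/
theorem EMBMUL.mulVec (e e' : Fin n → K) (A : Matrix (Fin 2) (Fin 2) K) (z : Fin n → K) :
    emb2 q e e' A *ᵥ z = z + ∑ i : Fin 2, ∑ j : Fin 2,
      ((A i j - (1 : Matrix (Fin 2) (Fin 2) K) i j) * h z (![e, e'] j)) • ![e, e'] i := by
  unfold emb2
  rw [Matrix.add_mulVec, Matrix.one_mulVec, Matrix.sum_mulVec]
  congr 1
  apply Finset.sum_congr rfl
  intro i _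
  rw [Matrix.sum_mulVec]
  apply Finset.sum_congr rfl
  intro j _
  rw [Matrix.smul_mulVec, vmv_mulVec, smul_smul]

theorem EMBMUL.mulVec2 (e e' : Fin n → K) (A : Matrix (Fin 2) (Fin 2) K) (z : Fin n → K) :
    emb2 q e e' A *ᵥ z = z + ((A 0 0 - 1) * h z e + A 0 1 * h z e') • e +
      (A 1 0 * h z e + (A 1 1 - 1) * h z e') • e' := by
  rw [EMBMUL.mulVec]
  simp only [Fin.sum_univ_two, Matrix.cons_val_zero, Matrix.cons_val_one, Matrix.one_apply_eq,
    Matrix.one_apply_ne (show (0 : Fin 2) ≠ 1 by decide),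
    Matrix.one_apply_ne (show (1 : Fin 2) ≠ 0 by decide), sub_zero]
  rw [add_smul, add_smul]
  abel

theorem EMBMUL.one (e e' : Fin n → K) : emb2 q e e' 1 = 1 := by
  unfold emb2
  simp

theorem EMBMUL.mul (D : Frob K q) (e e' : Fin n → K) (he : h e e = 1) (he' : h e' e' = 1) (hee' : h e e' = 0)
    (A B : Matrix (Fin 2) (Fin 2) K) : emb2 q e e' (A * B) = emb2 q e e' A * emb2 q e e' B := by
  have he'e : h e' e = 0 := h_symm_zero D hee'
  apply mat_ext
  intro z
  rw [← Matrix.mulVec_mulVec, EMBMUL.mulVec2 e e' B z, EMBMUL.mulVec2 e e' (A * B) z, EMBMUL.mulVec2 e e' A]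
  simp only [h_add_left, h_smul_left, he, he', hee', he'e, mul_one, mul_zero, add_zero,
    Matrix.mul_apply, Fin.sum_univ_two]
  ext t
  simp only [Pi.add_apply, Pi.smul_apply, smul_eq_mul]
  ring

end Cfsg.Agent.S5655K1
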