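import Mathlib
import Cfsg.Agent.Helper7.S5655.Defs4
import Cfsg.Agent.Helper7.S5655.MonoLib
import Cfsg.Agent.Helper17.S5655EMBMUL

/-! # S5655 `k = 1`, chapter P2: piece EMBPRES -/

set_option autoImplicit false

namespace Cfsg.Agent.S5655K1

open Matrix
open Cfsg.Agent.S2644 Cfsg.Agent.Helper2.SUGen Cfsg.Agent.Helper28.SimMax Cfsg.Agent.MonoP

variable {K : Type*} [Field K] {q n : ℕ}

local notation "h" => Cfsg.hermForm n K q
local notation "T" => Cfsg.unitaryTransvection n q
local notation "h₂" => Cfsg.hermForm 2 K q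
local notation "T₂" => Cfsg.unitaryTransvection 2 q

/-- EMBPRES (M): isometries go to isometries. -/
theorem EMBPRES.pres (D : Frob K q) (e e' : Fin n → K) (he : h e e = 1) (he' : h e' e' = 1) (hee' : h e e' = 0)
    (A : Matrix (Fin 2) (Fin 2) K) (hA : Pres (q := q) A) : Pres (q := q) (emb2 q e e' A) := by
  have he'e : h e' e = 0 := h_symm_zero D hee'
  have key : ∀ a a' b b' : K,
      (A 0 0 * a + A 0 1 * a') * D.σ (A 0 0 * b + A 0 1 * b') +
        (A 1 0 * a + A 1 1 * a') * D.σ (A 1 0 * b + A 1 1 * b') = a * D.σ b + a' * D.σ b' := by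
    intro a a' b b'
    have h1 := hA ![a, a'] ![b, b']
    rw [h_apply_sigma D, h_apply_sigma D] at h1
    simpa [Fin.sum_univ_two, Matrix.mulVec, dotProduct] using h1
  intro z z'
  have key' := key (h z e) (h z e') (h z' e) (h z' e')
  rw [EMBMUL.mulVec2, EMBMUL.mulVec2]
  simp only [h_add_left, h_add_right D, h_smul_left, h_smul_right D, he, he', hee', he'e]
  rw [← h_conj D e z', ← h_conj D e' z']
  simp only [map_add, map_mul, map_sub, map_one] at key' ⊢
  linear_combination key'

end Cfsg.Agent.S5655K1
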