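import Mathlib
import Cfsg.Agent.Helper3.S5655EVDefs

set_option autoImplicit false
set_option linter.unusedSectionVars false
set_option linter.unusedVariables false

/-! # S5655 k = 1, chapter "q EVEN": piece CHAR2 -/

namespace Cfsg.Agent.S5655K1.EV

open Matrix
open Cfsg.Agent.S2644 Cfsg.Agent.Helper2.SUGen Cfsg.Agent.Helper28.SimMax Cfsg.Agent.S5658P

variable {K : Type*} [Field K] {q n : ℕ}

local notation "h" => Cfsg.hermForm n K q
local notation "T" => Cfsg.unitaryTransvection n q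

theorem CHAR2.two_eq_zero [Fintype K] (hK : Fintype.card K = q ^ 2) (hq : Even q) : (2 : K) = 0 := by
  obtain ⟨p, hp⟩ := CharP.exists K
  obtain ⟨m, hpp, hcard⟩ := FiniteField.card K p
  rw [hK] at hcard
  have h2q : 2 ∣ q := even_iff_two_dvd.1 hq
  have h3 : 2 ∣ p ^ (m : ℕ) := by
    rw [← hcard]
    exact dvd_pow h2q (by norm_num)
  have h4 : 2 ∣ p := Nat.Prime.dvd_of_dvd_pow Nat.prime_two h3
  have hp2 : 2 = p := (Nat.prime_dvd_prime_iff_eq Nat.prime_two hpp).1 h4
  subst hp2
  have := CharP.cast_eq_zero K 2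
  exact_mod_cast this

end Cfsg.Agent.S5655K1.EV
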