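import Mathlib
import Cfsg.Agent.Helper3.S5655EVDefs

set_option autoImplicit false
set_option linter.unusedSectionVars false
set_option linter.unusedVariables false

/-! # S5655 k = 1, chapter "q EVEN": pieces COL and CHAR2 -/

namespace Cfsg.Agent.S5655K1.EV

open Matrix
open Cfsg.Agent.S2644 Cfsg.Agent.Helper2.SUGen Cfsg.Agent.Helper28.SimMax Cfsg.Agent.S5658P

variable {K : Type*} [Field K] {q n : ℕ}

local notation "h" => Cfsg.hermForm n K q
local notation "T" => Cfsg.unitaryTransvection n q

/-! ## COL (S): columns -/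

theorem COL.mulVec_single (A : Matrix (Fin n) (Fin n) K) (j : Fin n) :
    A *ᵥ Pi.single j 1 = col A j := by
  ext i
  simp [col]

theorem COL.col_mul (A B : Matrix (Fin n) (Fin n) K) (j : Fin n) : col (A * B) j = A *ᵥ col B j := by
  ext i
  simp [col, Matrix.mul_apply, Matrix.mulVec, dotProduct]

/-- `T v c e_j = e_j + c σ(v_j) v` -/
theorem COL.col_T (D : Frob K q) (v : Fin n → K) (c : K) (j : Fin n) :
    col (T v c) j = Pi.single j 1 + (c * D.σ (v j)) • v := by
  rw [← COL.mulVec_single, T_mulVec, h_single_left D]

theorem COL.wt_zero : wt (0 : Fin n → K) = 0 := by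
  classical
  simp [wt, supp]

theorem COL.wt_eq_zero {v : Fin n → K} (hv : wt v = 0) : v = 0 := by
  classical
  ext i
  by_contra hi
  have : i ∈ supp v := mem_supp.2 hi
  rw [wt, Finset.card_eq_zero] at hv
  rw [hv] at this
  exact absurd this (Finset.notMem_empty i)

theorem COL.wt_single (j : Fin n) {a : K} (ha : a ≠ 0) : wt (Pi.single j a : Fin n → K) = 1 := by
  classical
  have : supp (Pi.single j a : Fin n → K) = {j} := by
    ext i
    rw [mem_supp, Finset.mem_singleton]
    constructor
    · intro hi
      by_contra hij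
      exact hi (by simp [hij])
    · rintro rfl
      rw [Pi.single_eq_same]
      exact ha
  rw [wt, this, Finset.card_singleton]

/-- a matrix with a zero row has determinant `0` -/
theorem COL.det_eq_zero_of_row {A : Matrix (Fin n) (Fin n) K} {i : Fin n} (hi : ∀ j, A i j = 0) :
    A.det = 0 :=
  Matrix.det_eq_zero_of_row_eq_zero i hi

end Cfsg.Agent.S5655K1.EV
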