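import Mathlib
import Cfsg.Prelude.Def_GeometricClasses
import Cfsg.Agent.Helper7.S5655.Defs
import Cfsg.Agent.Helper28.S5655GDefs

/-! S5655 (k = 1), chapter TRANSPORT: piece FRAME. -/

set_option autoImplicit false

namespace Cfsg.Agent.S5655K1

open Matrix
open Cfsg.Agent.S2644 Cfsg.Agent.Helper2.SUGen Cfsg.Agent.Helper28.SimMax Cfsg.Agent.MonoP

variable {K : Type*} [Field K] {q n : ℕ}

local notation "h" => Cfsg.hermForm n K q
local notation "T" => Cfsg.unitaryTransvection n q

/-- FRAME (M): an orthonormal basis adapted to a non-degenerate decomposition into lines. -/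
theorem FRAME.exists [Finite K] (D : Frob K q) {t : ℕ} (Dd : Fin t → Submodule K (Fin n → K))
    (hD : Cfsg.Geo.IsNondegenerateMDecomposition (Cfsg.hermForm n K q) 1 Dd) :
    ∃ (e : Fin n ≃ Fin t) (P P' : Matrix (Fin n) (Fin n) K), Pres (q := q) P ∧ P * P' = 1 ∧ P' * P = 1 ∧
      ∀ i, Dd (e i) = Submodule.span K {P *ᵥ (Pi.single i (1 : K) : Fin n → K)} := by
  classical
  have hd : ∀ i, ∃ d : Fin n → K, d ≠ 0 ∧ d ∈ Dd i ∧ ∀ w ∈ Dd i, ∃ c : K, c • d = w := by
    intro i
    obtain ⟨v, hv0, hv⟩ := finrank_eq_one_iff'.1 (hD.decomp.finrank_eq i)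
    refine ⟨v.1, fun h0 => hv0 (Subtype.ext h0), v.2, fun w hw => ?_⟩
    obtain ⟨c, hc⟩ := hv ⟨w, hw⟩
    exact ⟨c, congrArg Subtype.val hc⟩
  choose d hd0 hdmem hdspan using hd
  have hdd : ∀ i, h (d i) (d i) ≠ 0 := by
    intro i
    obtain ⟨⟨x, hx, hxne⟩, -⟩ := hD.nondegenerate i (d i) (hdmem i) (hd0 i)
    obtain ⟨c, rfl⟩ := hdspan i x hx
    rw [h_smul_left] at hxne
    exact right_ne_zero_of_mul hxne
  have ha : ∀ i, ∃ a : K, a * D.σ a = h (d i) (d i) :=
    fun i => exists_norm D _ (hdd i) (h_self_fix D _)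
  choose a ha using ha
  have ha0 : ∀ i, a i ≠ 0 := by
    intro i h0
    apply hdd i
    rw [← ha i, h0, zero_mul]
  have hsa0 : ∀ i, D.σ (a i) ≠ 0 := fun i => (map_ne_zero D.σ).2 (ha0 i)
  let v : Fin t → Fin n → K := fun i => (a i)⁻¹ • d i
  have hvv : ∀ i, h (v i) (v i) = 1 := by
    intro i
    simp only [v]
    rw [h_smul_left, h_smul_right D, ← ha i, map_inv₀]
    field_simp [ha0 i, hsa0 i]
  have hvo : ∀ i j, i ≠ j → h (v i) (v j) = 0 := by
    intro i j hij
    simp only [v]
    rw [h_smul_left, h_smul_right D, hD.orthogonal i j hij (d i) (hdmem i) (d j) (hdmem j),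
      mul_zero, mul_zero]
  have hv : ∀ i j, h (v i) (v j) = if i = j then 1 else 0 := by
    intro i j
    split_ifs with hij
    · subst hij
      exact hvv i
    · exact hvo i j hij
  have hli : LinearIndependent K v := by
    rw [Fintype.linearIndependent_iff]
    intro c hc j
    have h1 : h (∑ i, c i • v i) (v j) = h 0 (v j) := by rw [hc]
    rw [Cfsg.Agent.S5658P.h_sum_left, h_zero_left] at h1
    simp_rw [h_smul_left, hv, mul_ite, mul_one, mul_zero] at h1
    rw [Finset.sum_ite_eq' Finset.univ j c] at h1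
    simpa using h1
  have hspan_i : ∀ i, Submodule.span K {v i} = Dd i := by
    intro i
    apply le_antisymm
    · rw [Submodule.span_singleton_le_iff_mem]
      exact (Dd i).smul_mem _ (hdmem i)
    · intro w hw
      obtain ⟨c, rfl⟩ := hdspan i w hw
      rw [Submodule.mem_span_singleton]
      refine ⟨c * a i, ?_⟩
      simp only [v]
      rw [smul_smul, mul_assoc, mul_inv_cancel₀ (ha0 i), mul_one]
  have hsp : ⊤ ≤ Submodule.span K (Set.range v) := by
    rw [← hD.decomp.iSup_eq_top]
    apply iSup_le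
    intro i
    rw [← hspan_i i]
    apply Submodule.span_mono
    rintro _ rfl
    exact ⟨i, rfl⟩
  have htn : n = t := by
    have h1 := Module.finrank_eq_card_basis (Module.Basis.mk hli hsp)
    rw [Module.finrank_fin_fun, Fintype.card_fin] at h1
    exact h1
  let e : Fin n ≃ Fin t := finCongr htn
  let P : Matrix (Fin n) (Fin n) K := Matrix.of fun k i => v (e i) k
  let P' : Matrix (Fin n) (Fin n) K := Matrix.of fun i k => D.σ (v (e i) k)
  have hhσ : ∀ x y : Fin n → K, h x y = ∑ k, x k * D.σ (y k) := by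
    intro x y
    unfold Cfsg.hermForm
    apply Finset.sum_congr rfl
    intro k _
    rw [D.pow]
  have hP'P : P' * P = 1 := by
    ext i j
    rw [Matrix.mul_apply]
    have h1 := hv (e j) (e i)
    rw [hhσ] at h1
    simp only [P, P', Matrix.of_apply]
    rw [Matrix.one_apply]
    have h2 : (∑ k, D.σ (v (e i) k) * v (e j) k) = ∑ k, v (e j) k * D.σ (v (e i) k) :=
      Finset.sum_congr rfl (fun k _ => mul_comm _ _)
    rw [h2, h1]
    by_cases hij : i = j
    · subst hij
      simp
    · have : e j ≠ e i := fun hh => hij (e.injective hh).symm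
      rw [if_neg this, if_neg hij]
  have hPP' : P * P' = 1 := mul_eq_one_comm.1 hP'P
  have hPx : ∀ x : Fin n → K, P *ᵥ x = ∑ i, x i • v (e i) := by
    intro x
    ext k
    simp only [Matrix.mulVec, dotProduct, P, Matrix.of_apply, Finset.sum_apply, Pi.smul_apply,
      smul_eq_mul]
    exact Finset.sum_congr rfl (fun i _ => mul_comm _ _)
  have hPres : Pres (q := q) P := by
    intro x y
    rw [hPx, hPx, Cfsg.Agent.S5658P.h_sum_left]
    simp_rw [Cfsg.Agent.S5658P.h_sum_right D, h_smul_left, h_smul_right D, hv,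
      e.injective.eq_iff, mul_ite, mul_one, mul_zero]
    simp_rw [Finset.sum_ite_eq Finset.univ, Finset.mem_univ, if_true]
    rw [hhσ]
  refine ⟨e, P, P', hPres, hPP', hP'P, fun i => ?_⟩
  rw [← hspan_i (e i), hPx]
  congr 2
  rw [Finset.sum_eq_single i]
  · simp
  · intro j _ hji
    simp [hji]
  · intro hi
    exact absurd (Finset.mem_univ i) hi

end Cfsg.Agent.S5655K1
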