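import Mathlib
import Cfsg.Agent.Helper7.S5655.Defs3
import Cfsg.Agent.Helper7.S5655.MonoLib
import Cfsg.Agent.Helper17.S5655CT
import Cfsg.Agent.Helper28.S5655QR
import Cfsg.Agent.Helper3.S5655EVGLUE

/-! # S5655 `k = 1`, chapter SEC: piece SECCOL -/

set_option autoImplicit false

namespace Cfsg.Agent.S5655K1

open Matrix
open Cfsg.Agent.S2644 Cfsg.Agent.Helper2.SUGen Cfsg.Agent.Helper28.SimMax Cfsg.Agent.MonoP

variable {K : Type*} [Field K] {q n : ℕ}

local notation "h" => Cfsg.hermForm n K q
local notation "T" => Cfsg.unitaryTransvection n q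

theorem SECCOL.q_ne_zero (D : Frob K q) : q ≠ 0 := by
  rintro rfl
  have := D.pow 0
  rw [map_zero, pow_zero] at this
  exact zero_ne_one this

/-- SECCOL (M): a non-monomial isometry `A₁` with column `o` in `⟨e_o⟩` has a column `r ≠ o` of weight `≥ 2`. -/
theorem SECCOL.exists (D : Frob K q) (o : Fin n) (H : Subgroup (Matrix.GeneralLinearGroup (Fin n) K))
    (hfull : FullOn q H (Finset.univ.erase o)) (A₁ : Matrix (Fin n) (Fin n) K) (hA₁H : A₁ ∈ MS H)
    (hA₁P : Pres (q := q) A₁) (hnm : ¬ IsMono A₁) (hcol : ∀ i, i ≠ o → A₁ i o = 0) :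
    ∃ w : Fin n → K, h w w = 1 ∧ (∀ i, i ∉ Finset.univ.erase o → w i = 0) ∧ 2 ≤ wt w ∧ HasR D H w := by
  classical
  have hq0 : q ≠ 0 := SECCOL.q_ne_zero D
  obtain ⟨hct1, hct2⟩ := CT.mul_self D hA₁P
  have hdet : A₁.det ≠ 0 := by
    intro h0
    have := congrArg Matrix.det hct1
    rw [Matrix.det_mul, h0, mul_zero, Matrix.det_one] at this
    exact zero_ne_one this
  -- row `o`
  have key : ∀ j, D.σ (A₁ o o) * A₁ o j = (1 : Matrix (Fin n) (Fin n) K) o j := by
    intro j
    rw [← hct1, Matrix.mul_apply, Finset.sum_eq_single o]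
    · rw [ct_apply]
    · intro k _ hk
      rw [ct_apply, hcol k hk, map_zero, zero_mul]
    · intro ho
      exact absurd (Finset.mem_univ o) ho
  have hs0 : D.σ (A₁ o o) ≠ 0 := by
    intro h0
    have := key o
    rw [h0, zero_mul, Matrix.one_apply_eq] at this
    exact zero_ne_one this
  have hrow : ∀ j, j ≠ o → A₁ o j = 0 := by
    intro j hj
    have := key j
    rw [Matrix.one_apply_ne (Ne.symm hj)] at this
    exact (mul_eq_zero.1 this).resolve_left hs0
  -- a column of weight ≥ 2
  have hex : ∃ r, r ≠ o ∧ 2 ≤ wt (A₁ *ᵥ Pi.single r 1) := by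
    by_contra hcon
    push Not at hcon
    apply hnm
    apply Cfsg.Agent.S5655K1.EV.GLUE.of_isMono _ hdet
    intro j
    by_cases hj : j = o
    · subst hj
      exact Cfsg.Agent.S5655K1.EV.GLUE.wt_le_one_of ⟨j, fun i hi => hcol i hi⟩
    · have h1 := hcon j hj
      have h2 : A₁ *ᵥ Pi.single j 1 = Cfsg.Agent.S5655K1.EV.col A₁ j := by
        ext i
        rw [CT.mulVec_single_apply]
        rfl
      rw [h2] at h1
      have h3 : wt (Cfsg.Agent.S5655K1.EV.col A₁ j) =
          Cfsg.Agent.S5655K1.EV.wt (Cfsg.Agent.S5655K1.EV.col A₁ j) := rfl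
      omega
  obtain ⟨r, hro, hwt⟩ := hex
  refine ⟨A₁ *ᵥ Pi.single r 1, ?_, ?_, hwt, ?_⟩
  · rw [hA₁P, Cfsg.Agent.S5658P.h_single_right D, Pi.single_eq_same]
  · intro i hi
    have hio : i = o := by
      by_contra hne
      exact hi (Finset.mem_erase.2 ⟨hne, Finset.mem_univ i⟩)
    rw [hio, CT.mulVec_single_apply]
    exact hrow r hro
  · intro c hc
    rw [← Cfsg.Agent.S5658P.conj_T D hA₁P hct2 (Pi.single r 1) c]
    have hctH : ct D A₁ ∈ MS H := Cfsg.Agent.Helper28.UPair.InM.inv hA₁H hct2
    refine MS_mul (MS_mul hA₁H ?_) hctH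
    apply hfull
    · -- monomial
      refine ⟨1, fun i j hij => ?_⟩
      have hS : SuppOn {r} (T (Pi.single r (1 : K)) c) :=
        SUPPT.suppOn_T hq0 {r} _ (fun i hi => by
          rw [Finset.mem_singleton] at hi
          exact Pi.single_eq_of_ne hi 1) c
      have hij' : i ≠ j := hij
      have hor : i ∉ ({r} : Finset (Fin n)) ∨ j ∉ ({r} : Finset (Fin n)) := by
        by_cases hi : i = r
        · right
          rw [Finset.mem_singleton]
          intro hj
          exact hij' (hi.trans hj.symm)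
        · left
          rw [Finset.mem_singleton]
          exact hi
      rw [hS i j hor, Matrix.one_apply_ne hij']
    · -- isometry
      apply QR.pres D
      have h1 : h (Pi.single r (1 : K)) (Pi.single r (1 : K)) = 1 := by
        rw [Cfsg.Agent.S5658P.h_single_right D, Pi.single_eq_same]
      rw [h1, mul_one]
      have h2 : (1 + c) * D.σ (1 + c) = 1 := hc
      rw [map_add, map_one] at h2
      linear_combination h2
    · -- support
      apply SUPPT.suppOn_T hq0
      intro i hi
      have hio : i = o := by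
        by_contra hne
        exact hi (Finset.mem_erase.2 ⟨hne, Finset.mem_univ i⟩)
      rw [hio]
      exact Pi.single_eq_of_ne (Ne.symm hro) 1

end Cfsg.Agent.S5655K1
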