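import Cfsg.Agent.Helper24.S5658SUMISO

/-! S5658 piece ALLPRATU (driver helper28): an invertible matrix mapping every rational isotropic point to a rational
point is in `K^* GL_n(F₀)`. -/

set_option autoImplicit false
set_option linter.unusedSectionVars false
set_option linter.unusedVariables false

namespace Cfsg.Agent.S5658P

open Matrix
open Cfsg.Agent.S2644 Cfsg.Agent.Helper2.SUGen Cfsg.Agent.Helper28.SimMax Cfsg.Agent.S5639P

variable {K : Type*} [Field K] {q n : ℕ}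

local notation "h" => Cfsg.hermForm n K q
local notation "T" => Cfsg.unitaryTransvection n q

namespace ALLPRATU

/-- an `F₀`-linear retraction `K → F₀` -/
theorem exists_retraction (F₀ : Subfield K) :
    ∃ lam : K → K, (∀ c, lam c ∈ F₀) ∧ (∀ a ∈ F₀, lam a = a) ∧
      (∀ a ∈ F₀, ∀ c, lam (c * a) = lam c * a) ∧ (∀ c d, lam (c + d) = lam c + lam d) := by
  have hinj : LinearMap.ker (Algebra.linearMap ↥F₀ K) = ⊥ := by
    rw [LinearMap.ker_eq_bot]
    exact Subtype.coe_injective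
  obtain ⟨g, hg⟩ := LinearMap.exists_leftInverse_of_injective (Algebra.linearMap ↥F₀ K) hinj
  refine ⟨fun c => ((g c : ↥F₀) : K), fun c => (g c).2, ?_, ?_, ?_⟩
  · intro a ha
    have h1 := LinearMap.congr_fun hg ⟨a, ha⟩
    rw [LinearMap.comp_apply, LinearMap.id_apply] at h1
    have h2 : (Algebra.linearMap ↥F₀ K) ⟨a, ha⟩ = a := rfl
    rw [h2] at h1
    show ((g a : ↥F₀) : K) = a
    rw [h1]
  · intro a ha c
    have h1 : c * a = (⟨a, ha⟩ : ↥F₀) • c := by
      rw [Subfield.smul_def, smul_eq_mul, mul_comm]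
    show ((g (c * a) : ↥F₀) : K) = ((g c : ↥F₀) : K) * a
    rw [h1, map_smul, smul_eq_mul, Subfield.coe_mul, mul_comm]
  · intro c d
    show ((g (c + d) : ↥F₀) : K) = ((g c : ↥F₀) : K) + ((g d : ↥F₀) : K)
    rw [map_add, Subfield.coe_add]

/-- the coefficients of a rational vector in terms of two `K`-independent rational vectors lie in `F₀` -/
theorem coeff_mem (F₀ : Subfield K) {y₁ y₂ : Fin n → K} (hy₁ : Rat F₀ y₁) (hy₂ : Rat F₀ y₂)
    (hind : LinearIndependent K ![y₁, y₂]) {c₁ c₂ : K} (hx : Rat F₀ (c₁ • y₁ + c₂ • y₂)) :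
    c₁ ∈ F₀ ∧ c₂ ∈ F₀ := by
  obtain ⟨lam, hmem, hfix, hmul, hadd⟩ := exists_retraction F₀
  have hkey : (c₁ - lam c₁) • y₁ + (c₂ - lam c₂) • y₂ = 0 := by
    funext i
    have h2 : lam (c₁ * y₁ i + c₂ * y₂ i) = c₁ * y₁ i + c₂ * y₂ i := hfix _ (hx i)
    rw [hadd, hmul _ (hy₁ i), hmul _ (hy₂ i)] at h2
    simp only [Pi.add_apply, Pi.smul_apply, smul_eq_mul, Pi.zero_apply]
    linear_combination -h2
  have h3 := (LinearIndependent.pair_iff.1 hind) _ _ hkey
  constructor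
  · have := h3.1
    rw [sub_eq_zero] at this
    rw [this]; exact hmem _
  · have := h3.2
    rw [sub_eq_zero] at this
    rw [this]; exact hmem _

/-- transfer of the scalar along two independent vectors whose sum is again "good" -/
theorem transfer (F₀ : Subfield K) (A : Matrix (Fin n) (Fin n) K)
    (hA : ∀ x : Fin n → K, A *ᵥ x = 0 → x = 0) {s₁ s₂ : Fin n → K} {z₁ z₂ z₃ : K}
    (hz₁ : z₁ ≠ 0) (hz₂ : z₂ ≠ 0) (hz₃ : z₃ ≠ 0)
    (h₁ : Rat F₀ (z₁ • A *ᵥ s₁)) (h₂ : Rat F₀ (z₂ • A *ᵥ s₂))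
    (h₃ : Rat F₀ (z₃ • A *ᵥ (s₁ + s₂)))
    (hind : LinearIndependent K ![s₁, s₂]) : Rat F₀ (z₁ • A *ᵥ s₂) := by
  have hpind : LinearIndependent K ![z₁ • A *ᵥ s₁, z₂ • A *ᵥ s₂] := by
    rw [LinearIndependent.pair_iff]
    intro a b hab
    have h0 : A *ᵥ ((a * z₁) • s₁ + (b * z₂) • s₂) = 0 := by
      rw [Matrix.mulVec_add, Matrix.mulVec_smul, Matrix.mulVec_smul, ← hab, smul_smul, smul_smul]
    have h1 := hA _ h0
    have h2 := (LinearIndependent.pair_iff.1 hind) _ _ h1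
    constructor
    · rcases mul_eq_zero.1 h2.1 with hh | hh
      · exact hh
      · exact absurd hh hz₁
    · rcases mul_eq_zero.1 h2.2 with hh | hh
      · exact hh
      · exact absurd hh hz₂
  have hsum : (z₃ / z₁) • (z₁ • A *ᵥ s₁) + (z₃ / z₂) • (z₂ • A *ᵥ s₂) =
      z₃ • A *ᵥ (s₁ + s₂) := by
    rw [smul_smul, smul_smul, div_mul_cancel₀ _ hz₁, div_mul_cancel₀ _ hz₂, Matrix.mulVec_add,
      smul_add]
  obtain ⟨hc0, hc1⟩ := coeff_mem F₀ h₁ h₂ hpind (c₁ := z₃ / z₁) (c₂ := z₃ / z₂)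
    (by rw [hsum]; exact h₃)
  have hq : z₁ / z₂ ∈ F₀ := by
    have e : z₁ / z₂ = (z₃ / z₂) * (z₃ / z₁)⁻¹ := by
      field_simp
    rw [e]
    exact F₀.mul_mem hc1 (F₀.inv_mem hc0)
  have e2 : z₁ • A *ᵥ s₂ = (z₁ / z₂) • (z₂ • A *ᵥ s₂) := by
    rw [smul_smul, div_mul_cancel₀ _ hz₂]
  rw [e2]
  exact Rat.smul hq h₂

/-- one step of the chain: independent rational isotropic vectors share the scalar -/
theorem step (D : Frob K q) (F₀ : Subfield K) (hθ : ∃ θ ∈ F₀, D.σ θ ≠ θ)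
    (A : Matrix (Fin n) (Fin n) K) (hA : ∀ x : Fin n → K, A *ᵥ x = 0 → x = 0)
    (hall : ∀ u : Fin n → K, Rat F₀ u → u ≠ 0 → h u u = 0 → PRat F₀ (A *ᵥ u))
    {z : K} (hz : z ≠ 0) {s₁ s₂ : Fin n → K} (hr₁ : Rat F₀ s₁) (hr₂ : Rat F₀ s₂)
    (hQ₁ : h s₁ s₁ = 0) (hQ₂ : h s₂ s₂ = 0)
    (hind : LinearIndependent K ![s₁, s₂]) (h₁ : Rat F₀ (z • A *ᵥ s₁)) :
    Rat F₀ (z • A *ᵥ s₂) := by
  -- a rational non-zero `t` with `s₁ + t • s₂` isotropic
  obtain ⟨t, ht, ht0, hiso⟩ : ∃ t : K, t ∈ F₀ ∧ t ≠ 0 ∧ h (s₁ + t • s₂) (s₁ + t • s₂) = 0 := by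
    have hexp : ∀ t : K, h (s₁ + t • s₂) (s₁ + t • s₂) = D.σ (t * h s₂ s₁) + t * h s₂ s₁ := by
      intro t
      rw [h_add_left, h_add_right D, h_add_right D, h_smul_left, h_smul_left, h_smul_right D,
        h_smul_right D, hQ₁, hQ₂, map_mul, h_conj D]
      ring
    by_cases hc : h s₂ s₁ = 0
    · refine ⟨1, F₀.one_mem, one_ne_zero, ?_⟩
      rw [hexp, hc, mul_zero, map_zero, add_zero]
    · obtain ⟨s₀, hs₀, hs₀0, hsk⟩ := exists_rat_skew D F₀ hθ
      have hcm : h s₂ s₁ ∈ F₀ := Rat.herm F₀ hr₂ hr₁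
      refine ⟨s₀ / h s₂ s₁, F₀.div_mem hs₀ hcm, div_ne_zero hs₀0 hc, ?_⟩
      rw [hexp, div_mul_cancel₀ _ hc, hsk]
      ring
  have hts₂0 : t • s₂ ≠ 0 := by
    have := hind.ne_zero 1
    have hs₂0 : s₂ ≠ 0 := by simpa using this
    exact smul_ne_zero ht0 hs₂0
  have hind' : LinearIndependent K ![s₁, t • s₂] := by
    rw [LinearIndependent.pair_iff]
    intro a b hab
    have h2 := (LinearIndependent.pair_iff.1 hind) a (b * t) (by rw [← smul_smul]; exact hab)
    refine ⟨h2.1, ?_⟩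
    rcases mul_eq_zero.1 h2.2 with hh | hh
    · exact hh
    · exact absurd hh ht0
  have hs₃0 : s₁ + t • s₂ ≠ 0 := by
    intro h0
    have h2 := (LinearIndependent.pair_iff.1 hind') 1 1 (by rw [one_smul, one_smul]; exact h0)
    exact one_ne_zero h2.1
  have hQt : h (t • s₂) (t • s₂) = 0 := by
    rw [h_smul_left, h_smul_right D, hQ₂, mul_zero, mul_zero]
  obtain ⟨z₂, hz₂, h₂⟩ := hall (t • s₂) (Rat.smul ht hr₂) hts₂0 hQt
  obtain ⟨z₃, hz₃, h₃⟩ := hall (s₁ + t • s₂) (S5639P.Rat.add hr₁ (Rat.smul ht hr₂)) hs₃0 hiso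
  have h4 := transfer F₀ A hA hz hz₂ hz₃ h₁ h₂ h₃ hind'
  have e : z • A *ᵥ s₂ = t⁻¹ • (z • A *ᵥ (t • s₂)) := by
    rw [Matrix.mulVec_smul, smul_comm z t, smul_smul, inv_mul_cancel₀ ht0, one_smul]
  rw [e]
  exact Rat.smul (F₀.inv_mem ht) h4

/-- a non-zero vector is independent of one of two independent vectors -/
theorem indep_or {u w y : Fin n → K} (hi : LinearIndependent K ![u, w]) (hy : y ≠ 0) :
    LinearIndependent K ![u, y] ∨ LinearIndependent K ![w, y] := by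
  by_cases h1 : LinearIndependent K ![u, y]
  · exact Or.inl h1
  · right
    rw [LinearIndependent.pair_iff] at h1
    push Not at h1
    obtain ⟨a, b, hab, hne⟩ := h1
    have hu0 : u ≠ 0 := by
      have := hi.ne_zero 0
      simpa using this
    have hb : b ≠ 0 := by
      intro hb
      rw [hb, zero_smul, add_zero] at hab
      rcases smul_eq_zero.1 hab with hh | hh
      · exact hne hh hb
      · exact hu0 hh
    have ha : a ≠ 0 := by
      intro ha
      rw [ha, zero_smul, zero_add] at hab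
      rcases smul_eq_zero.1 hab with hh | hh
      · exact hb hh
      · exact hy hh
    rw [LinearIndependent.pair_iff]
    intro c d hcd
    -- `y = -(a / b) • u`
    have hyu : y = (-(a / b)) • u := by
      have e : b • y = -(a • u) := by
        rw [eq_neg_iff_add_eq_zero, add_comm]; exact hab
      have e2 : y = b⁻¹ • (b • y) := by rw [smul_smul, inv_mul_cancel₀ hb, one_smul]
      rw [e2, e, smul_neg, smul_smul, neg_smul]
      congr 2
      field_simp
    rw [hyu, smul_smul] at hcd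
    have h2 := (LinearIndependent.pair_iff.1 hi) (d * -(a / b)) c (by rw [add_comm]; exact hcd)
    refine ⟨h2.2, ?_⟩
    rcases mul_eq_zero.1 h2.1 with hh | hh
    · exact hh
    · exfalso
      rw [neg_eq_zero, div_eq_zero_iff] at hh
      rcases hh with hh | hh
      · exact ha hh
      · exact hb hh

/-- a rational isotropic independent pair (from SUMISO applied to a standard basis vector) -/
theorem exists_pair' [Finite K] (hn : 13 ≤ n) (D : Frob K q) (F₀ : Subfield K)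
    (hθ : ∃ θ ∈ F₀, D.σ θ ≠ θ) :
    ∃ u w : Fin n → K, Rat F₀ u ∧ Rat F₀ w ∧ h u u = 0 ∧ h w w = 0 ∧
      LinearIndependent K ![u, w] := by
  classical
  set j : Fin n := ⟨0, by omega⟩ with hj
  obtain ⟨x₁, x₂, hx₁, hx₂, hsum, h11, h22, -, -⟩ :=
    SUMISO.exists_sum (K := K) (q := q) (n := n) hn D F₀ hθ (b := 0) (x := Pi.single j 1)
      Rat.zero (Rat.single j F₀.one_mem) (h_zero_right D _)
  have hxx : h (Pi.single j (1 : K)) (Pi.single j 1) = 1 := by
    rw [h_single_right D, Pi.single_eq_same]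
  refine ⟨x₁, x₂, hx₁, hx₂, h11, h22, ?_⟩
  rw [LinearIndependent.pair_iff]
  intro a b hab
  -- a multiple of an isotropic vector is isotropic
  have hmul : ∀ (c : K) (y : Fin n → K), h y y = 0 → h (c • y) (c • y) = 0 := by
    intro c y hy
    rw [h_smul_left, h_smul_right D, hy, mul_zero, mul_zero]
  by_contra hne
  push Not at hne
  by_cases hb : b = 0
  · have ha : a ≠ 0 := fun ha => hne ha hb
    rw [hb, zero_smul, add_zero] at hab
    have hx10 : x₁ = 0 := by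
      rcases smul_eq_zero.1 hab with hh | hh
      · exact absurd hh ha
      · exact hh
    rw [hx10, zero_add] at hsum
    rw [hsum, h22] at hxx
    exact zero_ne_one hxx
  · have hx2 : x₂ = (-(a / b)) • x₁ := by
      have e : b • x₂ = -(a • x₁) := by
        rw [eq_neg_iff_add_eq_zero, add_comm]; exact hab
      have e2 : x₂ = b⁻¹ • (b • x₂) := by rw [smul_smul, inv_mul_cancel₀ hb, one_smul]
      rw [e2, e, smul_neg, smul_smul, neg_smul]
      congr 2
      field_simp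
    have hx : (Pi.single j (1 : K) : Fin n → K) = (1 + -(a / b)) • x₁ := by
      rw [hsum, add_smul, one_smul, ← hx2]
    rw [hx, hmul _ _ h11] at hxx
    exact zero_ne_one hxx

end ALLPRATU

/-- ALLPRATU (M): an element sending every rational isotropic point to a rational point is in `K^* GL_n(F₀)`. -/
theorem ALLPRATU.inN_of_all [Finite K] (hn : 13 ≤ n) (D : Frob K q) (F₀ : Subfield K)
    (hθ : ∃ θ ∈ F₀, D.σ θ ≠ θ) (g : Matrix.GeneralLinearGroup (Fin n) K)
    (hall : ∀ u : Fin n → K, Rat F₀ u → u ≠ 0 → h u u = 0 →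
      PRat F₀ ((g : Matrix (Fin n) (Fin n) K) *ᵥ u)) :
    InN F₀ (g : Matrix (Fin n) (Fin n) K) := by
  classical
  set A : Matrix (Fin n) (Fin n) K := (g : Matrix (Fin n) (Fin n) K) with hAdef
  have hA : ∀ x : Fin n → K, A *ᵥ x = 0 → x = 0 := by
    intro x hx
    have h1 : ((g⁻¹ : Matrix.GeneralLinearGroup (Fin n) K) : Matrix (Fin n) (Fin n) K) *ᵥ (A *ᵥ x)
        = x := by
      rw [Matrix.mulVec_mulVec, hAdef, ← Matrix.GeneralLinearGroup.coe_mul, inv_mul_cancel]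
      simp
    rw [hx, Matrix.mulVec_zero] at h1
    exact h1.symm
  obtain ⟨u, w, hu, hw, huu, hww, hi⟩ := ALLPRATU.exists_pair' (K := K) (q := q) (n := n) hn D F₀ hθ
  have hu0 : u ≠ 0 := by
    have := hi.ne_zero 0
    simpa using this
  obtain ⟨z, hz, hzu⟩ := hall u hu hu0 huu
  have hzw : Rat F₀ (z • A *ᵥ w) :=
    ALLPRATU.step D F₀ hθ A hA hall hz hu hw huu hww hi hzu
  -- all rational isotropic vectors
  have hiso : ∀ y : Fin n → K, Rat F₀ y → h y y = 0 → Rat F₀ (z • A *ᵥ y) := by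
    intro y hy hyy
    by_cases hy0 : y = 0
    · rw [hy0, Matrix.mulVec_zero, smul_zero]
      exact Rat.zero
    · rcases ALLPRATU.indep_or hi hy0 with h1 | h1
      · exact ALLPRATU.step D F₀ hθ A hA hall hz hu hy huu hyy h1 hzu
      · exact ALLPRATU.step D F₀ hθ A hA hall hz hw hy hww hyy h1 hzw
  refine ⟨z, hz, ?_⟩
  intro i j
  obtain ⟨x₁, x₂, hx₁, hx₂, hsum, h11, h22, -, -⟩ :=
    SUMISO.exists_sum (K := K) (q := q) (n := n) hn D F₀ hθ (b := 0) (x := Pi.single j 1)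
      (Rat.zero) (Rat.single j F₀.one_mem) (h_zero_right D _)
  have h5 : Rat F₀ (z • A *ᵥ (Pi.single j 1)) := by
    rw [hsum, Matrix.mulVec_add, smul_add]
    exact S5639P.Rat.add (hiso x₁ hx₁ h11) (hiso x₂ hx₂ h22)
  have h6 := h5 i
  rw [Pi.smul_apply, Matrix.mulVec_single_one] at h6
  exact h6

end Cfsg.Agent.S5658P
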