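import Mathlib
import Cfsg.Prelude.Def_GeometricClasses
import Cfsg.Agent.Helper2.S5886.Defs
import Cfsg.Agent.Helper2.S5664.Defs
import Cfsg.Agent.Helper22.S5886YADD
import Cfsg.Agent.Helper5.S5664YKTV
import Cfsg.Agent.Helper20.S5664PAIRSUM
import Cfsg.Agent.Helper11.S5664YPIECE
import Cfsg.Agent.Helper11.S5664YPIECE2

/-! # S5664 piece FULLTV (helper17): in the full case `Sig' = univ` the `F`-transvection
`x ↦ x + trf x v • v` lies in `M`. -/

set_option autoImplicit false

namespace Cfsg.Agent.S5664P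

open Cfsg.Agent.S5886P

variable {F K V : Type*} [Field F] [Field K] [Algebra F K]
  [AddCommGroup V] [Module F V] [Module K V] [IsScalarTower F K V]

namespace FULLTVaux

/-- `yset M L` as an additive subgroup. -/
def ygrp' (M : Subgroup (V ≃ₗ[F] V)) (L : Submodule F V) : AddSubgroup (V →ₗ[F] V) where
  carrier := yset M L
  add_mem' := fun {a b} ha hb => YADD.add M L a b ha hb
  zero_mem' := YADD.zero M L
  neg_mem' := fun {a} ha => YADD.neg M L a ha

theorem mem_ygrp' (M : Subgroup (V ≃ₗ[F] V)) (L : Submodule F V) (A : V →ₗ[F] V) :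
    A ∈ ygrp' M L ↔ A ∈ yset M L := Iff.rfl

/-- a group of prime order is commutative -/
theorem comm_of_prime_card {G : Type*} [Group G] {r : ℕ} (hr : r.Prime) (hc : Nat.card G = r)
    (a b : G) : a * b = b * a := by
  have : Fact r.Prime := ⟨hr⟩
  have : IsCyclic G := isCyclic_of_prime_card hc
  obtain ⟨g, hg⟩ := IsCyclic.exists_generator (α := G)
  obtain ⟨m, rfl⟩ := Subgroup.mem_zpowers_iff.mp (hg a)
  obtain ⟨n, rfl⟩ := Subgroup.mem_zpowers_iff.mp (hg b)
  rw [← zpow_add, ← zpow_add, add_comm]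

end FULLTVaux

open FULLTVaux in
/-- FULLTV -/
theorem FULLTV [Finite F] [Finite K] [Finite V] (hr : (Module.finrank F K).Prime)
    (B : V →ₗ[K] V →ₗ[K] K) (hB : IsAltND B)
    (M : Subgroup (V ≃ₗ[F] V)) (hK : SpK F B ≤ M) (hM : M ≤ SpF F B) (v : V) (hv : v ≠ 0)
    (hS : Sig' (K := K) M (Kline (F := F) (K := K) v) = Set.univ) :
    ∃ g ∈ M, ∀ x, g x = x + trf F B x v • v := by
  classical
  have : IsGalois F K := inferInstance
  have hcard : Nat.card (K ≃ₐ[F] K) = Module.finrank F K := IsGalois.card_aut_eq_finrank F K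
  have hmem : ∀ σ : K ≃ₐ[F] K, σ ∈ Sig' (K := K) M (Kline (F := F) (K := K) v) := by
    intro σ
    rw [hS]
    exact Set.mem_univ σ
  have hsum : ∑ σ : K ≃ₐ[F] K, smap B v σ 1 ∈ ygrp' M (Kline (F := F) (K := K) v) := by
    by_cases h2 : Module.finrank F K = 2
    · refine AddSubgroup.sum_mem _ (fun σ _ => ?_)
      exact YPIECE2 h2 B hB M hK hM v hv σ (hmem σ)
    · let cg : CommGroup (K ≃ₐ[F] K) :=
        { (inferInstance : Group (K ≃ₐ[F] K)) with
          mul_comm := comm_of_prime_card hr hcard }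
      have hodd : Odd (Fintype.card (K ≃ₐ[F] K)) := by
        rw [← Nat.card_eq_fintype_card, hcard]
        exact hr.odd_of_ne_two h2
      refine PAIRSUM hodd (ygrp' M (Kline (F := F) (K := K) v)) (fun σ => smap B v σ 1) ?_ ?_
      · exact YKTV B hB M hK v 1
      · intro σ hσ
        have h := YPIECE hr h2 B hB M hK hM v hv σ hσ (hmem σ) 1
        rw [map_one] at h
        exact h
  obtain ⟨_, g, hg, hgx⟩ := hsum
  refine ⟨g, hg, fun x => ?_⟩
  rw [hgx x]
  congr 1
  rw [LinearMap.sum_apply]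
  simp only [smap_apply, one_mul]
  rw [← Finset.sum_smul, ← trace_eq_sum_automorphisms, algebraMap_smul]
  rfl

end Cfsg.Agent.S5664P
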