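import Cfsg.Agent.Helper29.S5677.Defs
import Cfsg.Agent.Helper24.S5677GEOB
import Cfsg.Agent.Helper2.S5677BLK

/-! S5677 piece DIM3T (driver helper29): for `k = 3`, `Tu D c u = ⟨u, w⟩` with `w` nonsingular. -/

set_option autoImplicit false
set_option linter.unusedSectionVars false
set_option linter.unusedVariables false

namespace Cfsg.Agent.S5677P

open Matrix Cfsg.Agent.Helper28.Sg Cfsg.Agent.Helper28.Spin Cfsg.Agent.Helper12.OrthGen
  Cfsg.Agent.S2614 Cfsg.Agent.S5683P Cfsg.Agent.Helper28.NDM

variable {F : Type*} [Field F] {m t k : ℕ} {D : Fin t → Submodule F (Idx m → F)}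
  {M : Subgroup (OG m F)}

/-- `k = 3`: `Tu D c u = ⟨u, w⟩` with `w` nonsingular -/
theorem DIM3T.basis [Fintype F] (h2 : (2 : F) ≠ 0) (hD : HD k D) (hk : k = 3) {c : Fin t}
    {u : Idx m → F} (hu : u ∈ D c) (hu0 : u ≠ 0) (hQu : QfOdd m F u = 0) :
    ∃ w ∈ D c, QfOdd m F w ≠ 0 ∧ B (QfOdd m F) u w = 0 ∧
      ∀ x ∈ Tu D c u, ∃ α β : F, x = α • u + β • w := by
  classical
  obtain ⟨f, hf, hQf, huf⟩ := BLK.partner hD hu hu0 hQu
  obtain ⟨w₀, hw₀, huw₀, hQw₀⟩ :=
    GEOB.nonsing_perp h2 (D c) (BLK.ndon hD c) (BLK.three hD c) hu hu0 hQu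
  have huu : B (QfOdd m F) u u = 0 := B_self_of_singular _ hQu
  have hff : B (QfOdd m F) f f = 0 := B_self_of_singular _ hQf
  have hfu : B (QfOdd m F) f u = 1 := by rw [B_comm]; exact huf
  obtain ⟨w, hwdef⟩ : ∃ w : Idx m → F, w = w₀ - B (QfOdd m F) f w₀ • u := ⟨_, rfl⟩
  have hw : w ∈ D c := by
    rw [hwdef]
    exact (D c).sub_mem hw₀ ((D c).smul_mem _ hu)
  have huw : B (QfOdd m F) u w = 0 := by
    rw [hwdef]
    simp only [B, QuadraticMap.polar_sub_right, QuadraticMap.polar_smul_right, smul_eq_mul] at *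
    rw [huw₀, huu, mul_zero, sub_zero]
  have hfw : B (QfOdd m F) f w = 0 := by
    rw [hwdef]
    simp only [B, QuadraticMap.polar_sub_right, QuadraticMap.polar_smul_right, smul_eq_mul] at *
    rw [hfu, mul_one, sub_self]
  have hQw : QfOdd m F w ≠ 0 := by
    have e : QfOdd m F w = QfOdd m F w₀ := by
      rw [hwdef, sub_eq_add_neg, ← neg_smul, Q_add, Q_smul, hQu]
      have e2 : B (QfOdd m F) w₀ u = 0 := by rw [B_comm]; exact huw₀
      simp only [B, QuadraticMap.polar_smul_right, smul_eq_mul] at e2 ⊢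
      rw [e2]
      ring
    rw [e]
    exact hQw₀
  have hw0 : w ≠ 0 := by
    intro h
    apply hQw
    rw [h, map_zero]
  have hli : LinearIndependent F ![u, f, w] := by
    rw [Fintype.linearIndependent_iff]
    intro g hg
    rw [Fin.sum_univ_three] at hg
    simp only [Matrix.cons_val_zero, Matrix.cons_val_one, Matrix.cons_val_two,
      Matrix.head_cons, Matrix.tail_cons] at hg
    have h1 : g 1 = 0 := by
      have := congrArg (fun z => B (QfOdd m F) u z) hg
      simp only [B, QuadraticMap.polar_add_right, QuadraticMap.polar_smul_right, smul_eq_mul,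
        QuadraticMap.polar_zero_right] at this huu huf huw
      rw [huu, huf, huw] at this
      linear_combination this
    have h0 : g 0 = 0 := by
      have := congrArg (fun z => B (QfOdd m F) f z) hg
      simp only [B, QuadraticMap.polar_add_right, QuadraticMap.polar_smul_right, smul_eq_mul,
        QuadraticMap.polar_zero_right] at this hfu hff hfw
      rw [hfu, hff, hfw] at this
      linear_combination this
    have h2' : g 2 = 0 := by
      rw [h0, h1, zero_smul, zero_smul, zero_add, zero_add] at hg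
      exact (smul_eq_zero.1 hg).resolve_right hw0
    intro i
    fin_cases i
    · exact h0
    · exact h1
    · exact h2'
  have hspan : Submodule.span F (Set.range ![u, f, w]) = D c := by
    apply Submodule.eq_of_le_of_finrank_eq
    · rw [Submodule.span_le]
      rintro _ ⟨i, rfl⟩
      fin_cases i
      · exact hu
      · exact hf
      · exact hw
    · rw [finrank_span_eq_card hli, hD.rank c, hk]
      rfl
  refine ⟨w, hw, hQw, huw, ?_⟩
  intro x hx
  obtain ⟨hxD, hux⟩ := hx
  rw [← hspan] at hxD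
  obtain ⟨g, hg⟩ := (Submodule.mem_span_range_iff_exists_fun F).1 hxD
  rw [Fin.sum_univ_three] at hg
  simp only [Matrix.cons_val_zero, Matrix.cons_val_one, Matrix.cons_val_two,
    Matrix.head_cons, Matrix.tail_cons] at hg
  have h1 : g 1 = 0 := by
    rw [← hg] at hux
    simp only [B, QuadraticMap.polar_add_right, QuadraticMap.polar_smul_right, smul_eq_mul] at hux huu huf huw
    rw [huu, huf, huw] at hux
    linear_combination hux
  refine ⟨g 0, g 2, ?_⟩
  rw [← hg, h1, zero_smul, add_zero]

end Cfsg.Agent.S5677P
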