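import Cfsg.Agent.Helper28.S5700.Lib
import Cfsg.Agent.Helper5.S5700EXK
import Cfsg.Agent.Helper23.S5700CONN

/-! S5700 piece ALLPRAT1 (driver helper28): a matrix mapping every singular vector `w` into `K w` acts on
all singular vectors by one and the same element of `K`. -/

set_option autoImplicit false
set_option linter.unusedSectionVars false
set_option linter.unusedVariables false

namespace Cfsg.Agent.S5700P

open Matrix Module Cfsg.Agent.Helper28.Sg Cfsg.Agent.Helper28.Spin Cfsg.Agent.Helper12.OrthGen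

variable {F : Type*} [Field F] [Fintype F] {ι : Type} [Fintype ι] [DecidableEq ι]
  {Q : QuadraticForm F (ι → F)} {J : Matrix ι ι F} {t p : F}

namespace ALLPRAT1

/-- two `h`-orthogonal singular vectors on different `K`-points have the same coefficients -/
theorem link (U : UData Q J t p) (A : Matrix ι ι F) (hA : ∀ w, Q w = 0 → InK J w (A *ᵥ w))
    {w y : ι → F} (hw : Q w = 0) (hy : Q y = 0) (hw0 : w ≠ 0) (hyw : hperp Q J y w)
    (hK : ¬ InK J w y) {a b c d : F} (h1 : A *ᵥ w = a • w + b • J *ᵥ w)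
    (h2 : A *ᵥ y = c • y + d • J *ᵥ y) : a = c ∧ b = d := by
  have hs : Q (y + w) = 0 := by rw [hyw.Q_add, hy, hw, add_zero]
  obtain ⟨e, f, h3⟩ := hA _ hs
  rw [Matrix.mulVec_add, h1, h2, Matrix.mulVec_add] at h3
  have h4 : (a - e) • w + (b - f) • J *ᵥ w + ((c - e) • y + (d - f) • J *ᵥ y) = 0 := by
    have : (a - e) • w + (b - f) • J *ᵥ w + ((c - e) • y + (d - f) • J *ᵥ y) =
        (c • y + d • J *ᵥ y + (a • w + b • J *ᵥ w)) - (e • (y + w) + f • (J *ᵥ y + J *ᵥ w)) := by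
      module
    rw [this, h3, sub_self]
  obtain ⟨e1, e2, e3, e4⟩ := U.comb4_eq_zero hw0 hK h4
  constructor
  · rw [sub_eq_zero.1 e1, sub_eq_zero.1 e3]
  · rw [sub_eq_zero.1 e2, sub_eq_zero.1 e4]

end ALLPRAT1

/-- ALLPRAT1 (M): constant coefficients. -/
theorem ALLPRAT1.const (U : UData Q J t p) (hQ : (QuadraticMap.polarBilin Q).Nondegenerate)
    (hn : 14 ≤ Fintype.card ι) (A : Matrix ι ι F) (hA : ∀ w, Q w = 0 → InK J w (A *ᵥ w)) :
    ∃ a b : F, ∀ w, Q w = 0 → A *ᵥ w = a • w + b • J *ᵥ w := by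
  obtain ⟨w₀, w₂, h1, h2, h12, -, -⟩ := EXK.K1 hQ hn J (0 : ι → F)
  have hw₀0 : w₀ ≠ 0 := by
    intro h
    rw [h, B_zero_left] at h12
    exact zero_ne_one h12
  obtain ⟨a, b, hab⟩ := hA w₀ h1
  refine ⟨a, b, ?_⟩
  intro w hw
  by_cases hw0 : w = 0
  · rw [hw0, Matrix.mulVec_zero, Matrix.mulVec_zero, smul_zero, smul_zero, add_zero]
  obtain ⟨y, hy, hy0, hyw₀, hyw, hK₀, hK⟩ := CONN.exists_conn U hQ hn w₀ w
  obtain ⟨c, d, hcd⟩ := hA y hy
  obtain ⟨a', b', hab'⟩ := hA w hw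
  obtain ⟨e1, e2⟩ := ALLPRAT1.link U A hA h1 hy hw₀0 hyw₀ hK₀ hab hcd
  obtain ⟨e3, e4⟩ := ALLPRAT1.link U A hA hw hy hw0 hyw hK hab' hcd
  rw [hab', e3, e4, ← e1, ← e2]

end Cfsg.Agent.S5700P
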