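import Cfsg.Agent.Helper28.S5700.Lib
import Cfsg.Agent.Helper5.S5700EXHYP5

/-! S5700 piece ALLPRAT2 (driver helper28): matrices agreeing on singular vectors are equal. -/

set_option autoImplicit false
set_option linter.unusedSectionVars false
set_option linter.unusedVariables false

namespace Cfsg.Agent.S5700P

open Matrix Module Cfsg.Agent.Helper28.Sg Cfsg.Agent.Helper28.Spin Cfsg.Agent.Helper12.OrthGen

variable {F : Type*} [Field F] [Fintype F] {ι : Type} [Fintype ι] [DecidableEq ι]
  {Q : QuadraticForm F (ι → F)} {J : Matrix ι ι F} {t p : F}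

/-- ALLPRAT2 (S-M): matrices agreeing on the singular vectors are equal. -/
theorem ALLPRAT2.eq_of_singular (hQ : (QuadraticMap.polarBilin Q).Nondegenerate)
    (hn : 14 ≤ Fintype.card ι) (A A' : Matrix ι ι F)
    (h : ∀ w, Q w = 0 → A *ᵥ w = A' *ᵥ w) : A = A' := by
  obtain ⟨w₁, w₂, h1, h2, h12, -, -⟩ :=
    EXHYP5.of_le5 hQ hn ⊥ (by rw [finrank_bot]; exact Nat.zero_le _)
  apply matrix_ext_mulVec
  intro x
  obtain ⟨c₁, c₂, hs⟩ := exists_singular_add h1 h2 h12 x
  have e := h _ hs
  have e1 := h _ h1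
  have e2 := h _ h2
  rw [Matrix.mulVec_add, Matrix.mulVec_add, Matrix.mulVec_smul, Matrix.mulVec_smul,
    Matrix.mulVec_add, Matrix.mulVec_add, Matrix.mulVec_smul, Matrix.mulVec_smul, e1, e2] at e
  exact add_right_cancel (add_right_cancel e)

end Cfsg.Agent.S5700P
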