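import Cfsg.Agent.Helper28.S5700.Lib
import Cfsg.Agent.Helper5.S5700EXHYP

/-! S5700 pieces EXHYP5 + EXHYP6 (driver helper28): hyperbolic pairs orthogonal to small subspaces. -/

set_option autoImplicit false
set_option linter.unusedSectionVars false
set_option linter.unusedVariables false

namespace Cfsg.Agent.S5700P

open Matrix Module Cfsg.Agent.Helper28.Sg Cfsg.Agent.Helper28.Spin Cfsg.Agent.Helper12.OrthGen

variable {F : Type*} [Field F] [Fintype F] {ι : Type} [Fintype ι] [DecidableEq ι]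
  {Q : QuadraticForm F (ι → F)} {J : Matrix ι ι F} {t p : F}

/-- EXHYP5 (S) -/
theorem EXHYP5.of_le5 (hQ : (QuadraticMap.polarBilin Q).Nondegenerate) (hn : 14 ≤ Fintype.card ι)
    (U : Submodule F (ι → F)) (hU : finrank F ↥U ≤ 5) :
    ∃ w₁ w₂ : ι → F, Q w₁ = 0 ∧ Q w₂ = 0 ∧ B Q w₁ w₂ = 1 ∧
      (∀ u ∈ U, B Q u w₁ = 0) ∧ (∀ u ∈ U, B Q u w₂ = 0) := by
  apply EXHYP.exists_hyp hQ U
  have h1 := LinearMap.BilinForm.finrank_orthogonal hQ U
  rw [Module.finrank_fintype_fun_eq_card] at h1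
  have h2 : finrank F ↥(U ⊓ LinearMap.BilinForm.orthogonal (QuadraticMap.polarBilin Q) U) ≤
      finrank F ↥U := Submodule.finrank_mono inf_le_left
  omega

/-- EXHYP6 (S) -/
theorem EXHYP6.of_le6 (hQ : (QuadraticMap.polarBilin Q).Nondegenerate) (hn : 14 ≤ Fintype.card ι)
    (U : Submodule F (ι → F)) (hU : finrank F ↥U ≤ 6) (hne : ∃ x ∈ U, ∃ y ∈ U, B Q x y ≠ 0) :
    ∃ w₁ w₂ : ι → F, Q w₁ = 0 ∧ Q w₂ = 0 ∧ B Q w₁ w₂ = 1 ∧
      (∀ u ∈ U, B Q u w₁ = 0) ∧ (∀ u ∈ U, B Q u w₂ = 0) := by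
  apply EXHYP.exists_hyp hQ U
  have h1 := LinearMap.BilinForm.finrank_orthogonal hQ U
  rw [Module.finrank_fintype_fun_eq_card] at h1
  obtain ⟨x, hx, y, hy, hxy⟩ := hne
  have hlt : U ⊓ LinearMap.BilinForm.orthogonal (QuadraticMap.polarBilin Q) U < U := by
    refine lt_of_le_of_ne inf_le_left ?_
    intro h
    have hy' : y ∈ U ⊓ LinearMap.BilinForm.orthogonal (QuadraticMap.polarBilin Q) U := by
      rw [h]; exact hy
    have := (LinearMap.BilinForm.mem_orthogonal_iff.1 hy'.2) x hx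
    exact hxy this
  have h2 := Submodule.finrank_lt_finrank_of_lt hlt
  omega

end Cfsg.Agent.S5700P
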