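import Cfsg.Agent.Helper28.S5700.Lib
import Cfsg.Agent.Helper17.S5700EXHYP56

/-! S5700 piece EXK (driver helper28): hyperbolic pairs `h`-orthogonal to one, two, three `K`-lines. -/

set_option autoImplicit false
set_option linter.unusedSectionVars false
set_option linter.unusedVariables false

namespace Cfsg.Agent.S5700P

open Matrix Module Cfsg.Agent.Helper28.Sg Cfsg.Agent.Helper28.Spin Cfsg.Agent.Helper12.OrthGen

variable {F : Type*} [Field F] [Fintype F] {ι : Type} [Fintype ι] [DecidableEq ι]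
  {Q : QuadraticForm F (ι → F)} {J : Matrix ι ι F} {t p : F}

namespace EXK

/-- membership in a span of a list of vectors gives orthogonality -/
theorem perp_of_span {S : Set (ι → F)} {w : ι → F} (h : ∀ u ∈ Submodule.span F S, B Q u w = 0)
    {u : ι → F} (hu : u ∈ S) : B Q u w = 0 := h u (Submodule.subset_span hu)

end EXK

theorem EXK.K1 (hQ : (QuadraticMap.polarBilin Q).Nondegenerate) (hn : 14 ≤ Fintype.card ι)
    (J : Matrix ι ι F) (b : ι → F) :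
    ∃ w₁ w₂ : ι → F, Q w₁ = 0 ∧ Q w₂ = 0 ∧ B Q w₁ w₂ = 1 ∧ hperp Q J b w₁ ∧ hperp Q J b w₂ := by
  classical
  have hfr : finrank F ↥(Submodule.span F (({b, J *ᵥ b} : Finset (ι → F)) : Set (ι → F))) ≤ 5 := by
    refine le_trans (finrank_span_finset_le_card _) ?_
    exact le_trans (Finset.card_le_two) (by norm_num)
  obtain ⟨w₁, w₂, h1, h2, h12, hp1, hp2⟩ := EXHYP5.of_le5 hQ hn _ hfr
  refine ⟨w₁, w₂, h1, h2, h12, ⟨?_, ?_⟩, ⟨?_, ?_⟩⟩
  · exact EXK.perp_of_span hp1 (by simp)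
  · exact EXK.perp_of_span hp1 (by simp)
  · exact EXK.perp_of_span hp2 (by simp)
  · exact EXK.perp_of_span hp2 (by simp)

theorem EXK.K2 (hQ : (QuadraticMap.polarBilin Q).Nondegenerate) (hn : 14 ≤ Fintype.card ι)
    (J : Matrix ι ι F) (b b' : ι → F) :
    ∃ w₁ w₂ : ι → F, Q w₁ = 0 ∧ Q w₂ = 0 ∧ B Q w₁ w₂ = 1 ∧ hperp Q J b w₁ ∧ hperp Q J b w₂ ∧
      hperp Q J b' w₁ ∧ hperp Q J b' w₂ := by
  classical
  have hfr : finrank F ↥(Submodule.span F
      (({b, J *ᵥ b, b', J *ᵥ b'} : Finset (ι → F)) : Set (ι → F))) ≤ 5 := by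
    refine le_trans (finrank_span_finset_le_card _) ?_
    exact le_trans (Finset.card_le_four) (by norm_num)
  obtain ⟨w₁, w₂, h1, h2, h12, hp1, hp2⟩ := EXHYP5.of_le5 hQ hn _ hfr
  refine ⟨w₁, w₂, h1, h2, h12, ⟨?_, ?_⟩, ⟨?_, ?_⟩, ⟨?_, ?_⟩, ⟨?_, ?_⟩⟩
  · exact EXK.perp_of_span hp1 (by simp)
  · exact EXK.perp_of_span hp1 (by simp)
  · exact EXK.perp_of_span hp2 (by simp)
  · exact EXK.perp_of_span hp2 (by simp)
  · exact EXK.perp_of_span hp1 (by simp)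
  · exact EXK.perp_of_span hp1 (by simp)
  · exact EXK.perp_of_span hp2 (by simp)
  · exact EXK.perp_of_span hp2 (by simp)

theorem EXK.K3 (hQ : (QuadraticMap.polarBilin Q).Nondegenerate) (hn : 14 ≤ Fintype.card ι)
    (J : Matrix ι ι F) (b v u : ι → F) (hne : ¬ hperp Q J v u) :
    ∃ w₁ w₂ : ι → F, Q w₁ = 0 ∧ Q w₂ = 0 ∧ B Q w₁ w₂ = 1 ∧ hperp Q J b w₁ ∧ hperp Q J b w₂ ∧
      hperp Q J v w₁ ∧ hperp Q J v w₂ ∧ hperp Q J u w₁ ∧ hperp Q J u w₂ := by
  classical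
  have hfr : finrank F ↥(Submodule.span F
      (({b, J *ᵥ b, v, J *ᵥ v, u, J *ᵥ u} : Finset (ι → F)) : Set (ι → F))) ≤ 6 := by
    refine le_trans (finrank_span_finset_le_card _) ?_
    exact Finset.card_le_six
  have hne' : ∃ x ∈ Submodule.span F
      (({b, J *ᵥ b, v, J *ᵥ v, u, J *ᵥ u} : Finset (ι → F)) : Set (ι → F)),
      ∃ y ∈ Submodule.span F
        (({b, J *ᵥ b, v, J *ᵥ v, u, J *ᵥ u} : Finset (ι → F)) : Set (ι → F)), B Q x y ≠ 0 := by
    unfold hperp at hne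
    by_cases h : B Q v u = 0
    · have h' : B Q (J *ᵥ v) u ≠ 0 := fun h' => hne ⟨h, h'⟩
      exact ⟨J *ᵥ v, Submodule.subset_span (by simp), u, Submodule.subset_span (by simp), h'⟩
    · exact ⟨v, Submodule.subset_span (by simp), u, Submodule.subset_span (by simp), h⟩
  obtain ⟨w₁, w₂, h1, h2, h12, hp1, hp2⟩ := EXHYP6.of_le6 hQ hn _ hfr hne'
  refine ⟨w₁, w₂, h1, h2, h12, ⟨?_, ?_⟩, ⟨?_, ?_⟩, ⟨?_, ?_⟩, ⟨?_, ?_⟩, ⟨?_, ?_⟩, ⟨?_, ?_⟩⟩
  · exact EXK.perp_of_span hp1 (by simp)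
  · exact EXK.perp_of_span hp1 (by simp)
  · exact EXK.perp_of_span hp2 (by simp)
  · exact EXK.perp_of_span hp2 (by simp)
  · exact EXK.perp_of_span hp1 (by simp)
  · exact EXK.perp_of_span hp1 (by simp)
  · exact EXK.perp_of_span hp2 (by simp)
  · exact EXK.perp_of_span hp2 (by simp)
  · exact EXK.perp_of_span hp1 (by simp)
  · exact EXK.perp_of_span hp1 (by simp)
  · exact EXK.perp_of_span hp2 (by simp)
  · exact EXK.perp_of_span hp2 (by simp)

end Cfsg.Agent.S5700P
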