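import Mathlib
import Cfsg.Prelude.Def_GeometricClasses
import Cfsg.Agent.Helper24.S5704.Defs
import Cfsg.Agent.Helper17.S5704.STDefs

set_option autoImplicit false
set_option linter.unusedSectionVars false
set_option linter.unusedVariables false

/-! # S5704, chapter STAR' (driver helper17), piece STFIN: `r' := (α ⊗ B')⁻¹ y` lies in the radical at `z`. -/

namespace Cfsg.Agent.S5704P

open Matrix Cfsg.Agent.S5637P Cfsg.Agent.S5704S Cfsg.Agent.S5634P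

variable {F : Type*} [Field F] {n a b : ℕ} (e : Fin n ≃ Fin a × Fin b)

theorem STFIN.inv_mulVec {m : ℕ} (A : GL (Fin m) F) (v : Fin m → F) :
    ((A⁻¹ : GL (Fin m) F) : Matrix (Fin m) (Fin m) F) *ᵥ ((A : Matrix (Fin m) (Fin m) F) *ᵥ v) = v := by
  rw [Matrix.mulVec_mulVec, ← Units.val_mul, inv_mul_cancel, Units.val_one, Matrix.one_mulVec]

theorem STFIN.inv_fix {m : ℕ} (A : GL (Fin m) F) {v : Fin m → F}
    (h : (A : Matrix (Fin m) (Fin m) F) *ᵥ v = v) :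
    ((A⁻¹ : GL (Fin m) F) : Matrix (Fin m) (Fin m) F) *ᵥ v = v := by
  conv_lhs => rw [← h]
  exact STFIN.inv_mulVec A v

/-- STFIN (M): `r' := (α ⊗ B')⁻¹ y` lies in the radical at `z`.  `krg_inv`, `krg_mulVec_tn`; `B'⁻¹ z = z`; for `w ⊥ z`:
`y (tn u w) = tn (α u) (B w) + tn u₁ z = (krg α B') (tn u w) + tn u₁ z` (`hlin`, `mem_Vw`, `hBB'`), so `r' (tn u w) - tn u w = tn (α⁻¹ u₁) z`. -/
theorem STFIN {GW : Matrix (Fin b) (Fin b) F} (hW : IsSymp GW) {z : Fin b → F} (hz : z ≠ 0)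
    (y : GL (Fin n) F) (α : GL (Fin a) F) (B B' : GL (Fin b) F)
    (hα : ∀ u : Fin a → F,
      (y : Matrix (Fin n) (Fin n) F) *ᵥ tn e u z = tn e ((α : Matrix (Fin a) (Fin a) F) *ᵥ u) z)
    (hB'z : (B' : Matrix (Fin b) (Fin b) F) *ᵥ z = z)
    (hBB' : ∀ w : Fin b → F, bf GW w z = 0 →
      (B' : Matrix (Fin b) (Fin b) F) *ᵥ w = (B : Matrix (Fin b) (Fin b) F) *ᵥ w)
    (hlin : ∀ x : Fin n → F, cps e (psi GW z) x = 0 →
      (y : Matrix (Fin n) (Fin n) F) *ᵥ x -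
        ((krg e α B : GL (Fin n) F) : Matrix (Fin n) (Fin n) F) *ᵥ x ∈ Vw e z) :
    RadAt e GW z ((krg e α B')⁻¹ * y) := by
  have hB'inv : ((B'⁻¹ : GL (Fin b) F) : Matrix (Fin b) (Fin b) F) *ᵥ z = z := STFIN.inv_fix B' hB'z
  have hact : ∀ x : Fin n → F,
      (((krg e α B')⁻¹ * y : GL (Fin n) F) : Matrix (Fin n) (Fin n) F) *ᵥ x =
        ((krg e α⁻¹ B'⁻¹ : GL (Fin n) F) : Matrix (Fin n) (Fin n) F) *ᵥ
          ((y : Matrix (Fin n) (Fin n) F) *ᵥ x) := by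
    intro x
    rw [krg_inv, Units.val_mul, Matrix.mulVec_mulVec]
  refine ⟨?_, ?_⟩
  · intro u
    rw [hact, hα, krg_mulVec_tn, STFIN.inv_mulVec, hB'inv]
  · intro u w hw
    have hx : cps e (psi GW z) (tn e u w) = 0 := by
      rw [cps_tn, psi_dot, hw, zero_smul]
    obtain ⟨u₁, hu₁⟩ := (mem_Vw e).mp (hlin _ hx)
    refine ⟨((α⁻¹ : GL (Fin a) F) : Matrix (Fin a) (Fin a) F) *ᵥ u₁, ?_⟩
    have hy : (y : Matrix (Fin n) (Fin n) F) *ᵥ tn e u w =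
        ((krg e α B' : GL (Fin n) F) : Matrix (Fin n) (Fin n) F) *ᵥ tn e u w + tn e u₁ z := by
      rw [krg_mulVec_tn, hBB' w hw, ← krg_mulVec_tn, ← hu₁]
      abel
    have h1 : ((krg e α⁻¹ B'⁻¹ : GL (Fin n) F) : Matrix (Fin n) (Fin n) F) *ᵥ
        (((krg e α B' : GL (Fin n) F) : Matrix (Fin n) (Fin n) F) *ᵥ tn e u w) = tn e u w := by
      rw [krg_mulVec_tn, krg_mulVec_tn, STFIN.inv_mulVec, STFIN.inv_mulVec]
    have h2 : ((krg e α⁻¹ B'⁻¹ : GL (Fin n) F) : Matrix (Fin n) (Fin n) F) *ᵥ tn e u₁ z =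
        tn e (((α⁻¹ : GL (Fin a) F) : Matrix (Fin a) (Fin a) F) *ᵥ u₁) z := by
      rw [krg_mulVec_tn, hB'inv]
    rw [hact, hy, Matrix.mulVec_add, h1, h2]
    abel

end Cfsg.Agent.S5704P
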