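import Mathlib
import Cfsg.Prelude.Def_GeometricClasses
import Cfsg.Agent.Helper24.S5704.Defs
import Cfsg.Agent.Helper28.S5704QZ
import Cfsg.Agent.Helper19.S5704STPOL
import Cfsg.Agent.Helper18.S5704SEXONE

set_option autoImplicit false
set_option linter.unusedSectionVars false
set_option linter.unusedVariables false

/-! # S5704 (helper17): ROOTS corollary of QZOMEGA - an isometry in the radical at `z` (`RadAt e GW z g`) lies in `Ω`.

`K_z = {x | cps e (psi GW z) x = 0}` is spanned by the pure tensors `tn u w`, `w ⊥ z` (`RADOMEGA.Kz_span`), and it is `V_z^⊥` (STPOL). -/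

namespace Cfsg.Agent.S5704P

open Matrix Cfsg.Agent.S5637P Cfsg.Agent.S5704S Cfsg.Agent.S5634P

variable {F : Type*} [Field F] {n a b : ℕ} (e : Fin n ≃ Fin a × Fin b)

/-- `K_z` is spanned by the pure tensors `tn u w` with `w ⊥ z` -/
theorem RADOMEGA.Kz_span {GW : Matrix (Fin b) (Fin b) F} (hW : IsSymp GW) {z : Fin b → F}
    (hz : z ≠ 0) (x : Fin n → F) (hx : cps e (psi GW z) x = 0) :
    x ∈ Submodule.span F {p : Fin n → F | ∃ (u : Fin a → F) (w : Fin b → F),
      bf GW w z = 0 ∧ p = tn e u w} := by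
  obtain ⟨y, hy⟩ := EX.one hW hz
  -- `zs` with `bf GW zs z = 1`
  set zs : Fin b → F := -y with hzs
  have h1 : psi GW z ⬝ᵥ zs = 1 := by
    rw [psi_dot, hzs, bf_neg_left, hW.skew y z, hy, neg_neg]
  have hsum : x = ∑ j : Fin b, tn e (col e x j) (Pi.single j 1 - (psi GW z j) • zs) := by
    have h2 : ∑ j : Fin b, tn e (col e x j) (Pi.single j 1 - (psi GW z j) • zs) =
        ∑ j : Fin b, tn e (col e x j) (Pi.single j 1) -
          tn e (∑ j : Fin b, psi GW z j • col e x j) zs := by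
      rw [tn_sum_left, ← Finset.sum_sub_distrib]
      refine Finset.sum_congr rfl fun j _ => ?_
      rw [tn_sub_right, tn_smul_right, tn_smul_left]
    rw [h2, ← cps_eq_sum_col, hx, tn_zero_left, sub_zero]
    exact eq_sum_tn_col e x
  rw [hsum]
  refine Submodule.sum_mem _ fun j _ => Submodule.subset_span ⟨_, _, ?_, rfl⟩
  rw [← psi_dot, dotProduct_sub, dotProduct_smul, h1, smul_eq_mul, mul_one]
  simp [dotProduct, Pi.single_apply]

/-- an isometry in the radical at `z` lies in `Ω` -/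
theorem RADOMEGA.main [Fintype F] {Q : QuadraticForm F (Fin n → F)}
    {GU : Matrix (Fin a) (Fin a) F} {GW : Matrix (Fin b) (Fin b) F} (hT : TData Q e 1 GU GW)
    (hQ : (QuadraticMap.polarBilin Q).Nondegenerate) (hn : 8 ≤ n) (g : GL (Fin n) F)
    (z : Fin b → F) (hz : z ≠ 0) (hg : g ∈ Cfsg.isometryGroup F ⇑Q) (hr : RadAt e GW z g) :
    g ∈ Cfsg.Geo.omegaGL ⇑Q := by
  have hiso : ∀ x, Q ((g : Matrix (Fin n) (Fin n) F) *ᵥ x) = Q x :=
    (Cfsg.Agent.Helper28.IsoTransport.mem_isometryGroup_iff _ _).1 hg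
  refine QZOMEGA.main hQ hn g hiso (Vw e z) ?_ ?_ ?_
  · intro x hx
    obtain ⟨u, rfl⟩ := (mem_Vw e).mp hx
    have := hT.sing u z
    rwa [pt_one] at this
  · intro x hx
    obtain ⟨u, rfl⟩ := (mem_Vw e).mp hx
    exact hr.1 u
  · intro x hx
    have hK : cps e (psi GW z) x = 0 := by
      apply hT.sympU.nondeg
      intro u
      rw [← STPOL e hT x u z]
      exact hx _ (tn_mem_Vw e u z)
    have hmem := RADOMEGA.Kz_span e hT.sympW hz x hK
    refine Submodule.span_induction
      (p := fun x _ => (g : Matrix (Fin n) (Fin n) F) *ᵥ x - x ∈ Vw e z) ?_ ?_ ?_ ?_ hmem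
    · rintro p ⟨u, w, hw, rfl⟩
      obtain ⟨u', hu'⟩ := hr.2 u w hw
      rw [hu']
      exact tn_mem_Vw e u' z
    · rw [Matrix.mulVec_zero, sub_zero]
      exact Submodule.zero_mem _
    · intro p p' _ _ hp hp'
      have : (g : Matrix (Fin n) (Fin n) F) *ᵥ (p + p') - (p + p') =
          ((g : Matrix (Fin n) (Fin n) F) *ᵥ p - p) +
            ((g : Matrix (Fin n) (Fin n) F) *ᵥ p' - p') := by
        rw [Matrix.mulVec_add]; abel
      rw [this]
      exact Submodule.add_mem _ hp hp'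
    · intro c p _ hp
      have : (g : Matrix (Fin n) (Fin n) F) *ᵥ (c • p) - c • p =
          c • ((g : Matrix (Fin n) (Fin n) F) *ᵥ p - p) := by
        rw [Matrix.mulVec_smul, smul_sub]
      rw [this]
      exact Submodule.smul_mem _ c hp

end Cfsg.Agent.S5704P
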