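import Mathlib
import Cfsg.Agent.Helper28.S5704SDefs
import Cfsg.Agent.Helper11.S5704SPURESPAN

/-! # S5704, chapter SPREAD, piece STEP4 (driver helper28): `p` pure, `v ⊥ p` ⟹ `ρ(p, v) ∈ M`. -/

set_option autoImplicit false
set_option linter.unusedSectionVars false
set_option linter.unusedVariables false

namespace Cfsg.Agent.S5704S

open Matrix Cfsg.Agent.Helper28.Sg

variable {F : Type*} [Field F] {n a b m : ℕ}

section steps

variable {Q : QuadraticForm F (Fin n → F)} {M : Subgroup ↥(Cfsg.isometryGroup F ⇑Q)}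
  {e : Fin n ≃ Fin a × Fin b} {P : Matrix (Fin n) (Fin n) F}
  {GU : Matrix (Fin a) (Fin a) F} {GW : Matrix (Fin b) (Fin b) F}

/-- STEP4 (M): `p` pure, `v ⊥ p` ⟹ `ρ(p, v) ∈ M`.  PURESPAN with `φ = QuadraticMap.polarBilin Q p` (`LinearMap.BilinForm`; `φ v = polar Q p v`);
`Submodule.closure_induction` (zero: `InM.zero_right`, add: `InM.add`, `r • pt u' w' = pt (r • u') w'` is pure and still `⊥ p`: `hpure` with `hT.pol`). -/
theorem STEP4.main (hT : TData Q e P GU GW)
    (hpure : ∀ u u' w w', bf GU u u' * bf GW w w' = 0 → InM Q M (pt e P u w) (pt e P u' w')) :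
    ∀ u w v, B Q (pt e P u w) v = 0 → InM Q M (pt e P u w) v := by
  intro u w v hv
  have hmem := PURESPAN.main e hT.unit (QuadraticMap.polarBilin Q (pt e P u w)) v hv
  refine Submodule.closure_induction (p := fun z _ => InM Q M (pt e P u w) z) ?_ ?_ ?_ hmem
  · exact InM.zero_right (hT.sing u w)
  · intro y z _ _ hy hz
    exact hy.add hz
  · rintro r p ⟨⟨u', w', rfl⟩, hp⟩
    rw [← pt_smul_left]
    apply hpure
    have h1 : QuadraticMap.polar ⇑Q (pt e P u w) (pt e P u' w') = 0 := hp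
    rw [hT.pol] at h1
    rw [bf_smul_right, mul_assoc, h1, mul_zero]

end steps

end Cfsg.Agent.S5704S
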