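import Mathlib
import Cfsg.Agent.Helper28.S5704SDefs
import Cfsg.Agent.Helper11.S5704SPURESPAN

/-! # S5704, chapter SPREAD, piece STEP5 (driver helper28): `x` singular, `v ⊥ x` ⟹ `ρ(x, v) ∈ M`. -/

set_option autoImplicit false
set_option linter.unusedSectionVars false
set_option linter.unusedVariables false

namespace Cfsg.Agent.S5704S

open Matrix Cfsg.Agent.Helper28.Sg

variable {F : Type*} [Field F] {n a b m : ℕ}

section steps

variable {Q : QuadraticForm F (Fin n → F)} {M : Subgroup ↥(Cfsg.isometryGroup F ⇑Q)}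
  {e : Fin n ≃ Fin a × Fin b} {P : Matrix (Fin n) (Fin n) F}
  {GU : Matrix (Fin a) (Fin a) F} {GW : Matrix (Fin b) (Fin b) F}

/-- for a pure `p ⊥ x` (`x` singular) and `r : F`: `ρ(x, r • p) ∈ M`. -/
theorem STEP5.pure (h4 : ∀ u w v, B Q (pt e P u w) v = 0 → InM Q M (pt e P u w) v)
    {x : Fin n → F} (hx : Q x = 0) (u : Fin a → F) (w : Fin b → F)
    (hp : B Q x (pt e P u w) = 0) (r : F) : InM Q M x (r • pt e P u w) := by
  have h1 : B Q (pt e P u w) (-r • x) = 0 := by
    show QuadraticMap.polar ⇑Q (pt e P u w) (-r • x) = 0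
    rw [QuadraticMap.polar_smul_right, QuadraticMap.polar_comm]
    have : QuadraticMap.polar ⇑Q x (pt e P u w) = 0 := hp
    rw [this, smul_zero]
  have h2 : InM Q M (pt e P u w) (-r • x) := h4 u w _ h1
  have hq : Q (-r • x) = 0 := by
    rw [QuadraticMap.map_smul, hx, smul_zero]
  have h3 : InM Q M (-r • x) (-(pt e P u w)) := InM.sym hq h2
  have h5 : InM Q M x (-r • -(pt e P u w)) := InM.of_smul_left hx h3
  rwa [neg_smul_neg] at h5

/-- STEP5 (M): `x` singular, `v ⊥ x` ⟹ `ρ(x, v) ∈ M`.  PURESPAN with `φ = polarBilin Q x`: `v = Σ r_k • p_k`, `p_k` pure in `x^⊥`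
(`Submodule.closure_induction`); for a pure `p ⊥ x` and `r : F`: `h4` gives `InM p (-r • x)` (`-r • x ⊥ p`), `InM.sym` (`Q (-r • x) = 0`) gives
`InM (-r • x) (-p)`, `InM.of_smul_left` gives `InM x (-r • -p) = InM x (r • p)`. -/
theorem STEP5.main (hT : TData Q e P GU GW)
    (h4 : ∀ u w v, B Q (pt e P u w) v = 0 → InM Q M (pt e P u w) v) :
    ∀ x v, Q x = 0 → B Q x v = 0 → InM Q M x v := by
  intro x v hx hxv
  have hmem := PURESPAN.main e hT.unit (QuadraticMap.polarBilin Q x) v hxv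
  refine Submodule.closure_induction (p := fun z _ => InM Q M x z) ?_ ?_ ?_ hmem
  · exact InM.zero_right hx
  · intro y z _ _ hy hz
    exact hy.add hz
  · rintro r p ⟨⟨u, w, rfl⟩, hp⟩
    exact STEP5.pure h4 hx u w hp r

end steps

end Cfsg.Agent.S5704S
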