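import Mathlib
import Cfsg.Prelude.Def_GeometricClasses
import Cfsg.Agent.Helper18.S5707.Defs

set_option autoImplicit false

/-! # S5707, piece GRAM -/

namespace Cfsg.Agent.S5707P

open Matrix

variable {F : Type*} [Field F] {k t : ℕ}

theorem GRAM.polar_eq {G : Matrix (Fin k) (Fin k) F} {c : F} {Q : (X k t → F) → F} (hQ : StdQ G c Q)
    (v w : X k t → F) :
    QuadraticMap.polar Q v w = v ⬝ᵥ ((c • tensM (fun _ : Fin t => G)) *ᵥ w) := by
  rw [hQ.polar]
  simp only [dotProduct, Matrix.mulVec, Matrix.smul_apply, smul_eq_mul, tensM, Finset.mul_sum]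
  apply Finset.sum_congr rfl
  intro a _
  apply Finset.sum_congr rfl
  intro b _
  ring

theorem GRAM.gram_of_iso {G : Matrix (Fin k) (Fin k) F} {c : F} {Q : (X k t → F) → F} (hQ : StdQ G c Q)
    (g : GL (X k t) F) (hg : g ∈ Cfsg.isometryGroup F Q) :
    (g : Matrix (X k t) (X k t) F)ᵀ * (c • tensM (fun _ : Fin t => G)) * (g : Matrix (X k t) (X k t) F) =
      c • tensM (fun _ : Fin t => G) := by
  have hiso : ∀ u : X k t → F, Q ((g : Matrix (X k t) (X k t) F) *ᵥ u) = Q u := fun u => hg u u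
  have hpol : ∀ u v : X k t → F,
      QuadraticMap.polar Q ((g : Matrix (X k t) (X k t) F) *ᵥ u) ((g : Matrix (X k t) (X k t) F) *ᵥ v) =
        QuadraticMap.polar Q u v := by
    intro u v
    unfold QuadraticMap.polar
    rw [← Matrix.mulVec_add, hiso, hiso, hiso]
  set A : Matrix (X k t) (X k t) F := c • tensM (fun _ : Fin t => G) with hA
  ext x y
  have h1 := hpol (Pi.single x 1) (Pi.single y 1)
  rw [GRAM.polar_eq hQ, GRAM.polar_eq hQ, ← hA] at h1
  have ent : ∀ B : Matrix (X k t) (X k t) F,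
      (Pi.single x (1 : F) : X k t → F) ⬝ᵥ (B *ᵥ Pi.single y 1) = B x y := by
    intro B
    rw [Matrix.mulVec_single_one, single_one_dotProduct]
    rfl
  have e1 := ent A
  have e2 : ((g : Matrix (X k t) (X k t) F) *ᵥ Pi.single x 1) ⬝ᵥ
      (A *ᵥ ((g : Matrix (X k t) (X k t) F) *ᵥ Pi.single y 1)) =
      ((g : Matrix (X k t) (X k t) F)ᵀ * A * (g : Matrix (X k t) (X k t) F)) x y := by
    rw [← ent ((g : Matrix (X k t) (X k t) F)ᵀ * A * (g : Matrix (X k t) (X k t) F)),
      ← Matrix.vecMul_transpose (g : Matrix (X k t) (X k t) F) (Pi.single x 1),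
      ← Matrix.dotProduct_mulVec, Matrix.mulVec_mulVec, Matrix.mulVec_mulVec, Matrix.mul_assoc]
  rw [← e2, h1, e1]

end Cfsg.Agent.S5707P
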