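import Mathlib
import Cfsg.Agent.Helper21.S5949IRR

set_option autoImplicit false
set_option linter.all false

namespace Cfsg.Agent.S5949P

open Polynomial

/-- MODELKUM (uses IRR for the determinant) -/
theorem model_kum {F : Type*} [Field F] (r : ℕ) [Fact r.Prime] (n : ℕ)
    (hrn : r ∣ n) (c : F) (hc : ∀ d : F, d ^ r ≠ c) (hdet : ((-1) ^ (r + 1) * c) ^ (n / r) = 1) :
    ∃ x : Matrix.SpecialLinearGroup (Fin n) F,
      (x : Matrix (Fin n) (Fin n) F) ^ r = c • (1 : Matrix (Fin n) (Fin n) F) := by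
  have hr : r.Prime := Fact.out
  set g : F[X] := X ^ r - C c with hg
  have hirr : Irreducible g := X_pow_sub_C_irreducible_of_prime hr hc
  have hmon : g.Monic := monic_X_pow_sub_C c hr.ne_zero
  have hdeg : g.natDegree = r := natDegree_X_pow_sub_C
  haveI : Fact (Irreducible g) := ⟨hirr⟩
  have hfin : Module.finrank F (AdjoinRoot g) = r := by
    rw [(AdjoinRoot.powerBasis hirr.ne_zero).finrank, AdjoinRoot.powerBasis_dim, hdeg]
  haveI : FiniteDimensional F (AdjoinRoot g) := (AdjoinRoot.powerBasis hirr.ne_zero).finite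
  have hfV : Module.finrank F (Fin (n / r) → AdjoinRoot g) = n := by
    rw [Module.finrank_pi_fintype]
    simp only [hfin, Finset.sum_const, Finset.card_univ, Fintype.card_fin, smul_eq_mul]
    exact Nat.div_mul_cancel hrn
  set f' : Module.End F (Fin (n / r) → AdjoinRoot g) :=
    Algebra.lsmul F F (Fin (n / r) → AdjoinRoot g) (AdjoinRoot.root g) with hf'
  have hroot : (AdjoinRoot.root g) ^ r = algebraMap F (AdjoinRoot g) c := by
    have h := AdjoinRoot.eval₂_root g
    rw [hg, eval₂_sub, eval₂_pow, eval₂_X, eval₂_C, sub_eq_zero] at h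
    exact h
  have hgf : aeval f' g = 0 := by
    rw [hf', aeval_algHom_apply, AdjoinRoot.aeval_eq, AdjoinRoot.mk_self, map_zero]
  have hpow : f' ^ r = c • (1 : Module.End F (Fin (n / r) → AdjoinRoot g)) := by
    rw [hf', ← map_pow, hroot, AlgHom.commutes, Algebra.algebraMap_eq_smul_one]
  have hd : LinearMap.det f' = 1 := by
    rw [(irr_module f' g hirr hmon hgf).2.2.2, hdeg, hfV]
    have hc0 : g.coeff 0 = -c := by
      rw [hg, coeff_sub, coeff_X_pow, coeff_C_zero, if_neg (Ne.symm hr.ne_zero), zero_sub]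
    rw [hc0]
    have : (-1 : F) ^ r * -c = (-1) ^ (r + 1) * c := by ring
    rw [this, hdet]
  let e : (Fin (n / r) → AdjoinRoot g) ≃ₗ[F] (Fin n → F) :=
    LinearEquiv.ofFinrankEq _ _ (by rw [hfV, Module.finrank_fin_fun])
  let fc : Module.End F (Fin n → F) := e.conjAlgEquiv F f'
  have hfc : LinearMap.det fc = 1 := by
    have := LinearMap.det_conj f' e
    rw [hd] at this
    exact this
  refine ⟨⟨LinearMap.toMatrixAlgEquiv' fc, ?_⟩, ?_⟩
  · show (LinearMap.toMatrix' fc).det = 1
    rw [LinearMap.det_toMatrix', hfc]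
  · show (LinearMap.toMatrixAlgEquiv' fc) ^ r = _
    rw [← map_pow]
    show LinearMap.toMatrixAlgEquiv' ((e.conjAlgEquiv F f') ^ r) = _
    rw [← map_pow, hpow, map_smul, map_one, map_smul, map_one]

end Cfsg.Agent.S5949P
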