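import Mathlib
import Cfsg.Prelude.Def_GeometricClasses
import Cfsg.Agent.Helper20.S6000Defs

set_option autoImplicit false
open scoped MatrixGroups Matrix

/-! # S6000 piece CONJ3, part a: normal forms of the elements of order 3 of `GL_4(F)` when
`X^2 + X + 1` has no root in `F` and `3 ≠ 0`. -/

namespace Cfsg.Agent.S6000P

namespace CONJ3

variable {F : Type*} [Field F]

/-- normal form with a 2-dimensional fixed space -/
def N1 : M4 F := !![0, -1, 0, 0; 1, -1, 0, 0; 0, 0, 1, 0; 0, 0, 0, 1]

/-- normal form without fixed vectors -/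
def N2 : M4 F := !![0, -1, 0, 0; 1, -1, 0, 0; 0, 0, 0, -1; 0, 0, 1, -1]

/-- the matrix with the given columns -/
def colMat (c : Fin 4 → (Fin 4 → F)) : M4 F := Matrix.of (fun i j => c j i)

theorem colMat_isUnit {c : Fin 4 → (Fin 4 → F)} (hc : LinearIndependent F c) :
    IsUnit (colMat c) := by
  rw [← Matrix.linearIndependent_cols_iff_isUnit]
  exact hc

theorem mul_colMat (M : M4 F) (c : Fin 4 → (Fin 4 → F)) :
    M * colMat c = colMat (fun j => M.mulVec (c j)) := by
  ext i j
  simp [colMat, Matrix.mul_apply, Matrix.mulVec, dotProduct]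

theorem colMat_mul (c : Fin 4 → (Fin 4 → F)) (N : M4 F) :
    colMat c * N = colMat (fun j => ∑ k, N k j • c k) := by
  ext i j
  simp [colMat, Matrix.mul_apply, Finset.sum_apply, mul_comm]

/-- independence of `v, Mv` for a nonzero vector killed by `M^2 + M + 1` -/
theorem claimA (hno : ∀ t : F, t * t + t + 1 ≠ 0) (M : M4 F) (v : Fin 4 → F)
    (hv2 : M.mulVec (M.mulVec v) = -v - M.mulVec v) (hv : v ≠ 0) (a b : F)
    (h : a • v + b • M.mulVec v = 0) : a = 0 ∧ b = 0 := by
  by_cases hb : b = 0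
  · subst hb
    rw [zero_smul, add_zero] at h
    rcases smul_eq_zero.mp h with h1 | h1
    · exact ⟨h1, rfl⟩
    · exact absurd h1 hv
  · exfalso
    have h1 : M.mulVec v = (-a / b) • v := by
      have : b • M.mulVec v = (-a) • v := by
        rw [neg_smul]; exact eq_neg_of_add_eq_zero_right h
      calc M.mulVec v = b⁻¹ • (b • M.mulVec v) := by rw [smul_smul, inv_mul_cancel₀ hb, one_smul]
        _ = (-a / b) • v := by rw [this, smul_smul]; congr 1; field_simp
    set t := -a / b with ht
    have h2 : (t * t + t + 1) • v = 0 := by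
      have e1 : M.mulVec (M.mulVec v) = (t * t) • v := by
        rw [h1, Matrix.mulVec_smul, h1, smul_smul]
      rw [e1, h1] at hv2
      rw [add_smul, add_smul, one_smul, hv2]
      abel
    rcases smul_eq_zero.mp h2 with h3 | h3
    · exact hno t h3
    · exact hv h3

/-- `c^2 - c d + d^2 = 0` forces `c = d = 0` -/
theorem norm_eq_zero (hno : ∀ t : F, t * t + t + 1 ≠ 0) (c d : F) (h : c * c - c * d + d * d = 0) :
    c = 0 ∧ d = 0 := by
  by_cases hd : d = 0
  · subst hd
    simp at h
    exact ⟨h, rfl⟩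
  · exfalso
    apply hno (-c / d)
    field_simp
    linear_combination h

/-- independence of `v, Mv, w, Mw` -/
theorem claimB (hno : ∀ t : F, t * t + t + 1 ≠ 0) (M : M4 F) (v w : Fin 4 → F)
    (hv2 : M.mulVec (M.mulVec v) = -v - M.mulVec v)
    (hw2 : M.mulVec (M.mulVec w) = -w - M.mulVec w) (hv : v ≠ 0)
    (hw : ∀ s t : F, w ≠ s • v + t • M.mulVec v) (a b c d : F)
    (h : a • v + b • M.mulVec v + c • w + d • M.mulVec w = 0) :
    a = 0 ∧ b = 0 ∧ c = 0 ∧ d = 0 := by
  have h' : a • M.mulVec v + b • (-v - M.mulVec v) + c • M.mulVec w + d • (-w - M.mulVec w) = 0 := by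
    have := congrArg M.mulVec h
    rw [Matrix.mulVec_add, Matrix.mulVec_add, Matrix.mulVec_add, Matrix.mulVec_smul,
      Matrix.mulVec_smul, Matrix.mulVec_smul, Matrix.mulVec_smul, hv2, hw2, Matrix.mulVec_zero] at this
    exact this
  have key : (c * c - c * d + d * d) • w =
      (-((c - d) * a + d * b)) • v + (-(c * b - d * a)) • M.mulVec v := by
    linear_combination (norm := module) (c - d) • h - d • h'
  have hcd : c = 0 ∧ d = 0 := by
    by_contra hne
    have hn : c * c - c * d + d * d ≠ 0 := fun h0 => hne (norm_eq_zero hno c d h0)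
    apply hw ((c * c - c * d + d * d)⁻¹ * (-((c - d) * a + d * b)))
      ((c * c - c * d + d * d)⁻¹ * (-(c * b - d * a)))
    calc w = (c * c - c * d + d * d)⁻¹ • ((c * c - c * d + d * d) • w) := by
          rw [smul_smul, inv_mul_cancel₀ hn, one_smul]
      _ = _ := by rw [key, smul_add, smul_smul, smul_smul]
  obtain ⟨hc, hd⟩ := hcd
  subst hc hd
  rw [zero_smul, zero_smul, add_zero, add_zero] at h
  obtain ⟨ha, hb⟩ := claimA hno M v hv2 hv a b h
  exact ⟨ha, hb, rfl, rfl⟩

/-- there is a vector not killed by a nonzero matrix -/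
theorem exists_mulVec_ne_zero (A : M4 F) (hA : A ≠ 0) : ∃ u : Fin 4 → F, A.mulVec u ≠ 0 := by
  by_contra hne
  push Not at hne
  apply hA
  ext i j
  have := congrFun (hne (Pi.single j 1)) i
  simpa using this

/-- case (ii): a second vector outside `span {v, Mv}` -/
theorem normal_form_two (hno : ∀ t : F, t * t + t + 1 ≠ 0) (M : M4 F) (v w : Fin 4 → F)
    (hv2 : M.mulVec (M.mulVec v) = -v - M.mulVec v)
    (hw2 : M.mulVec (M.mulVec w) = -w - M.mulVec w) (hv : v ≠ 0)
    (hw : ∀ s t : F, w ≠ s • v + t • M.mulVec v) :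
    ∃ P : M4 F, IsUnit P ∧ M * P = P * N2 := by
  refine ⟨colMat ![v, M.mulVec v, w, M.mulVec w], colMat_isUnit ?_, ?_⟩
  · rw [Fintype.linearIndependent_iff]
    intro g hg
    rw [Fin.sum_univ_four] at hg
    obtain ⟨h0, h1, h2, h3⟩ := claimB hno M v w hv2 hw2 hv hw (g 0) (g 1) (g 2) (g 3) hg
    intro i
    fin_cases i
    · exact h0
    · exact h1
    · exact h2
    · exact h3
  · rw [mul_colMat, colMat_mul]
    congr 1
    funext j
    fin_cases j
    · simp [N2, Fin.sum_univ_four]
    · simp [N2, Fin.sum_univ_four, hv2]; abel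
    · simp [N2, Fin.sum_univ_four]
    · simp [N2, Fin.sum_univ_four, hw2]; abel

/-- case (i): every vector killed by `S = M^2 + M + 1` lies in `span {v, Mv}` -/
theorem normal_form_one (h3 : (3 : F) ≠ 0) (hno : ∀ t : F, t * t + t + 1 ≠ 0) (M : M4 F)
    (hMS : M * (M * M + M + 1) = M * M + M + 1)
    (v : Fin 4 → F) (hv2 : M.mulVec (M.mulVec v) = -v - M.mulVec v) (hv : v ≠ 0)
    (hall : ∀ w : Fin 4 → F, (M * M + M + 1).mulVec w = 0 → ∃ s t : F, w = s • v + t • M.mulVec v) :
    ∃ P : M4 F, IsUnit P ∧ M * P = P * N1 := by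
  set S : M4 F := M * M + M + 1 with hS
  have hSS : S * S = (3 : F) • S := by
    have h1 : M * M * S = S := by rw [Matrix.mul_assoc, hMS, hMS]
    calc S * S = (M * M + M + 1) * S := by rw [hS]
      _ = M * M * S + M * S + S := by rw [add_mul, add_mul, one_mul]
      _ = S + S + S := by rw [h1, hMS]
      _ = (3 : F) • S := by module
  -- extend `v, Mv` to a basis
  have hli2 : LinearIndependent F ![v, M.mulVec v] := by
    rw [LinearIndependent.pair_iff]
    intro s t hst
    exact claimA hno M v hv2 hv s t hst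
  have hfr : Module.finrank F (Fin 4 → F) = 4 := Module.finrank_fin_fun F
  obtain ⟨a₀, ha₀⟩ := exists_linearIndependent_cons_of_lt_finrank hli2 (by rw [hfr]; norm_num)
  obtain ⟨b₀, hb₀⟩ := exists_linearIndependent_cons_of_lt_finrank ha₀ (by rw [hfr]; norm_num)
  have hli4 : LinearIndependent F ![b₀, a₀, v, M.mulVec v] := hb₀
  rw [Fintype.linearIndependent_iff] at hli4
  -- the projections
  have hproj : ∀ u : Fin 4 → F, ∃ s t : F, (3 : F) • u - S.mulVec u = s • v + t • M.mulVec v := by
    intro u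
    apply hall
    rw [Matrix.mulVec_sub, Matrix.mulVec_smul, Matrix.mulVec_mulVec, hSS, Matrix.smul_mulVec,
      sub_self]
  obtain ⟨s, t, hst⟩ := hproj a₀
  obtain ⟨s', t', hst'⟩ := hproj b₀
  have hMa : ∀ u : Fin 4 → F, M.mulVec (S.mulVec u) = S.mulVec u := by
    intro u
    rw [Matrix.mulVec_mulVec, hMS]
  refine ⟨colMat ![v, M.mulVec v, S.mulVec a₀, S.mulVec b₀], colMat_isUnit ?_, ?_⟩
  · rw [Fintype.linearIndependent_iff]
    intro g hg
    rw [Fin.sum_univ_four] at hg
    simp only [Matrix.cons_val_zero, Matrix.cons_val_one, Matrix.cons_val] at hg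
    have e := hli4 ![3 * g 3, 3 * g 2, g 0 - g 2 * s - g 3 * s', g 1 - g 2 * t - g 3 * t'] (by
      rw [Fin.sum_univ_four]
      simp only [Matrix.cons_val_zero, Matrix.cons_val_one, Matrix.cons_val]
      linear_combination (norm := module) hg + g 2 • hst + g 3 • hst')
    have e0 := e 0
    have e1 := e 1
    have e2 := e 2
    have e3 := e 3
    simp only [Matrix.cons_val_zero, Matrix.cons_val_one, Matrix.cons_val] at e0 e1 e2 e3
    have g3 : g 3 = 0 := by
      rcases mul_eq_zero.mp e0 with h | h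
      · exact absurd h h3
      · exact h
    have g2 : g 2 = 0 := by
      rcases mul_eq_zero.mp e1 with h | h
      · exact absurd h h3
      · exact h
    rw [g2, g3] at e2 e3
    intro i
    fin_cases i
    · simpa using e2
    · simpa using e3
    · exact g2
    · exact g3
  · rw [mul_colMat, colMat_mul]
    congr 1
    funext j
    fin_cases j
    · simp [N1, Fin.sum_univ_four]
    · simp [N1, Fin.sum_univ_four, hv2]; abel
    · simp [N1, Fin.sum_univ_four, hMa]
    · simp [N1, Fin.sum_univ_four, hMa]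

/-- normal form of a matrix of order 3 -/
theorem exists_normal_form (h3 : (3 : F) ≠ 0) (hno : ∀ t : F, t * t + t + 1 ≠ 0) (M : M4 F)
    (hM : M * M * M = 1) (hM1 : M ≠ 1) :
    ∃ P : M4 F, IsUnit P ∧ (M * P = P * N1 ∨ M * P = P * N2) := by
  set S : M4 F := M * M + M + 1 with hS
  have hMS : M * S = S := by
    have : M * S - S = 0 := by
      calc M * S - S = M * M * M - 1 := by rw [hS]; noncomm_ring
        _ = 0 := by rw [hM, sub_self]
    exact sub_eq_zero.mp this
  have hSM : S * (M - 1) = 0 := by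
    calc S * (M - 1) = M * M * M - 1 := by rw [hS]; noncomm_ring
      _ = 0 := by rw [hM, sub_self]
  have hV2 : ∀ w : Fin 4 → F, S.mulVec w = 0 → M.mulVec (M.mulVec w) = -w - M.mulVec w := by
    intro w hw
    rw [hS, Matrix.add_mulVec, Matrix.add_mulVec, Matrix.one_mulVec, ← Matrix.mulVec_mulVec] at hw
    linear_combination (norm := module) hw
  obtain ⟨u, hu⟩ := exists_mulVec_ne_zero (M - 1) (sub_ne_zero.mpr hM1)
  set v := (M - 1).mulVec u with hv
  have hSv : S.mulVec v = 0 := by
    rw [hv, Matrix.mulVec_mulVec, hSM, Matrix.zero_mulVec]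
  have hv2 := hV2 v hSv
  by_cases hall : ∀ w : Fin 4 → F, S.mulVec w = 0 → ∃ s t : F, w = s • v + t • M.mulVec v
  · obtain ⟨P, hP, hPN⟩ := normal_form_one h3 hno M hMS v hv2 hu hall
    exact ⟨P, hP, Or.inl hPN⟩
  · push Not at hall
    obtain ⟨w, hSw, hw⟩ := hall
    obtain ⟨P, hP, hPN⟩ := normal_form_two hno M v w hv2 (hV2 w hSw) hu hw
    exact ⟨P, hP, Or.inr hPN⟩

end CONJ3

end Cfsg.Agent.S6000P
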