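import Mathlib
import Cfsg.Prelude.Def_GeometricClasses
import Cfsg.Agent.Helper20.S6000Defs
import Cfsg.Agent.Helper17.S6000CONJ3a

set_option autoImplicit false
open scoped MatrixGroups Matrix
open Polynomial

/-! # S6000 piece CONJ3: elements of order 3 of `GL_4(p)`, `p ≡ 2 (mod 3)`, `p` odd, with the same trace are
conjugate under `SL_4(p)`. -/

namespace Cfsg.Agent.S6000P

namespace CONJ3

variable {F : Type*} [Field F]

theorem trace_N1 : Matrix.trace (N1 : M4 F) = 1 := by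
  simp [N1, Matrix.trace, Fin.sum_univ_four]

theorem trace_N2 : Matrix.trace (N2 : M4 F) = -2 := by
  simp [N2, Matrix.trace, Fin.sum_univ_four]; ring

/-- centralizer element for `N1` -/
def c1 (d : F) : M4 F := !![1, 0, 0, 0; 0, 1, 0, 0; 0, 0, d, 0; 0, 0, 0, 1]

/-- centralizer element for `N2` -/
def c2 (a b : F) : M4 F := !![a, -b, 0, 0; b, a - b, 0, 0; 0, 0, 1, 0; 0, 0, 0, 1]

theorem c1_comm (d : F) : c1 d * N1 = N1 * c1 d := by
  ext i j
  fin_cases i <;> fin_cases j <;> simp [c1, N1, Matrix.mul_apply, Fin.sum_univ_four]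

theorem c2_comm (a b : F) : c2 a b * N2 = N2 * c2 a b := by
  ext i j
  fin_cases i <;> fin_cases j <;> simp [c2, N2, Matrix.mul_apply, Fin.sum_univ_four] <;> ring

theorem det_c1 (d : F) : (c1 d).det = d := by
  simp [c1, Matrix.det_succ_row_zero, Fin.sum_univ_succ, Fin.succAbove]

theorem det_c2 (a b : F) : (c2 a b).det = a * a - a * b + b * b := by
  simp [c2, Matrix.det_succ_row_zero, Fin.sum_univ_succ, Fin.succAbove]
  ring

theorem adj_N1 (d : F) : ∃ c : M4 F, c * N1 = N1 * c ∧ c.det = d :=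
  ⟨c1 d, c1_comm d, det_c1 d⟩

/-- the form `a^2 - a b + b^2` is universal over a finite field of odd characteristic `≠ 3` -/
theorem exists_norm_eq [Fintype F] (h3 : (3 : F) ≠ 0) (hodd : Fintype.card F % 2 = 1) (d : F) :
    ∃ a b : F, a * a - a * b + b * b = d := by
  have hf : (X ^ 2 : F[X]).degree = 2 := degree_X_pow 2
  have hg : (C (3 : F) * X ^ 2 - C d : F[X]).degree = 2 := by
    rw [degree_sub_C, degree_C_mul_X_pow 2 h3]
    · rfl
    · rw [degree_C_mul_X_pow 2 h3]; norm_num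
  obtain ⟨u, w, huw⟩ := FiniteField.exists_root_sum_quadratic hf hg hodd
  simp only [eval_pow, eval_X, eval_sub, eval_mul, eval_C] at huw
  refine ⟨u + w, 2 * w, ?_⟩
  linear_combination huw

theorem adj_N2 [Fintype F] (h3 : (3 : F) ≠ 0) (hodd : Fintype.card F % 2 = 1) (d : F) :
    ∃ c : M4 F, c * N2 = N2 * c ∧ c.det = d := by
  obtain ⟨a, b, hab⟩ := exists_norm_eq h3 hodd d
  exact ⟨c2 a b, c2_comm a b, by rw [det_c2, hab]⟩

theorem trace_eq_of_conj (M P N : M4 F) (hP : IsUnit P) (h : M * P = P * N) :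
    Matrix.trace M = Matrix.trace N := by
  obtain ⟨Pu, rfl⟩ := hP
  calc Matrix.trace M = Matrix.trace (M * ((Pu : M4 F) * ((Pu⁻¹ : (M4 F)ˣ) : M4 F))) := by
        rw [Units.mul_inv, mul_one]
    _ = Matrix.trace ((Pu : M4 F) * N * ((Pu⁻¹ : (M4 F)ˣ) : M4 F)) := by
        rw [← Matrix.mul_assoc, h]
    _ = Matrix.trace (((Pu⁻¹ : (M4 F)ˣ) : M4 F) * ((Pu : M4 F) * N)) := Matrix.trace_mul_comm _ _
    _ = Matrix.trace N := by rw [← Matrix.mul_assoc, Units.inv_mul, Matrix.one_mul]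

/-- two elements with the same normal form are conjugate under `SL_4` as soon as the centralizer of the normal
form contains elements of every nonzero determinant -/
theorem conj_of_same_normal_form (N : M4 F)
    (hadj : ∀ d : F, ∃ c : M4 F, c * N = N * c ∧ c.det = d)
    (x y : GL (Fin 4) F) (P Q : M4 F) (hP : IsUnit P) (hQ : IsUnit Q)
    (hxP : (x : M4 F) * P = P * N) (hyQ : (y : M4 F) * Q = Q * N) :
    ∃ g ∈ Cfsg.Geo.specialLinear (Fin 4) F, g⁻¹ * x * g = y := by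
  have hdP : P.det ≠ 0 := by
    have := (Matrix.isUnit_iff_isUnit_det P).mp hP
    exact this.ne_zero
  have hdQ : Q.det ≠ 0 := by
    have := (Matrix.isUnit_iff_isUnit_det Q).mp hQ
    exact this.ne_zero
  obtain ⟨c, hcN, hcd⟩ := hadj (Q.det / P.det)
  have hdet' : (P * c).det = Q.det := by
    rw [Matrix.det_mul, hcd]; field_simp
  have hP' : IsUnit (P * c) := by
    rw [Matrix.isUnit_iff_isUnit_det, hdet']
    exact isUnit_iff_ne_zero.mpr hdQ
  have hxP' : (x : M4 F) * (P * c) = (P * c) * N := by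
    rw [← Matrix.mul_assoc, hxP, Matrix.mul_assoc, ← hcN, Matrix.mul_assoc]
  obtain ⟨Pu, hPu⟩ := hP'
  obtain ⟨Qu, hQu⟩ := hQ
  have hyQ' : N * ((Qu⁻¹ : (M4 F)ˣ) : M4 F) = ((Qu⁻¹ : (M4 F)ˣ) : M4 F) * (y : M4 F) := by
    calc N * ((Qu⁻¹ : (M4 F)ˣ) : M4 F)
        = (((Qu⁻¹ : (M4 F)ˣ) : M4 F) * (Qu : M4 F)) * N * ((Qu⁻¹ : (M4 F)ˣ) : M4 F) := by
          rw [Units.inv_mul, Matrix.one_mul]
      _ = ((Qu⁻¹ : (M4 F)ˣ) : M4 F) * ((Qu : M4 F) * N) * ((Qu⁻¹ : (M4 F)ˣ) : M4 F) := by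
          rw [Matrix.mul_assoc ((Qu⁻¹ : (M4 F)ˣ) : M4 F)]
      _ = ((Qu⁻¹ : (M4 F)ˣ) : M4 F) * ((y : M4 F) * (Qu : M4 F)) * ((Qu⁻¹ : (M4 F)ˣ) : M4 F) := by
          rw [hQu, hyQ]
      _ = ((Qu⁻¹ : (M4 F)ˣ) : M4 F) * (y : M4 F) := by
          rw [Matrix.mul_assoc, Matrix.mul_assoc, Units.mul_inv, Matrix.mul_one]
  refine ⟨Pu * Qu⁻¹, ?_, ?_⟩
  · rw [mem_specialLinear_iff, Units.val_mul, Matrix.det_mul, hPu, hdet']
    have h1 : (Qu : M4 F) * ((Qu⁻¹ : (M4 F)ˣ) : M4 F) = 1 := Units.mul_inv Qu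
    have h2 := congrArg Matrix.det h1
    rw [Matrix.det_mul, Matrix.det_one, hQu] at h2
    exact h2
  · have hcomm : x * (Pu * Qu⁻¹) = (Pu * Qu⁻¹) * y := by
      apply Units.ext
      rw [Units.val_mul, Units.val_mul, Units.val_mul, Units.val_mul, hPu, ← Matrix.mul_assoc, hxP',
        Matrix.mul_assoc, hyQ']
      simp only [Matrix.mul_assoc]
    rw [mul_assoc, hcomm, ← mul_assoc, inv_mul_cancel, one_mul]

variable [Fintype F] {p : ℕ} [Fact p.Prime] [CharP F p]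

omit [Fintype F] in
/-- `3 ≠ 0` in `F_p`, `p ≡ 2 (mod 3)` -/
theorem three_ne (hp3 : p % 3 = 2) : (3 : F) ≠ 0 := by
  have hp : p.Prime := Fact.out
  intro h3
  have h3' : ((3 : ℕ) : F) = 0 := by exact_mod_cast h3
  rw [CharP.cast_eq_zero_iff F p] at h3'
  have : p = 3 := (Nat.prime_dvd_prime_iff_eq hp Nat.prime_three).mp h3'
  omega

/-- no primitive cube root of unity in `F_p`, `p ≡ 2 (mod 3)` (as in helper20's `TYPE3.no_omega`) -/
theorem no_root (hF : Fintype.card F = p) (hp3 : p % 3 = 2) (t : F) : t * t + t + 1 ≠ 0 := by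
  intro hω
  have h3 : (3 : F) ≠ 0 := three_ne hp3
  have hω0 : t ≠ 0 := by
    rintro rfl
    simp at hω
  have hω3 : t ^ 3 = 1 := by linear_combination (t - 1) * hω
  have hω1 : t ≠ 1 := by
    rintro rfl
    apply h3
    linear_combination hω
  have h1 := FiniteField.pow_card_sub_one_eq_one t hω0
  rw [hF] at h1
  obtain ⟨q, hq⟩ : ∃ q, p - 1 = 3 * q + 1 := ⟨(p - 1) / 3, by omega⟩
  rw [hq, pow_add, pow_mul, hω3, one_pow, one_mul, pow_one] at h1
  exact hω1 h1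

end CONJ3

open CONJ3 in
/-- CONJ3 -/
theorem cube_conj_sl {F : Type*} [Field F] [Fintype F] {p : ℕ} [Fact p.Prime] [CharP F p]
    (hF : Fintype.card F = p) (hp3 : p % 3 = 2) (hp2 : p ≠ 2) (x y : GL (Fin 4) F)
    (hx : x ^ 3 = 1) (hy : y ^ 3 = 1) (hx1 : x ≠ 1) (hy1 : y ≠ 1)
    (htr : Matrix.trace (x : M4 F) = Matrix.trace (y : M4 F)) :
    ∃ g ∈ Cfsg.Geo.specialLinear (Fin 4) F, g⁻¹ * x * g = y := by
  have hp : p.Prime := Fact.out
  have h3 : (3 : F) ≠ 0 := three_ne hp3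
  have hno : ∀ t : F, t * t + t + 1 ≠ 0 := no_root hF hp3
  have hodd : Fintype.card F % 2 = 1 := by
    rw [hF]
    rcases hp.eq_two_or_odd with h | h
    · exact absurd h hp2
    · exact h
  have hxM : (x : M4 F) * (x : M4 F) * (x : M4 F) = 1 := by
    rw [← pow_three', ← Units.val_pow_eq_pow_val, hx, Units.val_one]
  have hyM : (y : M4 F) * (y : M4 F) * (y : M4 F) = 1 := by
    rw [← pow_three', ← Units.val_pow_eq_pow_val, hy, Units.val_one]
  have hxM1 : (x : M4 F) ≠ 1 := fun h => hx1 (Units.ext h)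
  have hyM1 : (y : M4 F) ≠ 1 := fun h => hy1 (Units.ext h)
  obtain ⟨P, hP, hPN⟩ := exists_normal_form h3 hno (x : M4 F) hxM hxM1
  obtain ⟨Q, hQ, hQN⟩ := exists_normal_form h3 hno (y : M4 F) hyM hyM1
  rcases hPN with hPN | hPN <;> rcases hQN with hQN | hQN
  · exact conj_of_same_normal_form N1 adj_N1 x y P Q hP hQ hPN hQN
  · exfalso
    have e1 := trace_eq_of_conj _ _ _ hP hPN
    have e2 := trace_eq_of_conj _ _ _ hQ hQN
    rw [trace_N1] at e1
    rw [trace_N2] at e2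
    apply h3
    rw [e1, e2] at htr
    linear_combination htr
  · exfalso
    have e1 := trace_eq_of_conj _ _ _ hP hPN
    have e2 := trace_eq_of_conj _ _ _ hQ hQN
    rw [trace_N2] at e1
    rw [trace_N1] at e2
    apply h3
    rw [e1, e2] at htr
    linear_combination -htr
  · exact conj_of_same_normal_form N2 (adj_N2 h3 hodd) x y P Q hP hQ hPN hQN

end Cfsg.Agent.S6000P
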