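import Mathlib
import Cfsg.Prelude.Def_GeometricClasses
import Cfsg.Agent.Helper20.S6000Defs
import Cfsg.Agent.Helper17.S6000LI64

set_option autoImplicit false
open scoped MatrixGroups Matrix

/-! # S6000 piece SPAN64: the matrices of `R` span the full matrix algebra (16 representatives of the cosets
of the scalar subgroup of order 4 are linearly independent). -/

namespace Cfsg.Agent.S6000P

namespace SPAN64

/-- a scalar element of `R` is `±1` or `±ι` -/
theorem scalar_cases' {F : Type*} [Field F] {R : Subgroup (GL (Fin 4) F)} {ι : F} (h : Hyp64 R ι)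
    (a : GL (Fin 4) F) (ha : a ∈ R) (z : F) (hz : (a : M4 F) = z • (1 : M4 F)) :
    z = 1 ∨ z = -1 ∨ z = ι ∨ z = -ι := by
  have hsq : ((a * a : GL (Fin 4) F) : M4 F) = (z * z) • (1 : M4 F) := by
    rw [Units.val_mul, hz, Matrix.smul_mul, Matrix.mul_smul, Matrix.one_mul, smul_smul]
  rcases h.sq a ha with e | e
  · rw [e, Units.val_one] at hsq
    have h00 := congrFun (congrFun hsq 0) 0
    simp only [Matrix.one_apply_eq, Matrix.smul_apply, smul_eq_mul, mul_one] at h00
    have : (z - 1) * (z + 1) = 0 := by linear_combination -h00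
    rcases mul_eq_zero.mp this with h1 | h1
    · left; linear_combination h1
    · right; left; linear_combination h1
  · rw [e, coe_neg_one] at hsq
    have h00 := congrFun (congrFun hsq 0) 0
    simp only [Matrix.neg_apply, Matrix.one_apply_eq, Matrix.smul_apply, smul_eq_mul, mul_one] at h00
    have : (z - ι) * (z + ι) = 0 := by linear_combination -h00 - h.iota_sq
    rcases mul_eq_zero.mp this with h1 | h1
    · right; right; left; linear_combination h1
    · right; right; right; linear_combination h1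

end SPAN64

/-- SPAN64 -/
theorem span_eq_top {F : Type*} [Field F] {R : Subgroup (GL (Fin 4) F)} {ι : F} (h : Hyp64 R ι) :
    Submodule.span F (Cfsg.Geo.matrixSet R) = ⊤ := by
  classical
  have : Finite ↥R := Nat.finite_of_card_ne_zero (by rw [h.card]; norm_num)
  obtain ⟨c, hcR, hc⟩ := h.iota_mem
  set z : ↥R := ⟨c, hcR⟩ with hz
  have hc2 : c * c = -1 := by
    apply Units.ext
    rw [Units.val_mul, hc, coe_neg_one, Matrix.smul_mul, Matrix.mul_smul, Matrix.one_mul, smul_smul,
      h.iota_sq, neg_one_smul]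
  have hz2 : z ^ 2 ≠ 1 := by
    intro e
    have e' : c ^ 2 = 1 := congrArg Subtype.val e
    rw [pow_two, hc2] at e'
    exact neg_one_ne_one h.two_ne e'
  have hz4 : z ^ 4 = 1 := by
    apply Subtype.ext
    show c ^ 4 = 1
    have : c ^ 4 = (c * c) * (c * c) := by
      have e : c ^ 4 = c ^ 2 * c ^ 2 := pow_add c 2 2
      rw [e, pow_two]
    rw [this, hc2]
    simp
  have hord : orderOf z = 4 := by
    have hdvd : orderOf z ∣ 2 ^ 2 := orderOf_dvd_of_pow_eq_one hz4
    rw [Nat.dvd_prime_pow Nat.prime_two] at hdvd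
    obtain ⟨k, hk, hk2⟩ := hdvd
    interval_cases k
    · exfalso
      apply hz2
      rw [pow_zero, orderOf_eq_one_iff] at hk2
      rw [hk2, one_pow]
    · exfalso
      apply hz2
      rw [pow_one] at hk2
      rw [← hk2, pow_orderOf_eq_one]
    · exact hk2
  set Z : Subgroup ↥R := Subgroup.zpowers z with hZ
  have hZcard : Nat.card Z = 4 := by rw [hZ, Nat.card_zpowers, hord]
  have hQcard : Nat.card (↥R ⧸ Z) = 16 := by
    have := Subgroup.card_eq_card_quotient_mul_card_subgroup Z
    rw [h.card, hZcard] at this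
    omega
  letI : Fintype (↥R ⧸ Z) := Fintype.ofFinite _
  -- scalar elements of `R` lie in `Z`
  have hZmem : ∀ x : ↥R, (∃ w : F, ((x : GL (Fin 4) F) : M4 F) = w • (1 : M4 F)) → x ∈ Z := by
    rintro x ⟨w, hw⟩
    have hx : ∀ k : ℕ, ((x : GL (Fin 4) F) : M4 F) = ((c ^ k : GL (Fin 4) F) : M4 F) → x ∈ Z := by
      intro k e
      have : x = z ^ k := by
        apply Subtype.ext
        apply Units.ext
        exact e
      rw [this]
      exact Subgroup.pow_mem _ (Subgroup.mem_zpowers z) k
    have hcpow2 : ((c ^ 2 : GL (Fin 4) F) : M4 F) = (-1 : F) • (1 : M4 F) := by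
      rw [pow_two, hc2, coe_neg_one, neg_one_smul]
    have hcpow3 : ((c ^ 3 : GL (Fin 4) F) : M4 F) = (-ι) • (1 : M4 F) := by
      have : c ^ 3 = (c * c) * c := by
        have e : c ^ 3 = c ^ 2 * c ^ 1 := pow_add c 2 1
        rw [e, pow_two, pow_one]
      rw [this, hc2, Units.val_mul, coe_neg_one, hc, neg_one_mul, neg_smul]
    rcases SPAN64.scalar_cases' h x x.2 w hw with rfl | rfl | rfl | rfl
    · exact hx 0 (by rw [hw, pow_zero, Units.val_one, one_smul])
    · exact hx 2 (by rw [hw, hcpow2])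
    · exact hx 1 (by rw [hw, pow_one, hc])
    · exact hx 3 (by rw [hw, hcpow3])
  set b : ↥R ⧸ Z → GL (Fin 4) F := fun q => ((Quotient.out q : ↥R) : GL (Fin 4) F) with hb
  have hbR : ∀ q, b q ∈ R := fun q => (Quotient.out q : ↥R).2
  have hne : ∀ q q' : ↥R ⧸ Z, q ≠ q' → ∀ w : F, (b q : M4 F) ≠ w • (b q' : M4 F) := by
    intro q q' hqq' w e
    apply hqq'
    have h1 : ((Quotient.out q' : ↥R))⁻¹ * (Quotient.out q : ↥R) ∈ Z := by
      apply hZmem
      refine ⟨w, ?_⟩
      show ((((Quotient.out q' : ↥R) : GL (Fin 4) F)⁻¹ * ((Quotient.out q : ↥R) : GL (Fin 4) F) :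
        GL (Fin 4) F) : M4 F) = w • (1 : M4 F)
      have e' : (((Quotient.out q : ↥R) : GL (Fin 4) F) : M4 F) =
          w • (((Quotient.out q' : ↥R) : GL (Fin 4) F) : M4 F) := e
      rw [Units.val_mul, e', Matrix.mul_smul, ← Units.val_mul, inv_mul_cancel, Units.val_one]
    have h2 : (QuotientGroup.mk (Quotient.out q') : ↥R ⧸ Z) = QuotientGroup.mk (Quotient.out q) := by
      rw [QuotientGroup.eq]
      exact h1
    have h3 : (QuotientGroup.mk (Quotient.out q') : ↥R ⧸ Z) = q' := Quotient.out_eq q'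
    have h4 : (QuotientGroup.mk (Quotient.out q) : ↥R ⧸ Z) = q := Quotient.out_eq q
    rw [← h3, ← h4, h2]
  have hli := linearIndependent_of_cosets h b hbR hne
  have hfr : Fintype.card (↥R ⧸ Z) = Module.finrank F (M4 F) := by
    rw [← Nat.card_eq_fintype_card, hQcard, Module.finrank_matrix, Module.finrank_self]
    simp
  have htop := hli.span_eq_top_of_card_eq_finrank' hfr
  rw [eq_top_iff, ← htop]
  apply Submodule.span_mono
  rintro _ ⟨q, rfl⟩
  exact ⟨b q, hbR q, rfl⟩

end Cfsg.Agent.S6000P
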