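import Mathlib
import Cfsg.Prelude.Def_GeometricClasses
import Cfsg.Agent.Helper20.S6000Defs
import Cfsg.Agent.Helper17.S6000SPAN64

set_option autoImplicit false
open scoped MatrixGroups Matrix

/-! # S6000 piece PDIM: the commutant of `y` has dimension at most the number of `⟨y⟩`-orbits on `R / scalars`
(the traces against orbit representatives determine an element of the commutant, since `R` spans the matrix algebra). -/

namespace Cfsg.Agent.S6000P

namespace PDIM

/-- the linear functional `M ↦ trace (M * m)` -/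
noncomputable def trMul {F : Type*} [Field F] (m : M4 F) : M4 F →ₗ[F] F :=
  (Matrix.traceLinearMap (Fin 4) F F).comp (LinearMap.mulRight F m)

theorem trMul_apply {F : Type*} [Field F] (m M : M4 F) : trMul m M = Matrix.trace (M * m) := rfl

/-- the map sending an element of the commutant to its traces against the representatives -/
noncomputable def trMap {F : Type*} [Field F] (y : M4 F) (n0 : ℕ) (b : Fin n0 → M4 F) :
    commSub y →ₗ[F] (Fin n0 → F) :=
  LinearMap.pi (fun j => (Matrix.traceLinearMap (Fin 4) F F).comp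
    ((LinearMap.mulLeft F (b j)).comp (commSub y).subtype))

theorem trMap_apply {F : Type*} [Field F] (y : M4 F) (n0 : ℕ) (b : Fin n0 → M4 F) (m : commSub y)
    (j : Fin n0) : trMap y n0 b m j = Matrix.trace (b j * (m : M4 F)) := by
  simp [trMap]

end PDIM

/-- PDIM -/
theorem cdim_le_of_reps {F : Type*} [Field F] {R : Subgroup (GL (Fin 4) F)} {ι : F}
    (h : Hyp64 R ι) (y : GL (Fin 4) F) (n0 : ℕ) (b : Fin n0 → GL (Fin 4) F)
    (hcov : ∀ a ∈ R, ∃ (j : Fin n0) (e : ℕ) (z : F),
        (a : M4 F) = z • ((y ^ e * b j * (y ^ e)⁻¹ : GL (Fin 4) F) : M4 F)) :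
    cdim (y : M4 F) ≤ n0 := by
  classical
  set φ := PDIM.trMap (y : M4 F) n0 (fun j => (b j : M4 F)) with hφ
  have hinj : Function.Injective φ := by
    rw [← LinearMap.ker_eq_bot, LinearMap.ker_eq_bot']
    intro m hm
    have hc : Commute (m : M4 F) (y : M4 F) := (mem_commSub _ _).mp m.2
    have h1 : ∀ a ∈ R, Matrix.trace ((a : M4 F) * (m : M4 F)) = 0 := by
      intro a ha
      obtain ⟨j, e, z, hz⟩ := hcov a ha
      have hcY : Commute (m : M4 F) ((y ^ e : GL (Fin 4) F) : M4 F) := by
        rw [Units.val_pow_eq_pow_val]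
        exact hc.pow_right e
      have hcYinv : Commute (m : M4 F) (((y ^ e)⁻¹ : GL (Fin 4) F) : M4 F) := hcY.units_inv_right
      have hbj : Matrix.trace ((b j : M4 F) * (m : M4 F)) = 0 := by
        have := congrFun hm j
        rw [hφ, PDIM.trMap_apply] at this
        exact this
      rw [hz, Units.val_mul, Units.val_mul, Matrix.smul_mul, Matrix.trace_smul,
        Matrix.mul_assoc _ _ (m : M4 F), ← hcYinv.eq, Matrix.mul_assoc, Matrix.trace_mul_comm,
        Matrix.mul_assoc, Matrix.mul_assoc, Units.inv_mul, Matrix.mul_one, hbj, smul_zero]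
    have h2 : PDIM.trMul (m : M4 F) = 0 := by
      apply LinearMap.ext_on (span_eq_top h)
      rintro _ ⟨a, ha, rfl⟩
      rw [PDIM.trMul_apply, LinearMap.zero_apply]
      exact h1 a ha
    have h3 : (m : M4 F) = 0 := by
      rw [Matrix.ext_iff_trace_mul_left]
      intro x
      rw [Matrix.mul_zero, Matrix.trace_zero, ← PDIM.trMul_apply, h2, LinearMap.zero_apply]
    exact Subtype.ext h3
  have hle := LinearMap.finrank_le_finrank_of_injective hinj
  rw [Module.finrank_fin_fun] at hle
  exact hle

end Cfsg.Agent.S6000P
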