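import Mathlib
import Cfsg.Prelude.Def_GeometricClasses
import Cfsg.Agent.Helper20.S6000Defs
import Cfsg.Agent.Helper17.S6000CONJ3
import Cfsg.Agent.Helper14.S6001DIAG3

set_option autoImplicit false
open scoped MatrixGroups Matrix

/-! # S6001 piece CONJ3S: diagonalizable elements of order 3 of `GL_4(F)` (`ω ∈ F`) with the same traces of
`x` and `x^2` are conjugate in `GL_4(F)`. -/

namespace Cfsg.Agent.S6001P

open Cfsg.Agent.S6000P

namespace CONJ3S

variable {F : Type*} [Field F]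

/-- number of indices with value `z` -/
noncomputable def cnt (d : Fin 4 → F) (z : F) : ℕ := by
  classical exact (Finset.univ.filter (fun i => d i = z)).card

omit [Field F] in
theorem cnt_le (d : Fin 4 → F) (z : F) : cnt d z ≤ 4 := by
  classical
  unfold cnt
  calc (Finset.univ.filter (fun i => d i = z)).card ≤ (Finset.univ : Finset (Fin 4)).card :=
        Finset.card_filter_le _ _
    _ = 4 := by simp

theorem omega_ne_one {ω : F} (hω : ω * ω + ω + 1 = 0) (h3 : (3 : F) ≠ 0) : ω ≠ 1 := by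
  rintro rfl
  apply h3
  linear_combination hω

theorem omega_sq_ne_one {ω : F} (hω : ω * ω + ω + 1 = 0) (h3 : (3 : F) ≠ 0) : ω * ω ≠ 1 := by
  intro h
  apply h3
  have h1 : ω = -2 := by linear_combination hω - h
  rw [h1] at h
  linear_combination h

theorem omega_ne_sq {ω : F} (hω : ω * ω + ω + 1 = 0) (h3 : (3 : F) ≠ 0) : ω ≠ ω * ω := by
  intro h
  have h0 : ω ≠ 0 := by
    rintro rfl
    simp at hω
  apply omega_ne_one hω h3
  have : ω * (ω - 1) = 0 := by linear_combination -h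
  rcases mul_eq_zero.mp this with h1 | h1
  · exact absurd h1 h0
  · linear_combination h1

/-- sums over the indices in terms of the three counts -/
theorem sum_comp_eq {ω : F} (hω : ω * ω + ω + 1 = 0) (h3 : (3 : F) ≠ 0) (d : Fin 4 → F)
    (hd : ∀ i, d i = 1 ∨ d i = ω ∨ d i = ω * ω) (φ : F → F) :
    ∑ i, φ (d i) = (cnt d 1 : F) * φ 1 + (cnt d ω : F) * φ ω + (cnt d (ω * ω) : F) * φ (ω * ω) := by
  classical
  have h1 := omega_ne_one hω h3
  have h2 := omega_sq_ne_one hω h3
  have h12 := omega_ne_sq hω h3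
  have hpt : ∀ i, φ (d i) = (if d i = 1 then 1 else 0) * φ 1 + (if d i = ω then 1 else 0) * φ ω +
      (if d i = ω * ω then 1 else 0) * φ (ω * ω) := by
    intro i
    rcases hd i with h | h | h
    · rw [h, if_pos rfl, if_neg (Ne.symm h1), if_neg (Ne.symm h2)]; ring
    · rw [h, if_neg h1, if_pos rfl, if_neg h12]; ring
    · rw [h, if_neg h2, if_neg (Ne.symm h12), if_pos rfl]; ring
  rw [Finset.sum_congr rfl (fun i _ => hpt i), Finset.sum_add_distrib, Finset.sum_add_distrib,
    ← Finset.sum_mul, ← Finset.sum_mul, ← Finset.sum_mul, Finset.sum_boole, Finset.sum_boole,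
    Finset.sum_boole]
  rfl

/-- natural numbers `≤ 4` with equal casts are equal -/
theorem nat_eq_of_cast_eq (hch : ∀ n : ℕ, 0 < n → n ≤ 4 → (n : F) ≠ 0) {a b : ℕ} (ha : a ≤ 4)
    (hb : b ≤ 4) (h : (a : F) = (b : F)) : a = b := by
  rcases Nat.lt_trichotomy a b with hlt | heq | hgt
  · exfalso
    apply hch (b - a) (by omega) (by omega)
    rw [Nat.cast_sub hlt.le, h, sub_self]
  · exact heq
  · exfalso
    apply hch (a - b) (by omega) (by omega)
    rw [Nat.cast_sub hgt.le, h, sub_self]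

/-- the counts are determined by the two traces -/
theorem cnt_eq {ω : F} (hω : ω * ω + ω + 1 = 0) (h3 : (3 : F) ≠ 0)
    (hch : ∀ n : ℕ, 0 < n → n ≤ 4 → (n : F) ≠ 0) (d d' : Fin 4 → F)
    (hd : ∀ i, d i = 1 ∨ d i = ω ∨ d i = ω * ω) (hd' : ∀ i, d' i = 1 ∨ d' i = ω ∨ d' i = ω * ω)
    (hs1 : ∑ i, d i = ∑ i, d' i) (hs2 : ∑ i, d i * d i = ∑ i, d' i * d' i) (z : F) :
    cnt d z = cnt d' z := by
  classical
  have e0 := sum_comp_eq hω h3 d hd (fun _ => 1)
  have e0' := sum_comp_eq hω h3 d' hd' (fun _ => 1)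
  have e1 := sum_comp_eq hω h3 d hd (fun t => t)
  have e1' := sum_comp_eq hω h3 d' hd' (fun t => t)
  have e2 := sum_comp_eq hω h3 d hd (fun t => t * t)
  have e2' := sum_comp_eq hω h3 d' hd' (fun t => t * t)
  beta_reduce at e0 e0' e1 e1' e2 e2'
  rw [hs1, e1'] at e1
  rw [hs2, e2'] at e2
  rw [e0'] at e0
  set a : F := (cnt d 1 : F) with ha
  set b : F := (cnt d ω : F) with hb
  set c : F := (cnt d (ω * ω) : F) with hc
  set a' : F := (cnt d' 1 : F) with ha'
  set b' : F := (cnt d' ω : F) with hb'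
  set c' : F := (cnt d' (ω * ω) : F) with hc'
  have hω3 : ω * ω * ω = 1 := by linear_combination (ω - 1) * hω
  have hA : a = a' := by
    have : (3 : F) * (a - a') = 0 := by
      linear_combination (-1 : F) * e0 - e1 - e2 - (b - b') * hω - (c - c') * hω -
        (c - c') * ω * hω3
    rcases mul_eq_zero.mp this with h | h
    · exact absurd h h3
    · linear_combination h
  have hB : b = b' := by
    have h12 := omega_ne_sq hω h3
    have : (ω - ω * ω) * (b - b') = 0 := by
      linear_combination (-1 : F) * e1 + (ω * ω) * e0 - (1 - ω * ω) * hA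
    rcases mul_eq_zero.mp this with h | h
    · exact absurd (sub_eq_zero.mp h) h12
    · linear_combination h
  have hC : c = c' := by linear_combination (-1 : F) * e0 - hA - hB
  by_cases hz1 : z = 1
  · rw [hz1]; exact nat_eq_of_cast_eq hch (cnt_le _ _) (cnt_le _ _) hA
  by_cases hz2 : z = ω
  · rw [hz2]; exact nat_eq_of_cast_eq hch (cnt_le _ _) (cnt_le _ _) hB
  by_cases hz3 : z = ω * ω
  · rw [hz3]; exact nat_eq_of_cast_eq hch (cnt_le _ _) (cnt_le _ _) hC
  · have hz : ∀ (d : Fin 4 → F), (∀ i, d i = 1 ∨ d i = ω ∨ d i = ω * ω) → cnt d z = 0 := by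
      intro d hd
      unfold cnt
      rw [Finset.card_eq_zero, Finset.filter_eq_empty_iff]
      intro i _ hi
      rcases hd i with h | h | h
      · exact hz1 (by rw [← hi, h])
      · exact hz2 (by rw [← hi, h])
      · exact hz3 (by rw [← hi, h])
    rw [hz d hd, hz d' hd']

omit [Field F] in
/-- a permutation matching two diagonals with the same counts -/
theorem exists_perm (d d' : Fin 4 → F) (h : ∀ z, cnt d z = cnt d' z) :
    ∃ σ : Fin 4 ≃ Fin 4, ∀ i, d' (σ i) = d i := by
  classical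
  have hcard : ∀ z : F, Fintype.card {i // d i = z} = Fintype.card {i // d' i = z} := by
    intro z
    rw [Fintype.card_subtype, Fintype.card_subtype]
    have := h z
    unfold cnt at this
    convert this
  refine ⟨Equiv.ofFiberEquiv (fun z => Fintype.equivOfCardEq (hcard z)), fun i => ?_⟩
  exact Equiv.ofFiberEquiv_map _ i

theorem adj_diag (d : Fin 4 → F) (δ : F) :
    ∃ c : M4 F, c * Matrix.diagonal d = Matrix.diagonal d * c ∧ c.det = δ := by
  refine ⟨Matrix.diagonal ![δ, 1, 1, 1], ?_, ?_⟩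
  · rw [Matrix.diagonal_mul_diagonal, Matrix.diagonal_mul_diagonal]
    congr 1
    funext i
    exact mul_comm _ _
  · rw [Matrix.det_diagonal, Fin.prod_univ_four]
    simp

end CONJ3S

open CONJ3S in
/-- CONJ3S -/
theorem cube_conj_split {F : Type*} [Field F] (ω : F) (hω : ω * ω + ω + 1 = 0)
    (h3 : (3 : F) ≠ 0) (hch : ∀ n : ℕ, 0 < n → n ≤ 4 → (n : F) ≠ 0) (x y : GL (Fin 4) F)
    (hx : x ^ 3 = 1) (hy : y ^ 3 = 1)
    (htr : Matrix.trace (x : M4 F) = Matrix.trace (y : M4 F))
    (htr2 : Matrix.trace ((x : M4 F) * (x : M4 F)) = Matrix.trace ((y : M4 F) * (y : M4 F))) :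
    ∃ g : GL (Fin 4) F, g⁻¹ * x * g = y := by
  classical
  obtain ⟨g, d, hd, hg⟩ := exists_diag_of_cube ω hω h3 x hx
  obtain ⟨g', d', hd', hg'⟩ := exists_diag_of_cube ω hω h3 y hy
  have hgU : IsUnit (g : M4 F) := g.isUnit
  have hgU' : IsUnit (g' : M4 F) := g'.isUnit
  have tr1 : ∀ (z : GL (Fin 4) F) (G : M4 F) (e : Fin 4 → F), IsUnit G →
      (z : M4 F) * G = G * Matrix.diagonal e →
      Matrix.trace (z : M4 F) = ∑ i, e i ∧
        Matrix.trace ((z : M4 F) * (z : M4 F)) = ∑ i, e i * e i := by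
    intro z G e hG hzG
    constructor
    · rw [CONJ3.trace_eq_of_conj _ _ _ hG hzG, Matrix.trace_diagonal]
    · have h2 : (z : M4 F) * (z : M4 F) * G = G * Matrix.diagonal (fun i => e i * e i) := by
        rw [Matrix.mul_assoc, hzG, ← Matrix.mul_assoc, hzG, Matrix.mul_assoc,
          Matrix.diagonal_mul_diagonal]
      rw [CONJ3.trace_eq_of_conj _ _ _ hG h2, Matrix.trace_diagonal]
  obtain ⟨hx1, hx2⟩ := tr1 x _ d hgU hg
  obtain ⟨hy1, hy2⟩ := tr1 y _ d' hgU' hg'
  have hs1 : ∑ i, d i = ∑ i, d' i := by rw [← hx1, ← hy1, htr]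
  have hs2 : ∑ i, d i * d i = ∑ i, d' i * d' i := by rw [← hx2, ← hy2, htr2]
  obtain ⟨σ, hσ⟩ := exists_perm d d' (cnt_eq hω h3 hch d d' hd hd' hs1 hs2)
  set G'' : M4 F := (g' : M4 F).submatrix id σ with hG''
  have hyG'' : (y : M4 F) * G'' = G'' * Matrix.diagonal d := by
    ext i j
    rw [Matrix.mul_diagonal]
    have := congrFun (congrFun hg' i) (σ j)
    rw [Matrix.mul_diagonal, hσ j] at this
    simpa [Matrix.mul_apply, hG''] using this
  have hG''U : IsUnit G'' := by
    rw [Matrix.isUnit_iff_isUnit_det, hG'', Matrix.det_permute']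
    have hdet : IsUnit (g' : M4 F).det := (Matrix.isUnit_iff_isUnit_det _).mp hgU'
    rcases Int.units_eq_one_or (Equiv.Perm.sign σ) with h | h
    · rw [h]; simpa using hdet
    · rw [h]; simpa using hdet
  obtain ⟨γ, -, hγ⟩ := CONJ3.conj_of_same_normal_form (Matrix.diagonal d) (adj_diag d) x y
    (g : M4 F) G'' hgU hG''U hg hyG''
  exact ⟨γ, hγ⟩

end Cfsg.Agent.S6001P
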