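import Mathlib
import Cfsg.Prelude.Def_GeometricClasses
import Cfsg.Prelude.Def_Classical
import Cfsg.Prelude.Def_LieClassical
import Cfsg.Agent.Helper20.S6000Defs
import Cfsg.Agent.Helper28.S6001Defs
import Cfsg.Agent.Helper26.S6000QUAT
import Cfsg.Agent.Helper8.S6000Y3
import Cfsg.Agent.Helper15.S6001USPU

set_option autoImplicit false
open scoped MatrixGroups Matrix

/-! # S6001 piece Y3U: the elements `yA`, `yB` of order 3 of the normalizer of `R` (helper8's S6000 Y3) are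
unitary when `R ≤ GU_4(p)`. -/

namespace Cfsg.Agent.S6001P

open Cfsg.Agent.S6000P

namespace Y3U

variable {F : Type*} [Field F] {p : ℕ} [Fact p.Prime] [CharP F p]

/-- `-1/2` is fixed by the Frobenius -/
theorem half_pow : ((-2⁻¹ : F)) ^ p = -2⁻¹ := by
  rw [← frobenius_def, map_neg, map_inv₀, map_ofNat]

/-- the element `yB = -(1+s)(1+s')/2` is unitary -/
theorem yB_unitary (s s' : GL (Fin 4) F) (hs : s ∈ Cfsg.GU 4 F p) (hs' : s' ∈ Cfsg.GU 4 F p)
    (hss : s * s = -1) (hs's' : s' * s' = -1) (h2 : (2 : F) ≠ 0) (y : GL (Fin 4) F)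
    (hy : (y : M4 F) = (-2⁻¹ : F) • ((1 + (s : M4 F)) * (1 + (s' : M4 F)))) :
    y ∈ Cfsg.GU 4 F p := by
  rw [mem_GU_iff_dag p y, hy, dag_smul, dag_mul, half_pow, smul_mul_smul_comm]
  have e1 := one_add_similitude (p := p) s hs hss
  have e2 := one_add_similitude (p := p) s' hs' hs's'
  have : dag p (1 + (s' : M4 F)) * dag p (1 + (s : M4 F)) * ((1 + (s : M4 F)) * (1 + (s' : M4 F)))
      = (4 : F) • (1 : M4 F) := by
    calc dag p (1 + (s' : M4 F)) * dag p (1 + (s : M4 F)) * ((1 + (s : M4 F)) * (1 + (s' : M4 F)))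
        = dag p (1 + (s' : M4 F)) * (dag p (1 + (s : M4 F)) * (1 + (s : M4 F))) * (1 + (s' : M4 F)) := by
          simp only [Matrix.mul_assoc]
      _ = (2 : F) • (dag p (1 + (s' : M4 F)) * (1 + (s' : M4 F))) := by
          rw [e1, Matrix.mul_smul, Matrix.mul_one, Matrix.smul_mul]
      _ = (4 : F) • (1 : M4 F) := by
          rw [e2, smul_smul]; norm_num
  rw [this, smul_smul]
  have : (-2⁻¹ : F) * -2⁻¹ * 4 = 1 := by field_simp; norm_num
  rw [this, one_smul]

end Y3U

open Y3U Y3 in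
/-- Y3U -/
theorem exists_y3_u {F : Type*} [Field F] [Fintype F] {p : ℕ} [Fact p.Prime] [CharP F p]
    (hF : Fintype.card F = p ^ 2) {R : Subgroup (GL (Fin 4) F)} {ι : F} (h : Hyp64 R ι)
    (hRU : R ≤ Cfsg.GU 4 F p) :
    ∃ yA yB : GL (Fin 4) F, yA ∈ Cfsg.Geo.subgroupNormalizer R ∧
      yB ∈ Cfsg.Geo.subgroupNormalizer R ∧ yA ∈ Cfsg.GU 4 F p ∧ yB ∈ Cfsg.GU 4 F p ∧
      yA ^ 3 = 1 ∧ yB ^ 3 = 1 ∧
      Matrix.trace (yA : M4 F) = 1 ∧ Matrix.trace (yB : M4 F) = -2 := by
  have h2 := h.two_ne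
  obtain ⟨s, s', t, t', hs, hs', ht, ht', hss, hs's', htt, ht't', hanti, hantit, hst, hst', hs't,
    hs't'⟩ := exists_quat_pairs h
  obtain ⟨y1, hy1N, hy1c, hy1v⟩ := exists_yB h s s' hs hs' hss hs's' hanti
  obtain ⟨y2, hy2N, hy2c, hy2v⟩ := exists_yB h t t' ht ht' htt ht't' hantit
  have hy1U : y1 ∈ Cfsg.GU 4 F p :=
    yB_unitary s s' (hRU hs) (hRU hs') hss hs's' h2 y1 hy1v
  have hy2U : y2 ∈ Cfsg.GU 4 F p :=
    yB_unitary t t' (hRU ht) (hRU ht') htt ht't' h2 y2 hy2v
  -- anticommutation facts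
  have hanti' : s' * s = -(s * s') := by rw [hanti, neg_neg]
  have hantit' : t' * t = -(t * t') := by rw [hantit, neg_neg]
  have hk_s : (s * s') * s = -(s * (s * s')) := by
    rw [mul_assoc, hanti', mul_neg]
  have hk_t : (t * t') * t = -(t * (t * t')) := by
    rw [mul_assoc, hantit', mul_neg]
  -- single traces
  have tr_s : Matrix.trace (s : M4 F) = 0 := tr0 h s s' hs hanti
  have tr_s' : Matrix.trace (s' : M4 F) = 0 := tr0 h s' s hs' hanti'
  have tr_k : Matrix.trace ((s : M4 F) * (s' : M4 F)) = 0 := by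
    have := tr0 h (s * s') s (R.mul_mem hs hs') hk_s
    rwa [Units.val_mul] at this
  have tr_t : Matrix.trace (t : M4 F) = 0 := tr0 h t t' ht hantit
  have tr_t' : Matrix.trace (t' : M4 F) = 0 := tr0 h t' t ht' hantit'
  have tr_kt : Matrix.trace ((t : M4 F) * (t' : M4 F)) = 0 := by
    have := tr0 h (t * t') t (R.mul_mem ht ht') hk_t
    rwa [Units.val_mul] at this
  -- mixed traces
  have mixed : ∀ x' ∈ R, x' * s = s * x' → x' * s' = s' * x' →
      Matrix.trace ((s : M4 F) * (x' : M4 F)) = 0 ∧ Matrix.trace ((s' : M4 F) * (x' : M4 F)) = 0 ∧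
      Matrix.trace ((s : M4 F) * (s' : M4 F) * (x' : M4 F)) = 0 := by
    intro x' hx' hx's hx's'
    refine ⟨?_, ?_, ?_⟩
    · have := tr0 h (s * x') s' (R.mul_mem hs hx') (anti_mul hanti hx's')
      rwa [Units.val_mul] at this
    · have := tr0 h (s' * x') s (R.mul_mem hs' hx') (anti_mul hanti' hx's)
      rwa [Units.val_mul] at this
    · have := tr0 h (s * s' * x') s (R.mul_mem (R.mul_mem hs hs') hx') (anti_mul hk_s hx's)
      rwa [Units.val_mul, Units.val_mul] at this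
  obtain ⟨m1, m2, m3⟩ := mixed t ht hst.symm hs't.symm
  obtain ⟨m4, m5, m6⟩ := mixed t' ht' hst'.symm hs't'.symm
  obtain ⟨m7, m8, m9⟩ := mixed (t * t') (R.mul_mem ht ht') (comm_mul hst.symm hst'.symm)
    (comm_mul hs't.symm hs't'.symm)
  rw [Units.val_mul] at m7 m8 m9
  -- commutation of y1 and y2
  have hcomm : Commute y1 y2 := by
    apply Units.ext
    rw [Units.val_mul, Units.val_mul, hy1v, hy2v]
    have e1 : (s : M4 F) * (t : M4 F) = (t : M4 F) * (s : M4 F) := by
      rw [← Units.val_mul, ← Units.val_mul, hst]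
    have e2 : (s : M4 F) * (t' : M4 F) = (t' : M4 F) * (s : M4 F) := by
      rw [← Units.val_mul, ← Units.val_mul, hst']
    have e3 : (s' : M4 F) * (t : M4 F) = (t : M4 F) * (s' : M4 F) := by
      rw [← Units.val_mul, ← Units.val_mul, hs't]
    have e4 : (s' : M4 F) * (t' : M4 F) = (t' : M4 F) * (s' : M4 F) := by
      rw [← Units.val_mul, ← Units.val_mul, hs't']
    have c1 : Commute (1 + (s : M4 F)) (1 + (t : M4 F)) :=
      ((Commute.one_left _).add_left ((Commute.one_right _).add_right e1))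
    have c2 : Commute (1 + (s : M4 F)) (1 + (t' : M4 F)) :=
      ((Commute.one_left _).add_left ((Commute.one_right _).add_right e2))
    have c3 : Commute (1 + (s' : M4 F)) (1 + (t : M4 F)) :=
      ((Commute.one_left _).add_left ((Commute.one_right _).add_right e3))
    have c4 : Commute (1 + (s' : M4 F)) (1 + (t' : M4 F)) :=
      ((Commute.one_left _).add_left ((Commute.one_right _).add_right e4))
    have c5 : Commute ((1 + (s : M4 F)) * (1 + (s' : M4 F))) ((1 + (t : M4 F)) * (1 + (t' : M4 F))) :=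
      ((c1.mul_right c2).mul_left (c3.mul_right c4))
    rw [smul_mul_smul_comm, smul_mul_smul_comm, c5.eq]
  refine ⟨y1 * y2, y2, Subgroup.mul_mem _ hy1N hy2N, hy2N, Subgroup.mul_mem _ hy1U hy2U, hy2U, ?_,
    hy2c, ?_, ?_⟩
  · rw [hcomm.mul_pow, hy1c, hy2c, one_mul]
  · rw [Units.val_mul, hy1v, hy2v, smul_mul_smul_comm, Matrix.trace_smul]
    have hexp : (1 + (s : M4 F)) * (1 + (s' : M4 F)) * ((1 + (t : M4 F)) * (1 + (t' : M4 F)))
        = 1 + (s : M4 F) + (s' : M4 F) + (s : M4 F) * (s' : M4 F)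
          + (t : M4 F) + (t' : M4 F) + (t : M4 F) * (t' : M4 F)
          + (s : M4 F) * (t : M4 F) + (s' : M4 F) * (t : M4 F) + (s : M4 F) * (s' : M4 F) * (t : M4 F)
          + (s : M4 F) * (t' : M4 F) + (s' : M4 F) * (t' : M4 F)
          + (s : M4 F) * (s' : M4 F) * (t' : M4 F)
          + (s : M4 F) * ((t : M4 F) * (t' : M4 F)) + (s' : M4 F) * ((t : M4 F) * (t' : M4 F))
          + (s : M4 F) * (s' : M4 F) * ((t : M4 F) * (t' : M4 F)) := by
      noncomm_ring
    rw [hexp]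
    simp only [Matrix.trace_add]
    rw [tr_s, tr_s', tr_k, tr_t, tr_t', tr_kt, m1, m2, m3, m4, m5, m6, m7, m8, m9, Matrix.trace_one,
      Fintype.card_fin, smul_eq_mul]
    push_cast
    field_simp
    norm_num
  · rw [hy2v, Matrix.trace_smul]
    have hexp : (1 + (t : M4 F)) * (1 + (t' : M4 F))
        = 1 + (t : M4 F) + (t' : M4 F) + (t : M4 F) * (t' : M4 F) := by
      noncomm_ring
    rw [hexp]
    simp only [Matrix.trace_add]
    rw [tr_t, tr_t', tr_kt, Matrix.trace_one, Fintype.card_fin, smul_eq_mul]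
    push_cast
    field_simp
    norm_num

end Cfsg.Agent.S6001P
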