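import Mathlib

/-!
# Suzuki 2-groups, part A: elementary facts (towards Higman's lemma)

Abstract setting: a group `K` (commutative) acting on a finite 2-group `P` by automorphisms
(`MulDistribMulAction K P`), regularly on the involutions of `P`.
-/

set_option autoImplicit false

namespace Cfsg.Agent.Helper17.Suz2

universe u v

section quot

variable {K : Type v} {P : Type u} [Group K] [Group P] [MulDistribMulAction K P]

/-- The map induced on the quotient by an element of `K`. -/
def qmap (N : Subgroup P) [N.Normal] (hN : ∀ (k : K), ∀ x ∈ N, k • x ∈ N) (k : K) :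
    P ⧸ N →* P ⧸ N :=
  QuotientGroup.map N N (MulDistribMulAction.toMonoidHom P k)
    (fun x hx => Subgroup.mem_comap.mpr (hN k x hx))

@[simp] theorem qmap_mk (N : Subgroup P) [N.Normal] (hN : ∀ (k : K), ∀ x ∈ N, k • x ∈ N)
    (k : K) (x : P) : qmap N hN k (x : P ⧸ N) = ((k • x : P) : P ⧸ N) := rfl

/-- The induced action on the quotient by an invariant normal subgroup. -/
@[instance_reducible]
def quotAction (N : Subgroup P) [N.Normal] (hN : ∀ (k : K), ∀ x ∈ N, k • x ∈ N) :
    MulDistribMulAction K (P ⧸ N) where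
  smul k := qmap N hN k
  one_smul q := by
    induction q using QuotientGroup.induction_on with
    | H x => show qmap N hN 1 (x : P ⧸ N) = _; simp
  mul_smul a b q := by
    induction q using QuotientGroup.induction_on with
    | H x =>
      show qmap N hN (a * b) (x : P ⧸ N) = qmap N hN a (qmap N hN b (x : P ⧸ N))
      simp [mul_smul]
  smul_mul a q r := by
    show qmap N hN a (q * r) = qmap N hN a q * qmap N hN a r
    exact map_mul _ _ _
  smul_one a := by
    show qmap N hN a (1 : P ⧸ N) = 1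
    exact map_one _

theorem quotAction_mk (N : Subgroup P) [N.Normal] (hN : ∀ (k : K), ∀ x ∈ N, k • x ∈ N)
    (k : K) (x : P) :
    letI := quotAction N hN
    k • (x : P ⧸ N) = ((k • x : P) : P ⧸ N) := by
  rfl

end quot

section basics

variable {P : Type u} [Group P]

/-- Central elements of order at most 2. -/
def Om (P : Type u) [Group P] : Subgroup P where
  carrier := {x | x ∈ Subgroup.center P ∧ x * x = 1}
  one_mem' := ⟨one_mem _, by simp⟩
  mul_mem' := by
    rintro a b ⟨ha, ha2⟩ ⟨hb, hb2⟩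
    refine ⟨mul_mem ha hb, ?_⟩
    have h1 : b * a = a * b := (Subgroup.mem_center_iff.mp ha b)
    calc a * b * (a * b) = a * (b * a) * b := by group
      _ = a * (a * b) * b := by rw [h1]
      _ = (a * a) * (b * b) := by group
      _ = 1 := by rw [ha2, hb2, one_mul]
  inv_mem' := by
    rintro a ⟨ha, ha2⟩
    refine ⟨inv_mem ha, ?_⟩
    have : a⁻¹ = a := by
      rw [inv_eq_iff_mul_eq_one]; exact ha2
    rw [this]; exact ha2

theorem mem_Om {x : P} : x ∈ Om P ↔ x ∈ Subgroup.center P ∧ x * x = 1 := Iff.rfl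

theorem Om_le_center : Om P ≤ Subgroup.center P := fun _ hx => hx.1

instance Om_normal : (Om P).Normal := by
  constructor
  intro n hn g
  have : g * n * g⁻¹ = n := by
    have := Subgroup.mem_center_iff.mp hn.1 g
    rw [this, mul_inv_cancel_right]
  rw [this]; exact hn

theorem exists_invol_pow (hP : IsPGroup 2 P) {x : P} (hx : x ≠ 1) :
    ∃ j : ℕ, x ^ (2 ^ j) ≠ 1 ∧ x ^ (2 ^ j) * x ^ (2 ^ j) = 1 := by
  obtain ⟨m, hm⟩ := hP x
  -- least m with x^(2^m) = 1
  classical
  have hex : ∃ m, x ^ (2 ^ m) = 1 := ⟨m, hm⟩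
  set m0 := Nat.find hex with hm0
  have h1 : x ^ (2 ^ m0) = 1 := Nat.find_spec hex
  have hpos : m0 ≠ 0 := by
    intro h0
    rw [h0] at h1
    simp at h1
    exact hx h1
  obtain ⟨j, hj⟩ := Nat.exists_eq_succ_of_ne_zero hpos
  refine ⟨j, ?_, ?_⟩
  · intro h
    have : m0 ≤ j := Nat.find_min' hex h
    omega
  · rw [← pow_add, ← two_mul, ← pow_succ']
    have : j + 1 = m0 := by omega
    rw [this]; exact h1

end basics

section action

variable {K : Type v} {P : Type u} [Group K] [Group P] [MulDistribMulAction K P]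

/-- `K` acts regularly on the involutions of `P`. -/
def RegInv (K : Type v) (P : Type u) [Group K] [Group P] [MulDistribMulAction K P] : Prop :=
  ∀ x y : P, x ≠ 1 → x * x = 1 → y ≠ 1 → y * y = 1 → ∃! k : K, k • x = y

theorem smul_mem_center (k : K) {z : P} (hz : z ∈ Subgroup.center P) :
    k • z ∈ Subgroup.center P := by
  rw [Subgroup.mem_center_iff] at hz ⊢
  intro g
  have h2 := congrArg (fun t => k • t) (hz (k⁻¹ • g))
  simp only [smul_mul', smul_inv_smul] at h2
  exact h2

theorem smul_mem_Om (k : K) {z : P} (hz : z ∈ Om P) : k • z ∈ Om P :=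
  ⟨smul_mem_center k hz.1, by rw [← smul_mul', hz.2, smul_one]⟩

theorem smul_eq_one_iff (k : K) (x : P) : k • x = 1 ↔ x = 1 := by
  constructor
  · intro h
    have := congrArg (fun t => k⁻¹ • t) h
    simpa using this
  · rintro rfl; simp

theorem invol_mem_center [Finite P] (hP : IsPGroup 2 P) (hreg : RegInv K P) {x : P}
    (hx : x * x = 1) : x ∈ Subgroup.center P := by
  by_cases hx1 : x = 1
  · rw [hx1]; exact one_mem _
  have : Nontrivial P := ⟨⟨x, 1, hx1⟩⟩
  have : Fact (Nat.Prime 2) := ⟨Nat.prime_two⟩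
  have : Nontrivial (Subgroup.center P) := hP.center_nontrivial
  obtain ⟨⟨z, hz⟩, hz1⟩ := exists_ne (1 : Subgroup.center P)
  have hz1' : z ≠ 1 := fun h => hz1 (Subtype.ext h)
  obtain ⟨j, hj1, hj2⟩ := exists_invol_pow hP hz1'
  obtain ⟨k, hk, -⟩ := hreg _ x hj1 hj2 hx1 hx
  rw [← hk]
  exact smul_mem_center k (pow_mem hz _)

theorem mem_Om_iff [Finite P] (hP : IsPGroup 2 P) (hreg : RegInv K P) {x : P} :
    x ∈ Om P ↔ x * x = 1 :=
  ⟨fun h => h.2, fun h => ⟨invol_mem_center hP hreg h, h⟩⟩

theorem card_Om [Finite P] (hP : IsPGroup 2 P) (hreg : RegInv K P) {x₀ : P} (h1 : x₀ ≠ 1)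
    (h2 : x₀ * x₀ = 1) : Nat.card (Om P) = Nat.card K + 1 := by
  classical
  let f : Option K → Om P := fun o => match o with
    | none => 1
    | some k => ⟨k • x₀, smul_mem_Om k ((mem_Om_iff hP hreg).mpr h2)⟩
  have hf : Function.Bijective f := by
    constructor
    · intro a b hab
      match a, b with
      | none, none => rfl
      | none, some k =>
        exfalso
        have : (1 : P) = k • x₀ := congrArg Subtype.val hab
        exact h1 ((smul_eq_one_iff k x₀).mp this.symm)
      | some k, none =>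
        exfalso
        have : k • x₀ = (1 : P) := congrArg Subtype.val hab
        exact h1 ((smul_eq_one_iff k x₀).mp this)
      | some k, some l =>
        have hkl : k • x₀ = l • x₀ := congrArg Subtype.val hab
        have hl1 : l • x₀ ≠ 1 := fun h => h1 ((smul_eq_one_iff l x₀).mp h)
        have hl2 : l • x₀ * l • x₀ = 1 := by rw [← smul_mul', h2, smul_one]
        obtain ⟨k', -, huniq⟩ := hreg x₀ (l • x₀) h1 h2 hl1 hl2
        rw [huniq k hkl, huniq l rfl]
    · rintro ⟨y, hy⟩
      by_cases hy1 : y = 1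
      · exact ⟨none, Subtype.ext hy1.symm⟩
      · obtain ⟨k, hk, -⟩ := hreg x₀ y h1 h2 hy1 hy.2
        exact ⟨some k, Subtype.ext hk⟩
  have hfin : Finite (Option K) := Finite.of_injective f hf.1
  have hfinK : Finite K := Finite.of_injective (some : K → Option K) (Option.some_injective K)
  have := Nat.card_congr (Equiv.ofBijective f hf)
  rw [← this, Finite.card_option]

end action

section action2

variable {K : Type v} {P : Type u} [Group K] [Group P] [MulDistribMulAction K P]

theorem finite_K [Finite P] (hreg : RegInv K P) {x₀ : P} (h1 : x₀ ≠ 1)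
    (h2 : x₀ * x₀ = 1) : Finite K := by
  refine Finite.of_injective (fun k : K => k • x₀) ?_
  intro k l hkl
  have hl1 : l • x₀ ≠ 1 := fun h => h1 ((smul_eq_one_iff l x₀).mp h)
  have hl2 : l • x₀ * l • x₀ = 1 := by rw [← smul_mul', h2, smul_one]
  obtain ⟨k', -, huniq⟩ := hreg x₀ (l • x₀) h1 h2 hl1 hl2
  rw [huniq k hkl, huniq l rfl]

theorem odd_card_K [Finite P] (hP : IsPGroup 2 P) (hreg : RegInv K P) {x₀ : P} (h1 : x₀ ≠ 1)
    (h2 : x₀ * x₀ = 1) : Odd (Nat.card K) := by
  have : Fact (Nat.Prime 2) := ⟨Nat.prime_two⟩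
  have hfin : Finite K := finite_K hreg h1 h2
  have hc := card_Om hP hreg h1 h2
  obtain ⟨n, hn⟩ := (IsPGroup.iff_card (p := 2) (G := Om P)).mp (hP.to_subgroup _)
  have hpos : 0 < Nat.card K := Nat.card_pos
  rcases n with _ | n
  · rw [hn] at hc; simp at hc; omega
  · rw [hn, pow_succ] at hc
    exact ⟨2 ^ n - 1, by have : 0 < 2 ^ n := by positivity
                         omega⟩

theorem exists_sq [Finite P] (hP : IsPGroup 2 P) (hreg : RegInv K P) {x₀ : P} (h1 : x₀ ≠ 1)
    (h2 : x₀ * x₀ = 1) (k : K) : ∃ l : K, l * l = k := by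
  have hfin : Finite K := finite_K hreg h1 h2
  obtain ⟨m, hm⟩ := odd_card_K hP hreg h1 h2
  refine ⟨k ^ (m + 1), ?_⟩
  rw [← pow_add]
  have : m + 1 + (m + 1) = Nat.card K + 1 := by omega
  rw [this, pow_succ, pow_card_eq_one', one_mul]

end action2

section pgroup

variable {P : Type u} [Group P]

/-- In a finite 2-group, modulo a proper normal subgroup there is a central element of order 2. -/
theorem exists_central_mod [Finite P] (hP : IsPGroup 2 P) (N : Subgroup P) [N.Normal]
    (hN : N ≠ ⊤) : ∃ y : P, y ∉ N ∧ y * y ∈ N ∧ ∀ x : P, y * x * y⁻¹ * x⁻¹ ∈ N := by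
  have : Fact (Nat.Prime 2) := ⟨Nat.prime_two⟩
  have hnt : Nontrivial (P ⧸ N) := by
    rw [QuotientGroup.nontrivial_iff]; exact hN
  have hPQ : IsPGroup 2 (P ⧸ N) := hP.to_quotient N
  have : Nontrivial (Subgroup.center (P ⧸ N)) := hPQ.center_nontrivial
  obtain ⟨⟨z, hz⟩, hz1⟩ := exists_ne (1 : Subgroup.center (P ⧸ N))
  have hz1' : z ≠ 1 := fun h => hz1 (Subtype.ext h)
  obtain ⟨j, hj1, hj2⟩ := exists_invol_pow hPQ hz1'
  have hwc : z ^ (2 ^ j) ∈ Subgroup.center (P ⧸ N) := pow_mem hz _
  obtain ⟨y, hy⟩ := QuotientGroup.mk_surjective (z ^ (2 ^ j))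
  refine ⟨y, ?_, ?_, ?_⟩
  · intro hyN
    apply hj1
    rw [← hy]; exact (QuotientGroup.eq_one_iff y).mpr hyN
  · rw [← QuotientGroup.eq_one_iff, QuotientGroup.mk_mul, hy]; exact hj2
  · intro x
    rw [← QuotientGroup.eq_one_iff]
    simp only [QuotientGroup.mk_mul, QuotientGroup.mk_inv, hy]
    have := Subgroup.mem_center_iff.mp hwc (x : P ⧸ N)
    rw [← this]; group

end pgroup

section comm

variable {P : Type u} [Group P]

/-- the commutator `x y x⁻¹ y⁻¹` -/
def cm (x y : P) : P := x * y * x⁻¹ * y⁻¹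

theorem cm_inv (x y : P) : (cm x y)⁻¹ = cm y x := by unfold cm; group

theorem cm_eq_one_iff (x y : P) : cm x y = 1 ↔ x * y = y * x := by
  unfold cm
  constructor
  · intro h
    have : x * y * x⁻¹ * y⁻¹ * y * x = y * x := by rw [h]; group
    rw [← this]; group
  · intro h
    rw [h]; group

theorem cm_mul_left {x x' y : P} (h : cm x' y ∈ Subgroup.center P) :
    cm (x * x') y = cm x' y * cm x y := by
  have h1 : x * cm x' y = cm x' y * x := Subgroup.mem_center_iff.mp h x
  calc cm (x * x') y = x * cm x' y * y * x⁻¹ * y⁻¹ := by unfold cm; group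
    _ = cm x' y * x * y * x⁻¹ * y⁻¹ := by rw [h1]
    _ = cm x' y * cm x y := by unfold cm; group

theorem cm_mul_right {x y y' : P} (h : cm x y' ∈ Subgroup.center P) :
    cm x (y * y') = cm x y * cm x y' := by
  have h1 : y * cm x y' = cm x y' * y := Subgroup.mem_center_iff.mp h y
  calc cm x (y * y') = cm x y * (y * cm x y') * y⁻¹ := by unfold cm; group
    _ = cm x y * (cm x y' * y) * y⁻¹ := by rw [h1]
    _ = cm x y * cm x y' := by group

theorem cm_of_mem_center_left {z : P} (hz : z ∈ Subgroup.center P) (y : P) : cm z y = 1 := by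
  rw [cm_eq_one_iff]; exact (Subgroup.mem_center_iff.mp hz y).symm

theorem cm_of_mem_center_right {z : P} (hz : z ∈ Subgroup.center P) (x : P) : cm x z = 1 := by
  rw [cm_eq_one_iff]; exact (Subgroup.mem_center_iff.mp hz x)

theorem cm_smul {K : Type v} [Group K] [MulDistribMulAction K P] (k : K) (x y : P) :
    k • cm x y = cm (k • x) (k • y) := by
  unfold cm; simp only [smul_mul', smul_inv']

/-- If the centre of `P/Ω` has exponent two and elements with square in `Ω` are central,
then `P` is abelian. -/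
theorem center_eq_top_of_quot [Finite P] (hP : IsPGroup 2 P)
    (hT : ∀ x : P, x * x ∈ Om P → x ∈ Subgroup.center P)
    (hQ : ∀ y : P, (∀ x : P, cm y x ∈ Om P) → y * y ∈ Om P) :
    Subgroup.center P = ⊤ := by
  by_contra hne
  obtain ⟨y, hyN, hyy, hyx⟩ := exists_central_mod hP (Subgroup.center P) hne
  apply hyN
  apply hT
  apply hQ
  intro x
  have hc : cm y x ∈ Subgroup.center P := hyx x
  refine ⟨hc, ?_⟩
  have h1 : y * cm y x = cm y x * y := Subgroup.mem_center_iff.mp hc y
  have h2 : cm (y * y) x = 1 := cm_of_mem_center_left hyy x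
  rw [cm_mul_left hc] at h2
  exact h2

end comm

section theta

variable {K : Type v} {P : Type u} [Group K] [Group P] [MulDistribMulAction K P]

theorem sq_mem_center_of_cm_mem {x : P} (hab : ∀ x y : P, cm x y ∈ Om P) :
    x * x ∈ Subgroup.center P := by
  rw [Subgroup.mem_center_iff]
  intro y
  have h := cm_mul_left (x := x) (x' := x) (y := y) (hab x y).1
  rw [(hab x y).2] at h
  exact ((cm_eq_one_iff _ _).mp h).symm

theorem quot_comm (hab : ∀ x y : P, cm x y ∈ Om P) (a b : P ⧸ Om P) : a * b = b * a := by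
  induction a using QuotientGroup.induction_on with
  | H x =>
    induction b using QuotientGroup.induction_on with
    | H y =>
      rw [← QuotientGroup.mk_mul, ← QuotientGroup.mk_mul, QuotientGroup.eq]
      have : (x * y)⁻¹ * (y * x) = cm y⁻¹ x⁻¹ := by unfold cm; group
      rw [this]; exact hab _ _

theorem pow_mul_mod (hab : ∀ x y : P, cm x y ∈ Om P) (x y : P) (m : ℕ) :
    ∃ v ∈ Om P, (x * y) ^ m = x ^ m * y ^ m * v := by
  refine ⟨(x ^ m * y ^ m)⁻¹ * (x * y) ^ m, ?_, by group⟩
  rw [← QuotientGroup.eq]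
  simp only [QuotientGroup.mk_mul, QuotientGroup.mk_pow]
  have hc : Commute (x : P ⧸ Om P) (y : P ⧸ Om P) := quot_comm hab _ _
  exact (hc.mul_pow m).symm

end theta

section theta2

variable {K : Type v} {P : Type u} [Group K] [Group P] [MulDistribMulAction K P]

theorem mul_mul_mul_self_of_center {a b v : P} (hb : b ∈ Subgroup.center P)
    (hv : v ∈ Subgroup.center P) : (a * b * v) * (a * b * v) = (a * a) * (b * b) * (v * v) := by
  have h1 : ∀ g, g * b = b * g := Subgroup.mem_center_iff.mp hb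
  have h2 : ∀ g, g * v = v * g := Subgroup.mem_center_iff.mp hv
  calc (a * b * v) * (a * b * v) = a * (b * v * a) * b * v := by group
    _ = a * (a * (b * v)) * b * v := by rw [show b * v * a = a * (b * v) by rw [mul_assoc, ← h2 a, ← mul_assoc, ← h1 a, mul_assoc]]
    _ = a * a * b * (v * b) * v := by group
    _ = a * a * b * (b * v) * v := by rw [h2 b]
    _ = (a * a) * (b * b) * (v * v) := by group

/-- The power map `x ↦ x^(2^e)` onto `Ω`, when `P/Ω` is abelian of exponent `2^e`. -/
theorem exists_theta [Finite P] (hP : IsPGroup 2 P)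
    (hT : ∀ x : P, x * x ∈ Om P → x ∈ Subgroup.center P)
    (hab : ∀ x y : P, cm x y ∈ Om P) (hna : ∃ x y : P, x * y ≠ y * x) :
    ∃ (d : ℕ) (θ : P →* P), (∀ x, θ x = x ^ 2 ^ (d + 1)) ∧ (∀ x, θ x ∈ Om P) ∧
      (∀ x : P, x ^ 2 ^ d ∈ Subgroup.center P) ∧ ∃ x, θ x ≠ 1 := by
  classical
  have : Fact (Nat.Prime 2) := ⟨Nat.prime_two⟩
  have hex : ∃ e : ℕ, ∀ x : P, x ^ 2 ^ e ∈ Om P := by
    obtain ⟨n, hn⟩ := (IsPGroup.iff_card (p := 2) (G := P)).mp hP
    refine ⟨n, fun x => ?_⟩
    rw [← hn, pow_card_eq_one']; exact one_mem _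
  have hspec := Nat.find_spec hex
  have hmin := fun m => Nat.find_min hex (m := m)
  set e := Nat.find hex with he
  have he0 : e ≠ 0 := by
    intro h0
    obtain ⟨x, y, hxy⟩ := hna
    apply hxy
    have hx : x ∈ Om P := by have := hspec x; rw [h0] at this; simpa using this
    exact (Subgroup.mem_center_iff.mp hx.1 y).symm
  obtain ⟨d, hd⟩ := Nat.exists_eq_succ_of_ne_zero he0
  have hd' : e = d + 1 := hd
  have hσ : ∀ x : P, x ^ 2 ^ d ∈ Subgroup.center P := by
    intro x
    apply hT
    rw [← pow_add, ← two_mul, ← pow_succ', ← hd']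
    exact hspec x
  have hmul : ∀ x y : P, (x * y) ^ 2 ^ (d + 1) = x ^ 2 ^ (d + 1) * y ^ 2 ^ (d + 1) := by
    intro x y
    obtain ⟨v, hv, hxy⟩ := pow_mul_mod hab x y (2 ^ d)
    have e1 : ∀ t : P, t ^ 2 ^ (d + 1) = t ^ 2 ^ d * t ^ 2 ^ d := by
      intro t; rw [← pow_add, ← two_mul, ← pow_succ']
    rw [e1 (x * y), hxy, mul_mul_mul_self_of_center (hσ y) hv.1, hv.2, mul_one, e1 x, e1 y]
  refine ⟨d, ⟨⟨fun x => x ^ 2 ^ (d + 1), one_pow _⟩, hmul⟩, fun x => rfl, ?_, hσ, ?_⟩
  · intro x
    show x ^ 2 ^ (d + 1) ∈ Om P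
    rw [← hd']; exact hspec x
  · have hnot : ¬ ∀ x : P, x ^ 2 ^ d ∈ Om P := hmin d (by omega)
    push Not at hnot
    obtain ⟨x₁, hx₁⟩ := hnot
    refine ⟨x₁, ?_⟩
    show x₁ ^ 2 ^ (d + 1) ≠ 1
    intro h
    apply hx₁
    refine ⟨hσ x₁, ?_⟩
    rw [← pow_add, ← two_mul, ← pow_succ']; exact h

end theta2

section kernel

variable {K : Type v} {P : Type u} [Group K] [Group P] [MulDistribMulAction K P]

/-- Abstract counting lemma: in a finite commutative group, if squares are killed by the
`m`-th power map and every element killed by squaring is an `m`-th power, then every element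
killed by the `m`-th power map is a square. -/
theorem exists_sq_of_pow_eq_one {Q : Type*} [CommGroup Q] [Finite Q] (m : ℕ)
    (R1 : ∀ a : Q, (a ^ 2) ^ m = 1) (R2 : ∀ a : Q, a ^ 2 = 1 → ∃ b : Q, b ^ m = a)
    (a : Q) (ha : a ^ m = 1) : ∃ b : Q, b ^ 2 = a := by
  let f : Q →* Q := powMonoidHom 2
  let g : Q →* Q := powMonoidHom m
  have h1 : f.range ≤ g.ker := by
    rintro _ ⟨b, rfl⟩
    rw [MonoidHom.mem_ker]
    exact R1 b
  have h2 : f.ker ≤ g.range := by
    intro b hb
    rw [MonoidHom.mem_ker] at hb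
    obtain ⟨c, hc⟩ := R2 b hb
    exact ⟨c, hc⟩
  have e1 : Nat.card f.ker * Nat.card f.range = Nat.card Q := by
    rw [← Subgroup.index_ker]; exact Subgroup.card_mul_index _
  have e2 : Nat.card g.ker * Nat.card g.range = Nat.card Q := by
    rw [← Subgroup.index_ker]; exact Subgroup.card_mul_index _
  have l1 : Nat.card f.ker ≤ Nat.card g.range := Subgroup.card_le_of_le h2
  have hpos : 0 < Nat.card g.range := Nat.card_pos
  have l2 : Nat.card g.ker ≤ Nat.card f.range := by
    have : Nat.card g.ker * Nat.card g.range ≤ Nat.card f.range * Nat.card g.range := by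
      rw [e2, ← e1, mul_comm]
      exact Nat.mul_le_mul_left _ l1
    exact Nat.le_of_mul_le_mul_right this hpos
  have heq : f.range = g.ker := Subgroup.eq_of_le_of_card_ge h1 l2
  have : a ∈ f.range := by rw [heq, MonoidHom.mem_ker]; exact ha
  obtain ⟨b, hb⟩ := this
  exact ⟨b, hb⟩

theorem ker_theta_le_center [Finite P] (hreg : RegInv K P)
    (hT : ∀ x : P, x * x ∈ Om P → x ∈ Subgroup.center P)
    (hab : ∀ x y : P, cm x y ∈ Om P) (d : ℕ)
    (hσ : ∀ x : P, x ^ 2 ^ d ∈ Subgroup.center P)
    (hθV : ∀ x : P, x ^ 2 ^ (d + 1) ∈ Om P) (x₁ : P) (hx₁ : x₁ ^ 2 ^ (d + 1) ≠ 1)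
    (x : P) (hx : x ^ 2 ^ (d + 1) = 1) : x ∈ Subgroup.center P := by
  have e1 : ∀ t : P, t ^ 2 ^ (d + 1) = t ^ 2 ^ d * t ^ 2 ^ d := by
    intro t; rw [← pow_add, ← two_mul, ← pow_succ']
  let _ : CommGroup (P ⧸ Om P) :=
    { (inferInstance : Group (P ⧸ Om P)) with mul_comm := quot_comm hab }
  have R1 : ∀ a : P ⧸ Om P, (a ^ 2) ^ 2 ^ d = 1 := by
    intro a
    induction a using QuotientGroup.induction_on with
    | H y =>
      rw [← pow_mul, ← pow_succ', ← QuotientGroup.mk_pow, QuotientGroup.eq_one_iff]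
      exact hθV y
  have R2 : ∀ a : P ⧸ Om P, a ^ 2 = 1 → ∃ b : P ⧸ Om P, b ^ 2 ^ d = a := by
    intro a
    induction a using QuotientGroup.induction_on with
    | H y =>
      intro hy
      rw [← QuotientGroup.mk_pow, QuotientGroup.eq_one_iff, pow_two] at hy
      by_cases hy1 : y ∈ Om P
      · refine ⟨1, ?_⟩
        rw [one_pow]; exact ((QuotientGroup.eq_one_iff y).mpr hy1).symm
      · have hyc : y ∈ Subgroup.center P := hT y hy
        have hyy1 : y * y ≠ 1 := fun h => hy1 ⟨hyc, h⟩
        have hθ1 : x₁ ^ 2 ^ (d + 1) * x₁ ^ 2 ^ (d + 1) = 1 := (hθV x₁).2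
        obtain ⟨k, hk, -⟩ := hreg _ _ hx₁ hθ1 hyy1 hy.2
        refine ⟨((k • x₁ : P) : P ⧸ Om P), ?_⟩
        rw [← QuotientGroup.mk_pow, QuotientGroup.eq]
        set w := (k • x₁) ^ 2 ^ d with hw
        have hwc : w ∈ Subgroup.center P := hσ _
        have hww : w * w = y * y := by
          rw [hw, ← e1, ← smul_pow', hk]
        have hwi : w⁻¹ ∈ Subgroup.center P := inv_mem hwc
        refine ⟨mul_mem hwi hyc, ?_⟩
        have c1 : ∀ g, g * w⁻¹ = w⁻¹ * g := Subgroup.mem_center_iff.mp hwi
        calc w⁻¹ * y * (w⁻¹ * y) = w⁻¹ * (y * w⁻¹) * y := by group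
          _ = w⁻¹ * (w⁻¹ * y) * y := by rw [c1 y]
          _ = (w * w)⁻¹ * (y * y) := by group
          _ = 1 := by rw [hww]; group
  have hw : x ^ 2 ^ d ∈ Om P := ⟨hσ x, by rw [← e1]; exact hx⟩
  have hxq : ((x : P) : P ⧸ Om P) ^ 2 ^ d = 1 := by
    rw [← QuotientGroup.mk_pow, QuotientGroup.eq_one_iff]; exact hw
  obtain ⟨b, hb⟩ := exists_sq_of_pow_eq_one (2 ^ d) R1 R2 _ hxq
  induction b using QuotientGroup.induction_on with
  | H y =>
    rw [← QuotientGroup.mk_pow, QuotientGroup.eq, pow_two] at hb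
    have hyy : y * y ∈ Subgroup.center P := sq_mem_center_of_cm_mem hab
    have : x = (y * y) * ((y * y)⁻¹ * x) := by group
    rw [this]
    exact mul_mem hyy hb.1

end kernel

section lemmaA

variable {K : Type v} {P : Type u} [Group K] [Group P] [MulDistribMulAction K P]

theorem abelian_of_quot_abelian [Finite P] (hP : IsPGroup 2 P)
    (hcomm : ∀ a b : K, a * b = b * a) (hreg : RegInv K P)
    (hT : ∀ x : P, x * x ∈ Om P → x ∈ Subgroup.center P)
    (hab : ∀ x y : P, cm x y ∈ Om P) : ∀ x y : P, x * y = y * x := by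
  by_contra hna
  push Not at hna
  obtain ⟨d, θ, hθ, hθV, hσ, x₁, hx₁⟩ := exists_theta hP hT hab hna
  have hN : ∀ x, θ x = 1 → x ∈ Subgroup.center P := by
    intro x hx
    rw [hθ] at hx
    exact ker_theta_le_center hreg hT hab d hσ (fun t => by rw [← hθ]; exact hθV t) x₁
      (by rw [← hθ]; exact hx₁) x hx
  have hθk : ∀ (k : K) x, θ (k • x) = k • θ x := by
    intro k x; rw [hθ, hθ, smul_pow']
  have hcen : ∀ x y : P, cm x y ∈ Subgroup.center P := fun x y => (hab x y).1
  -- transitivity modulo the centre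
  have T1 : ∀ x y, θ x ≠ 1 → θ y ≠ 1 → ∃ k : K, ∃ n ∈ Subgroup.center P, y = (k • x) * n := by
    intro x y hx hy
    obtain ⟨k, hk, -⟩ := hreg (θ x) (θ y) hx (hθV x).2 hy (hθV y).2
    refine ⟨k, (k • x)⁻¹ * y, hN _ ?_, by group⟩
    rw [map_mul, map_inv, hθk, hk, inv_mul_cancel]
  have hsq : ∀ k : K, ∃ l : K, l * l = k := exists_sq hP hreg hx₁ (hθV x₁).2
  -- the key symmetry
  have T5 : ∀ (k₀ : K) (x y : P), cm x (k₀ • y) = cm (k₀ • x) y := by
    intro k₀
    set f : P → P := fun x => cm x (k₀ • x) with hf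
    have f_cen : ∀ x n, n ∈ Subgroup.center P → f (x * n) = f x := by
      intro x n hn
      have hn' : k₀ • n ∈ Subgroup.center P := smul_mem_center k₀ hn
      simp only [hf, smul_mul']
      rw [cm_mul_left (hcen _ _), cm_mul_right (hcen _ _), cm_mul_right (hcen _ _),
        cm_of_mem_center_left hn, cm_of_mem_center_left hn, cm_of_mem_center_right hn']
      simp
    have f_smul : ∀ (k : K) x, f (k • x) = k • f x := by
      intro k x
      simp only [hf]
      rw [cm_smul, ← mul_smul, ← mul_smul, hcomm k₀ k]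
    have f_one : ∀ x, x ∈ Subgroup.center P → f x = 1 := fun x hx => cm_of_mem_center_left hx _
    have f_mul : ∀ x y, f (x * y) = f x * f y := by
      by_cases h1 : f x₁ = 1
      · have : ∀ x, f x = 1 := by
          intro x
          by_cases hx : θ x = 1
          · exact f_one x (hN x hx)
          · obtain ⟨k, n, hn, rfl⟩ := T1 x₁ x hx₁ hx
            rw [f_cen _ _ hn, f_smul, h1, smul_one]
        intro x y; rw [this, this, this, one_mul]
      · obtain ⟨l, hl, -⟩ := hreg (θ x₁) (f x₁) hx₁ (hθV x₁).2 h1 (hab _ _).2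
        have : ∀ x, f x = l • θ x := by
          intro x
          by_cases hx : θ x = 1
          · rw [f_one x (hN x hx), hx, smul_one]
          · obtain ⟨k, n, hn, rfl⟩ := T1 x₁ x hx₁ hx
            have hθn : θ n = 1 := by
              have h1' : θ ((k • x₁) * n) = k • θ x₁ * θ n := by rw [map_mul, hθk]
              -- θ x ≠ 1 only used for T1; compute θ n via regularity is not needed:
              -- instead use f_cen and show θ n = 1 from n central? not available; use different route
              by_contra hne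
              -- n central with θ n ≠ 1: then n = (k' • x₁) * n' and f n = k' • f x₁ ≠ 1, but f n = 1
              obtain ⟨k', n', hn', hnn⟩ := T1 x₁ n hx₁ hne
              have e1 : f n = 1 := f_one n hn
              rw [hnn, f_cen _ _ hn', f_smul] at e1
              exact h1 ((smul_eq_one_iff k' _).mp e1)
            rw [f_cen _ _ hn, f_smul, ← hl, map_mul, hθn, mul_one, hθk, ← mul_smul, ← mul_smul,
              hcomm k l]
        intro x y
        rw [this, this, this, map_mul, smul_mul']
    intro x y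
    -- expand f (x * y)
    have hexp : f (x * y) = (cm y (k₀ • x) * cm y (k₀ • y)) * (cm x (k₀ • x) * cm x (k₀ • y)) := by
      simp only [hf, smul_mul']
      rw [cm_mul_left (hcen _ _), cm_mul_right (hcen _ _), cm_mul_right (hcen _ _)]
    have hfm := f_mul x y
    rw [hexp] at hfm
    simp only [hf] at hfm
    -- move to the centre (commutative)
    let a : Subgroup.center P := ⟨cm x (k₀ • x), hcen _ _⟩
    let b : Subgroup.center P := ⟨cm x (k₀ • y), hcen _ _⟩
    let c : Subgroup.center P := ⟨cm y (k₀ • x), hcen _ _⟩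
    let e : Subgroup.center P := ⟨cm y (k₀ • y), hcen _ _⟩
    have h' : (c * e) * (a * b) = a * e := Subtype.ext hfm
    have h'' : c * b = 1 := by
      have : (c * b) * (a * e) = 1 * (a * e) := by
        rw [one_mul]
        calc (c * b) * (a * e) = (c * e) * (a * b) := by ac_rfl
          _ = a * e := h'
      exact mul_right_cancel this
    have h3 : cm y (k₀ • x) * cm x (k₀ • y) = 1 := congrArg Subtype.val h''
    have h4 : cm x (k₀ • y) = (cm y (k₀ • x))⁻¹ := by
      rw [eq_inv_iff_mul_eq_one, ← h3]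
      exact (Subgroup.mem_center_iff.mp (hcen x (k₀ • y)) _).symm
    rw [h4, cm_inv]
  have T6 : ∀ (k₀ : K) (x y : P), cm x ((k₀ * k₀) • y) = k₀ • cm x y := by
    intro k₀ x y
    rw [mul_smul, T5, cm_smul]
  have T7 : ∀ (k : K) (x : P), cm x (k • x) = 1 := by
    intro k x
    obtain ⟨l, rfl⟩ := hsq k
    rw [T6]
    have : cm x x = 1 := by unfold cm; group
    rw [this, smul_one]
  obtain ⟨x, y, hxy⟩ := hna
  apply hxy
  rw [← cm_eq_one_iff]
  by_cases hx : θ x = 1
  · exact cm_of_mem_center_left (hN x hx) y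
  by_cases hy : θ y = 1
  · exact cm_of_mem_center_right (hN y hy) x
  obtain ⟨k, n, hn, rfl⟩ := T1 x y hx hy
  rw [cm_mul_right (hcen _ _), T7, cm_of_mem_center_right hn, one_mul]

end lemmaA

section main

theorem mul_inv_sq_of_center {P : Type u} [Group P] {a b : P} (ha : a ∈ Subgroup.center P) :
    (a⁻¹ * b) * (a⁻¹ * b) = (a * a)⁻¹ * (b * b) := by
  have hai : a⁻¹ ∈ Subgroup.center P := inv_mem ha
  have c1 : ∀ g, g * a⁻¹ = a⁻¹ * g := Subgroup.mem_center_iff.mp hai
  calc (a⁻¹ * b) * (a⁻¹ * b) = a⁻¹ * (b * a⁻¹) * b := by group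
    _ = a⁻¹ * (a⁻¹ * b) * b := by rw [c1 b]
    _ = (a * a)⁻¹ * (b * b) := by group

/-- **Higman's lemma, first part.** If a commutative group `K` acts on the finite nonabelian
2-group `P` regularly on involutions, then the centre of `P` has exponent 2. -/
theorem center_sq_aux (K : Type v) [Group K] (hcomm : ∀ a b : K, a * b = b * a) :
    ∀ (n : ℕ) (P : Type u) [Group P] [Finite P] [MulDistribMulAction K P], Nat.card P = n →
      IsPGroup 2 P → RegInv K P → (∃ x y : P, x * y ≠ y * x) →
      ∀ z ∈ Subgroup.center P, z * z = 1 := by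
  intro n
  induction n using Nat.strong_induction_on with
  | _ n ih =>
    intro P _ _ _ hn hP hreg hna z₀ hz₀
    by_contra hzz
    -- an element of order 4 in the centre
    obtain ⟨j, hj1, hj2⟩ := exists_invol_pow hP hzz
    set z₁ := z₀ ^ 2 ^ j with hz₁
    have hz₁c : z₁ ∈ Subgroup.center P := pow_mem hz₀ _
    have hv : z₁ * z₁ = (z₀ * z₀) ^ 2 ^ j := ((Commute.refl z₀).mul_pow _).symm
    have hv1 : z₁ * z₁ ≠ 1 := by rw [hv]; exact hj1
    have hv2 : (z₁ * z₁) * (z₁ * z₁) = 1 := by rw [hv]; exact hj2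
    -- every element of Ω is the square of a central element
    have hsq' : ∀ v ∈ Om P, ∃ z ∈ Subgroup.center P, z * z = v := by
      intro v hv
      by_cases hv0 : v = 1
      · exact ⟨1, one_mem _, by rw [hv0, one_mul]⟩
      · obtain ⟨k, hk, -⟩ := hreg _ v hv1 hv2 hv0 hv.2
        exact ⟨k • z₁, smul_mem_center k hz₁c, by rw [← smul_mul', hk]⟩
    -- elements with square in Ω are central
    have hT : ∀ x : P, x * x ∈ Om P → x ∈ Subgroup.center P := by
      intro x hx
      obtain ⟨z, hz, hzz⟩ := hsq' _ hx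
      have h1 : (z⁻¹ * x) * (z⁻¹ * x) = 1 := by
        rw [mul_inv_sq_of_center hz, hzz, inv_mul_cancel]
      have h2 : z⁻¹ * x ∈ Subgroup.center P := invol_mem_center hP hreg h1
      have : x = z * (z⁻¹ * x) := by group
      rw [this]; exact mul_mem hz h2
    -- the quotient
    have hinv : ∀ (k : K), ∀ x ∈ Om P, k • x ∈ Om P := fun k x hx => smul_mem_Om k hx
    let instQ : MulDistribMulAction K (P ⧸ Om P) := quotAction (Om P) hinv
    have hsmul : ∀ (k : K) (x : P), k • (x : P ⧸ Om P) = ((k • x : P) : P ⧸ Om P) :=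
      fun k x => rfl
    have hPQ : IsPGroup 2 (P ⧸ Om P) := hP.to_quotient _
    have hcard : Nat.card (P ⧸ Om P) < n := by
      have h1 := Subgroup.card_eq_card_quotient_mul_card_subgroup (Om P)
      have h2 : 1 < Nat.card (Om P) := by
        rw [Finite.one_lt_card_iff_nontrivial]
        exact ⟨⟨⟨z₁ * z₁, ⟨mul_mem hz₁c hz₁c, hv2⟩⟩, 1, fun h => hv1 (congrArg Subtype.val h)⟩⟩
      have h3 : 0 < Nat.card (P ⧸ Om P) := Nat.card_pos
      rw [← hn, h1]
      nlinarith
    have hregQ : RegInv K (P ⧸ Om P) := by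
      intro a b
      induction a using QuotientGroup.induction_on with
      | H x =>
        induction b using QuotientGroup.induction_on with
        | H y =>
          intro ha1 ha2 hb1 hb2
          rw [← QuotientGroup.mk_mul, QuotientGroup.eq_one_iff] at ha2 hb2
          have hx1 : x ∉ Om P := fun h => ha1 ((QuotientGroup.eq_one_iff x).mpr h)
          have hy1 : y ∉ Om P := fun h => hb1 ((QuotientGroup.eq_one_iff y).mpr h)
          have hxc : x ∈ Subgroup.center P := hT x ha2
          have hyc : y ∈ Subgroup.center P := hT y hb2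
          have hxx1 : x * x ≠ 1 := fun h => hx1 ⟨hxc, h⟩
          have hyy1 : y * y ≠ 1 := fun h => hy1 ⟨hyc, h⟩
          obtain ⟨k, hk, huniq⟩ := hreg _ _ hxx1 ha2.2 hyy1 hb2.2
          refine ⟨k, ?_, ?_⟩
          · show k • (x : P ⧸ Om P) = (y : P ⧸ Om P)
            rw [hsmul, QuotientGroup.eq]
            have hkx : k • x ∈ Subgroup.center P := smul_mem_center k hxc
            refine ⟨mul_mem (inv_mem hkx) hyc, ?_⟩
            rw [mul_inv_sq_of_center hkx, ← smul_mul', hk, inv_mul_cancel]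
          · intro k' hk'
            have hk'' : k' • (x : P ⧸ Om P) = (y : P ⧸ Om P) := hk'
            rw [hsmul, QuotientGroup.eq] at hk''
            apply huniq
            have hkx : k' • x ∈ Subgroup.center P := smul_mem_center k' hxc
            have h1 := hk''.2
            rw [mul_inv_sq_of_center hkx, inv_mul_eq_one, ← smul_mul'] at h1
            exact h1
    by_cases hQab : ∀ a b : P ⧸ Om P, a * b = b * a
    · -- abelian quotient: the bilinear form argument
      have hab : ∀ x y : P, cm x y ∈ Om P := by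
        intro x y
        rw [← QuotientGroup.eq_one_iff]
        unfold cm
        simp only [QuotientGroup.mk_mul, QuotientGroup.mk_inv]
        rw [hQab (x : P ⧸ Om P) (y : P ⧸ Om P)]; group
      obtain ⟨x, y, hxy⟩ := hna
      exact hxy (abelian_of_quot_abelian hP hcomm hreg hT hab x y)
    · -- nonabelian quotient: induction
      push Not at hQab
      have hZQ := ih (Nat.card (P ⧸ Om P)) hcard (P ⧸ Om P) rfl hPQ hregQ hQab
      have hQ' : ∀ y : P, (∀ x : P, cm y x ∈ Om P) → y * y ∈ Om P := by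
        intro y hy
        rw [← QuotientGroup.eq_one_iff, QuotientGroup.mk_mul]
        apply hZQ
        rw [Subgroup.mem_center_iff]
        intro a
        induction a using QuotientGroup.induction_on with
        | H x =>
          have := (QuotientGroup.eq_one_iff _).mpr (hy x)
          unfold cm at this
          simp only [QuotientGroup.mk_mul, QuotientGroup.mk_inv] at this
          have h2 : (y : P ⧸ Om P) * x = (y * x * (y : P ⧸ Om P)⁻¹ * (x : P ⧸ Om P)⁻¹) * (x * y) := by
            group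
          rw [h2, this, one_mul]
      have htop := center_eq_top_of_quot hP hT hQ'
      obtain ⟨x, y, hxy⟩ := hna
      apply hxy
      have hx : x ∈ Subgroup.center P := by rw [htop]; trivial
      exact (Subgroup.mem_center_iff.mp hx y).symm

end main

end Cfsg.Agent.Helper17.Suz2
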