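import Mathlib
import Cfsg.Agent.Helper17.Suz2A
import Cfsg.Agent.Helper17.Suz2B

/-!
# Suzuki 2-groups, part E: the quotient `P / Ω` when `|P| = |Ω|²`
-/

set_option autoImplicit false

namespace Cfsg.Agent.Helper17.Suz2

universe u v

section omact

variable {K : Type v} {P : Type u} [Group K] [Group P] [MulDistribMulAction K P]

/-- The action on `Ω`. -/
@[instance_reducible]
def omAction : MulDistribMulAction K (Om P) where
  smul k v := ⟨k • (v : P), smul_mem_Om k v.2⟩
  one_smul v := Subtype.ext (one_smul K (v : P))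
  mul_smul a b v := Subtype.ext (mul_smul a b (v : P))
  smul_mul a v w := Subtype.ext (smul_mul' a (v : P) (w : P))
  smul_one a := Subtype.ext (smul_one a)

theorem fixed_mod_Om [Finite P] (hP : IsPGroup 2 P) (hreg : RegInv K P) {k : K} (hk : k ≠ 1)
    {x : P} (hx : x⁻¹ * k • x ∈ Om P) : x ∈ Om P := by
  by_contra hxV
  have hfix : ∀ u : P, u ≠ 1 → u * u = 1 → k • u = u → False := by
    intro u hu1 hu2 hku
    obtain ⟨k', -, huniq⟩ := hreg u u hu1 hu2 hu1 hu2
    exact hk ((huniq k hku).trans (huniq 1 (one_smul K u)).symm)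
  let f : Om P → Om P := fun w =>
    ⟨(w : P) * (k • (w : P))⁻¹, mul_mem w.2 (inv_mem (smul_mem_Om k w.2))⟩
  have hf : Function.Injective f := by
    intro w w' hww
    have h1 : (w : P) * (k • (w : P))⁻¹ = (w' : P) * (k • (w' : P))⁻¹ := congrArg Subtype.val hww
    by_contra hne
    have hu1 : (w' : P)⁻¹ * w ≠ 1 := by
      intro h; apply hne; apply Subtype.ext; rw [inv_mul_eq_one] at h; exact h.symm
    have hu2 : ((w' : P)⁻¹ * w) * ((w' : P)⁻¹ * w) = 1 := (mul_mem (inv_mem w'.2) w.2).2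
    refine hfix _ hu1 hu2 ?_
    rw [smul_mul', smul_inv']
    calc (k • (w' : P))⁻¹ * k • (w : P)
        = (w' : P)⁻¹ * ((w' : P) * (k • (w' : P))⁻¹) * k • (w : P) := by group
      _ = (w' : P)⁻¹ * ((w : P) * (k • (w : P))⁻¹) * k • (w : P) := by rw [h1]
      _ = (w' : P)⁻¹ * w := by group
  have hsurj : Function.Surjective f := Finite.injective_iff_surjective.mp hf
  obtain ⟨w, hw⟩ := hsurj ⟨x⁻¹ * k • x, hx⟩
  have hw' : (w : P) * (k • (w : P))⁻¹ = x⁻¹ * k • x := congrArg Subtype.val hw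
  have hy : k • (x * (w : P)) = x * w := by
    rw [smul_mul']
    calc k • x * k • (w : P) = x * (x⁻¹ * k • x) * k • (w : P) := by group
      _ = x * ((w : P) * (k • (w : P))⁻¹) * k • (w : P) := by rw [hw']
      _ = x * w := by group
  have hyV : x * (w : P) ∉ Om P := by
    intro h
    apply hxV
    have : x = x * (w : P) * (w : P)⁻¹ := by group
    rw [this]; exact mul_mem h (inv_mem w.2)
  have hy1 : x * (w : P) ≠ 1 := fun h => hyV (h ▸ one_mem _)
  obtain ⟨j, hj1, hj2⟩ := exists_invol_pow hP hy1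
  refine hfix _ hj1 hj2 ?_
  rw [smul_pow', hy]

theorem quot_regular [Finite P] [Finite K] (hP : IsPGroup 2 P) (hreg : RegInv K P)
    (hinv : ∀ (k : K), ∀ x ∈ Om P, k • x ∈ Om P)
    (hcardX : Nat.card (P ⧸ Om P) = Nat.card K + 1) :
    letI := quotAction (Om P) hinv
    ∀ a b : P ⧸ Om P, a ≠ 1 → b ≠ 1 → ∃! k : K, k • a = b := by
  classical
  letI := quotAction (Om P) hinv
  intro a b ha hb
  have hsemi : ∀ (k : K) (c : P ⧸ Om P), c ≠ 1 → k • c = c → k = 1 := by
    intro k c hc hkc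
    by_contra hk
    induction c using QuotientGroup.induction_on with
    | H x =>
      apply hc
      rw [QuotientGroup.eq_one_iff]
      apply fixed_mod_Om hP hreg hk
      have h1 : ((k • x : P) : P ⧸ Om P) = (x : P ⧸ Om P) := hkc
      rw [eq_comm, QuotientGroup.eq] at h1
      exact h1
  let g : K → {c : P ⧸ Om P // c ≠ 1} :=
    fun k => ⟨k • a, fun h => ha ((smul_eq_one_iff k a).mp h)⟩
  have hg : Function.Injective g := by
    intro k l hkl
    have h1 : k • a = l • a := congrArg Subtype.val hkl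
    have h2 : (l⁻¹ * k) • a = a := by rw [mul_smul, h1, inv_smul_smul]
    have h3 := hsemi _ a ha h2
    exact (inv_mul_eq_one.mp h3).symm
  have hcard : Nat.card K = Nat.card {c : P ⧸ Om P // c ≠ 1} := by
    have h1 := Nat.card_congr (Equiv.optionSubtypeNe (1 : P ⧸ Om P))
    rw [Finite.card_option, hcardX] at h1
    omega
  have hbij : Function.Bijective g := (Nat.bijective_iff_injective_and_card g).mpr ⟨hg, hcard⟩
  obtain ⟨k, hk⟩ := hbij.2 ⟨b, hb⟩
  have hk' : k • a = b := congrArg Subtype.val hk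
  refine ⟨k, hk', ?_⟩
  intro l hl
  apply hg
  apply Subtype.ext
  show l • a = k • a
  rw [hl, hk']

theorem quot_exponent [Finite P] (hP : IsPGroup 2 P)
    (hinv : ∀ (k : K), ∀ x ∈ Om P, k • x ∈ Om P)
    (hregX : letI := quotAction (Om P) hinv
      ∀ a b : P ⧸ Om P, a ≠ 1 → b ≠ 1 → ∃! k : K, k • a = b) :
    ∀ a : P ⧸ Om P, a * a = 1 := by
  letI := quotAction (Om P) hinv
  intro a
  by_cases ha : a = 1
  · rw [ha, one_mul]
  · obtain ⟨j, hj1, hj2⟩ := exists_invol_pow (hP.to_quotient (Om P)) ha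
    obtain ⟨k, hk, -⟩ := hregX _ a hj1 ha
    rw [← hk, ← smul_mul', hj2, smul_one]

end omact

end Cfsg.Agent.Helper17.Suz2
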