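import Mathlib
import Cfsg.Agent.Helper27.Suz2Defs
import Cfsg.Agent.Helper19.Suz2B0
import Cfsg.Agent.Helper3.SUZ2FPF
import Cfsg.Agent.Helper18.Suz2F3
import Cfsg.Agent.Helper20.SUZ2F4C
import Cfsg.Agent.Helper2.SUZ2X72

/-! # SUZ2 board, piece HYP: blueprint 7.3, the hyperplane lemma -/

set_option autoImplicit false

namespace Cfsg.Agent.Helper17.SUZ2HYP

open Cfsg.Agent.Helper17.Suz2 Cfsg.Agent.SUZ2P

universe u v

variable {K : Type v} {P : Type u} [Group K] [Group P] [MulDistribMulAction K P]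

/-- `γ(g,x) = [g,x]²` -/
def gam (g x : P) : P := cm g x * cm g x

theorem sq_aux {a b z : P} (hab : a * b = b * a) (hz : z ∈ Om P) :
    (a * z * b) * (a * z * b) = (a * a) * (b * b) := by
  have hc : ∀ g : P, g * z = z * g := Subgroup.mem_center_iff.mp hz.1
  have hzz : z * z = 1 := hz.2
  calc (a * z * b) * (a * z * b) = a * (z * (b * a) * z) * b := by group
    _ = a * (z * (a * b) * z) * b := by rw [hab]
    _ = a * ((z * a) * (b * z)) * b := by group
    _ = a * ((a * z) * (z * b)) * b := by rw [← hc a, hc b]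
    _ = a * a * (z * z) * b * b := by group
    _ = (a * a) * (b * b) := by rw [hzz]; group

/-- conjugation formula `g t g⁻¹ = t * [t,g]` for `t ∈ Z2 P` (own copy, so that the piece does not
wait for CMT) -/
theorem conj_eq_mul_cm {t : P} (ht : t ∈ Z2 P) (g : P) : g * t * g⁻¹ = t * cm t g := by
  have hz : cm t g ∈ Om P := ht g
  have hc : ∀ y : P, y * cm t g = cm t g * y := Subgroup.mem_center_iff.mp hz.1
  have hinv : (cm t g)⁻¹ = cm t g := inv_eq_of_mul_eq_one_right hz.2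
  calc g * t * g⁻¹ = (cm t g)⁻¹ * t := by unfold cm; group
    _ = cm t g * t := by rw [hinv]
    _ = t * cm t g := (hc t).symm

theorem cm_mul_left_conj (g g' x : P) : cm (g * g') x = g * cm g' x * g⁻¹ * cm g x := by
  unfold cm; group

theorem cm_mul_right_conj (g x x' : P) : cm g (x * x') = cm g x * (x * cm g x' * x⁻¹) := by
  unfold cm; group

theorem gam_one_left (x : P) : gam (1 : P) x = 1 := by
  unfold gam cm; group

theorem gam_central_right (g : P) {z : P} (hz : z ∈ Subgroup.center P) : gam g z = 1 := by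
  unfold gam; rw [cm_of_mem_center_right hz, one_mul]

theorem gam_smul (k : K) (g x : P) : k • gam g x = gam (k • g) (k • x) := by
  unfold gam; rw [smul_mul', cm_smul]

theorem gam_mul_left (hTab : ∀ t ∈ Z2 P, ∀ t' ∈ Z2 P, t * t' = t' * t) {g g' x : P}
    (hc : cm g x ∈ Z2 P) (hc' : cm g' x ∈ Z2 P) : gam (g * g') x = gam g x * gam g' x := by
  unfold gam
  rw [cm_mul_left_conj, conj_eq_mul_cm hc' g, sq_aux (hTab _ hc' _ hc) (hc' g)]
  exact hTab _ (mul_mem hc' hc') _ (mul_mem hc hc)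

theorem gam_mul_right (hTab : ∀ t ∈ Z2 P, ∀ t' ∈ Z2 P, t * t' = t' * t) {g x x' : P}
    (hc : cm g x ∈ Z2 P) (hc' : cm g x' ∈ Z2 P) : gam g (x * x') = gam g x * gam g x' := by
  unfold gam
  have hz : cm (cm g x') x ∈ Om P := hc' x
  have hcz : ∀ y : P, y * cm (cm g x') x = cm (cm g x') x * y := Subgroup.mem_center_iff.mp hz.1
  have e : cm g x * (cm g x' * cm (cm g x') x) = cm g x * cm (cm g x') x * cm g x' := by
    rw [hcz (cm g x'), mul_assoc]
  rw [cm_mul_right_conj, conj_eq_mul_cm hc' x, e, sq_aux (hTab _ hc _ hc') hz]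

theorem gam_inv_left (hTab : ∀ t ∈ Z2 P, ∀ t' ∈ Z2 P, t * t' = t' * t) {g x : P}
    (hc : cm g x ∈ Z2 P) (hc' : cm g⁻¹ x ∈ Z2 P) (hsq : gam g x * gam g x = 1) :
    gam g⁻¹ x = gam g x := by
  have h1 := gam_mul_left hTab hc' hc
  rw [inv_mul_cancel, gam_one_left] at h1
  have h2 : gam g⁻¹ x = (gam g x)⁻¹ := eq_inv_of_mul_eq_one_left h1.symm
  rw [h2]
  exact inv_eq_of_mul_eq_one_right hsq

theorem gam_fix (hTsq : ∀ y ∈ Z2 P, y * y ∈ Om P) {g x m : P} (hxx : x * x ∈ Subgroup.center P)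
    (hc : cm g x ∈ Z2 P) (hm : IsFix x m) : gam g x = 1 ∨ gam g x = m := by
  have hs : ∀ y : P, y * (x * x) = (x * x) * y := Subgroup.mem_center_iff.mp hxx
  have h1 : x * cm g x * x⁻¹ = (cm g x)⁻¹ := by
    calc x * cm g x * x⁻¹ = x * g * x⁻¹ * ((x * x) * g⁻¹) * x⁻¹ * x⁻¹ := by unfold cm; group
      _ = x * g * x⁻¹ * (g⁻¹ * (x * x)) * x⁻¹ * x⁻¹ := by rw [← hs g⁻¹]
      _ = (cm g x)⁻¹ := by unfold cm; group
  have h2 : x * cm g x * x⁻¹ = cm g x * cm (cm g x) x := conj_eq_mul_cm hc x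
  have hcc : gam g x * gam g x = 1 := (hTsq _ hc).2
  have h3 : cm (cm g x) x = cm g x * cm g x := by
    have h4 : cm (cm g x) x = (cm g x)⁻¹ * (cm g x)⁻¹ := by
      have h2' : cm g x * cm (cm g x) x = (cm g x)⁻¹ := by rw [← h2, h1]
      calc cm (cm g x) x = (cm g x)⁻¹ * (cm g x * cm (cm g x) x) := by group
        _ = (cm g x)⁻¹ * (cm g x)⁻¹ := by rw [h2']
    have h5 : (cm g x)⁻¹ * (cm g x)⁻¹ = (gam g x)⁻¹ := by unfold gam; group
    rw [h4, h5]
    exact inv_eq_of_mul_eq_one_right hcc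
  exact (hm.2.2 _ hc).mp h3

end Cfsg.Agent.Helper17.SUZ2HYP

namespace Cfsg.Agent.SUZ2P

open Cfsg.Agent.Helper17.Suz2 Cfsg.Agent.SUZ2P Cfsg.Agent.Helper17.SUZ2HYP

universe u v

variable {K : Type v} {P : Type u} [Group K] [Group P] [MulDistribMulAction K P]

theorem hyper (h : MinCE K P) {X : Subgroup P} (hX : XHyp K X) {N : Subgroup P}
    (hN : KInv K N) (hNX : ∀ g ∈ N, ∀ x ∈ X, cm g x ∈ Z2 P) :
    ∀ g ∈ N, ∀ x ∈ X, cm g x ∈ Om P := by
  have hS := h.star
  have hna := h.nonab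
  obtain ⟨-, hTab, -⟩ := T_props h
  have hTsq := Z2_sq hS hna
  have hXinv : KInv K X := hX.kmin.invA
  have hXc : ∀ x ∈ X, x * x ∈ Subgroup.center P := fun x hx => (hX.sq x hx).1
  have hgsq : ∀ g ∈ N, ∀ x ∈ X, gam g x * gam g x = 1 :=
    fun g hg x hx => (hTsq _ (hNX g hg x hx)).2
  -- the subgroup KK
  let KK : Subgroup P :=
    { carrier := {g | g ∈ N ∧ ∀ x ∈ X, gam g x = 1}
      one_mem' := ⟨one_mem _, fun x _ => gam_one_left x⟩
      mul_mem' := by
        rintro a b ⟨ha, ha'⟩ ⟨hb, hb'⟩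
        refine ⟨mul_mem ha hb, fun x hx => ?_⟩
        rw [gam_mul_left hTab (hNX a ha x hx) (hNX b hb x hx), ha' x hx, hb' x hx, one_mul]
      inv_mem' := by
        rintro a ⟨ha, ha'⟩
        refine ⟨inv_mem ha, fun x hx => ?_⟩
        rw [gam_inv_left hTab (hNX a ha x hx) (hNX a⁻¹ (inv_mem ha) x hx) (hgsq a ha x hx)]
        exact ha' x hx }
  have hKKmem : ∀ g, g ∈ KK ↔ g ∈ N ∧ ∀ x ∈ X, gam g x = 1 := fun g => Iff.rfl
  have hKKinv : ∀ (k : K), ∀ g ∈ KK, k • g ∈ KK := by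
    intro k g hg
    rw [hKKmem] at hg ⊢
    refine ⟨hN k g hg.1, fun x hx => ?_⟩
    have hx' : k⁻¹ • x ∈ X := hXinv k⁻¹ x hx
    have := gam_smul k g (k⁻¹ • x)
    rw [smul_inv_smul, hg.2 _ hx', smul_one] at this
    exact this.symm
  suffices hall : ∀ g ∈ N, g ∈ KK by
    intro g hg x hx
    rw [B0_mem_Om hS]
    exact ((hKKmem g).mp (hall g hg)).2 x hx
  by_contra hcon
  push Not at hcon
  obtain ⟨g0, hg0N, hg0⟩ := hcon
  -- Sub-lemma F
  have F : ∀ g ∈ N, g ∉ KK → ∀ x ∈ X, x ∉ Om P → ∀ m, IsFix x m → gam g x = m := by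
    intro g hg hgK x hx hxZ m hm
    have hex : ∃ xb ∈ X, gam g xb ≠ 1 := by
      by_contra hno
      push Not at hno
      exact hgK ((hKKmem g).mpr ⟨hg, hno⟩)
    obtain ⟨xb, hxb, hxb1⟩ := hex
    have hxbZ : xb ∉ Om P := fun hz => hxb1 (gam_central_right g hz.1)
    obtain ⟨-, mb, hmb⟩ := X72m h hX hxb hxbZ
    have hb : gam g xb = mb := by
      rcases gam_fix hTsq (hXc xb hxb) (hNX g hg xb hxb) hmb with h1 | h1
      · exact absurd h1 hxb1
      · exact h1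
    rcases gam_fix hTsq (hXc x hx) (hNX g hg x hx) hm with h1 | h1
    · exfalso
      have hy : xb * x ∈ X := mul_mem hxb hx
      have hgy : gam g (xb * x) = mb := by
        rw [gam_mul_right hTab (hNX g hg xb hxb) (hNX g hg x hx), hb, h1, mul_one]
      have hyZ : xb * x ∉ Om P := fun hz => by
        have h2 := gam_central_right g hz.1
        rw [hgy] at h2
        exact hmb.2.1 h2
      obtain ⟨-, my, hmy⟩ := X72m h hX hy hyZ
      have hmm : my = mb := by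
        rcases gam_fix hTsq (hXc _ hy) (hNX g hg _ hy) hmy with h2 | h2
        · rw [hgy] at h2; exact absurd h2 hmb.2.1
        · rw [hgy] at h2; exact h2.symm
      rw [hmm] at hmy
      have h3 := X72inj h hX hxb hxbZ hy hyZ hmb hmy
      rw [inv_mul_cancel_left] at h3
      exact hxZ h3
    · exact h1
  -- pick k ≠ 1
  obtain ⟨n, hn, -, hcard⟩ := B0_card (K := K) hS
  have := B0_finK (K := K) hS
  have hnt : Nontrivial K := by
    rw [← Finite.one_lt_card_iff_nontrivial]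
    have h4 : 2 ^ 2 ≤ 2 ^ n := Nat.pow_le_pow_right (by norm_num) hn
    omega
  obtain ⟨k, hk⟩ := exists_ne (1 : K)
  have hg1N : k • g0 ∈ N := hN k g0 hg0N
  have hg1 : k • g0 ∉ KK := by
    intro hmem
    have h5 := hKKinv k⁻¹ _ hmem
    rw [inv_smul_smul] at h5
    exact hg0 h5
  have hprod : g0⁻¹ * k • g0 ∈ KK := by
    rw [hKKmem]
    refine ⟨mul_mem (inv_mem hg0N) hg1N, fun x hx => ?_⟩
    rw [gam_mul_left hTab (hNX _ (inv_mem hg0N) x hx) (hNX _ hg1N x hx),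
      gam_inv_left hTab (hNX g0 hg0N x hx) (hNX _ (inv_mem hg0N) x hx) (hgsq g0 hg0N x hx)]
    by_cases hxZ : x ∈ Om P
    · rw [gam_central_right _ hxZ.1, gam_central_right _ hxZ.1, one_mul]
    · obtain ⟨-, m, hm⟩ := X72m h hX hx hxZ
      rw [F g0 hg0N hg0 x hx hxZ m hm, F _ hg1N hg1 x hx hxZ m hm]
      exact hm.1.2
  exact hg0 (fpf hS hk KK (hKKinv k) hprod)

end Cfsg.Agent.SUZ2P
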