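import Mathlib
import Cfsg.Agent.Helper27.Suz2Defs
import Cfsg.Agent.Helper20.SUZ2F5
import Cfsg.Agent.Helper17.SUZ2HYP

/-! # SUZ2 board, piece END1: blueprint 7.4, case `C = T` -/

set_option autoImplicit false

namespace Cfsg.Agent.SUZ2P

open Cfsg.Agent.Helper17.Suz2 Cfsg.Agent.SUZ2P

universe u v

variable {K : Type v} {P : Type u} [Group K] [Group P] [MulDistribMulAction K P]

theorem endT (h : MinCE K P) {X : Subgroup P} (hX : XHyp K X) (hCT : CT P = Z2 P) : False := by
  have hN : KInv K (⊤ : Subgroup P) := fun _ _ _ => Subgroup.mem_top _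
  have hNX : ∀ g ∈ (⊤ : Subgroup P), ∀ x ∈ X, cm g x ∈ Z2 P := by
    intro g _ x _
    rw [← hCT]
    exact (F5ii g x).2
  have hall := hyper h hX hN hNX
  have hXT : X ≤ Z2 P := by
    intro x hx
    rw [mem_Z2]
    intro g
    rw [← cm_inv g x]
    exact inv_mem (hall g (Subgroup.mem_top g) x hx)
  have hXZ : X = Om P := by
    rw [← hX.meet]
    exact (inf_of_le_left hXT).symm
  exact (ne_of_lt hX.kmin.lt) hXZ.symm

end Cfsg.Agent.SUZ2P
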