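import Mathlib
import Cfsg.Agent.Helper17.Zsigmondy

/-!
# Abelian subgroups of order `q^n - 1` of `GL_n(q)` are Singer groups

`irred`: an element of prime order `r` (a primitive prime divisor of `q^n-1`) is irreducible;
`exists_conj`: an abelian subgroup of order `q^n - 1` of `GL_F(K)` is conjugate to the Singer group.
-/

set_option autoImplicit false
set_option linter.style.haveILetI false
set_option linter.unusedSectionVars false

namespace Cfsg.Agent.Helper17.Singer

/-- number theory: `q^a ≡ q^b (mod r)` with `r` primitive for `q^n - 1` -/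
theorem pow_modEq_cases {q r n a b : ℕ} (hr : r.Prime) (hq : 0 < q) (hrq : ¬ r ∣ q)
    (hprim : ∀ k : ℕ, 0 < k → k < n → ¬ r ∣ q ^ k - 1) (hba : b ≤ a) (han : a ≤ n)
    (h : q ^ a ≡ q ^ b [MOD r]) : a = b ∨ (a = n ∧ b = 0) := by
  have hle : q ^ b ≤ q ^ a := Nat.pow_le_pow_right hq hba
  have h1 : r ∣ q ^ a - q ^ b := (Nat.modEq_iff_dvd' hle).1 h.symm
  have h2 : q ^ a - q ^ b = q ^ b * (q ^ (a - b) - 1) := by
    rw [Nat.mul_sub, mul_one, ← pow_add, Nat.add_sub_cancel' hba]
  rw [h2] at h1
  have h3 : r ∣ q ^ (a - b) - 1 := by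
    rcases (Nat.Prime.dvd_mul hr).1 h1 with h4 | h4
    · exact absurd (hr.dvd_of_dvd_pow h4) hrq
    · exact h4
  by_cases hab : a = b
  · exact Or.inl hab
  · right
    by_contra hcon
    exact hprim (a - b) (by omega) (by omega) h3

variable {F : Type*} [Field F] [Fintype F]

theorem counting {V : Type*} [AddCommGroup V] [Module F V] [Finite V] {r n : ℕ}
    (hr : r.Prime) (hrq : ¬ r ∣ Fintype.card F)
    (hprim : ∀ k : ℕ, 0 < k → k < n → ¬ r ∣ Fintype.card F ^ k - 1)
    (y : Module.End F V) (hy : y ^ r = 1) (hdim : Module.finrank F V ≤ n) :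
    Module.finrank F V = Module.finrank F (LinearMap.ker (y - 1)) ∨
      (Module.finrank F V = n ∧ Module.finrank F (LinearMap.ker (y - 1)) = 0) := by
  classical
  have := Fintype.ofFinite V
  have := Fact.mk hr
  have hfin : Module.Finite F V := Module.Finite.of_finite
  let f : Function.End V := ⇑y
  have hpow : ∀ k : ℕ, (f ^ k : Function.End V) = ⇑(y ^ k) := by
    intro k
    induction k with
    | zero => rfl
    | succ k ih =>
      rw [pow_succ, ih, pow_succ]
      rfl
  have hf : f ^ r ^ 1 = 1 := by
    rw [pow_one, hpow, hy]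
    rfl
  have hcount := Equiv.Perm.card_fixedPoints_modEq (f := f) (p := r) (n := 1) hf
  have hfix : (Function.fixedPoints f) = ((LinearMap.ker (y - 1) : Submodule F V) : Set V) := by
    ext w
    simp only [SetLike.mem_coe, LinearMap.mem_ker,
      LinearMap.sub_apply, Module.End.one_apply, sub_eq_zero]
    rfl
  have h1 : Fintype.card V = Fintype.card F ^ Module.finrank F V := Module.card_eq_pow_finrank
  have h2 : Fintype.card (Function.fixedPoints f) =
      Fintype.card F ^ Module.finrank F (LinearMap.ker (y - 1)) := by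
    rw [← Nat.card_eq_fintype_card, hfix]
    have := Module.natCard_eq_pow_finrank (K := F) (V := (LinearMap.ker (y - 1)))
    rw [Nat.card_eq_fintype_card (α := F)] at this
    exact this
  rw [h1, h2] at hcount
  exact pow_modEq_cases hr Fintype.card_pos hrq hprim (Submodule.finrank_le _) hdim hcount

/-- an endomorphism of prime order `r`, `r` a primitive prime divisor of `q^n - 1`, of an
`n`-dimensional space over `F_q` is irreducible. -/
theorem irred {V : Type*} [AddCommGroup V] [Module F V] [Finite V] {r n : ℕ}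
    (hr : r.Prime) (hrq : ¬ r ∣ Fintype.card F)
    (hprim : ∀ k : ℕ, 0 < k → k < n → ¬ r ∣ Fintype.card F ^ k - 1)
    (hn : Module.finrank F V = n) (x : Module.End F V) (hx : x ^ r = 1) (hx1 : x ≠ 1)
    (W : Submodule F V) (hW : ∀ w ∈ W, x w ∈ W) : W = ⊥ ∨ W = ⊤ := by
  have hfin : Module.Finite F V := Module.Finite.of_finite
  have hker : LinearMap.ker (x - 1) = ⊥ := by
    rcases counting hr hrq hprim x hx hn.le with h | ⟨-, h⟩
    · exfalso
      have h1 := Submodule.eq_top_of_finrank_eq h.symm
      rw [LinearMap.ker_eq_top] at h1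
      exact hx1 (sub_eq_zero.1 h1)
    · exact Submodule.finrank_eq_zero.1 h
  set y : Module.End F W := x.restrict hW with hy
  have hpow : ∀ (k : ℕ) (w : W), (((y ^ k) w : W) : V) = (x ^ k) (w : V) := by
    intro k
    induction k with
    | zero => intro w; rfl
    | succ k ih =>
      intro w
      rw [pow_succ, pow_succ, Module.End.mul_apply, Module.End.mul_apply, ih]
      rfl
  have hyr : y ^ r = 1 := by
    ext w
    rw [hpow, hx]
    rfl
  rcases counting hr hrq hprim y hyr (hn ▸ Submodule.finrank_le W) with h | ⟨h, -⟩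
  · left
    have h1 := Submodule.eq_top_of_finrank_eq h.symm
    rw [eq_bot_iff]
    intro w hw
    have h2 : (⟨w, hw⟩ : W) ∈ LinearMap.ker (y - 1) := by rw [h1]; trivial
    rw [LinearMap.mem_ker, LinearMap.sub_apply, sub_eq_zero] at h2
    have h3 : x w = w := by
      have := congrArg (Subtype.val) h2
      exact this
    have h4 : w ∈ LinearMap.ker (x - 1) := by
      rw [LinearMap.mem_ker, LinearMap.sub_apply, h3]
      simp
    rw [hker] at h4
    exact h4
  · right
    exact Submodule.eq_top_of_finrank_eq (h.trans hn.symm)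

open Polynomial in
/-- two finite extensions of `F` of the same cardinality are `F`-isomorphic -/
theorem nonempty_algEquiv_of_card_eq {K E : Type*} [Field K] [Fintype K] [Algebra F K]
    [Field E] [Fintype E] [Algebra F E] (h : Fintype.card E = Fintype.card K) :
    Nonempty (K ≃ₐ[F] E) := by
  have h1 : IsSplittingField F K (X ^ Fintype.card K - X) := FiniteField.isSplittingField_sub K F
  have h2 : IsSplittingField F E (X ^ Fintype.card K - X) := by
    rw [← h]; exact FiniteField.isSplittingField_sub E F
  exact ⟨(IsSplittingField.algEquiv K (X ^ Fintype.card K - X : F[X])).trans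
    (IsSplittingField.algEquiv E (X ^ Fintype.card K - X : F[X])).symm⟩

theorem conj_aux {K E : Type*} [Field K] [Fintype K] [Algebra F K]
    [Field E] [Fintype E] [Algebra F E] (ι : E →ₐ[F] Module.End F K)
    (h : Fintype.card E = Fintype.card K) :
    ∃ (g : (Module.End F K)ˣ) (φ : K ≃ₐ[F] E), ∀ k : K,
      ι (φ k) * (g : Module.End F K) = (g : Module.End F K) * Algebra.lmul F K k := by
  obtain ⟨φ⟩ := nonempty_algEquiv_of_card_eq (F := F) h
  let ev : Module.End F K →ₗ[F] K := LinearMap.applyₗ (1 : K)
  let g0 : K →ₗ[F] K := ev.comp (ι.toLinearMap.comp φ.toLinearMap)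
  have hg0 : ∀ k : K, g0 k = ι (φ k) 1 := fun k => rfl
  have hinj : Function.Injective g0 := by
    rw [← LinearMap.ker_eq_bot, LinearMap.ker_eq_bot']
    intro k hk
    by_contra hne
    rw [hg0] at hk
    have hu : IsUnit (ι (φ k)) := (IsUnit.mk0 k hne).map (ι.toRingHom.comp φ.toAlgHom.toRingHom)
    have hinj' : Function.Injective (ι (φ k)) := by
      obtain ⟨u, hu⟩ := hu
      intro a b hab
      have := congrArg (fun w => (↑u⁻¹ : Module.End F K) w) hab
      simp only [← hu, ← Module.End.mul_apply, Units.inv_mul, Module.End.one_apply] at this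
      exact this
    have := hinj' (hk.trans (map_zero _).symm)
    exact one_ne_zero this
  have hsurj : Function.Surjective g0 := LinearMap.injective_iff_surjective.1 hinj
  let ge : K ≃ₗ[F] K := LinearEquiv.ofBijective g0 ⟨hinj, hsurj⟩
  refine ⟨LinearMap.GeneralLinearGroup.ofLinearEquiv ge, φ, ?_⟩
  intro k
  ext w
  change ι (φ k) (g0 w) = g0 (k * w)
  rw [hg0, hg0, map_mul, map_mul]
  rfl

theorem subalg_conj {K : Type*} [Field K] [Fintype K] [Algebra F K]
    (E : Subalgebra F (Module.End F K)) (hcomm : ∀ a ∈ E, ∀ b ∈ E, a * b = b * a)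
    (hinj : ∀ e ∈ E, e ≠ 0 → Function.Injective e)
    (hcardE : Nat.card E = Fintype.card K) :
    ∃ g : (Module.End F K)ˣ, ∀ e ∈ E, ∃ k : K,
      e * (g : Module.End F K) = (g : Module.End F K) * Algebra.lmul F K k := by
  classical
  letI : CommRing E :=
    { (inferInstance : Ring E) with mul_comm := fun a b => Subtype.ext (hcomm a a.2 b b.2) }
  haveI : Nontrivial E := ⟨⟨0, 1, fun h => by
    have h1 := congrArg (fun e : E => (e : Module.End F K)) h
    simp only [ZeroMemClass.coe_zero, OneMemClass.coe_one] at h1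
    exact zero_ne_one h1⟩⟩
  haveI : NoZeroDivisors E := ⟨by
    intro a b hab
    by_cases ha : a = 0
    · exact Or.inl ha
    · right
      have ha' : (a : Module.End F K) ≠ 0 := fun h => ha (Subtype.ext h)
      have hi := hinj a a.2 ha'
      apply Subtype.ext
      ext w
      have h1 := congrArg (fun e : E => (e : Module.End F K) w) hab
      simp only [MulMemClass.coe_mul, Module.End.mul_apply, ZeroMemClass.coe_zero,
        LinearMap.zero_apply] at h1
      have h2 : (a : Module.End F K) ((b : Module.End F K) w) = (a : Module.End F K) 0 := by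
        rw [h1, map_zero]
      exact hi h2⟩
  haveI : IsDomain E := NoZeroDivisors.to_isDomain E
  haveI : Finite (Module.End F K) := DFunLike.finite _
  haveI : Finite E := Finite.of_injective (fun e : E => (e : Module.End F K)) Subtype.val_injective
  letI : Fintype E := Fintype.ofFinite E
  letI : Field E := Fintype.fieldOfDomain E
  obtain ⟨g, φ, hg⟩ := conj_aux (F := F) (K := K) (E := E) E.val
    (by rw [← Nat.card_eq_fintype_card]; exact hcardE)
  refine ⟨g, fun e he => ⟨φ.symm ⟨e, he⟩, ?_⟩⟩
  have := hg (φ.symm ⟨e, he⟩)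
  rw [AlgEquiv.apply_symm_apply] at this
  exact this

theorem exists_conj {K : Type*} [Field K] [Fintype K] [Algebra F K] {r n : ℕ}
    (hr : r.Prime) (hrq : ¬ r ∣ Fintype.card F)
    (hprim : ∀ k : ℕ, 0 < k → k < n → ¬ r ∣ Fintype.card F ^ k - 1)
    (hn : Module.finrank F K = n) (hrdvd : r ∣ Fintype.card K - 1)
    (U : Subgroup (Module.End F K)ˣ) (hU : IsMulCommutative U)
    (hcard : Nat.card U = Fintype.card K - 1) :
    ∃ g : (Module.End F K)ˣ, U.map (MulAut.conj g).toMonoidHom =
      (Units.map ((Algebra.lmul F K : K →ₐ[F] Module.End F K) : K →* Module.End F K)).range := by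
  classical
  have := Fact.mk hr
  haveI hfinA : Finite (Module.End F K) := DFunLike.finite _
  haveI hfinAu : Finite (Module.End F K)ˣ := inferInstance
  haveI hfinU : Finite U := inferInstance
  obtain ⟨x, hx⟩ := exists_prime_orderOf_dvd_card' (G := U) r (hcard ▸ hrdvd)
  set xv : Module.End F K := ((x : (Module.End F K)ˣ) : Module.End F K) with hxv
  have hxr : xv ^ r = 1 := by
    have h1 : x ^ r = 1 := hx ▸ pow_orderOf_eq_one x
    have h2 := congrArg (fun u : U => ((u : (Module.End F K)ˣ) : Module.End F K)) h1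
    simpa using h2
  have hx1 : xv ≠ 1 := by
    intro h
    have h1 : x = 1 := by
      apply Subtype.ext
      apply Units.ext
      exact h
    rw [h1, orderOf_one] at hx
    exact hr.one_lt.ne hx
  -- the algebra generated by `U`
  let S : Set (Module.End F K) :=
    (fun u : (Module.End F K)ˣ => (u : Module.End F K)) '' (U : Set (Module.End F K)ˣ)
  have hScomm : ∀ a ∈ S, ∀ b ∈ S, a * b = b * a := by
    rintro _ ⟨u, hu, rfl⟩ _ ⟨v, hv, rfl⟩
    have h1 : (⟨u, hu⟩ : U) * ⟨v, hv⟩ = ⟨v, hv⟩ * ⟨u, hu⟩ := mul_comm' _ _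
    have h2 := congrArg (fun w : U => ((w : (Module.End F K)ˣ) : Module.End F K)) h1
    simpa using h2
  let E : Subalgebra F (Module.End F K) := Algebra.adjoin F S
  have hUE : ∀ u ∈ U, ((u : (Module.End F K)ˣ) : Module.End F K) ∈ E :=
    fun u hu => Algebra.subset_adjoin ⟨u, hu, rfl⟩
  have hEcommI : IsMulCommutative E := Algebra.isMulCommutative_adjoin F hScomm
  have hEcomm : ∀ a ∈ E, ∀ b ∈ E, a * b = b * a := by
    intro a ha b hb
    have h1 : (⟨a, ha⟩ : E) * ⟨b, hb⟩ = ⟨b, hb⟩ * ⟨a, ha⟩ := mul_comm' _ _
    exact congrArg (fun w : E => (w : Module.End F K)) h1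
  have hxE : xv ∈ E := hUE x x.2
  -- nonzero elements are injective
  have hEinj : ∀ e ∈ E, e ≠ 0 → Function.Injective e := by
    intro e he hne
    have hinv : ∀ w ∈ LinearMap.ker e, xv w ∈ LinearMap.ker e := by
      intro w hw
      rw [LinearMap.mem_ker] at hw ⊢
      have h1 : e (xv w) = xv (e w) := by
        rw [← Module.End.mul_apply, ← Module.End.mul_apply, hEcomm e he xv hxE]
      rw [h1, hw, map_zero]
    rcases irred hr hrq hprim hn xv hxr hx1 (LinearMap.ker e) hinv with h | h
    · exact LinearMap.ker_eq_bot.1 h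
    · exact absurd (LinearMap.ker_eq_top.1 h) hne
  -- cardinality of `E`
  haveI hfinE : Finite E :=
    Finite.of_injective (fun e : E => (e : Module.End F K)) Subtype.val_injective
  have hK1 : 1 ≤ Fintype.card K := Fintype.card_pos
  have hcardE : Nat.card E = Fintype.card K := by
    apply le_antisymm
    · -- evaluation at `1`
      rw [← Nat.card_eq_fintype_card]
      apply Nat.card_le_card_of_injective (fun e : E => (e : Module.End F K) 1)
      intro e e' hee
      by_contra hne
      have hsub : ((e - e' : E) : Module.End F K) ≠ 0 := by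
        intro h
        apply hne
        apply Subtype.ext
        have : (e : Module.End F K) - (e' : Module.End F K) = 0 := by simpa using h
        exact sub_eq_zero.1 this
      have hi := hEinj _ (e - e').2 hsub
      have h0 : ((e - e' : E) : Module.End F K) 1 = ((e - e' : E) : Module.End F K) 0 := by
        simp only [AddSubgroupClass.coe_sub, LinearMap.sub_apply, map_zero]
        exact sub_eq_zero.2 hee
      exact one_ne_zero (hi h0)
    · -- `U ∪ {0}` injects into `E`
      have h1 : Nat.card (Option U) = Fintype.card K := by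
        rw [Finite.card_option, hcard]
        omega
      rw [← h1]
      apply Nat.card_le_card_of_injective
        (fun o : Option U => (Option.elim o (0 : E) (fun u => ⟨_, hUE u u.2⟩) : E))
      intro a b hab
      rcases a with _ | a <;> rcases b with _ | b
      · rfl
      · exfalso
        have h2 := congrArg (fun w : E => (w : Module.End F K)) hab
        simp only [Option.elim, ZeroMemClass.coe_zero] at h2
        exact (b : (Module.End F K)ˣ).ne_zero h2.symm
      · exfalso
        have h2 := congrArg (fun w : E => (w : Module.End F K)) hab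
        simp only [Option.elim, ZeroMemClass.coe_zero] at h2
        exact (a : (Module.End F K)ˣ).ne_zero h2
      · have h2 := congrArg (fun w : E => (w : Module.End F K)) hab
        simp only [Option.elim] at h2
        congr 1
        exact Subtype.ext (Units.ext h2)
  obtain ⟨g, hg⟩ := subalg_conj E hEcomm hEinj hcardE
  refine ⟨g⁻¹, ?_⟩
  have hle : U.map (MulAut.conj g⁻¹).toMonoidHom ≤
      (Units.map ((Algebra.lmul F K : K →ₐ[F] Module.End F K) : K →* Module.End F K)).range := by
    rintro _ ⟨u, hu, rfl⟩
    obtain ⟨k, hk⟩ := hg _ (hUE u hu)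
    have hk0 : k ≠ 0 := by
      rintro rfl
      rw [map_zero, mul_zero] at hk
      have : ((u * g : (Module.End F K)ˣ) : Module.End F K) = 0 := by
        rw [Units.val_mul]; exact hk
      exact (u * g).ne_zero this
    refine ⟨Units.mk0 k hk0, ?_⟩
    apply Units.ext
    simp only [MulEquiv.toMonoidHom_eq_coe, MonoidHom.coe_coe, MulAut.conj_apply, inv_inv,
      Units.val_mul, Units.coe_map, Units.val_mk0]
    have h3 : ((g⁻¹ : (Module.End F K)ˣ) : Module.End F K) * ((u : Module.End F K) * g) =
        ((g⁻¹ : (Module.End F K)ˣ) : Module.End F K) * (g * Algebra.lmul F K k) := by rw [hk]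
    rw [← mul_assoc, ← mul_assoc, Units.inv_mul, one_mul] at h3
    exact h3.symm
  apply Subgroup.eq_of_le_of_card_ge hle
  have hc1 : Nat.card (U.map (MulAut.conj g⁻¹).toMonoidHom) = Nat.card U :=
    Subgroup.card_map_of_injective (MulAut.conj g⁻¹).injective
  have hinjL : Function.Injective
      (Units.map ((Algebra.lmul F K : K →ₐ[F] Module.End F K) : K →* Module.End F K)) := by
    apply Units.map_injective
    intro a b hab
    have := congrArg (fun f : Module.End F K => f 1) hab
    simpa using this
  have hc2 : Nat.card (Units.map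
      ((Algebra.lmul F K : K →ₐ[F] Module.End F K) : K →* Module.End F K)).range =
      Nat.card Kˣ := Nat.card_congr (MonoidHom.ofInjective hinjL).toEquiv.symm
  rw [hc1, hc2, hcard, Nat.card_units, Nat.card_eq_fintype_card]

/-- `p^k + 1 = 2^m` forces `k = 1` -/
theorem prime_pow_add_one_eq_two_pow {p k m : ℕ} (hp : p.Prime) (hk : 0 < k)
    (h : p ^ k + 1 = 2 ^ m) : k = 1 := by
  by_contra hk1
  have hk2 : 2 ≤ k := by omega
  have hp2 : p ≠ 2 := by
    rintro rfl
    have hm : m ≠ 0 := by
      rintro rfl
      have : 1 ≤ 2 ^ k := Nat.one_le_pow _ _ (by norm_num)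
      omega
    have h1 : 2 ∣ 2 ^ m := dvd_pow_self 2 hm
    have h2 : 2 ∣ 2 ^ k := dvd_pow_self 2 (by omega)
    omega
  have hp3 : 3 ≤ p := by have := hp.two_le; omega
  obtain ⟨r, hr, hrd, hrp⟩ := Cfsg.Agent.Helper17.Zsig.zsigmondy (a := p) (n := 2 * k) (by omega)
    (by omega) (fun h => hp2 h.1) (fun h => by omega)
  have hfac : p ^ (2 * k) - 1 = (p ^ k - 1) * (p ^ k + 1) := by
    have h1 : 1 ≤ p ^ k := Nat.one_le_pow _ _ (by omega)
    obtain ⟨t, ht⟩ : ∃ t, p ^ k = t + 1 := ⟨p ^ k - 1, by omega⟩
    rw [mul_comm 2 k, pow_mul, ht]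
    have : (t + 1) ^ 2 = t * (t + 1 + 1) + 1 := by ring
    rw [this]
    simp
  rw [hfac] at hrd
  rcases (Nat.Prime.dvd_mul hr).1 hrd with h1 | h1
  · exact hrp k (by omega) (by omega) h1
  · rw [h] at h1
    have h2 : r = 2 := (Nat.prime_dvd_prime_iff_eq hr Nat.prime_two).1 (hr.dvd_of_dvd_pow h1)
    subst h2
    apply hrp 1 (by omega) (by omega)
    rw [pow_one]
    rcases hp.eq_two_or_odd with h3 | h3
    · exact absurd h3 hp2
    · omega

end Cfsg.Agent.Helper17.Singer
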