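import Mathlib
import Cfsg.Agent.Helper17.Basic
import Cfsg.Agent.Helper17.Manning
import Cfsg.Agent.Helper17.ConstStab
import Cfsg.Agent.Helper17.IrredCyclic
import Cfsg.Agent.Helper17.PrimAb
import Cfsg.Agent.Helper1.MinNormal

/-!
# Solvable extremely primitive groups (towards S3496)
-/

set_option autoImplicit false

open MulAction

namespace Cfsg.Agent.Helper17

section Orbits

variable {G : Type*} [Group G] {Ω : Type*} [MulAction G Ω] (E : ExtPrim G Ω)
include E

/-- A non-trivial subgroup `M` of `G_α` normalized by `G_α` has the same orbits as `G_α`. -/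
theorem ExtPrim.orbit_eq [Finite G] [Finite Ω] {α : Ω} {M : Subgroup G} (hM : M ≠ ⊥)
    (hMle : M ≤ stabilizer G α)
    (hMnorm : ∀ h ∈ stabilizer G α, ∀ k ∈ M, h * k * h⁻¹ ∈ M) (ω : Ω) :
    orbit M ω = orbit (stabilizer G α) ω := by
  have hMfix : ∀ ω, ω ≠ α → ∃ m ∈ M, m • ω ≠ ω := by
    intro ω hω
    by_contra hcon
    push Not at hcon
    apply hM
    rw [eq_bot_iff]
    intro m hm
    rw [Subgroup.mem_bot]
    refine E.manning hω (mem_stabilizer_iff.mp (hMle hm)) (fun g hg => ?_)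
    have h1 : g⁻¹ * m * g ∈ M := by
      have := hMnorm g⁻¹ (Subgroup.inv_mem _ (mem_stabilizer_iff.mpr hg)) m hm
      simpa using this
    have h2 := hcon _ h1
    rw [mul_smul, mul_smul, inv_smul_eq_iff] at h2
    exact h2
  apply Set.Subset.antisymm
  · rintro _ ⟨⟨m, hm⟩, rfl⟩
    exact ⟨⟨m, hMle hm⟩, rfl⟩
  · rintro _ ⟨⟨h, hh⟩, rfl⟩
    by_cases hω : ω = α
    · refine ⟨1, ?_⟩
      show (1 : M) • ω = h • ω
      rw [one_smul, hω]
      exact (mem_stabilizer_iff.mp hh).symm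
    · obtain ⟨n, hn, hnω⟩ := E.quasi α ω M hMle hMnorm (hMfix ω hω) h hh
      exact ⟨⟨n, hn⟩, hnω⟩

/-- An abelian such `M` acts semiregularly off `α`. -/
theorem ExtPrim.semiregular_of_abelian [Finite G] [Finite Ω] {α : Ω} {M : Subgroup G}
    (hM : M ≠ ⊥) (hMle : M ≤ stabilizer G α)
    (hMnorm : ∀ h ∈ stabilizer G α, ∀ k ∈ M, h * k * h⁻¹ ∈ M)
    (hab : ∀ a ∈ M, ∀ b ∈ M, a * b = b * a) {m : G} (hm : m ∈ M) {ω : Ω} (hω : ω ≠ α)
    (hfix : m • ω = ω) : m = 1 := by
  refine E.manning hω (mem_stabilizer_iff.mp (hMle hm)) (fun g hg => ?_)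
  have hmem : g • ω ∈ orbit M ω := by
    rw [E.orbit_eq hM hMle hMnorm ω]
    exact ⟨⟨g, mem_stabilizer_iff.mpr hg⟩, rfl⟩
  obtain ⟨⟨m', hm'⟩, hm'ω⟩ := hmem
  have hm'ω' : m' • ω = g • ω := hm'ω
  rw [← hm'ω', ← mul_smul, hab m hm m' hm', mul_smul, hfix]

/-- All orbits of `G_α` other than `{α}` have `|M|` points. -/
theorem ExtPrim.card_orbit_eq [Finite G] [Finite Ω] {α : Ω} {M : Subgroup G}
    (hM : M ≠ ⊥) (hMle : M ≤ stabilizer G α)
    (hMnorm : ∀ h ∈ stabilizer G α, ∀ k ∈ M, h * k * h⁻¹ ∈ M)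
    (hab : ∀ a ∈ M, ∀ b ∈ M, a * b = b * a) {ω : Ω} (hω : ω ≠ α) :
    Nat.card (orbit (stabilizer G α) ω) = Nat.card M := by
  rw [← E.orbit_eq hM hMle hMnorm ω]
  have h := card_orbitSet_mul_card_inf_stabilizer M ω
  rw [setOf_exists_mem_smul_eq] at h
  have hbot : M ⊓ stabilizer G ω = ⊥ := by
    rw [eq_bot_iff]
    intro m hm
    rw [Subgroup.mem_bot]
    exact E.semiregular_of_abelian hM hMle hMnorm hab hm.1 hω (mem_stabilizer_iff.mp hm.2)
  rw [hbot, Subgroup.card_bot, mul_one] at h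
  exact h

end Orbits

section ConjAction

variable {G : Type*} [Group G]

/-- Conjugation action of a subgroup `M` on a subgroup `N` which it normalizes. -/
@[reducible] def conjMDMA (M N : Subgroup G) (h : M ≤ Subgroup.normalizer (N : Set G)) :
    MulDistribMulAction M N where
  smul m n := ⟨(m : G) * n * (m : G)⁻¹, (Subgroup.mem_normalizer_iff.mp (h m.2) n).mp n.2⟩
  one_smul n := Subtype.ext (by show ((1 : M) : G) * n * ((1 : M) : G)⁻¹ = n; simp)
  mul_smul a b n := Subtype.ext (by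
    show ((a * b : M) : G) * n * ((a * b : M) : G)⁻¹ = (a : G) * ((b : G) * n * (b : G)⁻¹) * (a : G)⁻¹
    simp [mul_assoc])
  smul_mul a n n' := Subtype.ext (by
    show (a : G) * ((n * n' : N) : G) * (a : G)⁻¹ =
      ((a : G) * n * (a : G)⁻¹) * ((a : G) * n' * (a : G)⁻¹)
    simp [mul_assoc])
  smul_one a := Subtype.ext (by show (a : G) * ((1 : N) : G) * (a : G)⁻¹ = 1; simp)

lemma conjMDMA_smul_coe (M N : Subgroup G) (h : M ≤ Subgroup.normalizer (N : Set G)) (m : M)
    (n : N) : ((letI := conjMDMA M N h; m • n : N) : G) = (m : G) * n * (m : G)⁻¹ := rfl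

end ConjAction

section AdditiveAction

/-- The additive version of a multiplicative distributive action. -/
@[reducible] def additiveDMA (P A : Type*) [Monoid P] [Monoid A] [MulDistribMulAction P A] :
    DistribMulAction P (Additive A) where
  smul m a := Additive.ofMul (m • Additive.toMul a)
  one_smul a := by show Additive.ofMul ((1 : P) • Additive.toMul a) = a; rw [one_smul]; rfl
  mul_smul m m' a := by
    show Additive.ofMul ((m * m') • Additive.toMul a) =
      Additive.ofMul (m • Additive.toMul (Additive.ofMul (m' • Additive.toMul a)))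
    rw [mul_smul]; rfl
  smul_zero m := by
    show Additive.ofMul (m • (1 : A)) = 0
    rw [smul_one]; rfl
  smul_add m a b := by
    show Additive.ofMul (m • (Additive.toMul a * Additive.toMul b)) =
      Additive.ofMul (m • Additive.toMul a) + Additive.ofMul (m • Additive.toMul b)
    rw [smul_mul']; rfl

/-- An abelian group of prime exponent `q` acting fixed-point-freely by automorphisms on a
non-trivial abelian group without `q`-torsion has order `q`. -/
theorem card_eq_prime_of_fpf {P A : Type*} [Group P] [Finite P] [CommGroup A]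
    [MulDistribMulAction P A] {q : ℕ} [Fact q.Prime] (hPab : ∀ a b : P, a * b = b * a)
    (hPexp : ∀ a : P, a ^ q = 1) [Nontrivial P]
    (hfpf : ∀ m : P, m ≠ 1 → ∀ n : A, m • n = n → n = 1)
    (hA : ∃ n : A, n ≠ 1) (hAq : ∀ n : A, n ^ q = 1 → n = 1) : Nat.card P = q := by
  classical
  have hq : q.Prime := Fact.out
  letI : DistribMulAction P (Additive A) := additiveDMA P A
  have hsm : ∀ (m : P) (a : Additive A), m • a = Additive.ofMul (m • Additive.toMul a) :=
    fun m a => rfl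
  have hfpf' : ∀ m : P, m ≠ 1 → ∀ a : Additive A, m • a = a → a = 0 := by
    intro m hm a ha
    have := hfpf m hm (Additive.toMul a) (by
      have h := congrArg Additive.toMul ha
      rw [hsm] at h
      exact h)
    exact congrArg Additive.ofMul this
  obtain ⟨z, hz1⟩ := exists_ne (1 : P)
  have hzo : orderOf z = q := orderOf_eq_prime (hPexp z) hz1
  by_contra hcard
  have hne : Subgroup.zpowers z ≠ ⊤ := by
    intro h
    apply hcard
    rw [← hzo, ← Nat.card_zpowers, h, Subgroup.card_top]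
  obtain ⟨x, hx⟩ : ∃ x : P, x ∉ Subgroup.zpowers z := by
    by_contra hcon
    push Not at hcon
    exact hne (Subgroup.eq_top_iff' _ |>.mpr hcon)
  haveI : Fintype (Subgroup.zpowers z) := Fintype.ofFinite _
  have hzc : z ∈ Subgroup.center P := Subgroup.mem_center_iff.mpr (fun g => hPab g z)
  obtain ⟨n, hn⟩ := hA
  have key := sum_trN_coset (p := q) (x := x) hzc hzo (hfpf' z hz1) (Additive.ofMul n)
  have hterm : ∀ w : Subgroup.zpowers z, trNHom q (x * (w : P)) (Additive.ofMul n) = 0 := by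
    intro w
    have hxw : x * (w : P) ≠ 1 := by
      intro h
      apply hx
      have : x = (w : P)⁻¹ := eq_inv_of_mul_eq_one_left h
      rw [this]; exact inv_mem w.2
    exact hfpf' _ hxw _ (smul_trN (hPexp _) _)
  rw [Finset.sum_eq_zero (fun w _ => hterm w)] at key
  apply hn
  apply hAq
  have := congrArg Additive.toMul key.symm
  rw [toMul_nsmul, toMul_ofMul, toMul_zero] at this
  exact this

end AdditiveAction

section Linear

open scoped IsMulCommutative

variable {G : Type*} [Group G] (N : Subgroup G) [hNn : N.Normal] [hNc : IsMulCommutative N]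
  (p : ℕ) [Fact p.Prime] [Module (ZMod p) (Additive N)]

omit hNn [Fact p.Prime] [Module (ZMod p) (Additive N)] in
/-- The `ZMod p`-module structure on `Additive N` for `N` of exponent `p`. -/
@[reducible] def modOfExp (h : ∀ n ∈ N, n ^ p = 1) : Module (ZMod p) (Additive N) :=
  AddCommGroup.zmodModule (fun x => by
    have : x = Additive.ofMul (Additive.toMul x) := rfl
    rw [this, ← ofMul_pow]
    have h1 : (Additive.toMul x) ^ p = 1 := Subtype.ext (by
      rw [Subgroup.coe_pow]; exact h _ (Additive.toMul x).2)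
    rw [h1]; rfl)

/-- conjugation on `N` as linear automorphisms of `Additive N`. -/
noncomputable def conjLin : G →* (Additive N ≃ₗ[ZMod p] Additive N) :=
  (mulAutToLin p N).comp MulAut.conjNormal

/-- conjugation on `N` as linear endomorphisms of `Additive N`. -/
noncomputable def conjEnd : G →* Module.End (ZMod p) (Additive N) :=
  (LinearEquiv.automorphismGroup.toLinearMapMonoidHom).comp (conjLin N p)

lemma conjEnd_apply_coe (g : G) (a : Additive N) :
    ((Additive.toMul (conjEnd N p g a) : N) : G) = g * (Additive.toMul a : N) * g⁻¹ := rfl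

lemma conjLin_coe (g : G) : ((conjLin N p g : Additive N ≃ₗ[ZMod p] Additive N) :
    Module.End (ZMod p) (Additive N)) = conjEnd N p g := rfl

lemma conjEnd_ofMul (g : G) (n : G) (hn : n ∈ N) :
    conjEnd N p g (Additive.ofMul (⟨n, hn⟩ : N)) =
      Additive.ofMul (⟨g * n * g⁻¹, hNn.conj_mem n hn g⟩ : N) := rfl

theorem irredEnd_of_no_invariant (t : G)
    (hirr : ∀ L : Subgroup G, L ≤ N → (∀ l ∈ L, t * l * t⁻¹ ∈ L) → L = ⊥ ∨ L = N) :
    IrredEnd (conjEnd N p t) := by
  intro W hW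
  let L : Subgroup G :=
    { carrier := {g | ∃ h : g ∈ N, Additive.ofMul (⟨g, h⟩ : N) ∈ W}
      mul_mem' := by
        rintro a b ⟨ha, haW⟩ ⟨hb, hbW⟩
        refine ⟨N.mul_mem ha hb, ?_⟩
        have : Additive.ofMul (⟨a * b, N.mul_mem ha hb⟩ : N) =
            Additive.ofMul (⟨a, ha⟩ : N) + Additive.ofMul (⟨b, hb⟩ : N) := rfl
        rw [this]; exact W.add_mem haW hbW
      one_mem' := ⟨N.one_mem, W.zero_mem⟩
      inv_mem' := by
        rintro a ⟨ha, haW⟩
        refine ⟨N.inv_mem ha, ?_⟩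
        have : Additive.ofMul (⟨a⁻¹, N.inv_mem ha⟩ : N) = - Additive.ofMul (⟨a, ha⟩ : N) := rfl
        rw [this]; exact W.neg_mem haW }
  have hLmem : ∀ g, g ∈ L ↔ ∃ h : g ∈ N, Additive.ofMul (⟨g, h⟩ : N) ∈ W := fun g => Iff.rfl
  have hLN : L ≤ N := fun g hg => hg.1
  have hLt : ∀ l ∈ L, t * l * t⁻¹ ∈ L := by
    rintro l ⟨hl, hlW⟩
    refine ⟨hNn.conj_mem l hl t, ?_⟩
    rw [← conjEnd_ofMul N p t l hl]
    exact hW _ hlW
  rcases hirr L hLN hLt with h | h
  · left
    rw [eq_bot_iff]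
    intro w hw
    rw [Submodule.mem_bot]
    have hmem : ((Additive.toMul w : N) : G) ∈ L := ⟨(Additive.toMul w : N).2, hw⟩
    rw [h, Subgroup.mem_bot] at hmem
    have h1 : (Additive.toMul w : N) = 1 := Subtype.ext hmem
    exact congrArg Additive.ofMul h1
  · right
    rw [eq_top_iff]
    intro a _
    have hmem : ((Additive.toMul a : N) : G) ∈ L := by rw [h]; exact (Additive.toMul a : N).2
    obtain ⟨_, h2⟩ := hmem
    exact h2

lemma conj_conjEnd {h t : G} {m : ℕ} (hm : h * t * h⁻¹ = t ^ m) :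
    (conjLin N p h).conj (conjEnd N p t) = (conjEnd N p t) ^ m := by
  rw [← map_pow, ← hm, map_mul, map_mul]
  rw [LinearEquiv.conj_apply]
  have h1 : ((conjLin N p h).symm : Additive N →ₗ[ZMod p] Additive N) = conjEnd N p h⁻¹ := by
    rw [← conjLin_coe, map_inv]; rfl
  rw [h1]
  rfl

lemma conjEnd_eq_one_iff (c : G) :
    conjEnd N p c = 1 ↔ ∀ n ∈ N, c * n * c⁻¹ = n := by
  constructor
  · intro h n hn
    have h1 := congrArg (fun f : Module.End (ZMod p) (Additive N) =>
      ((Additive.toMul (f (Additive.ofMul (⟨n, hn⟩ : N))) : N) : G)) h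
    exact h1
  · intro h
    refine LinearMap.ext (fun a => ?_)
    show conjEnd N p c a = a
    have h1 : ((Additive.toMul (conjEnd N p c a) : N) : G) = ((Additive.toMul a : N) : G) := by
      rw [conjEnd_apply_coe]; exact h _ (Additive.toMul a : N).2
    exact congrArg Additive.ofMul (Subtype.ext h1)

end Linear

section Normalizer

lemma zpowers_le_normalizer_of_conj_mem {G : Type*} [Group G] {t : G} {q : ℕ} (hq : 0 < q)
    (ht : t ^ q = 1) (L : Subgroup G) (h : ∀ l ∈ L, t * l * t⁻¹ ∈ L) :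
    Subgroup.zpowers t ≤ Subgroup.normalizer (L : Set G) := by
  rw [Subgroup.zpowers_le, Subgroup.mem_normalizer_iff]
  have hk : ∀ k : ℕ, ∀ l ∈ L, t ^ k * l * (t ^ k)⁻¹ ∈ L := by
    intro k
    induction k with
    | zero => intro l hl; simpa using hl
    | succ k ih =>
      intro l hl
      have := h _ (ih l hl)
      have e : t ^ (k + 1) * l * (t ^ (k + 1))⁻¹ = t * (t ^ k * l * (t ^ k)⁻¹) * t⁻¹ := by
        rw [pow_succ']; group
      rw [e]; exact this
  intro x
  refine ⟨h x, fun hx => ?_⟩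
  have h1 := hk (q - 1) _ hx
  have h2 : t ^ (q - 1) * t = 1 := by rw [← pow_succ, Nat.sub_add_cancel hq, ht]
  have e : t ^ (q - 1) * (t * x * t⁻¹) * (t ^ (q - 1))⁻¹ = x := by
    have h3 : (t ^ (q - 1))⁻¹ = t := by
      rw [inv_eq_iff_eq_inv, eq_inv_iff_mul_eq_one, h2]
    rw [h3]
    calc t ^ (q - 1) * (t * x * t⁻¹) * t = (t ^ (q - 1) * t) * x * (t⁻¹ * t) := by group
      _ = x := by rw [h2, inv_mul_cancel, one_mul, mul_one]
  rw [e] at h1
  exact h1

end Normalizer

section Setup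

/-- Hypotheses bundle for the solvable extremely primitive case. -/
structure SolvSetup (G : Type*) (Ω : Type*) [Group G] [MulAction G Ω] (N M : Subgroup G) (α : Ω)
    (p d q : ℕ) : Prop where
  E : ExtPrim G Ω
  Nnormal : N.Normal
  Nab : ∀ a ∈ N, ∀ b ∈ N, a * b = b * a
  Nexp : ∀ n ∈ N, n ^ p = 1
  Nreg : ∀ n ∈ N, ∀ ω : Ω, n • ω = ω → n = 1
  Ntr : ∀ x y : Ω, ∃ n ∈ N, n • x = y
  Ncard : Nat.card N = p ^ d
  Ωcard : Nat.card Ω = p ^ d
  Mne : M ≠ ⊥
  Mle : M ≤ stabilizer G α
  Mnorm : ∀ h ∈ stabilizer G α, ∀ k ∈ M, h * k * h⁻¹ ∈ M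
  Mab : ∀ a ∈ M, ∀ b ∈ M, a * b = b * a
  Mexp : ∀ m ∈ M, m ^ q = 1
  irr : ∀ L : Subgroup G, L ≤ N → M ≤ Subgroup.normalizer (L : Set G) → L = ⊥ ∨ L = N

variable {G : Type*} {Ω : Type*} [Group G] [MulAction G Ω] [Finite G] [Finite Ω]
  {N M : Subgroup G} {α : Ω} {p d q : ℕ} [hpF : Fact p.Prime] [hqF : Fact q.Prime]

namespace SolvSetup

variable (S : SolvSetup G Ω N M α p d q)
include S

lemma semireg {m : G} (hm : m ∈ M) {ω : Ω} (hω : ω ≠ α) (hfix : m • ω = ω) : m = 1 :=
  S.E.semiregular_of_abelian S.Mne S.Mle S.Mnorm S.Mab hm hω hfix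

lemma exists_ne : ∃ ω : Ω, ω ≠ α := by
  by_contra hcon
  push Not at hcon
  apply S.Mne
  rw [eq_bot_iff]
  intro m _
  rw [Subgroup.mem_bot]
  apply S.E.faith
  intro x
  rw [hcon x, hcon (m • α)]

lemma d_pos : 0 < d := by
  rcases Nat.eq_zero_or_pos d with h | h
  · exfalso
    obtain ⟨ω, hω⟩ := S.exists_ne
    have h1 := S.Ωcard
    rw [h, pow_zero, Nat.card_eq_one_iff_unique] at h1
    exact hω (h1.1.elim _ _)
  · exact h

/-- `M` acts fixed-point-freely on `N`. -/
lemma fpf {m : G} (hm : m ∈ M) (hm1 : m ≠ 1) {n : G} (hn : n ∈ N) (h : m * n * m⁻¹ = n) :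
    n = 1 := by
  have hmα : m • α = α := mem_stabilizer_iff.mp (S.Mle hm)
  have h1 : m • (n • α) = n • α := by
    have : m * n = n * m := by
      calc m * n = (m * n * m⁻¹) * m := by group
        _ = n * m := by rw [h]
    rw [← mul_smul, this, mul_smul, hmα]
  by_cases hnα : n • α = α
  · exact S.Nreg n hn α hnα
  · exact absurd (S.semireg hm hnα h1) hm1

lemma q_dvd : q ∣ p ^ d - 1 := by
  have hq : q.Prime := hqF.out
  have hMp : IsPGroup q M := by
    intro m
    refine ⟨1, ?_⟩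
    rw [pow_one]
    exact Subtype.ext (by rw [Subgroup.coe_pow]; exact S.Mexp _ m.2)
  have h1 := hMp.card_modEq_card_fixedPoints Ω
  have h2 : fixedPoints M Ω = {α} := by
    ext ω
    rw [mem_fixedPoints, Set.mem_singleton_iff]
    constructor
    · intro h
      by_contra hω
      obtain ⟨m, hm1⟩ := (Subgroup.ne_bot_iff_exists_ne_one.mp S.Mne)
      exact hm1 (Subtype.ext (S.semireg m.2 hω (h m)))
    · rintro rfl m
      exact mem_stabilizer_iff.mp (S.Mle m.2)
  rw [h2, S.Ωcard] at h1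
  have h3 : Nat.card ({α} : Set Ω) = 1 := by
    rw [Nat.card_eq_one_iff_unique]
    exact ⟨⟨fun a b => Subtype.ext (a.2.trans b.2.symm)⟩, ⟨⟨α, rfl⟩⟩⟩
  rw [h3] at h1
  exact (Nat.modEq_iff_dvd' (Nat.one_le_pow _ _ hpF.out.pos)).mp h1.symm

lemma q_ne_p : q ≠ p := by
  intro h
  have hp : p.Prime := hpF.out
  have h1 := S.q_dvd
  rw [h] at h1
  have h2 : p ∣ p ^ d := dvd_pow_self p S.d_pos.ne'
  have h3 : 1 ≤ p ^ d := Nat.one_le_pow _ _ hp.pos
  have h4 : p ∣ p ^ d - (p ^ d - 1) := Nat.dvd_sub h2 h1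
  have h5 : p ^ d - (p ^ d - 1) = 1 := by omega
  rw [h5] at h4
  exact hp.one_lt.ne' (Nat.dvd_one.mp h4)

open scoped IsMulCommutative in
/-- `M` has order `q`. -/
theorem card_M : Nat.card M = q := by
  have hq : q.Prime := hqF.out
  have hp : p.Prime := hpF.out
  haveI := S.Nnormal
  haveI : IsMulCommutative N := ⟨⟨fun a b => Subtype.ext (S.Nab a a.2 b b.2)⟩⟩
  have hle : M ≤ Subgroup.normalizer (N : Set G) := by
    rw [Subgroup.normalizer_eq_top]; exact le_top
  letI : MulDistribMulAction M N := conjMDMA M N hle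
  haveI : Nontrivial M := (Subgroup.nontrivial_iff_ne_bot M).mpr S.Mne
  refine card_eq_prime_of_fpf (P := M) (A := N) (q := q)
    (fun a b => Subtype.ext (S.Mab a a.2 b b.2))
    (fun a => Subtype.ext (by rw [Subgroup.coe_pow]; exact S.Mexp _ a.2)) ?_ ?_ ?_
  · intro m hm n hmn
    have h1 : (m : G) * n * (m : G)⁻¹ = n := congrArg Subtype.val hmn
    have h2 := S.fpf m.2 (fun h => hm (Subtype.ext h)) n.2 h1
    exact Subtype.ext h2
  · have hN1 : 1 < Nat.card N := by
      rw [S.Ncard]; exact Nat.one_lt_pow S.d_pos.ne' hp.one_lt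
    haveI : Nontrivial N := (Finite.one_lt_card_iff_nontrivial).mp hN1
    exact _root_.exists_ne (1 : N)
  · intro n hn
    have h1 : (n : G) ^ p = 1 := S.Nexp _ n.2
    have h2 : (n : G) ^ q = 1 := by rw [← Subgroup.coe_pow, hn]; rfl
    have h3 : orderOf (n : G) ∣ Nat.gcd p q :=
      Nat.dvd_gcd (orderOf_dvd_of_pow_eq_one h1) (orderOf_dvd_of_pow_eq_one h2)
    rw [(Nat.coprime_primes hp hq).mpr (Ne.symm S.q_ne_p), Nat.dvd_one, orderOf_eq_one_iff] at h3
    exact Subtype.ext h3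

lemma exists_gen : ∃ t ∈ M, t ≠ 1 ∧ t ^ q = 1 ∧ orderOf t = q ∧ Subgroup.zpowers t = M := by
  obtain ⟨m, hm1⟩ := (Subgroup.ne_bot_iff_exists_ne_one.mp S.Mne)
  have h1 : (m : G) ≠ 1 := fun h => hm1 (Subtype.ext h)
  have h2 : (m : G) ^ q = 1 := S.Mexp _ m.2
  have h3 : orderOf (m : G) = q := orderOf_eq_prime h2 h1
  refine ⟨m, m.2, h1, h2, h3, ?_⟩
  apply Subgroup.eq_of_le_of_card_ge (Subgroup.zpowers_le.mpr m.2)
  rw [S.card_M, Nat.card_zpowers, h3]

open scoped IsMulCommutative in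
lemma irredEnd [N.Normal] [IsMulCommutative N] [Module (ZMod p) (Additive N)] {t : G}
    (htq : t ^ q = 1) (hgen : Subgroup.zpowers t = M) : IrredEnd (conjEnd N p t) := by
  apply irredEnd_of_no_invariant
  intro L hLN hLt
  apply S.irr L hLN
  rw [← hgen]
  exact zpowers_le_normalizer_of_conj_mem hqF.out.pos htq L hLt

open scoped IsMulCommutative in
lemma prim_div_aux [N.Normal] [IsMulCommutative N] [Module (ZMod p) (Additive N)] {i : ℕ}
    (hi0 : 0 < i) (hid : i < d) : ¬ q ∣ p ^ i - 1 := by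
  intro hqi
  obtain ⟨t, htM, ht1, htq, hto, hgen⟩ := S.exists_gen
  have hirr := S.irredEnd htq hgen
  have hfin : Finite (Additive N) := inferInstanceAs (Finite N)
  have hN1 : 1 < Nat.card N := by
    rw [S.Ncard]; exact Nat.one_lt_pow S.d_pos.ne' hpF.out.one_lt
  haveI : Nontrivial N := (Finite.one_lt_card_iff_nontrivial).mp hN1
  have hnt : Nontrivial (Additive N) := inferInstanceAs (Nontrivial N)
  have hτq : (conjEnd N p t) ^ q = 1 := by rw [← map_pow, htq, map_one]
  have hcard : Nat.card (Additive N) = p ^ d := S.Ncard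
  exact not_dvd_of_irred hirr hτq hcard hi0 hid hqi

open scoped IsMulCommutative in
theorem prim_div {i : ℕ} (hi0 : 0 < i) (hid : i < d) : ¬ q ∣ p ^ i - 1 := by
  haveI := S.Nnormal
  haveI : IsMulCommutative N := ⟨⟨fun a b => Subtype.ext (S.Nab a a.2 b b.2)⟩⟩
  letI : Module (ZMod p) (Additive N) := modOfExp N p S.Nexp
  exact S.prim_div_aux hi0 hid

open scoped IsMulCommutative in
lemma centralizer_semireg_aux [N.Normal] [IsMulCommutative N] [Module (ZMod p) (Additive N)]
    {t : G} (htq : t ^ q = 1) (hgen : Subgroup.zpowers t = M) {c : G}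
    (hc : c • α = α) (hct : c * t = t * c) {ω : Ω} (hω : ω ≠ α) (hfix : c • ω = ω) : c = 1 := by
  have hirr := S.irredEnd htq hgen
  obtain ⟨n, hn, hnα⟩ := S.Ntr α ω
  have hn1 : n ≠ 1 := by
    rintro rfl
    rw [one_smul] at hnα
    exact hω hnα.symm
  have hcn : c * n * c⁻¹ = n := by
    have h1 : (n⁻¹ * (c * n * c⁻¹)) • α = α := by
      have hc' : c⁻¹ • α = α := by rw [inv_smul_eq_iff, hc]
      rw [mul_smul, mul_smul, mul_smul, hc', hnα, hfix, ← hnα, inv_smul_smul]
    have h2 := S.Nreg _ (N.mul_mem (N.inv_mem hn) (S.Nnormal.conj_mem n hn c)) α h1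
    rw [inv_mul_eq_one] at h2
    exact h2.symm
  have hcomm : conjEnd N p c * conjEnd N p t = conjEnd N p t * conjEnd N p c := by
    rw [← map_mul, ← map_mul, hct]
  have hv : Additive.ofMul (⟨n, hn⟩ : N) ≠ 0 := by
    intro h
    apply hn1
    have h1 : (⟨n, hn⟩ : N) = 1 := h
    exact congrArg Subtype.val h1
  have hcv : conjEnd N p c (Additive.ofMul (⟨n, hn⟩ : N)) = Additive.ofMul (⟨n, hn⟩ : N) := by
    rw [conjEnd_ofMul]
    exact congrArg Additive.ofMul (Subtype.ext hcn)
  have h1 := eq_one_of_commute_of_fixed hirr hcomm hv hcv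
  rw [conjEnd_eq_one_iff] at h1
  apply S.E.faith
  intro x
  obtain ⟨n', hn', rfl⟩ := S.Ntr α x
  have h2 : c * n' = n' * c := by
    calc c * n' = (c * n' * c⁻¹) * c := by group
      _ = n' * c := by rw [h1 n' hn']
  rw [← mul_smul, h2, mul_smul, hc]

open scoped IsMulCommutative in
/-- The centralizer of `M` in `G_α` acts semiregularly off `α`. -/
lemma centralizer_semireg {t : G} (htq : t ^ q = 1) (hgen : Subgroup.zpowers t = M) {c : G}
    (hc : c • α = α) (hct : c * t = t * c) {ω : Ω} (hω : ω ≠ α) (hfix : c • ω = ω) : c = 1 := by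
  haveI := S.Nnormal
  haveI : IsMulCommutative N := ⟨⟨fun a b => Subtype.ext (S.Nab a a.2 b b.2)⟩⟩
  letI : Module (ZMod p) (Additive N) := modOfExp N p S.Nexp
  exact S.centralizer_semireg_aux htq hgen hc hct hω hfix

/-- `C_{G_α}(M) = M`. -/
theorem centralizer_le {t : G} (htq : t ^ q = 1) (hgen : Subgroup.zpowers t = M) {c : G}
    (hc : c • α = α) (hct : c * t = t * c) : c ∈ M := by
  obtain ⟨ω, hω⟩ := S.exists_ne
  let C : Subgroup G := stabilizer G α ⊓ Subgroup.centralizer {t}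
  have hCmem : ∀ x, x ∈ C ↔ x • α = α ∧ x * t = t * x := by
    intro x
    show x ∈ stabilizer G α ⊓ Subgroup.centralizer {t} ↔ _
    rw [Subgroup.mem_inf, mem_stabilizer_iff, Subgroup.mem_centralizer_singleton_iff]
  have hMC : M ≤ C := by
    intro m hm
    rw [hCmem]
    refine ⟨mem_stabilizer_iff.mp (S.Mle hm), ?_⟩
    have htM : t ∈ M := by rw [← hgen]; exact Subgroup.mem_zpowers t
    exact S.Mab m hm t htM
  have hbot : C ⊓ stabilizer G ω = ⊥ := by
    rw [eq_bot_iff]
    intro x hx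
    rw [Subgroup.mem_bot]
    have h1 := (hCmem x).mp hx.1
    exact S.centralizer_semireg htq hgen h1.1 h1.2 hω (mem_stabilizer_iff.mp hx.2)
  have h1 := card_orbitSet_mul_card_inf_stabilizer C ω
  rw [hbot, Subgroup.card_bot, mul_one, setOf_exists_mem_smul_eq] at h1
  have h2 : Nat.card (orbit C ω) ≤ Nat.card (orbit (stabilizer G α) ω) := by
    apply Nat.card_mono (Set.toFinite _)
    rintro _ ⟨⟨x, hx⟩, rfl⟩
    exact ⟨⟨x, hx.1⟩, rfl⟩
  rw [S.E.card_orbit_eq S.Mne S.Mle S.Mnorm S.Mab hω, h1] at h2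
  have h3 := Subgroup.eq_of_le_of_card_ge hMC h2
  rw [h3, hCmem]
  exact ⟨hc, hct⟩

open scoped IsMulCommutative in
lemma conj_exponent_aux [N.Normal] [IsMulCommutative N] [Module (ZMod p) (Additive N)]
    {t : G} (htM : t ∈ M) (ht1 : t ≠ 1) (htq : t ^ q = 1) (hgen : Subgroup.zpowers t = M) {h : G}
    {m : ℕ} (hm : h * t * h⁻¹ = t ^ m) : ∃ j : ℕ, (m : ZMod q) = (p : ZMod q) ^ j := by
  have hirr := S.irredEnd htq hgen
  have hfin : Finite (Additive N) := inferInstanceAs (Finite N)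
  have hN1 : 1 < Nat.card N := by
    rw [S.Ncard]; exact Nat.one_lt_pow S.d_pos.ne' hpF.out.one_lt
  haveI : Nontrivial N := (Finite.one_lt_card_iff_nontrivial).mp hN1
  have hnt : Nontrivial (Additive N) := inferInstanceAs (Nontrivial N)
  have hτq : (conjEnd N p t) ^ q = 1 := by rw [← map_pow, htq, map_one]
  have hτ1 : conjEnd N p t ≠ 1 := by
    intro h1
    rw [conjEnd_eq_one_iff] at h1
    obtain ⟨n, hn⟩ := _root_.exists_ne (1 : N)
    apply hn
    exact Subtype.ext (S.fpf htM ht1 n.2 (h1 n n.2))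
  have hcard : Nat.card (Additive N) = p ^ d := S.Ncard
  exact pow_conj_of_irred hirr hqF.out hτq hτ1 hcard S.q_dvd (conjLin N p h)
    (conj_conjEnd N p hm)

open scoped IsMulCommutative in
lemma conj_exponent {t : G} (htM : t ∈ M) (ht1 : t ≠ 1) (htq : t ^ q = 1)
    (hgen : Subgroup.zpowers t = M) {h : G}
    {m : ℕ} (hm : h * t * h⁻¹ = t ^ m) : ∃ j : ℕ, (m : ZMod q) = (p : ZMod q) ^ j := by
  haveI := S.Nnormal
  haveI : IsMulCommutative N := ⟨⟨fun a b => Subtype.ext (S.Nab a a.2 b b.2)⟩⟩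
  letI : Module (ZMod p) (Additive N) := modOfExp N p S.Nexp
  exact S.conj_exponent_aux htM ht1 htq hgen hm

theorem structure_H : (∃ h : G, stabilizer G α = M ⊔ Subgroup.zpowers h) ∧
    Nat.card (stabilizer G α) ∣ q * d := by
  classical
  have hq : q.Prime := hqF.out
  have hp : p.Prime := hpF.out
  obtain ⟨t, htM, ht1, htq, hto, hgen⟩ := S.exists_gen
  have hnorm : stabilizer G α ≤ Subgroup.normalizer (M : Set G) := by
    intro h hh
    rw [Subgroup.mem_normalizer_iff]
    intro x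
    refine ⟨S.Mnorm h hh x, fun hx => ?_⟩
    have := S.Mnorm h⁻¹ (Subgroup.inv_mem _ hh) _ hx
    simpa [mul_assoc] using this
  letI act : MulDistribMulAction (stabilizer G α) M := conjMDMA (stabilizer G α) M hnorm
  haveI hcyc : IsCyclic M := isCyclic_of_prime_card S.card_M
  haveI : NeZero q := ⟨hq.ne_zero⟩
  haveI : Fact (1 < q) := ⟨hq.one_lt⟩
  let φ : stabilizer G α →* ZMod q :=
    MulDistribMulAction.toMonoidHomZModOfIsCyclic M (stabilizer G α) S.card_M
  have F1 : ∀ h : stabilizer G α, (h : G) * t * (h : G)⁻¹ = t ^ (φ h).val := by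
    intro h
    have h1 := MulDistribMulAction.toMonoidHomZModOfIsCyclic_apply S.card_M h
      (⟨t, htM⟩ : M) ((φ h).val : ℤ) (by
        show φ h = _
        rw [Int.cast_natCast, ZMod.natCast_zmod_val])
    have h2 := congrArg Subtype.val h1
    rw [zpow_natCast] at h2
    exact h2
  have F2 : ∀ h : stabilizer G α, ∃ j : ℕ, φ h = (p : ZMod q) ^ j := by
    intro h
    obtain ⟨j, hj⟩ := S.conj_exponent htM ht1 htq hgen (F1 h)
    rw [ZMod.natCast_zmod_val] at hj
    exact ⟨j, hj⟩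
  have F3 : ∀ h : stabilizer G α, φ h = 1 ↔ (h : G) ∈ M := by
    intro h
    constructor
    · intro h1
      have h2 := F1 h
      rw [h1, ZMod.val_one, pow_one] at h2
      apply S.centralizer_le htq hgen (mem_stabilizer_iff.mp h.2)
      calc (h : G) * t = ((h : G) * t * (h : G)⁻¹) * h := by group
        _ = t * h := by rw [h2]
    · intro hM
      have h2 := F1 h
      have h3 : (h : G) * t * (h : G)⁻¹ = t := by
        rw [S.Mab _ hM t htM, mul_inv_cancel_right]
      rw [h3] at h2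
      have h4 : t ^ 1 = t ^ (φ h).val := by rw [pow_one]; exact h2
      rw [pow_eq_pow_iff_modEq, hto] at h4
      have h5 := (ZMod.natCast_eq_natCast_iff _ _ _).mpr h4
      rw [ZMod.natCast_zmod_val, Nat.cast_one] at h5
      exact h5.symm
  let φ' : stabilizer G α →* (ZMod q)ˣ := φ.toHomUnits
  have hcop : Nat.Coprime p q := (Nat.coprime_primes hp hq).mpr (Ne.symm S.q_ne_p)
  let u : (ZMod q)ˣ := ZMod.unitOfCoprime p hcop
  have hu : ∀ j : ℕ, ((u ^ j : (ZMod q)ˣ) : ZMod q) = (p : ZMod q) ^ j := by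
    intro j
    rw [Units.val_pow_eq_pow_val, ZMod.coe_unitOfCoprime]
  have hrange : φ'.range ≤ Subgroup.zpowers u := by
    rintro _ ⟨h, rfl⟩
    obtain ⟨j, hj⟩ := F2 h
    refine ⟨j, ?_⟩
    apply Units.ext
    show ((u ^ (j : ℤ) : (ZMod q)ˣ) : ZMod q) = φ h
    rw [zpow_natCast, hu, hj]
  have hord : orderOf u = d := by
    rw [orderOf_eq_iff S.d_pos]
    constructor
    · apply Units.ext
      rw [hu, Units.val_one, ← Nat.cast_pow, ← Nat.cast_one (R := ZMod q),
        ZMod.natCast_eq_natCast_iff]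
      exact ((Nat.modEq_iff_dvd' (Nat.one_le_pow _ _ hp.pos)).mpr S.q_dvd).symm
    · intro i hid hi0 h1
      apply S.prim_div hi0 hid
      have h2 := congrArg (fun x : (ZMod q)ˣ => (x : ZMod q)) h1
      simp only [hu, Units.val_one] at h2
      rw [← Nat.cast_pow, ← Nat.cast_one (R := ZMod q), ZMod.natCast_eq_natCast_iff] at h2
      exact (Nat.modEq_iff_dvd' (Nat.one_le_pow _ _ hp.pos)).mp h2.symm
  have hker : ∀ h : stabilizer G α, h ∈ φ'.ker ↔ (h : G) ∈ M := by
    intro h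
    rw [MonoidHom.mem_ker, ← F3 h]
    constructor
    · intro h1
      have := congrArg (fun x : (ZMod q)ˣ => (x : ZMod q)) h1
      exact this
    · intro h1
      apply Units.ext
      exact h1
  have hker' : φ'.ker = M.subgroupOf (stabilizer G α) := by
    ext h
    rw [hker h, Subgroup.mem_subgroupOf]
  have hcardH : Nat.card (stabilizer G α) = q * Nat.card φ'.range := by
    rw [← Subgroup.card_mul_index φ'.ker, Subgroup.index_ker, hker', card_subgroupOf_of_le S.Mle,
      S.card_M]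
  have hdvd : Nat.card φ'.range ∣ d := by
    have := Subgroup.card_dvd_of_le hrange
    rwa [Nat.card_zpowers, hord] at this
  refine ⟨?_, ?_⟩
  · haveI : IsCyclic φ'.range := Subgroup.isCyclic_of_le hrange
    obtain ⟨y, hy⟩ := IsCyclic.exists_generator (α := φ'.range)
    obtain ⟨h₀, hh₀⟩ := y.2
    refine ⟨(h₀ : G), le_antisymm ?_ ?_⟩
    · intro g hg
      obtain ⟨k, hk⟩ := hy ⟨φ' ⟨g, hg⟩, ⟨_, rfl⟩⟩
      have hk' : φ' (h₀ ^ k) = φ' ⟨g, hg⟩ := by
        have := congrArg Subtype.val hk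
        rw [map_zpow, hh₀]
        simpa using this
      have hmem : (h₀ ^ k)⁻¹ * ⟨g, hg⟩ ∈ φ'.ker := by
        rw [MonoidHom.mem_ker, map_mul, map_inv, hk', inv_mul_cancel]
      rw [hker] at hmem
      have hg' : g = ((h₀ : G) ^ k) * (((h₀ ^ k)⁻¹ * ⟨g, hg⟩ : stabilizer G α) : G) := by
        simp
      rw [hg']
      apply Subgroup.mul_mem
      · exact Subgroup.mem_sup_right (Subgroup.zpow_mem_zpowers _ k)
      · exact Subgroup.mem_sup_left hmem
    · exact sup_le S.Mle (Subgroup.zpowers_le.mpr h₀.2)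
  · rw [hcardH]
    exact Nat.mul_dvd_mul_left q hdvd

end SolvSetup

end Setup

end Cfsg.Agent.Helper17
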