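import Mathlib

/-!
# Linear groups in which every non-zero vector has a stabilizer of order 2  (S3381)
-/

set_option autoImplicit false

namespace Cfsg.Agent.Helper17

section StabTwo

variable {q : ℕ} [Fact q.Prime] {V : Type*} [AddCommGroup V] [Module (ZMod q) V]
  {G : Type*} [Group G] (ρ : G →* (V ≃ₗ[ZMod q] V))

theorem rho_mul_apply (g h : G) (v : V) : ρ (g * h) v = ρ g (ρ h v) := by
  rw [map_mul]; rfl

theorem rho_one_apply (v : V) : ρ 1 v = v := by
  rw [map_one]; rfl

/-- Structure of a stabilizer of order two. -/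
theorem stab_two (hstab : ∀ v : V, v ≠ 0 → Nat.card {g : G // ρ g v = v} = 2) {v : V}
    (hv : v ≠ 0) :
    ∃ t : G, t ≠ 1 ∧ t * t = 1 ∧ ρ t v = v ∧ ∀ g, ρ g v = v → g = 1 ∨ g = t := by
  obtain ⟨x, y, hxy, huniv⟩ := Nat.card_eq_two_iff.mp (hstab v hv)
  have hall : ∀ g : {g : G // ρ g v = v}, g = x ∨ g = y := by
    intro g
    have : g ∈ ({x, y} : Set _) := by rw [huniv]; exact Set.mem_univ _
    simpa using this
  have h1mem : ρ 1 v = v := rho_one_apply ρ v
  -- WLOG x = 1
  have key : ∀ x y : {g : G // ρ g v = v}, x ≠ y → (∀ g, g = x ∨ g = y) → x.1 = 1 →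
      ∃ t : G, t ≠ 1 ∧ t * t = 1 ∧ ρ t v = v ∧ ∀ g, ρ g v = v → g = 1 ∨ g = t := by
    intro x y hxy hall hx1
    have hy1 : y.1 ≠ 1 := by
      intro h
      apply hxy
      exact Subtype.ext (hx1.trans h.symm)
    have hyy : ρ (y.1 * y.1) v = v := by rw [rho_mul_apply, y.2, y.2]
    refine ⟨y.1, hy1, ?_, y.2, ?_⟩
    · rcases hall ⟨y.1 * y.1, hyy⟩ with h | h
      · have := congrArg Subtype.val h
        simp only at this
        rw [this, hx1]
      · have := congrArg Subtype.val h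
        simp only at this
        exfalso; apply hy1
        exact mul_left_cancel (this.trans (mul_one _).symm)
    · intro g hg
      rcases hall ⟨g, hg⟩ with h | h
      · left
        have := congrArg Subtype.val h
        simp only at this
        rw [this, hx1]
      · right
        exact congrArg Subtype.val h
  rcases hall ⟨1, h1mem⟩ with h | h
  · exact key x y hxy hall (congrArg Subtype.val h).symm
  · exact key y x hxy.symm (fun g => (hall g).symm) (congrArg Subtype.val h).symm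

/-- A central involution acts as `-1`. -/
theorem central_invol_neg (hρ : Function.Injective ρ)
    (hstab : ∀ v : V, v ≠ 0 → Nat.card {g : G // ρ g v = v} = 2)
    {t : G} (ht1 : t ≠ 1) (htt : t * t = 1) (htc : ∀ g : G, g * t = t * g) :
    ∀ v : V, ρ t v = -v := by
  have htt' : ∀ v : V, ρ t (ρ t v) = v := by
    intro v
    rw [← rho_mul_apply, htt, rho_one_apply]
  -- pointwise dichotomy
  have hdich : ∀ v : V, ρ t v = v ∨ ρ t v = -v := by
    intro v
    by_cases hv : v = 0
    · left; rw [hv, map_zero]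
    by_cases hw : v + ρ t v = 0
    · right; exact (neg_eq_of_add_eq_zero_right hw).symm
    left
    have htw : ρ t (v + ρ t v) = v + ρ t v := by
      rw [map_add, htt', add_comm]
    obtain ⟨s, hs1, hss, hsw, hsall⟩ := stab_two ρ hstab hw
    have hts : t = s := (hsall t htw).resolve_left ht1
    obtain ⟨u, hu1, huu, huv, huall⟩ := stab_two ρ hstab hv
    have huw : ρ u (v + ρ t v) = v + ρ t v := by
      rw [map_add, huv, ← rho_mul_apply, htc u, rho_mul_apply, huv]
    have hut : u = t := by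
      rw [hts]
      exact (hsall u huw).resolve_left hu1
    rw [← hut]; exact huv
  by_contra hcon
  push Not at hcon
  obtain ⟨v0, hv0⟩ := hcon
  have hv0' : ρ t v0 = v0 := (hdich v0).resolve_right hv0
  apply ht1
  apply hρ
  rw [map_one]
  ext u
  show ρ t u = u
  rcases hdich u with h | h
  · exact h
  · rcases hdich (u + v0) with h' | h'
    · rw [map_add, hv0', h] at h'
      have : -u = u := add_right_cancel h'
      rw [h, this]
    · rw [map_add, hv0', h, neg_add] at h'
      have : v0 = -v0 := add_left_cancel h'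
      exfalso; apply hv0
      rw [hv0']; exact this

/-- The fixed space of `g`. -/
def fixSub (g : G) : Submodule (ZMod q) V :=
  LinearMap.eqLocus ((ρ g : V ≃ₗ[ZMod q] V) : V →ₗ[ZMod q] V) LinearMap.id

theorem mem_fixSub {g : G} {v : V} : v ∈ fixSub ρ g ↔ ρ g v = v := by
  rw [fixSub, LinearMap.mem_eqLocus]
  rfl

/-- Distinct non-identity elements have disjoint fixed spaces. -/
theorem fixSub_disjoint (hstab : ∀ v : V, v ≠ 0 → Nat.card {g : G // ρ g v = v} = 2) {s t : G} (hs1 : s ≠ 1) (ht1 : t ≠ 1) (hst : s ≠ t) :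
    fixSub ρ s ⊓ fixSub ρ t = ⊥ := by
  rw [eq_bot_iff]
  intro v hv
  rw [Submodule.mem_inf, mem_fixSub, mem_fixSub] at hv
  rw [Submodule.mem_bot]
  by_contra hv0
  obtain ⟨u, hu1, huu, huv, huall⟩ := stab_two ρ hstab hv0
  have h1 := (huall s hv.1).resolve_left hs1
  have h2 := (huall t hv.2).resolve_left ht1
  exact hst (h1.trans h2.symm)

theorem card_fixSub_le [Finite V] (hstab : ∀ v : V, v ≠ 0 → Nat.card {g : G // ρ g v = v} = 2) {s t : G} (hs1 : s ≠ 1) (ht1 : t ≠ 1) (hst : s ≠ t) :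
    Nat.card (fixSub ρ s) * Nat.card (fixSub ρ t) ≤ Nat.card V := by
  have hdis := fixSub_disjoint ρ hstab hs1 ht1 hst
  rw [← Nat.card_prod]
  apply Nat.card_le_card_of_injective (fun p : fixSub ρ s × fixSub ρ t => (p.1 : V) + (p.2 : V))
  rintro ⟨a, b⟩ ⟨a', b'⟩ h
  simp only at h
  have hmem : (a : V) - a' ∈ fixSub ρ s ⊓ fixSub ρ t := by
    rw [Submodule.mem_inf]
    refine ⟨Submodule.sub_mem _ a.2 a'.2, ?_⟩
    have : (a : V) - a' = b' - b := by
      rw [sub_eq_sub_iff_add_eq_add, h, add_comm]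
    rw [this]
    exact Submodule.sub_mem _ b'.2 b.2
  rw [hdis, Submodule.mem_bot, sub_eq_zero] at hmem
  have hb : (b : V) = b' := by
    rw [hmem] at h
    exact add_left_cancel h
  exact Prod.ext (Subtype.ext hmem) (Subtype.ext hb)

section WithZ

variable (hρ : Function.Injective ρ)
  (hstab : ∀ v : V, v ≠ 0 → Nat.card {g : G // ρ g v = v} = 2)
  {z : G} (hz1 : z ≠ 1) (hzz : z * z = 1) (hzc : ∀ g : G, g * z = z * g)

include hρ hstab hz1 hzz hzc

theorem two_ne_zero_of_central : (2 : ZMod q) ≠ 0 := by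
  intro h2
  apply hz1
  apply hρ
  rw [map_one]
  ext u
  show ρ z u = u
  rw [central_invol_neg ρ hρ hstab hz1 hzz hzc u]
  have : u + u = 0 := by
    rw [← two_smul (ZMod q) u, h2, zero_smul]
  exact neg_eq_of_add_eq_zero_right this

theorem neg_ne_self {v : V} (hv : v ≠ 0) : -v ≠ v := by
  intro h
  have h2 := two_ne_zero_of_central ρ hρ hstab hz1 hzz hzc
  have : (2 : ZMod q) • v = 0 := by
    rw [two_smul]
    nth_rewrite 1 [← h]
    exact neg_add_cancel v
  rcases smul_eq_zero.mp this with h' | h'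
  · exact h2 h'
  · exact hv h'

/-- An involution other than `z` has a non-zero fixed vector. -/
theorem exists_fixed_of_invol {t : G} (htt : t * t = 1) (htz : t ≠ z) :
    ∃ v : V, v ≠ 0 ∧ ρ t v = v := by
  by_contra hcon
  push Not at hcon
  apply htz
  apply hρ
  ext u
  show ρ t u = ρ z u
  rw [central_invol_neg ρ hρ hstab hz1 hzz hzc u]
  have hfix : ρ t (u + ρ t u) = u + ρ t u := by
    rw [map_add, ← rho_mul_apply, htt, rho_one_apply, add_comm]
  have : u + ρ t u = 0 := by
    by_contra h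
    exact hcon _ h hfix
  exact (neg_eq_of_add_eq_zero_right this).symm

/-- An involution other than `z` is not central. -/
theorem not_central_of_invol {t : G} (ht1 : t ≠ 1) (htt : t * t = 1) (htz : t ≠ z) :
    ¬ ∀ g : G, g * t = t * g := by
  intro htc
  apply htz
  apply hρ
  ext u
  show ρ t u = ρ z u
  rw [central_invol_neg ρ hρ hstab hz1 hzz hzc u, central_invol_neg ρ hρ hstab ht1 htt htc u]

/-- `z t` fixes exactly the vectors negated by `t`. -/
theorem mem_fixSub_zmul {t : G} {v : V} : v ∈ fixSub ρ (z * t) ↔ ρ t v = -v := by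
  rw [mem_fixSub, rho_mul_apply, central_invol_neg ρ hρ hstab hz1 hzz hzc, neg_eq_iff_eq_neg]

theorem fixSub_isCompl {t : G} (htt : t * t = 1) :
    IsCompl (fixSub ρ t) (fixSub ρ (z * t)) := by
  have h2 := two_ne_zero_of_central ρ hρ hstab hz1 hzz hzc
  have htt' : ∀ v : V, ρ t (ρ t v) = v := by
    intro v
    rw [← rho_mul_apply, htt, rho_one_apply]
  constructor
  · rw [disjoint_iff, eq_bot_iff]
    intro v hv
    rw [Submodule.mem_inf, mem_fixSub, mem_fixSub_zmul ρ hρ hstab hz1 hzz hzc] at hv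
    rw [Submodule.mem_bot]
    by_contra hv0
    exact neg_ne_self ρ hρ hstab hz1 hzz hzc hv0 (hv.2.symm.trans hv.1)
  · rw [codisjoint_iff, eq_top_iff]
    intro v _
    rw [Submodule.mem_sup]
    refine ⟨(2 : ZMod q)⁻¹ • (v + ρ t v), ?_, (2 : ZMod q)⁻¹ • (v - ρ t v), ?_, ?_⟩
    · rw [mem_fixSub, map_smul, map_add, htt', add_comm]
    · rw [mem_fixSub_zmul ρ hρ hstab hz1 hzz hzc, map_smul, map_sub, htt', ← smul_neg, neg_sub]
    · rw [← smul_add, add_add_sub_cancel, ← two_smul (ZMod q) v, smul_smul, inv_mul_cancel₀ h2,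
        one_smul]

theorem card_fixSub_mul [Finite V] {t : G} (htt : t * t = 1) :
    Nat.card (fixSub ρ t) * Nat.card (fixSub ρ (z * t)) = Nat.card V := by
  have h := fixSub_isCompl ρ hρ hstab hz1 hzz hzc htt
  rw [← Nat.card_prod]
  exact Nat.card_congr (Submodule.prodEquivOfIsCompl _ _ h).toEquiv

/-- A third involution. -/
theorem exists_third_invol {t : G} (ht1 : t ≠ 1) (htt : t * t = 1) (htz : t ≠ z) :
    ∃ s : G, s ≠ 1 ∧ s * s = 1 ∧ s ≠ z ∧ s ≠ t ∧ s ≠ z * t := by
  have hzt1 : z * t ≠ 1 := by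
    intro h
    apply htz
    have : z * t = z * z := by rw [h, hzz]
    exact mul_left_cancel this
  have hztzt : (z * t) * (z * t) = 1 := by
    rw [mul_assoc, ← mul_assoc t z t, hzc t, mul_assoc, htt, mul_one, hzz]
  have hztz : z * t ≠ z := by
    intro h
    apply ht1
    exact mul_left_cancel (h.trans (mul_one z).symm)
  obtain ⟨a, ha0, hta⟩ := exists_fixed_of_invol ρ hρ hstab hz1 hzz hzc htt htz
  obtain ⟨b, hb0, htb⟩ := exists_fixed_of_invol ρ hρ hstab hz1 hzz hzc hztzt hztz
  have htb' : ρ t b = -b := (mem_fixSub_zmul ρ hρ hstab hz1 hzz hzc).mp ((mem_fixSub ρ).mpr htb)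
  have hab : a + b ≠ 0 := by
    intro h
    have hb' : b = -a := (neg_eq_of_add_eq_zero_right h).symm
    apply neg_ne_self ρ hρ hstab hz1 hzz hzc hb0
    rw [← htb', hb', map_neg, hta]
  obtain ⟨s, hs1, hss, hsab, hsall⟩ := stab_two ρ hstab hab
  refine ⟨s, hs1, hss, ?_, ?_, ?_⟩
  · rintro rfl
    rw [central_invol_neg ρ hρ hstab hz1 hzz hzc] at hsab
    exact neg_ne_self ρ hρ hstab hz1 hzz hzc hab hsab
  · rintro rfl
    rw [map_add, hta, htb'] at hsab
    have : -b = b := add_left_cancel hsab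
    exact neg_ne_self ρ hρ hstab hz1 hzz hzc hb0 this
  · rintro rfl
    rw [map_add, htb, rho_mul_apply, hta, central_invol_neg ρ hρ hstab hz1 hzz hzc] at hsab
    have : -a = a := add_right_cancel hsab
    exact neg_ne_self ρ hρ hstab hz1 hzz hzc ha0 this

/-- Every involution other than `z` fixes exactly `√|V|` vectors. -/
theorem card_fixSub_sq [Finite V] {t : G} (ht1 : t ≠ 1) (htt : t * t = 1) (htz : t ≠ z) :
    Nat.card (fixSub ρ t) * Nat.card (fixSub ρ t) = Nat.card V := by
  obtain ⟨s, hs1, hss, hsz, hst, hszt⟩ := exists_third_invol ρ hρ hstab hz1 hzz hzc ht1 htt htz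
  have hzt1 : z * t ≠ 1 := by
    intro h
    apply htz
    have : z * t = z * z := by rw [h, hzz]
    exact mul_left_cancel this
  have hzs1 : z * s ≠ 1 := by
    intro h
    apply hsz
    have : z * s = z * z := by rw [h, hzz]
    exact mul_left_cancel this
  have hzszt : z * s ≠ z * t := fun h => hst (mul_left_cancel h)
  have hzst : z * s ≠ t := by
    intro h
    apply hszt
    rw [← h, ← mul_assoc, hzz, one_mul]
  -- notation
  obtain ⟨ct, hct⟩ : ∃ n, n = Nat.card (fixSub ρ t) := ⟨_, rfl⟩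
  obtain ⟨czt, hczt⟩ : ∃ n, n = Nat.card (fixSub ρ (z * t)) := ⟨_, rfl⟩
  obtain ⟨cs, hcs⟩ : ∃ n, n = Nat.card (fixSub ρ s) := ⟨_, rfl⟩
  obtain ⟨czs, hczs⟩ : ∃ n, n = Nat.card (fixSub ρ (z * s)) := ⟨_, rfl⟩
  obtain ⟨n, hn⟩ : ∃ n, n = Nat.card V := ⟨_, rfl⟩
  have e1 : ct * czt = n := by
    rw [hct, hczt, hn]; exact card_fixSub_mul ρ hρ hstab hz1 hzz hzc htt
  have e2 : cs * czs = n := by
    rw [hcs, hczs, hn]; exact card_fixSub_mul ρ hρ hstab hz1 hzz hzc hss
  have i1 : cs * ct ≤ n := by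
    rw [hcs, hct, hn]; exact card_fixSub_le ρ hstab hs1 ht1 hst
  have i2 : czs * czt ≤ n := by
    rw [hczs, hczt, hn]; exact card_fixSub_le ρ hstab hzs1 hzt1 hzszt
  have i3 : cs * czt ≤ n := by
    rw [hcs, hczt, hn]; exact card_fixSub_le ρ hstab hs1 hzt1 hszt
  have i4 : czs * ct ≤ n := by
    rw [hczs, hct, hn]; exact card_fixSub_le ρ hstab hzs1 ht1 hzst
  have hnpos : 0 < n := by rw [hn]; exact Nat.card_pos
  have hctpos : 0 < ct := by rw [hct]; exact Nat.card_pos
  have hcztpos : 0 < czt := by rw [hczt]; exact Nat.card_pos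
  have hcspos : 0 < cs := by rw [hcs]; exact Nat.card_pos
  have hczspos : 0 < czs := by rw [hczs]; exact Nat.card_pos
  rw [← hct, ← hn]
  -- cs * ct = n: otherwise (cs*ct)*(czs*czt) < n*n
  have k1 : cs * ct = n := by
    by_contra hne
    have hlt : cs * ct < n := lt_of_le_of_ne i1 hne
    have : (cs * ct) * (czs * czt) < n * n := by
      calc (cs * ct) * (czs * czt) < n * (czs * czt) :=
            Nat.mul_lt_mul_of_pos_right hlt (Nat.mul_pos hczspos hcztpos)
        _ ≤ n * n := Nat.mul_le_mul_left _ i2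
    have h' : (cs * ct) * (czs * czt) = n * n := by
      calc (cs * ct) * (czs * czt) = (ct * czt) * (cs * czs) := by ring
        _ = n * n := by rw [e1, e2]
    omega
  have k3 : cs * czt = n := by
    by_contra hne
    have hlt : cs * czt < n := lt_of_le_of_ne i3 hne
    have : (cs * czt) * (czs * ct) < n * n := by
      calc (cs * czt) * (czs * ct) < n * (czs * ct) :=
            Nat.mul_lt_mul_of_pos_right hlt (Nat.mul_pos hczspos hctpos)
        _ ≤ n * n := Nat.mul_le_mul_left _ i4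
    have h' : (cs * czt) * (czs * ct) = n * n := by
      calc (cs * czt) * (czs * ct) = (ct * czt) * (cs * czs) := by ring
        _ = n * n := by rw [e1, e2]
    omega
  have hcc : ct = czt := by
    have : cs * ct = cs * czt := by rw [k1, k3]
    exact Nat.eq_of_mul_eq_mul_left hcspos this
  rw [← e1, ← hcc]

end WithZ

theorem stabTwo_main [Finite V] [Nontrivial V] [Finite G] (hρ : Function.Injective ρ)
    (hstab : ∀ v : V, v ≠ 0 → Nat.card {g : G // ρ g v = v} = 2)
    (z : G) (hz : orderOf z = 2) (hzc : z ∈ Subgroup.center G) :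
    ∃ r : ℕ, Nat.card V = q ^ (2 * r) ∧
      Nat.card {g : G // orderOf g = 2 ∧ g ∉ Subgroup.center G} = q ^ r + 1 := by
  classical
  have hq : q.Prime := Fact.out
  have hord : ∀ g : G, orderOf g = 2 ↔ g ≠ 1 ∧ g * g = 1 := by
    intro g
    constructor
    · intro h
      refine ⟨?_, ?_⟩
      · rintro rfl
        rw [orderOf_one] at h
        omega
      · rw [← pow_two, ← h, pow_orderOf_eq_one]
    · rintro ⟨h1, h2⟩
      have : Fact (Nat.Prime 2) := ⟨Nat.prime_two⟩
      exact orderOf_eq_prime (by rw [pow_two, h2]) h1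
  obtain ⟨hz1, hzz⟩ := (hord z).mp hz
  have hzc' : ∀ g : G, g * z = z * g := fun g => Subgroup.mem_center_iff.mp hzc g
  have hneg := central_invol_neg ρ hρ hstab hz1 hzz hzc'
  -- a non-zero vector and its involution
  obtain ⟨v0, hv0⟩ := exists_ne (0 : V)
  obtain ⟨t0, ht01, ht0t0, ht0v, -⟩ := stab_two ρ hstab hv0
  have ht0z : t0 ≠ z := by
    rintro rfl
    rw [hneg] at ht0v
    exact neg_ne_self ρ hρ hstab hz1 hzz hzc' hv0 ht0v
  have hsq0 := card_fixSub_sq ρ hρ hstab hz1 hzz hzc' ht01 ht0t0 ht0z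
  obtain ⟨r, hr⟩ : ∃ r, r = Module.finrank (ZMod q) (fixSub ρ t0) := ⟨_, rfl⟩
  have hc0 : Nat.card (fixSub ρ t0) = q ^ r := by
    rw [Module.natCard_eq_pow_finrank (K := ZMod q), Nat.card_zmod, hr]
  have hV : Nat.card V = q ^ (2 * r) := by
    rw [← hsq0, hc0, two_mul, pow_add]
  have hc : ∀ t : G, t ≠ 1 → t * t = 1 → t ≠ z → Nat.card (fixSub ρ t) = q ^ r := by
    intro t ht1 htt htz
    have h := card_fixSub_sq ρ hρ hstab hz1 hzz hzc' ht1 htt htz
    rw [← hsq0, hc0] at h
    exact Nat.mul_self_inj.mp h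
  have hrpos : 1 < q ^ r := by
    rw [← hc0]
    rw [Finite.one_lt_card_iff_nontrivial]
    exact ⟨⟨⟨v0, (mem_fixSub ρ).mpr ht0v⟩, 0, fun h => hv0 (congrArg Subtype.val h)⟩⟩
  refine ⟨r, hV, ?_⟩
  -- double counting
  let _ : Fintype V := Fintype.ofFinite V
  let _ : Fintype G := Fintype.ofFinite G
  obtain ⟨S, hS⟩ : ∃ S : Finset V, S = Finset.univ.filter (fun v => v ≠ 0) := ⟨_, rfl⟩
  obtain ⟨T, hT⟩ : ∃ T : Finset G, T = Finset.univ.filter
    (fun g => orderOf g = 2 ∧ g ∉ Subgroup.center G) := ⟨_, rfl⟩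
  have hTcard : Nat.card {g : G // orderOf g = 2 ∧ g ∉ Subgroup.center G} = T.card := by
    rw [Nat.card_eq_fintype_card, Fintype.card_subtype, hT]
  have hScard : S.card = q ^ (2 * r) - 1 := by
    rw [hS, Finset.filter_ne' Finset.univ (0 : V), Finset.card_erase_of_mem (Finset.mem_univ _),
      Finset.card_univ, ← Nat.card_eq_fintype_card, hV]
  have hTmem : ∀ t : G, t ∈ T ↔ t ≠ 1 ∧ t * t = 1 ∧ t ≠ z := by
    intro t
    rw [hT, Finset.mem_filter, hord]
    constructor
    · rintro ⟨-, ⟨h1, h2⟩, h3⟩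
      exact ⟨h1, h2, fun h => h3 (h ▸ hzc)⟩
    · rintro ⟨h1, h2, h3⟩
      refine ⟨Finset.mem_univ _, ⟨h1, h2⟩, fun hcen => ?_⟩
      exact not_central_of_invol ρ hρ hstab hz1 hzz hzc' h1 h2 h3
        (fun g => Subgroup.mem_center_iff.mp hcen g)
  have hdc := Finset.sum_card_bipartiteAbove_eq_sum_card_bipartiteBelow (s := S) (t := T)
    (fun (v : V) (t : G) => ρ t v = v)
  -- left side: each non-zero vector has exactly one involution
  have hleft : ∀ v ∈ S, (T.bipartiteAbove (fun (v : V) (t : G) => ρ t v = v) v).card = 1 := by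
    intro v hv
    rw [hS, Finset.mem_filter] at hv
    obtain ⟨t, ht1, htt, htv, htall⟩ := stab_two ρ hstab hv.2
    rw [Finset.card_eq_one]
    refine ⟨t, ?_⟩
    ext g
    rw [Finset.mem_bipartiteAbove, Finset.mem_singleton, hTmem]
    constructor
    · rintro ⟨⟨hg1, -, -⟩, hgv⟩
      exact (htall g hgv).resolve_left hg1
    · rintro rfl
      refine ⟨⟨ht1, htt, ?_⟩, htv⟩
      rintro rfl
      rw [hneg] at htv
      exact neg_ne_self ρ hρ hstab hz1 hzz hzc' hv.2 htv
  -- right side: each involution fixes q^r - 1 non-zero vectors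
  have hright : ∀ t ∈ T, (S.bipartiteBelow (fun (v : V) (t : G) => ρ t v = v) t).card =
      q ^ r - 1 := by
    intro t ht
    rw [hTmem] at ht
    have hct := hc t ht.1 ht.2.1 ht.2.2
    have hset : S.bipartiteBelow (fun (v : V) (t : G) => ρ t v = v) t =
        (Finset.univ.filter (fun v : V => v ∈ fixSub ρ t)).erase 0 := by
      ext v
      rw [Finset.mem_bipartiteBelow, hS, Finset.mem_filter, Finset.mem_erase, Finset.mem_filter,
        mem_fixSub]
      tauto
    rw [hset, Finset.card_erase_of_mem (by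
      rw [Finset.mem_filter]; exact ⟨Finset.mem_univ _, Submodule.zero_mem _⟩)]
    have : (Finset.univ.filter (fun v : V => v ∈ fixSub ρ t)).card = Nat.card (fixSub ρ t) := by
      rw [Nat.card_eq_fintype_card, ← Fintype.card_subtype]
    rw [this, hct]
  rw [Finset.sum_congr rfl hleft, Finset.sum_congr rfl hright, Finset.sum_const, Finset.sum_const,
    smul_eq_mul, smul_eq_mul, mul_one, hScard] at hdc
  rw [hTcard]
  -- q^(2r) - 1 = T.card * (q^r - 1)
  obtain ⟨m, hm⟩ : ∃ m, q ^ r = m + 2 := ⟨q ^ r - 2, by omega⟩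
  have h2r : q ^ (2 * r) = (m + 2) * (m + 2) := by rw [two_mul, pow_add, hm]
  rw [h2r, hm] at hdc
  rw [hm]
  have h1 : (m + 2) * (m + 2) - 1 = (m + 3) * (m + 1) := by
    have : (m + 2) * (m + 2) = (m + 3) * (m + 1) + 1 := by ring
    omega
  have h2 : m + 2 - 1 = m + 1 := by omega
  rw [h1, h2] at hdc
  exact (Nat.eq_of_mul_eq_mul_right (Nat.succ_pos m) hdc).symm

end StabTwo

end Cfsg.Agent.Helper17
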