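import Mathlib
import Cfsg.Agent.Helper17.QuadSpan

/-!
# Suzuki 2-groups, part C: multiplicative quadratic maps on a finite field of characteristic 2
-/

set_option autoImplicit false
set_option linter.style.haveILetI false
set_option linter.unusedSectionVars false

namespace Cfsg.Agent.Helper17.Suz2

section field

variable {F : Type*} [Field F] [Fintype F] [CharP F 2]

/-- A multiplicative map `q : F → F` which is quadratic over the prime field is of the form
`x ↦ σ x * τ x` for two field automorphisms. -/
theorem exists_aut_mul_aut (q : F → F) (hq1 : q 1 = 1) (hqm : ∀ s t, q (s * t) = q s * q t)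
    (hq : ∀ x y z : F,
      q (x + y + z) + q (x + y) + q (x + z) + q (y + z) + q x + q y + q z = 0) :
    ∃ σ τ : F ≃+* F, ∀ x, q x = σ x * τ x := by
  classical
  have hmem := Cfsg.Agent.Helper17.quad_mem_quadSpan q hq
  -- the monoid homs
  let q₀ : F →* F := ⟨⟨q, hq1⟩, hqm⟩
  let pr : (F ≃+* F) × (F ≃+* F) → (F →* F) := fun p =>
    ⟨⟨fun x => p.1 x * p.2 x, by simp⟩, fun s t => by simp only [map_mul]; ring⟩
  let v : (F →* F) → (F → F) := fun f => f
  have hv : LinearIndependent F v := linearIndependent_monoidHom F F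
  have hspan : Cfsg.Agent.Helper17.quadSpan (F := F) = Submodule.span F (v '' Set.range pr) := by
    unfold Cfsg.Agent.Helper17.quadSpan
    congr 1
    ext f
    simp only [Set.mem_range, Set.mem_image]
    constructor
    · rintro ⟨p, rfl⟩
      exact ⟨pr p, ⟨p, rfl⟩, rfl⟩
    · rintro ⟨m, ⟨p, rfl⟩, rfl⟩
      exact ⟨p, rfl⟩
  by_contra hcon
  have hnot : q₀ ∉ Set.range pr := by
    rintro ⟨p, hp⟩
    apply hcon
    refine ⟨p.1, p.2, fun x => ?_⟩
    have := DFunLike.congr_fun hp x
    exact this.symm
  have := hv.notMem_span_image hnot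
  apply this
  rw [← hspan]
  exact hmem

end field

section oddorder

variable {F : Type*} [Field F] [Fintype F]

theorem zpowers_fixed_iff (φ : F ≃+* F) (x : F) :
    (∀ g : Subgroup.zpowers φ, g • x = x) ↔ φ x = x := by
  constructor
  · intro h
    exact h ⟨φ, Subgroup.mem_zpowers φ⟩
  · rintro h ⟨g, hg⟩
    obtain ⟨n, rfl⟩ := Subgroup.mem_zpowers_iff.mp hg
    show (φ ^ n) x = x
    have hfix : ∀ ψ : F ≃+* F, ψ x = x → ψ⁻¹ x = x := by
      intro ψ hψ
      have : ψ⁻¹ (ψ x) = x := by
        show ψ.symm (ψ x) = x
        exact ψ.symm_apply_apply x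
      rw [hψ] at this; exact this
    have hpow : ∀ m : ℕ, (φ ^ m) x = x := by
      intro m
      induction m with
      | zero => rfl
      | succ m ih =>
        rw [pow_succ]
        show (φ ^ m) (φ x) = x
        rw [h, ih]
    cases n with
    | ofNat m => simpa using hpow m
    | negSucc m =>
      rw [zpow_negSucc]
      exact hfix _ (hpow _)

theorem card_pow_finrank_fixed (φ : F ≃+* F) :
    Nat.card F = Nat.card {x : F // φ x = x} ^ orderOf φ := by
  classical
  let G := Subgroup.zpowers φ
  have h1 : Module.finrank (FixedPoints.subfield G F) F = Fintype.card G :=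
    FixedPoints.finrank_eq_card G F
  have h2 : Fintype.card G = orderOf φ := Fintype.card_zpowers
  have h3 : Nat.card F = Nat.card (FixedPoints.subfield G F) ^
      Module.finrank (FixedPoints.subfield G F) F := Module.natCard_eq_pow_finrank
  have h4 : Nat.card (FixedPoints.subfield G F) = Nat.card {x : F // φ x = x} := by
    apply Nat.card_congr
    refine Equiv.subtypeEquivRight ?_
    intro x
    exact zpowers_fixed_iff φ x
  rw [h3, h1, h2, h4]

/-- If `x ↦ x * φ x` is injective then `φ` has odd order. -/
theorem odd_orderOf_of_injective (φ : F ≃+* F) (hinj : Function.Injective fun x : F => x * φ x) :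
    Odd (orderOf φ) := by
  by_contra hodd
  rw [Nat.not_odd_iff_even] at hodd
  have key : ∃ a : F, φ (φ a) = a ∧ φ a ≠ a := by
    by_contra hcon
    push Not at hcon
    have hpos : 0 < orderOf φ := orderOf_pos φ
    have e1 := card_pow_finrank_fixed φ
    have e2 := card_pow_finrank_fixed (φ ^ 2)
    have hset : Nat.card {x : F // (φ ^ 2) x = x} = Nat.card {x : F // φ x = x} := by
      apply Nat.card_congr
      refine Equiv.subtypeEquivRight ?_
      intro x
      constructor
      · intro h
        exact hcon x (by rw [pow_two] at h; exact h)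
      · intro h
        rw [pow_two]
        show φ (φ x) = x
        rw [h, h]
    have hord : orderOf (φ ^ 2) * 2 = orderOf φ := by
      rw [orderOf_pow, Nat.gcd_eq_right (hodd.two_dvd)]
      exact Nat.div_mul_cancel hodd.two_dvd
    rw [hset] at e2
    have hc : 1 < Nat.card {x : F // φ x = x} := by
      rw [Finite.one_lt_card_iff_nontrivial]
      exact ⟨⟨⟨0, map_zero φ⟩, ⟨1, map_one φ⟩, fun h => zero_ne_one (congrArg Subtype.val h)⟩⟩
    have : orderOf (φ ^ 2) = orderOf φ := Nat.pow_right_injective hc (by show _ ^ _ = _ ^ _; rw [← e1, ← e2])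
    omega
  obtain ⟨a, h2, h1⟩ := key
  have ha0 : a ≠ 0 := fun h => h1 (by rw [h, map_zero])
  have hφa0 : φ a ≠ 0 := fun h => ha0 (by
    have := congrArg φ.symm h
    rwa [φ.symm_apply_apply, map_zero] at this)
  have h3 : (a / φ a) * φ (a / φ a) = 1 * φ 1 := by
    rw [map_div₀, h2, map_one]
    field_simp
  have h4 : a / φ a = 1 := hinj h3
  apply h1
  rw [div_eq_one_iff_eq hφa0] at h4
  exact h4.symm

end oddorder

end Cfsg.Agent.Helper17.Suz2
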