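import Mathlib
import Cfsg.Prelude.Def_LieRecognition

/-!
# Suzuki 2-groups, part D: the type-A group as a twisted product
-/

set_option autoImplicit false
set_option linter.style.haveILetI false

namespace Cfsg.Agent.Helper17.Suz2

open Matrix

section TA

variable {F : Type*} [Field F] (φ : F →+* F)

/-- The twisted product `F × F` with `(x, y) (x', y') = (x + x', y + y' + φ x * x')`. -/
@[ext] structure TA (φ : F →+* F) where
  x : F
  y : F

namespace TA

instance : Mul (TA φ) := ⟨fun a b => ⟨a.x + b.x, a.y + b.y + φ a.x * b.x⟩⟩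
instance : One (TA φ) := ⟨⟨0, 0⟩⟩
instance : Inv (TA φ) := ⟨fun a => ⟨-a.x, -a.y + φ a.x * a.x⟩⟩

@[simp] theorem mul_x (a b : TA φ) : (a * b).x = a.x + b.x := rfl
@[simp] theorem mul_y (a b : TA φ) : (a * b).y = a.y + b.y + φ a.x * b.x := rfl
@[simp] theorem one_x : (1 : TA φ).x = 0 := rfl
@[simp] theorem one_y : (1 : TA φ).y = 0 := rfl
@[simp] theorem inv_x (a : TA φ) : (a⁻¹).x = -a.x := rfl
@[simp] theorem inv_y (a : TA φ) : (a⁻¹).y = -a.y + φ a.x * a.x := rfl

instance : Group (TA φ) where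
  mul_assoc a b c := by
    ext
    · simp [add_assoc]
    · simp only [mul_y, mul_x, map_add]; ring
  one_mul a := by ext <;> simp
  mul_one a := by ext <;> simp
  inv_mul_cancel a := by
    ext
    · simp
    · simp only [mul_y, inv_y, inv_x, one_y, map_neg]; ring

/-- the matrix attached to `(x, y)` -/
def mat (a : TA φ) : Matrix (Fin 3) (Fin 3) F := !![1, 0, 0; a.x, 1, 0; a.y, φ a.x, 1]

theorem det_mat (a : TA φ) : (mat φ a).det = 1 := by
  simp [mat, Matrix.det_fin_three]

theorem mat_mul (a b : TA φ) : mat φ (a * b) = mat φ a * mat φ b := by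
  ext i j
  fin_cases i <;> fin_cases j <;> simp [mat, Matrix.mul_apply, Fin.sum_univ_three] <;> ring

theorem mat_one : mat φ (1 : TA φ) = 1 := by
  ext i j
  fin_cases i <;> fin_cases j <;> simp [mat]

/-- the embedding into `GL₃(F)` -/
noncomputable def toGL : TA φ →* GL (Fin 3) F where
  toFun a := Matrix.GeneralLinearGroup.mkOfDetNeZero (mat φ a) (by rw [det_mat]; exact one_ne_zero)
  map_one' := by
    apply Matrix.GeneralLinearGroup.ext
    intro i j
    simp [Matrix.GeneralLinearGroup.mkOfDetNeZero, mat_one]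
  map_mul' a b := by
    apply Matrix.GeneralLinearGroup.ext
    intro i j
    simp [Matrix.GeneralLinearGroup.mkOfDetNeZero, mat_mul]

theorem toGL_val (a : TA φ) : ((toGL φ a : GL (Fin 3) F) : Matrix (Fin 3) (Fin 3) F) = mat φ a := rfl

theorem toGL_injective : Function.Injective (toGL φ) := by
  intro a b hab
  have h : mat φ a = mat φ b := by rw [← toGL_val, ← toGL_val, hab]
  have h1 := congrFun (congrFun h 1) 0
  have h2 := congrFun (congrFun h 2) 0
  simp [mat] at h1 h2
  exact TA.ext h1 h2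

theorem range_toGL : (toGL φ).range = Cfsg.suzukiTypeA F φ := by
  unfold Cfsg.suzukiTypeA
  apply le_antisymm
  · rintro _ ⟨a, rfl⟩
    apply Subgroup.subset_closure
    exact ⟨a.x, a.y, rfl⟩
  · rw [Subgroup.closure_le]
    rintro g ⟨x, y, hg⟩
    refine ⟨⟨x, y⟩, ?_⟩
    apply Matrix.GeneralLinearGroup.ext
    intro i j
    rw [toGL_val, hg]; rfl

/-- The type-A group is the twisted product. -/
noncomputable def equivTypeA : TA φ ≃* Cfsg.suzukiTypeA F φ :=
  (MonoidHom.ofInjective (toGL_injective φ)).trans (MulEquiv.subgroupCongr (range_toGL φ))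

end TA

end TA

section eta

variable {P : Type*} [Group P] [Finite P] {F : Type*} [Field F] [CharP F 2]

theorem exists_eta (V : Subgroup P) (hVc : V ≤ Subgroup.center P)
    (a : P → F) (ha : ∀ p p', a (p * p') = a p + a p') (haV : ∀ p, a p = 0 ↔ p ∈ V)
    (β : P → F) (hβ : ∀ v ∈ V, ∀ w ∈ V, β (v * w) = β v + β w)
    (φ : F →+* F) (hQ : ∀ p, β (p * p) = a p * φ (a p)) :
    ∃ η : P → F, (∀ p p', η (p * p') = η p + η p' + φ (a p) * a p') ∧ ∀ v ∈ V, η v = β v := by
  classical
  have h2 : (2 : F) = 0 := CharTwo.two_eq_zero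
  have hxx : ∀ t : F, t + t = 0 := CharTwo.add_self_eq_zero
  have ha1 : a 1 = 0 := by
    have := ha 1 1
    rw [mul_one] at this
    linear_combination -this
  have hainv : ∀ p, a p⁻¹ = a p := by
    intro p
    have := ha p p⁻¹
    rw [mul_inv_cancel, ha1] at this
    linear_combination -this - hxx (a p)
  have hsqV : ∀ p, p * p ∈ V := fun p => (haV _).mp (by rw [ha]; exact hxx _)
  have hcomV : ∀ p p', p * p' * p⁻¹ * p'⁻¹ ∈ V := by
    intro p p'
    rw [← haV, ha, ha, ha, hainv, hainv]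
    linear_combination hxx (a p) + hxx (a p')
  have hcen : ∀ v ∈ V, ∀ g : P, g * v = v * g := fun v hv g => Subgroup.mem_center_iff.mp (hVc hv) g
  have hβ1 : β 1 = 0 := by
    have := hβ 1 (one_mem _) 1 (one_mem _)
    rw [mul_one] at this
    linear_combination -this
  -- the polarisation identity
  have hB : ∀ p p', β (p' * p * p'⁻¹ * p⁻¹) = a p * φ (a p') + a p' * φ (a p) := by
    intro p p'
    have hc := hcomV p' p
    have e1 : (p * p') * (p * p') = (p' * p * p'⁻¹ * p⁻¹) * ((p * p) * (p' * p')) := by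
      have := hcen _ hc p
      calc (p * p') * (p * p') = p * (p' * p * p'⁻¹ * p⁻¹) * p * p' * p' := by group
        _ = (p' * p * p'⁻¹ * p⁻¹) * p * p * p' * p' := by rw [this]
        _ = _ := by group
    have := hQ (p * p')
    rw [e1, hβ _ hc _ (mul_mem (hsqV p) (hsqV p')), hβ _ (hsqV p) _ (hsqV p'), hQ, hQ, ha,
      map_add] at this
    linear_combination this
  -- the family of good subgroups
  let good : Subgroup P → Prop := fun H => V ≤ H ∧ ∃ η : P → F,
    (∀ h ∈ H, ∀ h' ∈ H, η (h * h') = η h + η h' + φ (a h) * a h') ∧ ∀ v ∈ V, η v = β v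
  have hV : good V := by
    refine ⟨le_refl _, β, ?_, fun v _ => rfl⟩
    intro v hv w hw
    rw [hβ v hv w hw, (haV w).mpr hw, mul_zero, add_zero]
  obtain ⟨H, hH, hmax⟩ := (Set.toFinite {H : Subgroup P | good H}).exists_maximal ⟨V, hV⟩
  obtain ⟨hVH, η, hη, hηV⟩ := hH
  by_cases htop : H = ⊤
  · refine ⟨η, fun p p' => hη p (by rw [htop]; trivial) p' (by rw [htop]; trivial), hηV⟩
  exfalso
  obtain ⟨p₀, hp₀⟩ : ∃ p₀, p₀ ∉ H := by
    by_contra hcon
    push Not at hcon
    exact htop (eq_top_iff.mpr fun p _ => hcon p)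
  -- H is normal
  have hnorm : ∀ h ∈ H, ∀ g : P, g * h * g⁻¹ ∈ H := by
    intro h hh g
    have : g * h * g⁻¹ = (g * h * g⁻¹ * h⁻¹) * h := by group
    rw [this]
    exact mul_mem (hVH (hcomV g h)) hh
  have hv₀ : p₀ * p₀ ∈ H := hVH (hsqV p₀)
  have hv₀' : p₀⁻¹ * p₀⁻¹ ∈ H := by
    have : p₀⁻¹ * p₀⁻¹ = (p₀ * p₀)⁻¹ := by group
    rw [this]; exact inv_mem hv₀
  let H' : Subgroup P :=
    { carrier := {p | p ∈ H ∨ p * p₀⁻¹ ∈ H}
      one_mem' := Or.inl (one_mem _)
      mul_mem' := by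
        rintro u w (hu | hu) (hw | hw)
        · exact Or.inl (mul_mem hu hw)
        · right
          rw [mul_assoc]; exact mul_mem hu hw
        · right
          have : u * w * p₀⁻¹ = (u * p₀⁻¹) * (p₀ * w * p₀⁻¹) := by group
          rw [this]; exact mul_mem hu (hnorm w hw p₀)
        · left
          have : u * w = (u * p₀⁻¹) * (p₀ * (w * p₀⁻¹) * p₀⁻¹) * (p₀ * p₀) := by group
          rw [this]; exact mul_mem (mul_mem hu (hnorm _ hw p₀)) hv₀
      inv_mem' := by
        rintro u (hu | hu)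
        · exact Or.inl (inv_mem hu)
        · right
          have : u⁻¹ * p₀⁻¹ = (p₀⁻¹ * (u * p₀⁻¹)⁻¹ * p₀⁻¹⁻¹) * (p₀⁻¹ * p₀⁻¹) := by group
          rw [this]; exact mul_mem (hnorm _ (inv_mem hu) p₀⁻¹) hv₀' }
  have hHH' : H ≤ H' := fun p hp => Or.inl hp
  have hp₀' : p₀ ∈ H' := Or.inr (by rw [mul_inv_cancel]; exact one_mem _)
  -- three- and four-fold products
  have hηc : ∀ h ∈ H, ∀ c ∈ V, η (h * c) = η h + β c := by
    intro h hh c hc
    rw [hη h hh c (hVH hc), hηV c hc, (haV c).mpr hc, mul_zero, add_zero]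
  let η' : P → F := fun p => if p ∈ H then η p else η (p * p₀⁻¹) + φ (a (p * p₀⁻¹)) * a p₀
  have hη'1 : ∀ p ∈ H, η' p = η p := fun p hp => if_pos hp
  have hη'2 : ∀ p, p ∉ H → η' p = η (p * p₀⁻¹) + φ (a (p * p₀⁻¹)) * a p₀ := fun p hp => if_neg hp
  have hgood : good H' := by
    refine ⟨le_trans hVH hHH', η', ?_, fun v hv => by rw [hη'1 v (hVH hv), hηV v hv]⟩
    intro u hu w hw
    have hacanc : ∀ p, a (p * p₀⁻¹) = a p + a p₀ := by intro p; rw [ha, hainv]
    by_cases huH : u ∈ H <;> by_cases hwH : w ∈ H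
    · rw [hη'1 _ (mul_mem huH hwH), hη'1 _ huH, hη'1 _ hwH]; exact hη u huH w hwH
    · -- u ∈ H, w ∉ H
      have hw' : w * p₀⁻¹ ∈ H := hw.resolve_left hwH
      have huw : u * w ∉ H := fun h => hwH (by
        have : w = u⁻¹ * (u * w) := by group
        rw [this]; exact mul_mem (inv_mem huH) h)
      rw [hη'2 _ huw, hη'1 _ huH, hη'2 _ hwH, mul_assoc, hη u huH _ hw', ha u (w * p₀⁻¹),
        hacanc w]
      simp only [map_add, map_zero]
      linear_combination (exp := 1) (φ (a u) * a p₀) * h2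
    · -- u ∉ H, w ∈ H
      have hu' : u * p₀⁻¹ ∈ H := hu.resolve_left huH
      have huw : u * w ∉ H := fun h => huH (by
        have : u = (u * w) * w⁻¹ := by group
        rw [this]; exact mul_mem h (inv_mem hwH))
      set h := u * p₀⁻¹ with hh
      have hc : p₀ * w * p₀⁻¹ * w⁻¹ ∈ V := hcomV p₀ w
      have e1 : u * w * p₀⁻¹ = (h * (p₀ * w * p₀⁻¹ * w⁻¹)) * w := by rw [hh]; group
      have hau : a u = a h + a p₀ := by
        have : u = h * p₀ := by rw [hh]; group
        rw [this, ha]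
      rw [hη'2 _ huw, hη'2 _ huH, hη'1 _ hwH, e1, hη _ (mul_mem hu' (hVH hc)) w hwH,
        hηc h hu' _ hc, ha _ w, ha h _, (haV _).mpr hc, hau, hB w p₀]
      simp only [map_add, map_zero]
      linear_combination (exp := 1) (a p₀ * φ (a w)) * h2
    · -- u ∉ H, w ∉ H
      have hu' : u * p₀⁻¹ ∈ H := hu.resolve_left huH
      have hw' : w * p₀⁻¹ ∈ H := hw.resolve_left hwH
      set h := u * p₀⁻¹ with hh
      set h' := w * p₀⁻¹ with hh'
      have hc : p₀ * h' * p₀⁻¹ * h'⁻¹ ∈ V := hcomV p₀ h'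
      have e1 : u * w = ((h * (p₀ * h' * p₀⁻¹ * h'⁻¹)) * h') * (p₀ * p₀) := by rw [hh, hh']; group
      have huw : u * w ∈ H := by
        rw [e1]; exact mul_mem (mul_mem (mul_mem hu' (hVH hc)) hw') hv₀
      have hau : a u = a h + a p₀ := by
        have : u = h * p₀ := by rw [hh]; group
        rw [this, ha]
      have haw : a w = a h' + a p₀ := by
        have : w = h' * p₀ := by rw [hh']; group
        rw [this, ha]
      rw [hη'1 _ huw, hη'2 _ huH, hη'2 _ hwH, e1,
        hηc _ (mul_mem (mul_mem hu' (hVH hc)) hw') _ (hsqV p₀),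
        hη _ (mul_mem hu' (hVH hc)) h' hw', hηc h hu' _ hc, ha h _, (haV _).mpr hc,
        hau, haw, hB h' p₀, hQ p₀]
      simp only [map_add, map_zero]
      linear_combination (exp := 1) (-(a p₀ * φ (a h))) * h2
  have hle : H' ≤ H := hmax hgood hHH'
  exact hp₀ (hle hp₀')

end eta

section iso

variable {P : Type*} [Group P] [Finite P] {F : Type*} [Field F] [CharP F 2]

/-- A group with central subgroup `V`, additive coordinates `a` on `P/V` and `β` on `V`, in which
squaring is `x ↦ a x * φ (a x)`, is the twisted product. -/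
theorem nonempty_equiv_TA (V : Subgroup P) (hVc : V ≤ Subgroup.center P)
    (a : P → F) (ha : ∀ p p', a (p * p') = a p + a p') (haV : ∀ p, a p = 0 ↔ p ∈ V)
    (hasurj : Function.Surjective a)
    (β : P → F) (hβ : ∀ v ∈ V, ∀ w ∈ V, β (v * w) = β v + β w)
    (hβinj : ∀ v ∈ V, β v = 0 → v = 1) (hβsurj : ∀ y : F, ∃ v ∈ V, β v = y)
    (φ : F →+* F) (hQ : ∀ p, β (p * p) = a p * φ (a p)) :
    Nonempty (P ≃* TA φ) := by
  obtain ⟨η, hη, hηV⟩ := exists_eta V hVc a ha haV β hβ φ hQ
  have ha1 : a 1 = 0 := (haV 1).mpr (one_mem _)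
  have hη1 : η 1 = 0 := by
    have := hη 1 1
    rw [mul_one, ha1, mul_zero, add_zero] at this
    linear_combination -this
  let Ψ : P →* TA φ :=
    { toFun := fun p => ⟨a p, η p⟩
      map_one' := TA.ext ha1 hη1
      map_mul' := fun p p' => TA.ext (ha p p') (hη p p') }
  have hinj : Function.Injective Ψ := by
    rw [injective_iff_map_eq_one]
    intro p hp
    have h1 : a p = 0 := congrArg TA.x hp
    have h2 : η p = 0 := congrArg TA.y hp
    have hpV : p ∈ V := (haV p).mp h1
    exact hβinj p hpV (by rw [← hηV p hpV]; exact h2)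
  have hsurj : Function.Surjective Ψ := by
    rintro ⟨x, y⟩
    obtain ⟨p, hp⟩ := hasurj x
    obtain ⟨v, hv, hvy⟩ := hβsurj (y - η p)
    refine ⟨p * v, TA.ext ?_ ?_⟩
    · show a (p * v) = x
      rw [ha, (haV v).mpr hv, add_zero, hp]
    · show η (p * v) = y
      rw [hη, hηV v hv, hvy, (haV v).mpr hv, mul_zero, add_zero]
      ring
  exact ⟨MulEquiv.ofBijective Ψ ⟨hinj, hsurj⟩⟩

end iso

end Cfsg.Agent.Helper17.Suz2
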