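import Mathlib
import Cfsg.Agent.Helper17.Suz2A
import Cfsg.Agent.Helper17.Suz2C
import Cfsg.Agent.Helper17.Suz2D

/-!
# Suzuki 2-groups, part F: from field coordinates to type A
-/

set_option autoImplicit false
set_option linter.style.haveILetI false

namespace Cfsg.Agent.Helper17.Suz2

universe u v

section coords

variable {K : Type v} {P : Type u} [Group K] [Group P] [MulDistribMulAction K P]

theorem typeA_of_coords [Finite P] (F : Type) [Field F] [Fintype F] [CharP F 2]
    (hV : ∀ p : P, p * p = 1 → p ∈ Om P)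
    (hna : ∃ x y : P, x * y ≠ y * x)
    (A : P → F) (hA : ∀ p p', A (p * p') = A p + A p') (hAV : ∀ p, A p = 0 ↔ p ∈ Om P)
    (hAsurj : Function.Surjective A)
    (B : Om P → F) (hB : ∀ v w, B (v * w) = B v + B w) (hBbij : Function.Bijective B)
    (lamX lamV : K → Fˣ) (hlamX : Function.Surjective lamX) (hlamV : Function.Injective lamV)
    (hlamVm : ∀ k l, lamV (k * l) = lamV k * lamV l)
    (hAk : ∀ (k : K) (p : P), A (k • p) = (lamX k : F) * A p)
    (hBk : ∀ (k : K) (v : Om P) (h : k • (v : P) ∈ Om P), B ⟨k • (v : P), h⟩ = (lamV k : F) * B v)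
    (x₁ : P) (hA1 : A x₁ = 1) (hB1 : ∀ h : x₁ * x₁ ∈ Om P, B ⟨x₁ * x₁, h⟩ = 1) :
    ∃ φ : F ≃+* F, φ ≠ RingEquiv.refl F ∧ Odd (orderOf φ) ∧
      Nonempty (P ≃* Cfsg.suzukiTypeA F (φ : F →+* F)) := by
  classical
  have hxx : ∀ t : F, t + t = 0 := CharTwo.add_self_eq_zero
  have hA0 : A 1 = 0 := (hAV 1).mpr (one_mem _)
  have hAinv : ∀ p, A p⁻¹ = A p := by
    intro p
    have := hA p p⁻¹
    rw [mul_inv_cancel, hA0] at this
    linear_combination -this - hxx (A p)
  have hsq : ∀ p, p * p ∈ Om P := fun p => (hAV _).mp (by rw [hA]; exact hxx _)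
  have hcm : ∀ x y, cm x y ∈ Om P := fun x y => (hAV _).mp (by
    unfold cm; rw [hA, hA, hA, hAinv, hAinv]; linear_combination hxx (A x) + hxx (A y))
  have hB0 : B 1 = 0 := by
    have := hB 1 1
    rw [mul_one] at this
    linear_combination -this
  have hBz : ∀ v : Om P, B v = 0 → v = 1 := fun v hv => hBbij.1 (hv.trans hB0.symm)
  have hlamV1 : lamV 1 = 1 := by
    have := hlamVm 1 1
    rw [mul_one] at this
    exact (mul_eq_left.mp this.symm)
  have hlamX1 : (lamX 1 : F) = 1 := by
    have := hAk 1 x₁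
    rw [one_smul, hA1, mul_one] at this
    exact this.symm
  let S : P → F := fun p => B ⟨p * p, hsq p⟩
  let C : P → P → F := fun x y => B ⟨cm x y, hcm x y⟩
  have hS_mul : ∀ a b, S (a * b) = C b a + S a + S b := by
    intro a b
    have : (⟨(a * b) * (a * b), hsq _⟩ : Om P)
        = ⟨cm b a, hcm b a⟩ * ⟨a * a, hsq a⟩ * ⟨b * b, hsq b⟩ := by
      apply Subtype.ext
      show a * b * (a * b) = cm b a * (a * a) * (b * b)
      have hc := Subgroup.mem_center_iff.mp (hcm b a).1
      calc a * b * (a * b) = (a * cm b a) * a * b * b := by unfold cm; group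
        _ = (cm b a * a) * a * b * b := by rw [hc a]
        _ = cm b a * (a * a) * (b * b) := by group
    show B _ = B _ + B _ + B _
    rw [this, hB, hB]
  have hC_right : ∀ x y y', C x (y * y') = C x y + C x y' := by
    intro x y y'
    have : (⟨cm x (y * y'), hcm _ _⟩ : Om P) = ⟨cm x y, hcm _ _⟩ * ⟨cm x y', hcm _ _⟩ := by
      apply Subtype.ext
      exact cm_mul_right (hcm x y').1
    show B _ = B _ + B _
    rw [this, hB]
  have hwd : ∀ p p', A p = A p' → S p = S p' := by
    intro p p' hpp
    have hv : p⁻¹ * p' ∈ Om P := (hAV _).mp (by rw [hA, hAinv, hpp]; exact hxx _)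
    have hc := Subgroup.mem_center_iff.mp hv.1
    have hp' : p' = p * (p⁻¹ * p') := by group
    have : p' * p' = p * p := by
      generalize p⁻¹ * p' = w at hv hc hp'
      rw [hp']
      calc p * w * (p * w) = p * (w * p) * w := by group
        _ = p * (p * w) * w := by rw [← hc p]
        _ = p * p * (w * w) := by group
        _ = p * p := by rw [hv.2, mul_one]
    show B _ = B _
    congr 1
    exact Subtype.ext this.symm
  let q : F → F := fun t => S (Function.surjInv hAsurj t)
  have hqA : ∀ p, q (A p) = S p := fun p => hwd _ _ (Function.surjInv_eq hAsurj (A p))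
  have hq1 : q 1 = 1 := by
    have h : q (A x₁) = 1 := by rw [hqA]; exact hB1 _
    rwa [hA1] at h
  have hq0 : q 0 = 0 := by
    have h : q (A 1) = 0 := by
      rw [hqA]
      show B _ = 0
      have : (⟨(1 : P) * 1, hsq 1⟩ : Om P) = 1 := Subtype.ext (mul_one 1)
      rw [this, hB0]
    rwa [hA0] at h
  have hqk : ∀ (k : K) (t : F), q ((lamX k : F) * t) = (lamV k : F) * q t := by
    intro k t
    obtain ⟨p, rfl⟩ := hAsurj t
    rw [← hAk, hqA, hqA]
    show B _ = _ * B _
    rw [← hBk k ⟨p * p, hsq p⟩ (smul_mem_Om k (hsq p))]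
    congr 1
    exact Subtype.ext (smul_mul' k p p).symm
  have hqm : ∀ s t, q (s * t) = q s * q t := by
    intro s t
    by_cases hs : s = 0
    · rw [hs, zero_mul, hq0, zero_mul]
    · obtain ⟨k, hk⟩ := hlamX (Units.mk0 s hs)
      have hs' : s = (lamX k : F) := by rw [hk]; rfl
      have h1 : q (lamX k : F) = (lamV k : F) := by
        have := hqk k 1
        rw [mul_one, hq1, mul_one] at this
        exact this
      rw [hs', hqk, h1]
  have hq3 : ∀ x y z : F,
      q (x + y + z) + q (x + y) + q (x + z) + q (y + z) + q x + q y + q z = 0 := by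
    intro x y z
    obtain ⟨a, rfl⟩ := hAsurj x
    obtain ⟨b, rfl⟩ := hAsurj y
    obtain ⟨c, rfl⟩ := hAsurj z
    have e1 : A a + A b + A c = A (a * b * c) := by rw [hA, hA]
    have e2 : A a + A b = A (a * b) := by rw [hA]
    have e3 : A a + A c = A (a * c) := by rw [hA]
    have e4 : A b + A c = A (b * c) := by rw [hA]
    rw [e1, e2, e3, e4]
    simp only [hqA]
    rw [hS_mul (a * b) c, hS_mul a b, hS_mul a c, hS_mul b c, hC_right]
    linear_combination hxx (C c a) + hxx (C c b) + hxx (C b a) + 2 * hxx (S a) + 2 * hxx (S b)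
      + 2 * hxx (S c)
  have hqz : ∀ t, q t = 0 → t = 0 := by
    intro t ht
    obtain ⟨p, rfl⟩ := hAsurj t
    rw [hqA] at ht
    have h1 := hBz _ ht
    have h2 : p * p = 1 := congrArg Subtype.val h1
    exact (hAV p).mpr (hV p h2)
  have hqinj : Function.Injective q := by
    intro t t' htt
    by_cases ht : t = 0
    · rw [ht, hq0] at htt
      rw [ht, hqz t' htt.symm]
    · have hqt : q t ≠ 0 := fun h => ht (hqz t h)
      obtain ⟨k, hk⟩ := hlamX (Units.mk0 (t' / t) (by
        intro h
        rw [div_eq_zero_iff] at h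
        rcases h with h | h
        · rw [h, hq0] at htt; exact hqt htt
        · exact ht h))
      have hk' : (lamX k : F) = t' / t := by rw [hk]; rfl
      have ht' : t' = (lamX k : F) * t := by rw [hk']; field_simp
      rw [ht', hqk] at htt
      have h1 : (lamV k : F) = 1 := by
        have h2 : ((lamV k : F) - 1) * q t = 0 := by linear_combination -htt
        rcases mul_eq_zero.mp h2 with h | h
        · linear_combination h
        · exact absurd h hqt
      have h2 : lamV k = 1 := Units.ext h1
      have h3 : k = 1 := hlamV (h2.trans hlamV1.symm)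
      rw [ht', h3, hlamX1, one_mul]
  obtain ⟨σ, τ, hστ⟩ := exists_aut_mul_aut q hq1 hqm hq3
  let φ : F ≃+* F := σ.symm.trans τ
  have hφ : ∀ t, φ (σ t) = τ t := by
    intro t
    show τ (σ.symm (σ t)) = τ t
    rw [RingEquiv.symm_apply_apply]
  refine ⟨φ, ?_, ?_, ?_⟩
  · intro hrefl
    have hτσ : ∀ t, τ t = σ t := by
      intro t; rw [← hφ, hrefl]; rfl
    have hqadd : ∀ s t, q (s + t) = q s + q t := by
      intro s t
      rw [hστ, hστ, hστ, hτσ, hτσ, hτσ, map_add]
      linear_combination (hxx (σ s * σ t))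
    obtain ⟨x, y, hxy⟩ := hna
    apply hxy
    have hC0 : C y x = 0 := by
      have h1 := hS_mul x y
      have h2 := hqadd (A x) (A y)
      rw [← hA, hqA, hqA, hqA] at h2
      linear_combination h2 - h1
    have h1 := hBz _ hC0
    have h2 : cm y x = 1 := congrArg Subtype.val h1
    exact ((cm_eq_one_iff _ _).mp h2).symm
  · apply odd_orderOf_of_injective
    have h : ∀ t, t * φ t = q (σ.symm t) := by
      intro t
      rw [hστ, RingEquiv.apply_symm_apply]
      rfl
    intro t t' htt
    have h1 : q (σ.symm t) = q (σ.symm t') := by rw [← h, ← h]; exact htt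
    exact σ.symm.injective (hqinj h1)
  · have hσ0 : ∀ t, σ t = 0 ↔ t = 0 := fun t => map_eq_zero_iff σ σ.injective
    have key := nonempty_equiv_TA (F := F) (Om P) Om_le_center (fun p => σ (A p))
      (fun p p' => by rw [hA, map_add])
      (fun p => by rw [hσ0]; exact hAV p)
      (fun t => by
        obtain ⟨p, hp⟩ := hAsurj (σ.symm t)
        exact ⟨p, by show σ (A p) = t; rw [hp, RingEquiv.apply_symm_apply]⟩)
      (fun p => if h : p ∈ Om P then B ⟨p, h⟩ else 0)
      (fun v hv w hw => by
        rw [dif_pos hv, dif_pos hw, dif_pos (mul_mem hv hw), ← hB]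
        rfl)
      (fun v hv h0 => by
        rw [dif_pos hv] at h0
        exact congrArg Subtype.val (hBz _ h0))
      (fun y => by
        obtain ⟨v, hv⟩ := hBbij.2 y
        exact ⟨v, v.2, by rw [dif_pos v.2]; exact hv⟩)
      (φ : F →+* F)
      (fun p => by
        rw [dif_pos (hsq p)]
        show S p = σ (A p) * φ (σ (A p))
        rw [hφ, ← hστ, hqA])
    obtain ⟨e⟩ := key
    exact ⟨e.trans (TA.equivTypeA _)⟩

end coords

end Cfsg.Agent.Helper17.Suz2
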