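import Mathlib
import Cfsg.Agent.Helper17.Suz2E
import Cfsg.Agent.Helper17.Suz2F

/-!
# Suzuki 2-groups, part G: a Suzuki 2-group of order `q²` is of type A
-/

set_option autoImplicit false
set_option linter.style.haveILetI false

namespace Cfsg.Agent.Helper17.Suz2

universe u v

section main

variable {K : Type v} {P : Type u} [Group K] [Group P] [MulDistribMulAction K P]

theorem typeA_main [Finite P] (hcomm : ∀ a b : K, a * b = b * a) (hP : IsPGroup 2 P)
    (hreg : RegInv K P) (hna : ∃ x y : P, x * y ≠ y * x)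
    (x₀ : P) (hx₀ : x₀ ≠ 1) (hx₀' : x₀ * x₀ = 1)
    (hcard : Nat.card P = Nat.card (Subgroup.center P) ^ 2)
    (F : Type) [Field F] [Fintype F] [CharP F 2]
    (hF : Fintype.card F = Nat.card (Subgroup.center P)) :
    ∃ φ : F ≃+* F, φ ≠ RingEquiv.refl F ∧ Odd (orderOf φ) ∧
      Nonempty (P ≃* Cfsg.suzukiTypeA F (φ : F →+* F)) := by
  classical
  have hZ := center_sq_aux K hcomm (Nat.card P) P rfl hP hreg hna
  have hcen : Subgroup.center P = Om P :=
    le_antisymm (fun z hz => ⟨hz, hZ z hz⟩) Om_le_center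
  rw [hcen] at hcard hF
  have hfinK : Finite K := finite_K hreg hx₀ hx₀'
  have hcardV : Nat.card (Om P) = Nat.card K + 1 := card_Om hP hreg hx₀ hx₀'
  have hcardX : Nat.card (P ⧸ Om P) = Nat.card K + 1 := by
    have h1 := Subgroup.card_eq_card_quotient_mul_card_subgroup (Om P)
    rw [hcard, pow_two] at h1
    have hpos : 0 < Nat.card (Om P) := Nat.card_pos
    rw [← hcardV]
    exact (Nat.eq_of_mul_eq_mul_right hpos h1).symm
  have hinv : ∀ (k : K), ∀ x ∈ Om P, k • x ∈ Om P := fun k x hx => smul_mem_Om k hx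
  letI instV : MulDistribMulAction K (Om P) := omAction
  letI instQ : MulDistribMulAction K (P ⧸ Om P) := quotAction (Om P) hinv
  have hregX : ∀ a b : P ⧸ Om P, a ≠ 1 → b ≠ 1 → ∃! k : K, k • a = b :=
    quot_regular hP hreg hinv hcardX
  have hexpX : ∀ a : P ⧸ Om P, a * a = 1 := quot_exponent hP hinv hregX
  have habX : ∀ a b : P ⧸ Om P, a * b = b * a := by
    intro a b
    have ha : a⁻¹ = a := inv_eq_of_mul_eq_one_right (hexpX a)
    have hb : b⁻¹ = b := inv_eq_of_mul_eq_one_right (hexpX b)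
    have hab : (a * b)⁻¹ = a * b := inv_eq_of_mul_eq_one_right (hexpX (a * b))
    calc a * b = (a * b)⁻¹ := hab.symm
      _ = b⁻¹ * a⁻¹ := mul_inv_rev a b
      _ = b * a := by rw [ha, hb]
  have habV : ∀ a b : Om P, a * b = b * a := by
    intro a b
    apply Subtype.ext
    exact (Subgroup.mem_center_iff.mp a.2.1 (b : P)).symm
  have hregV : ∀ a b : Om P, a ≠ 1 → b ≠ 1 → ∃! k : K, k • a = b := by
    intro a b ha hb
    have ha' : (a : P) ≠ 1 := fun h => ha (Subtype.ext h)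
    have hb' : (b : P) ≠ 1 := fun h => hb (Subtype.ext h)
    obtain ⟨k, hk, huniq⟩ := hreg a b ha' a.2.2 hb' b.2.2
    exact ⟨k, Subtype.ext hk, fun l hl => huniq l (congrArg Subtype.val hl)⟩
  -- an element outside Ω
  obtain ⟨x₁, hx₁⟩ : ∃ x₁ : P, x₁ ∉ Om P := by
    obtain ⟨x, y, hxy⟩ := hna
    refine ⟨x, fun h => hxy ?_⟩
    exact (Subgroup.mem_center_iff.mp h.1 y).symm
  have hsq : ∀ p : P, p * p ∈ Om P := by
    intro p
    rw [← QuotientGroup.eq_one_iff, QuotientGroup.mk_mul]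
    exact hexpX _
  have hV : ∀ p : P, p * p = 1 → p ∈ Om P := fun p hp => (mem_Om_iff hP hreg).mpr hp
  have hv₀ : (⟨x₁ * x₁, hsq x₁⟩ : Om P) ≠ 1 := by
    intro h
    exact hx₁ (hV x₁ (congrArg Subtype.val h))
  have hxb₁ : (x₁ : P ⧸ Om P) ≠ 1 := fun h => hx₁ ((QuotientGroup.eq_one_iff x₁).mp h)
  have hFX : Fintype.card F = Nat.card (P ⧸ Om P) := by rw [hF, hcardV, hcardX]
  obtain ⟨θV, lamV, hθVbij, hθVadd, hθV1, hlamVbij, hlamVmul, hθVk⟩ :=
    exists_field_model_mul (K := K) (G := Om P) habV hcomm hregV ⟨x₁ * x₁, hsq x₁⟩ hv₀ F hF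
  obtain ⟨θX, lamX, hθXbij, hθXadd, hθX1, hlamXbij, hlamXmul, hθXk⟩ :=
    exists_field_model_mul (K := K) (G := P ⧸ Om P) habX hcomm hregX (x₁ : P ⧸ Om P) hxb₁ F hFX
  have hθX0 : θX 1 = 0 := by
    have := hθXadd 1 1
    rw [mul_one] at this
    linear_combination -this
  refine typeA_of_coords (K := K) F hV hna (fun p => θX (p : P ⧸ Om P)) ?_ ?_ ?_ θV hθVadd hθVbij
    lamX lamV hlamXbij.2 hlamVbij.1 hlamVmul ?_ ?_ x₁ hθX1 ?_
  · intro p p'
    show θX ((p * p' : P) : P ⧸ Om P) = _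
    rw [QuotientGroup.mk_mul, hθXadd]
  · intro p
    show θX (p : P ⧸ Om P) = 0 ↔ _
    rw [← QuotientGroup.eq_one_iff]
    constructor
    · intro h
      exact hθXbij.1 (h.trans hθX0.symm)
    · intro h
      rw [h, hθX0]
  · intro t
    obtain ⟨a, ha⟩ := hθXbij.2 t
    induction a using QuotientGroup.induction_on with
    | H p => exact ⟨p, ha⟩
  · intro k p
    exact hθXk k (p : P ⧸ Om P)
  · intro k v h
    exact hθVk k v
  · intro h
    exact hθV1

end main

end Cfsg.Agent.Helper17.Suz2
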