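import Mathlib
import Cfsg.Agent.Helper29.TV2Basic

/-! Board `tv2pieces`, row EK (helper17), CORE: the subgroups `E_K = ⟨K x⟩` generated by the cliques; the rows DE, USPAN, L0ND,
SYMC, TRANS enter through the structure `EKDeps`. -/

set_option linter.unusedSectionVars false

set_option autoImplicit false

namespace Cfsg.Agent.TV2

variable {P : Type*} [Group P] [Finite P] {W : Type*} [AddCommGroup W] [Module (ZMod 2) W] [Finite W] [DistribMulAction P W]

/-- the facts from the rows DE, USPAN, L0ND, SYMC, TRANS used by the row EK. -/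
structure EKDeps (C : Ctx P W) : Prop where
  tv : ∀ {d : P}, d ∈ C.D → Tv W d
  closure_D1 : Subgroup.closure C.D1 = C.E
  sub_mem : ∀ (S : Set P), (∀ d ∈ S, Tv W d) → ∀ {e : P}, e ∈ Subgroup.closure S → ∀ w : W, e • w - w ∈ cspan W S
  U_D1 : C.U = cspan W C.D1
  l0 : ∀ {e : P}, e ∈ C.E → (∀ u ∈ C.U, e • u = u) → e = 1
  commute : ∀ {d e : P}, d ∈ C.D → e ∈ C.D → B W d e = 0 → d * e = e * d
  K_eq : ∀ {x y : P}, x ∈ C.D1 → y ∈ C.K x → C.K y = C.K x
  B_zero : ∀ {x y y' : P}, x ∈ C.D1 → y ∈ C.K x → y' ∈ C.D1 → y' ∉ C.K x → B W y y' = 0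

theorem EK_aux_K_sub_D1 (C : Ctx P W) (x : P) : C.K x ⊆ C.D1 := fun _ hy => hy.1

theorem EK_aux_K_sub_D (C : Ctx P W) (x : P) : C.K x ⊆ C.D := fun _ hy => hy.1.1

theorem EK_aux_self_mem (C : Ctx P W) {x : P} (hx : x ∈ C.D1) : x ∈ C.K x := ⟨hx, Or.inl rfl⟩

/-- members of different cliques have `B = 0`. -/
theorem EK_aux_B_zero (C : Ctx P W) (hD : EKDeps C) {x y : P} (hx : x ∈ C.D1) (hy : y ∈ C.D1) (hne : C.K x ≠ C.K y) {k k' : P}
    (hk : k ∈ C.K x) (hk' : k' ∈ C.K y) : B W k k' = 0 := by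
  apply hD.B_zero hx hk hk'.1
  intro hmem
  apply hne
  rw [← hD.K_eq hx hmem, hD.K_eq hy hk']

theorem EK_comm_core (C : Ctx P W) (hD : EKDeps C) {x y : P} (hx : x ∈ C.D1) (hy : y ∈ C.D1) (hne : C.K x ≠ C.K y) {g h : P}
    (hg : g ∈ Subgroup.closure (C.K x)) (hh : h ∈ Subgroup.closure (C.K y)) : g * h = h * g := by
  have h1 : Subgroup.closure (C.K x) ≤ Subgroup.centralizer (C.K y) := by
    rw [Subgroup.closure_le]
    intro k hk
    rw [SetLike.mem_coe, Subgroup.mem_centralizer_iff]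
    intro k' hk'
    exact hD.commute (EK_aux_K_sub_D C y hk') (EK_aux_K_sub_D C x hk)
      (EK_aux_B_zero C hD hy hx (Ne.symm hne) hk' hk)
  have h2 : Subgroup.closure (C.K y) ≤ Subgroup.centralizer ({g} : Set P) := by
    rw [Subgroup.closure_le]
    intro k' hk'
    rw [SetLike.mem_coe, Subgroup.mem_centralizer_iff]
    intro g' hg'
    rw [Set.mem_singleton_iff] at hg'
    rw [hg']
    exact (Subgroup.mem_centralizer_iff.mp (h1 hg) k' hk').symm
  exact Subgroup.mem_centralizer_iff.mp (h2 hh) g rfl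

theorem EK_iSup_core (C : Ctx P W) (hD : EKDeps C) : (⨆ x ∈ C.D1, Subgroup.closure (C.K x)) = C.E := by
  apply le_antisymm
  · refine iSup₂_le fun x _ => ?_
    exact Subgroup.closure_mono (EK_aux_K_sub_D C x)
  · rw [← hD.closure_D1, Subgroup.closure_le]
    intro x hx
    have h1 : x ∈ Subgroup.closure (C.K x) := Subgroup.subset_closure (EK_aux_self_mem C hx)
    exact (le_iSup₂ (f := fun x (_ : x ∈ C.D1) => Subgroup.closure (C.K x)) x hx) h1

theorem EK_fix_core (C : Ctx P W) (hD : EKDeps C) {x y : P} (hx : x ∈ C.D1) (hy : y ∈ C.D1) (hne : C.K x ≠ C.K y) {g : P}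
    (hg : g ∈ Subgroup.closure (C.K x)) {u : W} (hu : u ∈ cspan W (C.K y)) : g • u = u := by
  -- generators
  have h1 : ∀ k ∈ C.K x, ∀ u ∈ cspan W (C.K y), k • u = u := by
    intro k hk u hu
    unfold cspan at hu
    induction hu using AddSubgroup.closure_induction with
    | mem v hv =>
      obtain ⟨k', hk', rfl⟩ := hv
      have hkt : Tv W k := hD.tv (EK_aux_K_sub_D C x hk)
      rw [Tv.smul_cen hkt, EK_aux_B_zero C hD hx hy hne hk hk', zero_smul, add_zero]
    | zero => exact smul_zero k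
    | add a b _ _ ha hb => rw [smul_add, ha, hb]
    | neg a _ ha => rw [smul_neg, ha]
  induction hg using Subgroup.closure_induction with
  | mem k hk => exact h1 k hk u hu
  | one => exact one_smul _ u
  | mul a b _ _ ha hb => rw [mul_smul, hb, ha]
  | inv a _ ha =>
    calc a⁻¹ • u = a⁻¹ • (a • u) := by rw [ha]
      _ = u := inv_smul_smul a u

theorem EK_commS_core (C : Ctx P W) (hD : EKDeps C) {x : P} (hx : x ∈ C.D1) : commS W (Subgroup.closure (C.K x)) = cspan W (C.K x) := by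
  have hS : ∀ d ∈ C.K x, Tv W d := fun d hd => hD.tv (EK_aux_K_sub_D C x hd)
  apply le_antisymm
  · unfold commS
    rw [AddSubgroup.closure_le]
    rintro _ ⟨h, hh, w, rfl⟩
    exact hD.sub_mem (C.K x) hS hh w
  · unfold cspan
    rw [AddSubgroup.closure_le]
    rintro _ ⟨k, hk, rfl⟩
    obtain ⟨w, hw⟩ := (hS k hk).exists_fn_eq_one
    rw [(hS k hk).cen_eq_sub hw]
    exact AddSubgroup.subset_closure ⟨k, Subgroup.subset_closure hk, w, rfl⟩

theorem EK_U_core (C : Ctx P W) (hD : EKDeps C) : C.U = ⨆ x ∈ C.D1, cspan W (C.K x) := by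
  rw [hD.U_D1]
  apply le_antisymm
  · unfold cspan
    rw [AddSubgroup.closure_le]
    rintro _ ⟨d, hd, rfl⟩
    have h1 : cen W d ∈ AddSubgroup.closure {u | ∃ d' ∈ C.K d, u = cen W d'} :=
      AddSubgroup.subset_closure ⟨d, EK_aux_self_mem C hd, rfl⟩
    exact (le_iSup₂ (f := fun x (_ : x ∈ C.D1) => AddSubgroup.closure {u | ∃ d' ∈ C.K x, u = cen W d'}) d hd) h1
  · refine iSup₂_le fun x _ => ?_
    unfold cspan
    apply AddSubgroup.closure_mono
    rintro _ ⟨d, hd, rfl⟩
    exact ⟨d, EK_aux_K_sub_D1 C x hd, rfl⟩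

theorem EK_indep_core (C : Ctx P W) (hD : EKDeps C) {x : P} (hx : x ∈ C.D1) :
    Subgroup.closure (C.K x) ⊓ (⨆ y ∈ {y | y ∈ C.D1 ∧ C.K y ≠ C.K x}, Subgroup.closure (C.K y)) = ⊥ := by
  rw [eq_bot_iff]
  intro g hg
  obtain ⟨hg1, hg2⟩ := Subgroup.mem_inf.mp hg
  rw [Subgroup.mem_bot]
  have hgE : g ∈ C.E := by
    rw [← EK_iSup_core C hD]
    exact (le_iSup₂ (f := fun x (_ : x ∈ C.D1) => Subgroup.closure (C.K x)) x hx) hg1
  apply hD.l0 hgE
  -- `g` fixes every `cspan (K y')`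
  have hfix : ∀ y' ∈ C.D1, ∀ u ∈ cspan W (C.K y'), g • u = u := by
    intro y' hy' u hu
    by_cases hK : C.K y' = C.K x
    · -- use the second membership
      have hle : (⨆ y ∈ {y | y ∈ C.D1 ∧ C.K y ≠ C.K x}, Subgroup.closure (C.K y)) ≤
          MulAction.stabilizer P u := by
        refine iSup₂_le fun y hy => ?_
        intro e he
        rw [MulAction.mem_stabilizer_iff]
        have hne : C.K y ≠ C.K y' := by rw [hK]; exact hy.2
        exact EK_fix_core C hD hy.1 hy' hne he hu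
      exact MulAction.mem_stabilizer_iff.mp (hle hg2)
    · exact EK_fix_core C hD hx hy' (Ne.symm hK) hg1 hu
  intro u hu
  rw [EK_U_core C hD] at hu
  -- the fixed points of `g` form an additive subgroup
  let Fx : AddSubgroup W :=
    { carrier := {w | g • w = w}
      zero_mem' := smul_zero g
      add_mem' := fun {a b} ha hb => by
        show g • (a + b) = a + b
        rw [smul_add, ha, hb]
      neg_mem' := fun {a} ha => by
        show g • (-a) = -a
        rw [smul_neg, ha] }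
  have hle : (⨆ x ∈ C.D1, cspan W (C.K x)) ≤ Fx := by
    refine iSup₂_le fun y' hy' => ?_
    intro u hu
    exact hfix y' hy' u hu
  exact hle hu

end Cfsg.Agent.TV2
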