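import Mathlib
import Cfsg.Agent.Helper17.Zsigmondy
import Cfsg.Agent.S4422

/-!
# The primitive part of `a ^ n - 1`

Structure of the prime divisors of `Φ_n(a)` (primitive / the unique non-primitive one),
the primitive part `P` of `Φ_n(a)` and lower bounds for it.
-/

set_option autoImplicit false

namespace Cfsg.Agent.Helper17.Zsig

open Polynomial

/-- structure of a non-primitive prime divisor `r` of `Φ_n(a)`:
`n = m * r^j` with `m = ord_r(a)` dividing `r - 1`, `j ≥ 1`. -/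
theorem struct_of_dvd_Phi' {n a r : ℕ} (ha : 1 < a) (hn : 1 < n)
    [hrp : Fact r.Prime] (hr : (r : ℤ) ∣ Phi n a) (hlt : orderOf ((a : ZMod r)) < n) :
    ∃ m j : ℕ, 0 < m ∧ m ∣ r - 1 ∧ 0 < j ∧ n = m * r ^ j ∧
      ∀ d, m ∣ d → ((a : ZMod r)) ^ d = 1 := by
  have han := pow_eq_one_of_dvd_Phi hr
  set m := orderOf ((a : ZMod r)) with hm
  have hmn : m ∣ n := orderOf_dvd_of_pow_eq_one han
  have hfin : IsOfFinOrder ((a : ZMod r)) :=
    isOfFinOrder_iff_pow_eq_one.2 ⟨n, by omega, han⟩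
  have hm0 : 0 < m := hfin.orderOf_pos
  have hmlt : m < n := hlt
  have ha0 : ((a : ZMod r)) ≠ 0 := by
    intro h0
    rw [h0, zero_pow (by omega)] at han
    exact zero_ne_one han
  have hmr : m ∣ r - 1 := orderOf_dvd_of_pow_eq_one (ZMod.pow_card_sub_one_eq_one ha0)
  have hpow : ∀ d, m ∣ d → ((a : ZMod r)) ^ d = 1 := fun d hd =>
    orderOf_dvd_iff_pow_eq_one.1 hd
  obtain ⟨q, hq⟩ := hmn
  have hq1 : 1 < q := by
    by_contra h
    have : q = 0 ∨ q = 1 := by omega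
    rcases this with rfl | rfl
    · omega
    · omega
  have hnq : n / m = q := by rw [hq]; exact Nat.mul_div_cancel_left q hm0
  have hrq : r ∣ q := by
    have := dvd_div_of_dvd_Phi ha ⟨q, hq⟩ hmlt hm0 hr (hpow m dvd_rfl)
    rwa [hnq] at this
  have huniq : ∀ {p : ℕ}, p.Prime → p ∣ q → p = r := by
    intro p hp hpq
    obtain ⟨t, ht⟩ := hpq
    have hpn : p ∣ n := ⟨m * t, by rw [hq, ht]; ring⟩
    have hd : n / p ∣ n := Nat.div_dvd_of_dvd hpn
    have hdlt : n / p < n := Nat.div_lt_self (by omega) hp.one_lt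
    have hd0 : 0 < n / p := Nat.div_pos (Nat.le_of_dvd (by omega) hpn) hp.pos
    have hnp : n / p = m * t := by
      rw [hq, ht]
      rw [show m * (p * t) = p * (m * t) by ring]
      exact Nat.mul_div_cancel_left _ hp.pos
    have hmd : m ∣ n / p := ⟨t, hnp⟩
    have h1 := dvd_div_of_dvd_Phi ha hd hdlt hd0 hr (hpow _ hmd)
    rw [Nat.div_div_self hpn (by omega)] at h1
    exact ((Nat.prime_dvd_prime_iff_eq hrp.out hp).1 h1).symm
  have hqpow := Nat.eq_prime_pow_of_unique_prime_dvd (by omega : q ≠ 0) huniq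
  refine ⟨m, q.primeFactorsList.length, hm0, hmr, ?_, ?_, hpow⟩
  · rcases Nat.eq_zero_or_pos q.primeFactorsList.length with h0 | h0
    · rw [h0, pow_zero] at hqpow
      omega
    · exact h0
  · rw [hq]
    congr 1

theorem nonprim_dvd {n a r : ℕ} (ha : 1 < a) (hn : 1 < n)
    [hrp : Fact r.Prime] (hr : (r : ℤ) ∣ Phi n a) (hlt : orderOf ((a : ZMod r)) < n) :
    r ∣ n := by
  obtain ⟨m, j, hm0, hmr, hj, hnm, -⟩ := struct_of_dvd_Phi' ha hn hr hlt
  rw [hnm]; exact Dvd.dvd.mul_left (dvd_pow_self r hj.ne') m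

theorem nonprim_unique_aux {n a r r' : ℕ} (ha : 1 < a) (hn : 1 < n)
    [hrp : Fact r.Prime] [hrp' : Fact r'.Prime] (hr : (r : ℤ) ∣ Phi n a)
    (hr' : (r' : ℤ) ∣ Phi n a) (hlt : orderOf ((a : ZMod r)) < n)
    (hlt' : orderOf ((a : ZMod r')) < n) (h : r < r') : False := by
  obtain ⟨m, j, hm0, hmr, hj, hnm, -⟩ := struct_of_dvd_Phi' ha hn hr hlt
  obtain ⟨m', j', hm0', hmr', hj', hnm', -⟩ := struct_of_dvd_Phi' ha hn hr' hlt'
  have h1 : r' ∣ m * r ^ j := by
    rw [← hnm, hnm']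
    exact Dvd.dvd.mul_left (dvd_pow_self r' hj'.ne') m'
  rcases (Nat.Prime.dvd_mul hrp'.out).1 h1 with h2 | h2
  · have h3 := Nat.le_of_dvd hm0 h2
    have h4 := Nat.le_of_dvd (by have := hrp.out.two_le; omega) hmr
    omega
  · have h3 := hrp'.out.dvd_of_dvd_pow h2
    have h4 := (Nat.prime_dvd_prime_iff_eq hrp'.out hrp.out).1 h3
    omega

theorem nonprim_unique {n a r r' : ℕ} (ha : 1 < a) (hn : 1 < n)
    (hrp : r.Prime) (hrp' : r'.Prime) (hr : (r : ℤ) ∣ Phi n a)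
    (hr' : (r' : ℤ) ∣ Phi n a) (hlt : orderOf ((a : ZMod r)) < n)
    (hlt' : orderOf ((a : ZMod r')) < n) : r = r' := by
  have := Fact.mk hrp
  have := Fact.mk hrp'
  rcases lt_trichotomy r r' with h | h | h
  · exact (nonprim_unique_aux ha hn hr hr' hlt hlt' h).elim
  · exact h
  · exact (nonprim_unique_aux ha hn hr' hr hlt' hlt h).elim

/-- for an odd non-primitive prime `r`, `r^2 ∤ Φ_n(a)` -/
theorem not_sq_dvd_of_odd' {n a r : ℕ} (ha : 1 < a) (hn : 1 < n)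
    [hrp : Fact r.Prime] (hodd : Odd r) (hr : (r : ℤ) ∣ Phi n a)
    (hlt : orderOf ((a : ZMod r)) < n) :
    ¬ ((r : ℤ) ^ 2 ∣ Phi n a) := by
  obtain ⟨m, j, hm0, hmr, hj, hnm, hpow⟩ := struct_of_dvd_Phi' ha hn hr hlt
  obtain ⟨j', rfl⟩ : ∃ j', j = j' + 1 := ⟨j - 1, by omega⟩
  set d := m * r ^ j' with hd
  have hr2 := hrp.out.two_le
  have hd0 : 0 < d := Nat.mul_pos hm0 (pow_pos (by omega) _)
  have hnd : n = d * r := by rw [hnm, hd, pow_succ]; ring
  have hdn : d ∣ n := ⟨r, hnd⟩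
  have hdlt : d < n := by rw [hnd]; nlinarith
  have hndr : n / d = r := by rw [hnd]; exact Nat.mul_div_cancel_left r hd0
  have hG := Phi_dvd_geom ha hdn hdlt hd0
  rw [hndr] at hG
  have had : ((a : ZMod r)) ^ d = 1 := hpow d ⟨r ^ j', rfl⟩
  have hxy : (r : ℤ) ∣ (a : ℤ) ^ d - 1 := by
    rw [← ZMod.intCast_zmod_eq_zero_iff_dvd]
    push_cast
    rw [had, sub_self]
  have hx : ¬ (r : ℤ) ∣ (a : ℤ) ^ d := by
    intro h
    have h1 : (r : ℤ) ∣ 1 := by
      have := dvd_sub h hxy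
      simpa using this
    have h2 := Int.natCast_dvd_natCast.1 (by simpa using h1 : ((r : ℕ) : ℤ) ∣ ((1 : ℕ) : ℤ))
    have := Nat.le_of_dvd one_pos h2
    omega
  have hprime : Prime (r : ℤ) := Nat.prime_iff_prime_int.1 hrp.out
  have hmul := emultiplicity_geom_sum₂_eq_one (R := ℤ) (p := r) (x := (a : ℤ) ^ d) (y := 1)
    hprime hodd hxy hx
  simp only [one_pow, mul_one] at hmul
  have h3 := (emultiplicity_eq_coe.1 (by exact_mod_cast hmul :
    emultiplicity (r : ℤ) (∑ i ∈ Finset.range r, ((a : ℤ) ^ d) ^ i) = ((1 : ℕ) : ℕ∞))).2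
  intro h4
  exact h3 (h4.trans hG)

/-- the case `r = 2`: either `n = 2` or `4 ∤ Φ_n(a)` -/
theorem two_case' {n a : ℕ} (ha : 1 < a) (hn : 1 < n)
    (hr : ((2 : ℕ) : ℤ) ∣ Phi n a) (hlt : orderOf ((a : ZMod 2)) < n) :
    n = 2 ∨ ¬ (((2 : ℕ) : ℤ) ^ 2 ∣ Phi n a) := by
  have : Fact (Nat.Prime 2) := ⟨Nat.prime_two⟩
  obtain ⟨m, j, hm0, hmr, hj, hnm, hpow⟩ := struct_of_dvd_Phi' ha hn hr hlt
  have hm1 : m = 1 := by
    have := Nat.le_of_dvd (by norm_num) hmr
    omega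
  subst hm1
  rw [one_mul] at hnm
  rcases Nat.lt_or_ge j 2 with hj2 | hj2
  · left
    have : j = 1 := by omega
    rw [hnm, this, pow_one]
  · right
    obtain ⟨j', rfl⟩ : ∃ j', j = j' + 2 := ⟨j - 2, by omega⟩
    set d := 2 ^ (j' + 1) with hd
    have hd0 : 0 < d := pow_pos (by norm_num) _
    have hnd : n = d * 2 := by rw [hnm, hd, pow_succ]
    have hdn : d ∣ n := ⟨2, hnd⟩
    have hdlt : d < n := by omega
    have hndr : n / d = 2 := by rw [hnd]; exact Nat.mul_div_cancel_left 2 hd0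
    have hG := Phi_dvd_geom ha hdn hdlt hd0
    rw [hndr] at hG
    rw [Finset.sum_range_succ, Finset.sum_range_one, pow_zero, pow_one] at hG
    -- `a` is odd
    have hodd : Odd (a : ℤ) := by
      have h1 := pow_eq_one_of_dvd_Phi hr
      rcases Nat.even_or_odd a with he | ho
      · exfalso
        have h0 : ((a : ZMod 2)) = 0 := by
          rw [ZMod.natCast_eq_zero_iff]
          exact even_iff_two_dvd.1 he
        rw [h0, zero_pow (by omega)] at h1
        exact zero_ne_one h1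
      · exact_mod_cast ho
    have hsq : ((a : ℤ) ^ d) = (((a : ℤ) ^ (2 ^ j')) ^ 2) := by
      rw [← pow_mul, hd, pow_succ]
    have hodd2 : Odd ((a : ℤ) ^ (2 ^ j')) := hodd.pow
    have h4 := Int.sq_mod_four_eq_one_of_odd hodd2
    intro h5
    have h6 : (4 : ℤ) ∣ 1 + (a : ℤ) ^ d := by
      have := h5.trans hG
      norm_num at this
      exact this
    rw [hsq] at h6
    omega

theorem not_sq_dvd' {n a r : ℕ} (ha : 1 < a) (hn : 2 < n)
    (hrp : r.Prime) (hr : (r : ℤ) ∣ Phi n a)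
    (hlt : orderOf ((a : ZMod r)) < n) :
    ¬ ((r : ℤ) ^ 2 ∣ Phi n a) := by
  rcases hrp.eq_two_or_odd' with h | h
  · subst h
    rcases two_case' ha (by omega) hr hlt with h3 | h3
    · omega
    · exact h3
  · have := Fact.mk hrp
    exact not_sq_dvd_of_odd' ha (by omega) h hr hlt

theorem orderOf_le_of_dvd_Phi {n a r : ℕ} (hn : 0 < n) (hr : (r : ℤ) ∣ Phi n a) :
    orderOf ((a : ZMod r)) ≤ n :=
  Nat.le_of_dvd hn (orderOf_dvd_of_pow_eq_one (pow_eq_one_of_dvd_Phi hr))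

/-- **The primitive part**: `Φ_n(a) = g * P` where `g` is `1` or a prime divisor of `n`, and all
prime divisors of `P` are primitive. -/
theorem prim_part {a n : ℕ} (ha : 1 < a) (hn : 2 < n) :
    ∃ P g : ℕ, (Phi n a).natAbs = g * P ∧ (g = 1 ∨ (g.Prime ∧ g ∣ n)) ∧
      ∀ p : ℕ, p.Prime → p ∣ P → orderOf ((a : ZMod p)) = n := by
  by_cases hex : ∃ r : ℕ, r.Prime ∧ r ∣ (Phi n a).natAbs ∧ orderOf ((a : ZMod r)) < n
  · obtain ⟨r, hrp, hrN, hlt⟩ := hex
    have hr : (r : ℤ) ∣ Phi n a := Int.natCast_dvd.2 hrN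
    have := Fact.mk hrp
    refine ⟨(Phi n a).natAbs / r, r, (Nat.mul_div_cancel' hrN).symm,
      Or.inr ⟨hrp, nonprim_dvd ha (by omega) hr hlt⟩, ?_⟩
    intro p hp hpd
    have hpN : p ∣ (Phi n a).natAbs := hpd.trans (Nat.div_dvd_of_dvd hrN)
    have hp' : (p : ℤ) ∣ Phi n a := Int.natCast_dvd.2 hpN
    by_contra hne
    have hlt' : orderOf ((a : ZMod p)) < n :=
      lt_of_le_of_ne (orderOf_le_of_dvd_Phi (by omega) hp') hne
    have hpr : p = r := nonprim_unique ha (by omega) hp hrp hp' hr hlt' hlt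
    subst hpr
    apply not_sq_dvd' ha hn hrp hr hlt
    have h2 : p * p ∣ (Phi n a).natAbs := by
      have := Nat.mul_dvd_mul_left p hpd
      rwa [Nat.mul_div_cancel' hrN] at this
    have h3 : ((p * p : ℕ) : ℤ) ∣ Phi n a := Int.natCast_dvd.2 h2
    rw [pow_two]
    exact_mod_cast h3
  · push Not at hex
    refine ⟨(Phi n a).natAbs, 1, (one_mul _).symm, Or.inl rfl, ?_⟩
    intro p hp hpd
    have hp' : (p : ℤ) ∣ Phi n a := Int.natCast_dvd.2 hpd
    exact le_antisymm (orderOf_le_of_dvd_Phi (by omega) hp') (hex p hp hpd)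

theorem natAbs_Phi_dvd (n : ℕ) {a : ℕ} (ha : 0 < a) : (Phi n a).natAbs ∣ a ^ n - 1 := by
  have h := Phi_dvd n a
  have h1 : ((a : ℤ) ^ n - 1) = ((a ^ n - 1 : ℕ) : ℤ) := by
    rw [Nat.cast_sub (Nat.one_le_pow _ _ ha)]
    push_cast
    rfl
  rw [h1] at h
  exact Int.natAbs_dvd_natAbs.2 h |>.trans (by rw [Int.natAbs_natCast])

/-- divisors all of whose prime factors are primitive are coprime to the `a^i - 1`, `i < n`,
and congruent to `1` modulo `n`. -/
theorem prim_props {a n P : ℕ} (ha : 1 < a) (hn : 0 < n) (hPd : P ∣ (Phi n a).natAbs)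
    (hP : ∀ p : ℕ, p.Prime → p ∣ P → orderOf ((a : ZMod p)) = n) :
    P ∣ a ^ n - 1 ∧ (∀ i : ℕ, 1 ≤ i → i < n → Nat.Coprime P (a ^ i - 1)) ∧ P % n = 1 % n := by
  have h1 : P ∣ a ^ n - 1 := hPd.trans (natAbs_Phi_dvd n (by omega))
  have h2 : ∀ i : ℕ, 1 ≤ i → i < n → Nat.Coprime P (a ^ i - 1) := by
    intro i hi hin
    apply Nat.coprime_of_dvd
    intro p hp hpP hpa
    have h3 := (cast_pow_eq_one_iff (by omega : 0 < a) i p).2 hpa
    have h4 := orderOf_dvd_of_pow_eq_one h3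
    rw [hP p hp hpP] at h4
    have := Nat.le_of_dvd (by omega) h4
    omega
  exact ⟨h1, h2, Cfsg.Agent.S4422.result a n P (by omega) (by omega) h1 h2⟩

end Cfsg.Agent.Helper17.Zsig
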