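import Mathlib
import Cfsg.Agent.Helper17.Zsigmondy2

/-!
# Lower bounds for `Φ_n(a)` and the size of the primitive part
-/

set_option autoImplicit false

namespace Cfsg.Agent.Helper17.Zsig

open Polynomial

/-- computable `Φ_n(q)` by the product formula, with fuel -/
def cyc (q : ℕ) : ℕ → ℕ → ℕ
  | 0, _ => 0
  | f + 1, n =>
    (q ^ n - 1) / (((List.range n).filter (fun d => decide (0 < d) && decide (d ∣ n))).map (cyc q f)).prod

theorem cyc_eq {q : ℕ} (hq : 1 < q) : ∀ f n : ℕ, 0 < n → n ≤ f → (cyc q f n : ℤ) = Phi n q := by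
  intro f
  induction f with
  | zero => intro n h1 h2; omega
  | succ f ih =>
    intro n hn hnf
    set L := (List.range n).filter (fun d => decide (0 < d) && decide (d ∣ n)) with hL
    have hLf : L.toFinset = n.properDivisors := by
      ext d
      simp only [hL, List.mem_toFinset, List.mem_filter, List.mem_range, Bool.and_eq_true,
        decide_eq_true_eq, Nat.mem_properDivisors]
      constructor
      · rintro ⟨h1, h2, h3⟩; exact ⟨h3, h1⟩
      · rintro ⟨h1, h2⟩; exact ⟨h2, Nat.pos_of_dvd_of_pos h1 hn, h1⟩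
    have hnd : L.Nodup := (List.nodup_range).filter _
    have hA : (((L.map (cyc q f)).prod : ℕ) : ℤ) = ∏ d ∈ n.properDivisors, Phi d q := by
      rw [← List.prod_toFinset _ hnd, hLf]
      push_cast
      apply Finset.prod_congr rfl
      intro d hd
      rw [Nat.mem_properDivisors] at hd
      exact ih d (Nat.pos_of_dvd_of_pos hd.1 hn) (by omega)
    have hprod : ((q : ℤ) ^ n - 1) = (∏ d ∈ n.properDivisors, Phi d q) * Phi n q := by
      have h := congrArg (eval (q : ℤ)) (prod_cyclotomic_eq_X_pow_sub_one hn ℤ)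
      rw [eval_prod, ← Nat.insert_self_properDivisors (by omega : n ≠ 0),
        Finset.prod_insert Nat.self_notMem_properDivisors] at h
      simp only [eval_sub, eval_pow, eval_X, eval_one] at h
      rw [← h, mul_comm]
      rfl
    have hApos : 0 < ∏ d ∈ n.properDivisors, Phi d q :=
      Finset.prod_pos (fun d _ => Phi_pos d hq)
    have hA0 : 0 < (L.map (cyc q f)).prod := by
      have : (0 : ℤ) < (((L.map (cyc q f)).prod : ℕ) : ℤ) := by rw [hA]; exact hApos
      exact_mod_cast this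
    have hN : (((Phi n q).natAbs : ℕ) : ℤ) = Phi n q :=
      Int.natAbs_of_nonneg (Phi_pos n hq).le
    have hnat : q ^ n - 1 = (L.map (cyc q f)).prod * (Phi n q).natAbs := by
      have h1 : (((q ^ n - 1 : ℕ)) : ℤ) = (((L.map (cyc q f)).prod * (Phi n q).natAbs : ℕ) : ℤ) := by
        rw [Nat.cast_sub (Nat.one_le_pow _ _ (by omega)), Nat.cast_mul, hN, hA, ← hprod]
        push_cast
        rfl
      exact_mod_cast h1
    have hc : cyc q (f + 1) n = (q ^ n - 1) / (L.map (cyc q f)).prod := rfl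
    rw [hc, hnat, Nat.mul_div_cancel_left _ hA0, hN]

theorem natAbs_Phi_eq_cyc {q : ℕ} (hq : 1 < q) {n : ℕ} (hn : 0 < n) :
    (Phi n q).natAbs = cyc q n n := by
  have h := cyc_eq hq n n hn le_rfl
  rw [← h]
  rfl


/-- the pairs `(a, n)` for which `Φ_n(a) ≤ s (2n+1)` for the largest prime `s ∣ n` -/
def TList : List (ℕ × ℕ) :=
  [(2, 3), (2, 4), (2, 5), (2, 6), (2, 8), (2, 10), (2, 12), (2, 14), (2, 15), (2, 18), (2, 20),
   (3, 3), (3, 4), (3, 6), (3, 10), (3, 12), (4, 3), (4, 4), (4, 6), (5, 6), (6, 6)]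

def isPrimeB (s : ℕ) : Bool :=
  decide (2 ≤ s) && (List.range s).all (fun t => !(decide (t ∣ s)) || decide (t ≤ 1))

theorem isPrimeB_of_prime {s : ℕ} (hs : s.Prime) : isPrimeB s = true := by
  unfold isPrimeB
  simp only [Bool.and_eq_true, decide_eq_true_eq, List.all_eq_true, List.mem_range,
    Bool.or_eq_true, Bool.not_eq_true', decide_eq_false_iff_not]
  refine ⟨hs.two_le, ?_⟩
  intro t ht
  by_cases h : t ∣ s
  · right
    rcases (Nat.dvd_prime hs).1 h with h1 | h1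
    · omega
    · omega
  · left; exact h

def chkV (n v : ℕ) : Bool :=
  (List.range (n + 1)).all (fun s => !(decide (s ∣ n)) || !(isPrimeB s) ||
    decide (s * (2 * n + 1) < v))

theorem chkV_spec {n v : ℕ} (hn : 0 < n) (h : chkV n v = true) {s : ℕ} (hs : s.Prime)
    (hsn : s ∣ n) : s * (2 * n + 1) < v := by
  unfold chkV at h
  rw [List.all_eq_true] at h
  have h1 := h s (List.mem_range.2 (by have := Nat.le_of_dvd hn hsn; omega))
  simp only [Bool.or_eq_true, Bool.not_eq_true', decide_eq_false_iff_not, decide_eq_true_eq] at h1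
  rcases h1 with (h1 | h1) | h1
  · exact (h1 hsn).elim
  · rw [isPrimeB_of_prime hs] at h1; exact absurd h1 (by simp)
  · exact h1

set_option maxRecDepth 100000 in
theorem tab_two : (List.range' 31 150).all (fun n => decide (n * (2 * n + 1) < cyc 2 n n)) = true := by
  decide +kernel

set_option maxRecDepth 100000 in
theorem tab_small : (List.range' 2 7).all (fun q => (List.range' 3 28).all (fun n =>
    decide ((q, n) ∈ TList) || chkV n (cyc q n n))) = true := by
  decide +kernel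

theorem small_case {q n : ℕ} (hq : 2 ≤ q) (hq8 : q ≤ 8) (hn : 3 ≤ n) (hn30 : n ≤ 30)
    (hT : (q, n) ∉ TList) {s : ℕ} (hs : s.Prime) (hsn : s ∣ n) :
    s * (2 * n + 1) < (Phi n q).natAbs := by
  have h := tab_small
  rw [List.all_eq_true] at h
  have h1 := h q (List.mem_range'_1.2 ⟨hq, by omega⟩)
  rw [List.all_eq_true] at h1
  have h2 := h1 n (List.mem_range'_1.2 ⟨hn, by omega⟩)
  simp only [Bool.or_eq_true, decide_eq_true_eq] at h2
  rcases h2 with h2 | h2
  · exact (hT h2).elim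
  · rw [natAbs_Phi_eq_cyc (by omega) (by omega)]
    exact chkV_spec (by omega) h2 hs hsn

theorem two_case_table {n : ℕ} (hn : 31 ≤ n) (hn180 : n ≤ 180) :
    n * (2 * n + 1) < (Phi n 2).natAbs := by
  have h := tab_two
  rw [List.all_eq_true] at h
  have h1 := h n (List.mem_range'_1.2 ⟨hn, by omega⟩)
  rw [natAbs_Phi_eq_cyc (by omega) (by omega)]
  simpa using h1


/-! ### totient bounds -/

theorem totient_sq_aux (n : ℕ) : (Odd n → n ≤ n.totient ^ 2) ∧ n ≤ 2 * n.totient ^ 2 := by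
  induction n using Nat.recOnPrimeCoprime with
  | zero => exact ⟨fun h => by simp at h, by simp⟩
  | prime_pow p k hp =>
    rcases Nat.eq_zero_or_pos k with rfl | hk
    · simp
    · obtain ⟨k', rfl⟩ : ∃ k', k = k' + 1 := ⟨k - 1, by omega⟩
      rw [Nat.totient_prime_pow_succ hp]
      have hp2 := hp.two_le
      have h1 : 1 ≤ p ^ k' := Nat.one_le_pow _ _ (by omega)
      have h2 : p ^ k' ≤ (p ^ k') ^ 2 := by nlinarith
      obtain ⟨m, rfl⟩ : ∃ m, p = m + 1 := ⟨p - 1, by omega⟩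
      simp only [Nat.add_sub_cancel]
      have hm : 1 ≤ m := by omega
      constructor
      · intro hodd
        have hm2 : 2 ≤ m := by
          by_contra hlt
          have : m = 1 := by omega
          subst this
          rw [Nat.odd_pow_iff (by omega)] at hodd
          exact absurd hodd (by decide)
        have h3 : m + 1 ≤ m ^ 2 := by nlinarith
        calc (m + 1) ^ (k' + 1) = (m + 1) ^ k' * (m + 1) := pow_succ _ _
          _ ≤ ((m + 1) ^ k') ^ 2 * m ^ 2 := Nat.mul_le_mul h2 h3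
          _ = ((m + 1) ^ k' * m) ^ 2 := by ring
      · have h3 : m + 1 ≤ 2 * m ^ 2 := by nlinarith
        calc (m + 1) ^ (k' + 1) = (m + 1) ^ k' * (m + 1) := pow_succ _ _
          _ ≤ ((m + 1) ^ k') ^ 2 * (2 * m ^ 2) := Nat.mul_le_mul h2 h3
          _ = 2 * ((m + 1) ^ k' * m) ^ 2 := by ring
  | coprime a b ha hb hab iha ihb =>
    rw [Nat.totient_mul hab]
    constructor
    · intro hodd
      rw [Nat.odd_mul] at hodd
      calc a * b ≤ a.totient ^ 2 * b.totient ^ 2 := Nat.mul_le_mul (iha.1 hodd.1) (ihb.1 hodd.2)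
        _ = (a.totient * b.totient) ^ 2 := by ring
    · rcases Nat.even_or_odd a with hea | hoa
      · have hob : Odd b := by
          by_contra hne
          rw [Nat.not_odd_iff_even] at hne
          have := Nat.dvd_gcd hea.two_dvd hne.two_dvd
          rw [hab] at this
          omega
        calc a * b ≤ (2 * a.totient ^ 2) * b.totient ^ 2 := Nat.mul_le_mul iha.2 (ihb.1 hob)
          _ = 2 * (a.totient * b.totient) ^ 2 := by ring
      · calc a * b ≤ a.totient ^ 2 * (2 * b.totient ^ 2) := Nat.mul_le_mul (iha.1 hoa) ihb.2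
          _ = 2 * (a.totient * b.totient) ^ 2 := by ring

theorem le_two_mul_totient_sq (n : ℕ) : n ≤ 2 * n.totient ^ 2 := (totient_sq_aux n).2

def totF (n : ℕ) : ℕ := ((List.range n).filter (fun d => Nat.gcd n d == 1)).length

theorem totF_eq (n : ℕ) : totF n = Nat.totient n := by
  rw [Nat.totient_eq_card_coprime, totF, ← List.toFinset_card_of_nodup ((List.nodup_range).filter _)]
  congr 1
  ext d
  simp [Nat.Coprime]

/-! ### exponential versus polynomial -/

theorem succ_pow_four_le {k : ℕ} (hk : 6 ≤ k) : (k + 1) ^ 4 ≤ 2 * k ^ 4 := by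
  have h1 : (k + 1) ^ 2 * 5 ≤ 7 * k ^ 2 := by nlinarith
  have h2 : ((k + 1) ^ 2 * 5) ^ 2 ≤ (7 * k ^ 2) ^ 2 := Nat.pow_le_pow_left h1 2
  have h3 : ((k + 1) ^ 2 * 5) ^ 2 = 25 * (k + 1) ^ 4 := by ring
  have h4 : (7 * k ^ 2) ^ 2 = 49 * k ^ 4 := by ring
  rw [h3, h4] at h2
  omega

theorem exp_poly {A B c k0 : ℕ} (hAB : 2 * A ≤ B) (hk0 : 6 ≤ k0)
    (h0 : A ^ k0 * (c * k0 ^ 4) ≤ B ^ k0) :
    ∀ k, k0 ≤ k → A ^ k * (c * k ^ 4) ≤ B ^ k := by
  intro k hk
  induction k, hk using Nat.le_induction with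
  | base => exact h0
  | succ k hk ih =>
    have h1 := succ_pow_four_le (by omega : 6 ≤ k)
    calc A ^ (k + 1) * (c * (k + 1) ^ 4) ≤ A ^ (k + 1) * (c * (2 * k ^ 4)) := by gcongr
      _ = (2 * A) * (A ^ k * (c * k ^ 4)) := by ring
      _ ≤ B * B ^ k := Nat.mul_le_mul hAB ih
      _ = B ^ (k + 1) := by ring

theorem sq_le_pow_four (k : ℕ) : k ^ 2 ≤ k ^ 4 := by
  rcases Nat.eq_zero_or_pos k with rfl | hk
  · simp
  · exact Nat.pow_le_pow_right hk (by norm_num)

theorem ineq1 {k : ℕ} (hk : 21 ≤ k) : 2 * k ^ 2 * (4 * k ^ 2 + 1) ≤ 2 ^ k := by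
  have h := exp_poly (A := 1) (B := 2) (c := 10) (k0 := 21) (by norm_num) (by norm_num)
    (by norm_num) k hk
  have h2 := sq_le_pow_four k
  have h3 : 2 * k ^ 2 * (4 * k ^ 2 + 1) = 8 * k ^ 4 + 2 * k ^ 2 := by ring
  rw [one_pow, one_mul] at h
  omega

theorem ineq2 {k : ℕ} (hk : 13 ≤ k) : 4 * k ^ 2 * (8 * k ^ 2 + 1) < 3 ^ k := by
  have h := exp_poly (A := 1) (B := 3) (c := 37) (k0 := 13) (by norm_num) (by norm_num)
    (by norm_num) k hk
  have h2 := sq_le_pow_four k
  have h3 : 4 * k ^ 2 * (8 * k ^ 2 + 1) = 32 * k ^ 4 + 4 * k ^ 2 := by ring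
  have h4 : 0 < k ^ 4 := pow_pos (by omega) _
  rw [one_pow, one_mul] at h
  omega

theorem ineq3 {k : ℕ} (hk : 19 ≤ k) : 3 ^ k * (6 * k ^ 2 * (12 * k ^ 2 + 1)) ≤ 7 ^ k := by
  have h := exp_poly (A := 3) (B := 7) (c := 73) (k0 := 19) (by norm_num) (by norm_num)
    (by norm_num) k hk
  have h2 : 6 * k ^ 2 ≤ k ^ 4 := by
    have : k ^ 4 = k ^ 2 * k ^ 2 := by ring
    rw [this]
    have : 6 ≤ k ^ 2 := by nlinarith
    nlinarith
  have h3 : 6 * k ^ 2 * (12 * k ^ 2 + 1) = 72 * k ^ 4 + 6 * k ^ 2 := by ring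
  have h5 : 6 * k ^ 2 * (12 * k ^ 2 + 1) ≤ 73 * k ^ 4 := by omega
  exact le_trans (Nat.mul_le_mul_left _ h5) h

theorem ineq5 {r : ℕ} (hr : 7 ≤ r) : r * (2 * r + 1) + 1 < 2 ^ r := by
  induction r, hr using Nat.le_induction with
  | base => norm_num
  | succ r hr ih =>
    rw [pow_succ]
    nlinarith

/-- the "good" inequality -/
def G (r k : ℕ) : Prop := 3 ^ k * (2 * r * k ^ 2 * (4 * r * k ^ 2 + 1)) ≤ (2 ^ r - 1) ^ k

theorem G_succ {r k : ℕ} (hr : 3 ≤ r) (hk : 1 ≤ k) (h : G r k) : G (r + 1) k := by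
  unfold G at h ⊢
  have h1 : 2 * (2 ^ r - 1) ≤ 2 ^ (r + 1) - 1 := by
    have : 1 ≤ 2 ^ r := Nat.one_le_pow _ _ (by norm_num)
    rw [pow_succ]; omega
  have h2 : (2 * (2 ^ r - 1)) ^ k ≤ (2 ^ (r + 1) - 1) ^ k := Nat.pow_le_pow_left h1 k
  have h3 : 2 * (2 ^ r - 1) ^ k ≤ (2 * (2 ^ r - 1)) ^ k := by
    rw [mul_pow]
    exact Nat.mul_le_mul_right _ (Nat.le_self_pow (by omega) 2)
  set K := k ^ 2 with hK
  have hK1 : 1 ≤ K := Nat.one_le_pow _ _ hk
  have h4 : (r + 1) * (4 * (r + 1) * K + 1) ≤ 2 * (r * (4 * r * K + 1)) := by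
    have h5 : 8 * r + 4 ≤ 4 * r * r := by nlinarith
    have h6 := Nat.mul_le_mul_left K h5
    nlinarith
  calc 3 ^ k * (2 * (r + 1) * K * (4 * (r + 1) * K + 1))
      = 3 ^ k * (2 * K * ((r + 1) * (4 * (r + 1) * K + 1))) := by ring
    _ ≤ 3 ^ k * (2 * K * (2 * (r * (4 * r * K + 1)))) := by gcongr
    _ = 2 * (3 ^ k * (2 * r * K * (4 * r * K + 1))) := by ring
    _ ≤ 2 * (2 ^ r - 1) ^ k := Nat.mul_le_mul_left _ h
    _ ≤ _ := h3.trans h2

theorem G_mono {r r' k : ℕ} (hr : 3 ≤ r) (hrr : r ≤ r') (hk : 1 ≤ k) (h : G r k) : G r' k := by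
  induction r', hrr using Nat.le_induction with
  | base => exact h
  | succ m hm ih => exact G_succ (by omega) hk ih

set_option maxRecDepth 100000 in
theorem G_tab : ∀ k < 19,
    (6 ≤ k → 3 ^ k * (2 * 5 * k ^ 2 * (4 * 5 * k ^ 2 + 1)) ≤ (2 ^ 5 - 1) ^ k) ∧
    (3 ≤ k → 3 ^ k * (2 * 7 * k ^ 2 * (4 * 7 * k ^ 2 + 1)) ≤ (2 ^ 7 - 1) ^ k) ∧
    (2 ≤ k → 3 ^ k * (2 * 11 * k ^ 2 * (4 * 11 * k ^ 2 + 1)) ≤ (2 ^ 11 - 1) ^ k) ∧
    (1 ≤ k → 3 ^ k * (2 * 13 * k ^ 2 * (4 * 13 * k ^ 2 + 1)) ≤ (2 ^ 13 - 1) ^ k) := by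
  decide +kernel

theorem G_of_good {r k : ℕ} (hr : 3 ≤ r) (hk : 1 ≤ k)
    (h : 19 ≤ k ∨ (5 ≤ r ∧ 6 ≤ k) ∨ (7 ≤ r ∧ 3 ≤ k) ∨ (11 ≤ r ∧ 2 ≤ k) ∨ 13 ≤ r) : G r k := by
  by_cases hk19 : 19 ≤ k
  · apply G_mono (r := 3) (by norm_num) hr hk
    unfold G
    have := ineq3 hk19
    norm_num
    calc 3 ^ k * (6 * k ^ 2 * (12 * k ^ 2 + 1)) ≤ 7 ^ k := this
      _ = 7 ^ k := rfl
  · have ht := G_tab k (by omega)
    rcases h with h | ⟨h1, h2⟩ | ⟨h1, h2⟩ | ⟨h1, h2⟩ | h
    · omega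
    · exact G_mono (r := 5) (by norm_num) h1 hk (ht.1 h2)
    · exact G_mono (r := 7) (by norm_num) h1 hk (ht.2.1 h2)
    · exact G_mono (r := 11) (by norm_num) h1 hk (ht.2.2.1 h2)
    · exact G_mono (r := 13) (by norm_num) h hk (ht.2.2.2 hk)

/-! ### small totients -/

set_option maxRecDepth 100000 in
theorem tot_small : (List.range' 61 588).all (fun m => decide (18 < totF m)) = true := by
  decide +kernel

set_option maxRecDepth 100000 in
theorem tot_small1 : (List.range 61).all (fun m =>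
    (decide (m ≤ 42) || decide (12 < totF m)) && (decide (m ≤ 12) || decide (5 < totF m)) &&
    (decide (m ≤ 6) || decide (2 < totF m)) && (decide (m ≤ 2) || decide (1 < totF m))) = true := by
  decide +kernel

set_option maxRecDepth 100000 in
theorem tot_small2 : (List.range' 31 770).all (fun n =>
    decide (20 < totF n) || decide (n * (2 * n + 1) < 2 ^ (totF n))) = true := by
  decide +kernel

theorem le_of_totient_le {m : ℕ} (h18 : m.totient ≤ 18) :
    m ≤ 60 ∧ (m.totient ≤ 12 → m ≤ 42) ∧ (m.totient ≤ 5 → m ≤ 12) ∧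
      (m.totient ≤ 2 → m ≤ 6) ∧ (m.totient ≤ 1 → m ≤ 2) := by
  have hb : m ≤ 648 := by
    have h1 := le_two_mul_totient_sq m
    have h2 : m.totient ^ 2 ≤ 18 ^ 2 := Nat.pow_le_pow_left h18 2
    omega
  have h60 : m ≤ 60 := by
    by_contra hlt
    have h := tot_small
    rw [List.all_eq_true] at h
    have h1 := h m (List.mem_range'_1.2 ⟨by omega, by omega⟩)
    rw [totF_eq] at h1
    simp only [decide_eq_true_eq] at h1
    omega
  refine ⟨h60, ?_⟩
  have h := tot_small1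
  rw [List.all_eq_true] at h
  have h1 := h m (List.mem_range.2 (by omega))
  rw [totF_eq] at h1
  simp only [Bool.and_eq_true, Bool.or_eq_true, decide_eq_true_eq] at h1
  obtain ⟨⟨⟨h1, h2⟩, h3⟩, h4⟩ := h1
  refine ⟨?_, ?_, ?_, ?_⟩ <;> intro h5 <;> omega

/-! ### lower bounds for `Φ_n(2)` -/

theorem Phi_mul_prime_of_dvd {n p : ℕ} (a : ℕ) (hp : p.Prime) (hdiv : p ∣ n) :
    Phi (n * p) a = Phi n (a ^ p) := by
  have hexp := cyclotomic_expand_eq_cyclotomic hp hdiv ℤ
  have hev := congrArg (eval (a : ℤ)) hexp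
  rw [expand_eval] at hev
  simpa [Phi] using hev.symm

theorem Phi_mul_prime_of_not_dvd {n p : ℕ} (a : ℕ) (hp : p.Prime) (hdiv : ¬ p ∣ n) :
    Phi (n * p) a * Phi n a = Phi n (a ^ p) := by
  have hexp := cyclotomic_expand_eq_cyclotomic_mul hp hdiv ℤ
  have hev := congrArg (eval (a : ℤ)) hexp
  rw [expand_eval, eval_mul] at hev
  simpa [Phi] using hev.symm

theorem natAbs_Phi_two_le (m : ℕ) : (Phi m 2).natAbs ≤ 3 ^ m.totient := by
  have h := Phi_two_le m
  have hpos := Phi_pos m (a := 2) (by norm_num)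
  have h2 : ((Phi m 2).natAbs : ℤ) ≤ ((3 ^ m.totient : ℕ) : ℤ) := by
    rw [Int.natAbs_of_nonneg hpos.le]
    push_cast
    exact h
  exact_mod_cast h2

theorem boundB {n' r : ℕ} (hr : r.Prime) (hn' : 2 ≤ n') :
    (2 ^ r - 1) ^ n'.totient < (Phi (n' * r) 2).natAbs * 3 ^ n'.totient := by
  have h2r : 2 ^ r ≠ 1 := by
    have := Nat.one_lt_two_pow (n := r) hr.pos.ne'
    omega
  have hlow := sub_one_pow_totient_lt_natAbs_cyclotomic_eval (n := n') (q := 2 ^ r)
    (by omega) h2r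
  change (2 ^ r - 1) ^ Nat.totient n' < (Phi n' (2 ^ r)).natAbs at hlow
  by_cases hdiv : r ∣ n'
  · rw [Phi_mul_prime_of_dvd 2 hr hdiv]
    exact lt_of_lt_of_le hlow (Nat.le_mul_of_pos_right _ (pow_pos (by norm_num) _))
  · have h := Phi_mul_prime_of_not_dvd 2 hr hdiv
    have h2 : (Phi (n' * r) 2).natAbs * (Phi n' 2).natAbs = (Phi n' (2 ^ r)).natAbs := by
      rw [← Int.natAbs_mul, h]
    calc (2 ^ r - 1) ^ n'.totient < (Phi n' (2 ^ r)).natAbs := hlow
      _ = (Phi (n' * r) 2).natAbs * (Phi n' 2).natAbs := h2.symm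
      _ ≤ _ := Nat.mul_le_mul_left _ (natAbs_Phi_two_le n')

theorem boundTwo {n' : ℕ} (hn' : 2 ≤ n') (h2 : 2 ∣ n') :
    3 ^ n'.totient < (Phi (n' * 2) 2).natAbs := by
  have hlow := sub_one_pow_totient_lt_natAbs_cyclotomic_eval (n := n') (q := 2 ^ 2)
    (by omega) (by norm_num)
  change (2 ^ 2 - 1) ^ Nat.totient n' < (Phi n' (2 ^ 2)).natAbs at hlow
  rw [Phi_mul_prime_of_dvd 2 Nat.prime_two h2]
  exact hlow

theorem natAbs_Phi_prime_two {r : ℕ} (hr : r.Prime) : (Phi r 2).natAbs = 2 ^ r - 1 := by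
  have h := Phi_mul_prime_of_not_dvd (n := 1) 2 hr (by
    intro h; have := Nat.le_of_dvd one_pos h; have := hr.two_le; omega)
  rw [one_mul, Phi_one_eq, Phi_one_eq] at h
  have h1 : 1 ≤ 2 ^ r := Nat.one_le_pow _ _ (by norm_num)
  have h2 : Phi r 2 = ((2 ^ r - 1 : ℕ) : ℤ) := by
    rw [Nat.cast_sub h1]
    push_cast at h ⊢
    linarith
  rw [h2, Int.natAbs_natCast]

theorem mul_two_mul_add_one_mono {n M : ℕ} (h : n ≤ M) : n * (2 * n + 1) ≤ M * (2 * M + 1) :=
  Nat.mul_le_mul h (by omega)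

/-- main inequality, `a ≥ 3`, `n ≥ 31` -/
theorem main_ineq_ge_three {a n : ℕ} (ha : 3 ≤ a) (hn : 31 ≤ n) :
    n * (2 * n + 1) < (Phi n a).natAbs := by
  have hlow := sub_one_pow_totient_lt_natAbs_cyclotomic_eval (n := n) (q := a) (by omega)
    (by omega)
  change (a - 1) ^ Nat.totient n < (Phi n a).natAbs at hlow
  have h2 : 2 ^ n.totient ≤ (a - 1) ^ n.totient := Nat.pow_le_pow_left (by omega) _
  refine lt_of_le_of_lt ?_ (lt_of_le_of_lt h2 hlow)
  by_cases hk : 21 ≤ n.totient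
  · have h3 := mul_two_mul_add_one_mono (le_two_mul_totient_sq n)
    have h4 := ineq1 hk
    have h5 : 2 * n.totient ^ 2 * (2 * (2 * n.totient ^ 2) + 1) =
        2 * n.totient ^ 2 * (4 * n.totient ^ 2 + 1) := by ring
    omega
  · have hb : n ≤ 800 := by
      have h1 := le_two_mul_totient_sq n
      have h2 : n.totient ^ 2 ≤ 20 ^ 2 := Nat.pow_le_pow_left (by omega) 2
      omega
    have h := tot_small2
    rw [List.all_eq_true] at h
    have h1 := h n (List.mem_range'_1.2 ⟨by omega, by omega⟩)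
    rw [totF_eq] at h1
    simp only [Bool.or_eq_true, decide_eq_true_eq] at h1
    rcases h1 with h1 | h1
    · omega
    · exact h1.le

/-- main inequality, `a = 2`, `n ≥ 181` -/
theorem main_ineq_two {n : ℕ} (hn : 181 ≤ n) : n * (2 * n + 1) < (Phi n 2).natAbs := by
  by_cases hex : ∃ r : ℕ, r.Prime ∧ r ≠ 2 ∧ r ∣ n
  · obtain ⟨r, hrp, hr2, n', rfl⟩ := hex
    rw [mul_comm r n'] at hn ⊢
    have hr3 : 3 ≤ r := by have := hrp.two_le; omega
    rcases Nat.lt_or_ge n' 2 with hn' | hn'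
    · have : n' = 1 := by
        rcases Nat.eq_zero_or_pos n' with h | h
        · subst h; omega
        · omega
      subst this
      rw [one_mul] at hn ⊢
      rw [natAbs_Phi_prime_two hrp]
      have := ineq5 (by omega : 7 ≤ r)
      omega
    · have hB := boundB hrp hn'
      set k := n'.totient with hk
      have hk1 : 1 ≤ k := Nat.totient_pos.2 (by omega)
      by_cases hgood : 19 ≤ k ∨ (5 ≤ r ∧ 6 ≤ k) ∨ (7 ≤ r ∧ 3 ≤ k) ∨ (11 ≤ r ∧ 2 ≤ k) ∨ 13 ≤ r
      · have hG := G_of_good hr3 hk1 hgood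
        unfold G at hG
        have h1 : n' ≤ 2 * k ^ 2 := le_two_mul_totient_sq n'
        have h2 : n' * r ≤ 2 * r * k ^ 2 := by
          calc n' * r ≤ (2 * k ^ 2) * r := Nat.mul_le_mul_right _ h1
            _ = 2 * r * k ^ 2 := by ring
        have h3 := mul_two_mul_add_one_mono h2
        have h4 : 2 * r * k ^ 2 * (2 * (2 * r * k ^ 2) + 1) =
            2 * r * k ^ 2 * (4 * r * k ^ 2 + 1) := by ring
        rw [h4] at h3
        have h5 : 3 ^ k * (n' * r * (2 * (n' * r) + 1)) < (Phi (n' * r) 2).natAbs * 3 ^ k :=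
          lt_of_le_of_lt (le_trans (Nat.mul_le_mul_left _ h3) hG) hB
        rw [mul_comm (3 ^ k)] at h5
        exact Nat.lt_of_mul_lt_mul_right h5
      · exfalso
        push Not at hgood
        obtain ⟨hg1, hg2, hg3, hg4, hg5⟩ := hgood
        obtain ⟨h60, -, h12, h6, h2⟩ := le_of_totient_le (m := n') (by omega)
        rcases Nat.lt_or_ge r 5 with hr5 | hr5
        · have hr : r = 3 := by
            interval_cases r
            · rfl
            · exact absurd hrp (by norm_num)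
          subst hr
          omega
        · rcases Nat.lt_or_ge r 7 with hr7 | hr7
          · have := h12 (by have := hg2 hr5; omega)
            nlinarith
          · rcases Nat.lt_or_ge r 11 with hr11 | hr11
            · have := h6 (by have := hg3 hr7; omega)
              nlinarith
            · have := h2 (by have := hg4 hr11; omega)
              nlinarith
  · push Not at hex
    -- `n` is a power of `2`
    have h2n : 2 ∣ n := by
      obtain ⟨p, hp, hpn⟩ := Nat.exists_prime_and_dvd (by omega : n ≠ 1)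
      by_cases hp2 : p = 2
      · rwa [hp2] at hpn
      · exact absurd hpn (hex p hp hp2)
    obtain ⟨n', rfl⟩ := h2n
    rw [mul_comm 2 n'] at hn ⊢
    have h2n' : 2 ∣ n' := by
      obtain ⟨p, hp, hpn⟩ := Nat.exists_prime_and_dvd (by omega : n' ≠ 1)
      by_cases hp2 : p = 2
      · rwa [hp2] at hpn
      · exact absurd (hpn.trans (dvd_mul_left n' 2)) (hex p hp hp2)
    have hB := boundTwo (by omega) h2n'
    set k := n'.totient with hk
    by_cases hk13 : 13 ≤ k
    · have h1 : n' ≤ 2 * k ^ 2 := le_two_mul_totient_sq n'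
      have h2 : n' * 2 ≤ 4 * k ^ 2 := by omega
      have h3 := mul_two_mul_add_one_mono h2
      have h4 : 4 * k ^ 2 * (2 * (4 * k ^ 2) + 1) = 4 * k ^ 2 * (8 * k ^ 2 + 1) := by ring
      have h5 := ineq2 hk13
      omega
    · exfalso
      obtain ⟨-, h42, -, -, -⟩ := le_of_totient_le (m := n') (by omega)
      have := h42 (by omega)
      omega

end Cfsg.Agent.Helper17.Zsig
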