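import Mathlib
import Cfsg.Agent.Helper17.Zsigmondy3

/-!
# The primitive part of `a ^ n - 1` is large
-/

set_option autoImplicit false

namespace Cfsg.Agent.Helper17.Zsig

open Polynomial

set_option maxRecDepth 100000 in
theorem tab_eight : (List.range' 3 28).all (fun n => chkV n (8 ^ totF n + 1)) = true := by
  decide +kernel

/-- **main inequality**: outside the list `TList`, `Φ_n(a) > s (2n+1)` for all primes `s ∣ n`. -/
theorem main_ineq {a n : ℕ} (ha : 2 ≤ a) (hn : 3 ≤ n) (hT : (a, n) ∉ TList) {s : ℕ}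
    (hs : s.Prime) (hsn : s ∣ n) : s * (2 * n + 1) < (Phi n a).natAbs := by
  have hsle : s ≤ n := Nat.le_of_dvd (by omega) hsn
  rcases Nat.lt_or_ge n 31 with hn30 | hn31
  · rcases Nat.lt_or_ge a 9 with ha8 | ha9
    · exact small_case ha (by omega) hn (by omega) hT hs hsn
    · have hlow := sub_one_pow_totient_lt_natAbs_cyclotomic_eval (n := n) (q := a) (by omega)
        (by omega)
      change (a - 1) ^ Nat.totient n < (Phi n a).natAbs at hlow
      have h2 : 8 ^ n.totient ≤ (a - 1) ^ n.totient := Nat.pow_le_pow_left (by omega) _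
      have h := tab_eight
      rw [List.all_eq_true] at h
      have h1 := h n (List.mem_range'_1.2 ⟨hn, by omega⟩)
      have h3 := chkV_spec (by omega) h1 hs hsn
      rw [totF_eq] at h3
      omega
  · have h1 : s * (2 * n + 1) ≤ n * (2 * n + 1) := Nat.mul_le_mul_right _ hsle
    rcases Nat.lt_or_ge a 3 with ha3 | ha3
    · have : a = 2 := by omega
      subst this
      rcases Nat.lt_or_ge n 181 with h | h
      · exact lt_of_le_of_lt h1 (two_case_table hn31 (by omega))
      · exact lt_of_le_of_lt h1 (main_ineq_two h)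
    · exact lt_of_le_of_lt h1 (main_ineq_ge_three ha3 hn31)

/-- outside `TList` there is a divisor `P ≥ 3n+1` of `a^n - 1` all of whose prime divisors are
primitive. -/
theorem prim_part_large {a n : ℕ} (ha : 2 ≤ a) (hn : 3 ≤ n) (hT : (a, n) ∉ TList) :
    ∃ P : ℕ, P ∣ a ^ n - 1 ∧ (∀ i : ℕ, 1 ≤ i → i < n → Nat.Coprime P (a ^ i - 1)) ∧
      3 * n + 1 ≤ P ∧ ∀ p : ℕ, p.Prime → p ∣ P → orderOf ((a : ZMod p)) = n := by
  obtain ⟨P, g, hN, hg, hP⟩ := prim_part (a := a) (n := n) (by omega) (by omega)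
  have hPd : P ∣ (Phi n a).natAbs := ⟨g, by rw [hN, mul_comm]⟩
  obtain ⟨h1, h2, h3⟩ := prim_props (by omega) (by omega) hPd hP
  refine ⟨P, h1, h2, ?_, hP⟩
  have hbig : 2 * n + 1 < P := by
    rcases hg with rfl | ⟨hgp, hgn⟩
    · obtain ⟨s, hs, hsn⟩ := Nat.exists_prime_and_dvd (by omega : n ≠ 1)
      have := main_ineq ha hn hT hs hsn
      rw [hN, one_mul] at this
      have hs1 := hs.one_lt
      nlinarith
    · have := main_ineq ha hn hT hgp hgn
      rw [hN] at this
      exact Nat.lt_of_mul_lt_mul_left this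
  have h4 : 1 % n = 1 := Nat.mod_eq_of_lt (by omega)
  rw [h4] at h3
  have h5 := Nat.div_add_mod P n
  rw [h3] at h5
  set t := P / n with ht
  have ht3 : 3 ≤ t := by
    by_contra hlt
    have : t ≤ 2 := by omega
    have : n * t ≤ n * 2 := Nat.mul_le_mul_left _ this
    omega
  have : n * 3 ≤ n * t := Nat.mul_le_mul_left _ ht3
  omega

/-- a prime all of whose ... : a primitive prime divisor `p` satisfies `n + 1 ≤ p`. -/
theorem prim_prime_props {a n p : ℕ} (ha : 2 ≤ a) (hn : 1 ≤ n) (hp : p.Prime)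
    (hpd : p ∣ a ^ n - 1) (hord : orderOf ((a : ZMod p)) = n) :
    (∀ i : ℕ, 1 ≤ i → i < n → ¬ p ∣ a ^ i - 1) ∧ n + 1 ≤ p := by
  have := Fact.mk hp
  constructor
  · intro i hi hin hpa
    have h3 := (cast_pow_eq_one_iff (by omega : 0 < a) i p).2 hpa
    have h4 := orderOf_dvd_of_pow_eq_one h3
    rw [hord] at h4
    have := Nat.le_of_dvd (by omega) h4
    omega
  · have han := (cast_pow_eq_one_iff (by omega : 0 < a) n p).2 hpd
    have ha0 : ((a : ZMod p)) ≠ 0 := by
      intro h0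
      rw [h0, zero_pow (by omega)] at han
      exact zero_ne_one han
    have hmr : orderOf ((a : ZMod p)) ∣ p - 1 :=
      orderOf_dvd_of_pow_eq_one (ZMod.pow_card_sub_one_eq_one ha0)
    rw [hord] at hmr
    have := Nat.le_of_dvd (by have := hp.two_le; omega) hmr
    omega

/-- existence of a large primitive prime divisor outside `TList` -/
theorem large_prim_prime {a n : ℕ} (ha : 2 ≤ a) (hn : 3 ≤ n) (hT : (a, n) ∉ TList) :
    ∃ p : ℕ, p.Prime ∧ p ∣ a ^ n - 1 ∧ (∀ i : ℕ, 1 ≤ i → i < n → ¬ p ∣ a ^ i - 1) ∧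
      (n + 1 < p ∨ p ^ 2 ∣ a ^ n - 1) := by
  obtain ⟨P, hPd, -, hPbig, hP⟩ := prim_part_large ha hn hT
  by_cases hex : ∃ p : ℕ, p.Prime ∧ p ∣ P ∧ p ≠ n + 1
  · obtain ⟨p, hp, hpP, hne⟩ := hex
    have hpd := hpP.trans hPd
    obtain ⟨h1, h2⟩ := prim_prime_props ha (by omega) hp hpd (hP p hp hpP)
    exact ⟨p, hp, hpd, h1, Or.inl (by omega)⟩
  · push Not at hex
    obtain ⟨p, hp, hpP⟩ := Nat.exists_prime_and_dvd (by omega : P ≠ 1)
    have hpn : p = n + 1 := hex p hp hpP
    have hpd := hpP.trans hPd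
    obtain ⟨h1, h2⟩ := prim_prime_props ha (by omega) hp hpd (hP p hp hpP)
    refine ⟨p, hp, hpd, h1, Or.inr ?_⟩
    have huniq : ∀ {r : ℕ}, r.Prime → r ∣ P → r = p := by
      intro r hr hrP
      rw [hpn]; exact hex r hr hrP
    have hpow := Nat.eq_prime_pow_of_unique_prime_dvd (by omega : P ≠ 0) huniq
    have hk : 2 ≤ P.primeFactorsList.length := by
      by_contra hlt
      have h3 : P.primeFactorsList.length ≤ 1 := by omega
      have h4 : p ^ P.primeFactorsList.length ≤ p ^ 1 :=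
        Nat.pow_le_pow_right hp.pos h3
      rw [← hpow, pow_one] at h4
      omega
    exact (pow_dvd_pow p hk).trans (by rw [← hpow]; exact hPd)

end Cfsg.Agent.Helper17.Zsig
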